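import Mathlib
import Groth.Agent.S9265

/-!
# Čech steps on complexes: functoriality and quasi-isomorphisms
-/

set_option autoImplicit false
universe u

open CategoryTheory CategoryTheory.Limits Pretriangulated CochainComplex DerCA

namespace Groth.Agent.Lib.Helper2.LCCech1

variable {R : Type u} [CommRing R]

instance locFunctor_preservesHomology (S : Submonoid R) : (locFunctor S).PreservesHomology :=
  ((Functor.exact_tfae (locFunctor S)).out 1 2).1 (Groth.Agent.S9265.locFunctor_map_exact S)

theorem locCxUnit_naturality (S : Submonoid R) {K L : DRing.Cx R} (a : K ⟶ L) :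
    locCxUnit S K ≫ (locCx S).map a = a ≫ locCxUnit S L := by
  ext n : 1
  exact ((locUnit S).naturality (a.f n)).symm

section Cone

attribute [local instance] HasDerivedCategory.standard

variable {C : Type*} [Category C] [Abelian C] [HasDerivedCategory C]

theorem quasiIso_mappingCone_map {K₁ L₁ K₂ L₂ : CochainComplex C ℤ} (φ₁ : K₁ ⟶ L₁) (φ₂ : K₂ ⟶ L₂)
    (a : K₁ ⟶ K₂) (b : L₁ ⟶ L₂) (comm : φ₁ ≫ b = a ≫ φ₂) [QuasiIso a] [QuasiIso b] :
    QuasiIso (mappingCone.map φ₁ φ₂ a b comm) := by
  rw [← DerivedCategory.isIso_Q_map_iff_quasiIso]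
  have h1 : IsIso (DerivedCategory.Q.map a) := by
    rw [DerivedCategory.isIso_Q_map_iff_quasiIso]; infer_instance
  have h2 : IsIso (DerivedCategory.Q.map b) := by
    rw [DerivedCategory.isIso_Q_map_iff_quasiIso]; infer_instance
  exact isIso₃_of_isIso₁₂
    (DerivedCategory.Q.mapTriangle.map (mappingCone.triangleMap φ₁ φ₂ a b comm))
    (DerivedCategory.mappingCone_triangle_distinguished φ₁)
    (DerivedCategory.mappingCone_triangle_distinguished φ₂) h1 h2

end Cone

section Cech

attribute [local instance] HasDerivedCategory.standard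

/-- one Čech step on a complex. -/
noncomputable abbrev cechStep (f : R) (K : DRing.Cx R) : DRing.Cx R :=
  mappingCocone (locCxUnit (Submonoid.powers f) K)

/-- functoriality of the Čech step. -/
noncomputable def cechStepMap (f : R) {K L : DRing.Cx R} (a : K ⟶ L) : cechStep f K ⟶ cechStep f L :=
  (CategoryTheory.shiftFunctor (CochainComplex (ModuleCat.{u} R) ℤ) (-1 : ℤ)).map
    (mappingCone.map (locCxUnit (Submonoid.powers f) K) (locCxUnit (Submonoid.powers f) L) a
      ((locCx (Submonoid.powers f)).map a) (locCxUnit_naturality _ a))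

instance quasiIso_locCx_map (S : Submonoid R) {K L : DRing.Cx R} (a : K ⟶ L) [QuasiIso a] :
    QuasiIso ((locCx S).map a) :=
  HomologicalComplex.quasiIso_map_of_preservesHomology _ _

theorem quasiIso_cechStepMap (f : R) {K L : DRing.Cx R} (a : K ⟶ L) [QuasiIso a] :
    QuasiIso (cechStepMap f a) := by
  unfold cechStepMap
  have := quasiIso_mappingCone_map (locCxUnit (Submonoid.powers f) K)
    (locCxUnit (Submonoid.powers f) L) a ((locCx (Submonoid.powers f)).map a)
    (locCxUnit_naturality _ a)
  exact (quasiIso_shift_iff _ (-1 : ℤ)).2 this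

/-- the iterated Čech complex of a complex. -/
noncomputable def cechCx (K : DRing.Cx R) : List R → DRing.Cx R
  | [] => K
  | f :: fs => cechStep f (cechCx K fs)

theorem extCech_eq (M : ModuleCat.{u} R) (fs : List R) :
    extCech M fs =
      cechCx ((HomologicalComplex.single (ModuleCat.{u} R) (ComplexShape.up ℤ) 0).obj M) fs := by
  induction fs with
  | nil => rfl
  | cons f fs ih =>
    change mappingCocone (locCxUnit (Submonoid.powers f) (extCech M fs)) = _
    rw [ih]
    rfl

/-- functoriality. -/
noncomputable def cechCxMap {K L : DRing.Cx R} (a : K ⟶ L) : ∀ fs : List R, cechCx K fs ⟶ cechCx L fs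
  | [] => a
  | f :: fs => cechStepMap f (cechCxMap a fs)

theorem quasiIso_cechCxMap {K L : DRing.Cx R} (a : K ⟶ L) [QuasiIso a] :
    ∀ fs : List R, QuasiIso (cechCxMap a fs)
  | [] => by change QuasiIso a; infer_instance
  | f :: fs => by
    have := quasiIso_cechCxMap a fs
    exact quasiIso_cechStepMap f (cechCxMap a fs)

theorem cechCx_append (K : DRing.Cx R) (fs : List R) (f : R) :
    cechCx K (fs ++ [f]) = cechCx (cechStep f K) fs := by
  induction fs with
  | nil => rfl
  | cons g fs ih =>
    change cechStep g (cechCx K (fs ++ [f])) = cechStep g (cechCx (cechStep f K) fs)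
    rw [ih]

/-- quasi-isomorphic complexes have isomorphic iterated Čech cohomology. -/
theorem cech_homology_equiv {K L : DRing.Cx R} (a : K ⟶ L) [QuasiIso a] (fs : List R) (n : ℤ) :
    Nonempty ((cechCx K fs).homology n ≃ₗ[R] (cechCx L fs).homology n) := by
  have := quasiIso_cechCxMap a fs
  exact ⟨(asIso (HomologicalComplex.homologyMap (cechCxMap a fs) n)).toLinearEquiv⟩

end Cech

end Groth.Agent.Lib.Helper2.LCCech1
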