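import Mathlib
import Groth.Prelude.Def_DRing2

/-!
# Concrete description of the cohomology of a cochain complex of modules
-/

set_option autoImplicit false
universe u

open CategoryTheory CategoryTheory.Limits

namespace Groth.Agent.Lib.Helper2.LCHom

variable {R : Type u} [CommRing R]

/-- cocycles of degree `n`. -/
abbrev Zc (C : DRing.Cx R) (n : ℤ) : Submodule R (C.X n) := LinearMap.ker (C.d n (n + 1)).hom

/-- the map from concrete cocycles to categorical cycles. -/
noncomputable def toCyc (C : DRing.Cx R) (n : ℤ) : ModuleCat.of R (Zc C n) ⟶ C.cycles n :=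
  C.liftCycles (ModuleCat.ofHom (Zc C n).subtype) (n + 1) (by simp) (by
    ext z
    exact z.2)

theorem toCyc_i (C : DRing.Cx R) (n : ℤ) :
    toCyc C n ≫ C.iCycles n = ModuleCat.ofHom (Zc C n).subtype :=
  C.liftCycles_i _ _ _ _

theorem iCycles_injective (C : DRing.Cx R) (n : ℤ) : Function.Injective (C.iCycles n).hom :=
  (ModuleCat.mono_iff_injective _).1 inferInstance

theorem toCyc_surjective (C : DRing.Cx R) (n : ℤ) : Function.Surjective (toCyc C n).hom := by
  intro c
  have hd : (C.d n (n + 1)).hom ((C.iCycles n).hom c) = 0 := by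
    rw [← LinearMap.comp_apply, ← ModuleCat.hom_comp, C.iCycles_d]
    rfl
  refine ⟨⟨(C.iCycles n).hom c, hd⟩, ?_⟩
  apply iCycles_injective C n
  rw [← LinearMap.comp_apply, ← ModuleCat.hom_comp, toCyc_i]
  rfl

/-- the class of a cocycle. -/
noncomputable def toH (C : DRing.Cx R) (n : ℤ) : Zc C n →ₗ[R] C.homology n :=
  (toCyc C n ≫ C.homologyπ n).hom

theorem toH_surjective (C : DRing.Cx R) (n : ℤ) : Function.Surjective (toH C n) := by
  have h1 : Function.Surjective (C.homologyπ n).hom :=
    (ModuleCat.epi_iff_surjective _).1 inferInstance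
  intro x
  obtain ⟨c, rfl⟩ := h1 x
  obtain ⟨z, rfl⟩ := toCyc_surjective C n c
  exact ⟨z, rfl⟩

theorem toH_eq_zero_iff (C : DRing.Cx R) (n : ℤ) (z : Zc C n) :
    toH C n z = 0 ↔ ∃ y : C.X (n - 1), (C.d (n - 1) n).hom y = z.1 := by
  have hex : (ShortComplex.mk (C.toCycles (n - 1) n) (C.homologyπ n)
      (C.toCycles_comp_homologyπ (n - 1) n)).Exact :=
    ShortComplex.exact_of_g_is_cokernel _ (C.homologyIsCokernel (n - 1) n (by simp))
  rw [ShortComplex.moduleCat_exact_iff] at hex
  constructor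
  · intro h
    obtain ⟨y, hy⟩ := hex ((toCyc C n).hom z) h
    refine ⟨y, ?_⟩
    have h2 := congrArg (C.iCycles n).hom hy
    rw [← LinearMap.comp_apply, ← ModuleCat.hom_comp, C.toCycles_i] at h2
    rw [h2, ← LinearMap.comp_apply, ← ModuleCat.hom_comp, toCyc_i]
    rfl
  · rintro ⟨y, hy⟩
    have h2 : (toCyc C n).hom z = (C.toCycles (n - 1) n).hom y := by
      apply iCycles_injective C n
      rw [← LinearMap.comp_apply, ← ModuleCat.hom_comp, toCyc_i, ← LinearMap.comp_apply,
        ← ModuleCat.hom_comp, C.toCycles_i, hy]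
      rfl
    change (C.homologyπ n).hom ((toCyc C n).hom z) = 0
    rw [h2, ← LinearMap.comp_apply, ← ModuleCat.hom_comp, C.toCycles_comp_homologyπ]
    rfl

/-- a chain map sends cocycles to cocycles. -/
noncomputable def ZcMap {C D : DRing.Cx R} (φ : C ⟶ D) (n : ℤ) : Zc C n →ₗ[R] Zc D n :=
  (φ.f n).hom.restrict (by
    intro x hx
    rw [LinearMap.mem_ker] at hx ⊢
    have := congrArg (fun g => g.hom x) (φ.comm n (n + 1))
    simp only [ModuleCat.hom_comp, LinearMap.comp_apply] at this
    rw [this, hx, map_zero])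

theorem ZcMap_val {C D : DRing.Cx R} (φ : C ⟶ D) (n : ℤ) (z : Zc C n) :
    (ZcMap φ n z).1 = (φ.f n).hom z.1 := rfl

theorem homologyMap_toH {C D : DRing.Cx R} (φ : C ⟶ D) (n : ℤ) (z : Zc C n) :
    (HomologicalComplex.homologyMap φ n).hom (toH C n z) = toH D n (ZcMap φ n z) := by
  have key : toCyc C n ≫ C.homologyπ n ≫ HomologicalComplex.homologyMap φ n =
      ModuleCat.ofHom (ZcMap φ n) ≫ toCyc D n ≫ D.homologyπ n := by
    rw [HomologicalComplex.homologyπ_naturality, ← Category.assoc, ← Category.assoc]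
    congr 1
    rw [← cancel_mono (D.iCycles n), Category.assoc, Category.assoc, HomologicalComplex.cyclesMap_i,
      toCyc_i, ← Category.assoc, toCyc_i]
    rfl
  have := congrArg (fun g => g.hom z) key
  exact this

/-- the linear equivalence induced by a surjection from cocycles with the right kernel. -/
noncomputable def equivOfPhi (C : DRing.Cx R) (n : ℤ) {H : Type u} [AddCommGroup H] [Module R H]
    (φ : Zc C n →ₗ[R] H) (hφ : Function.Surjective φ)
    (hker : ∀ z, φ z = 0 ↔ ∃ y : C.X (n - 1), (C.d (n - 1) n).hom y = z.1) :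
    C.homology n ≃ₗ[R] H :=
  ((toH C n).quotKerEquivOfSurjective (toH_surjective C n)).symm.trans
    ((Submodule.quotEquivOfEq _ _ (by
      ext z
      rw [LinearMap.mem_ker, LinearMap.mem_ker, toH_eq_zero_iff, hker])).trans
      (φ.quotKerEquivOfSurjective hφ))

theorem equivOfPhi_toH (C : DRing.Cx R) (n : ℤ) {H : Type u} [AddCommGroup H] [Module R H]
    (φ : Zc C n →ₗ[R] H) (hφ : Function.Surjective φ)
    (hker : ∀ z, φ z = 0 ↔ ∃ y : C.X (n - 1), (C.d (n - 1) n).hom y = z.1) (z : Zc C n) :
    equivOfPhi C n φ hφ hker (toH C n z) = φ z := by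
  unfold equivOfPhi
  have h1 : ((toH C n).quotKerEquivOfSurjective (toH_surjective C n)).symm (toH C n z) =
      Submodule.Quotient.mk z := by
    rw [LinearEquiv.symm_apply_eq]
    rfl
  rw [LinearEquiv.trans_apply, h1, LinearEquiv.trans_apply]
  rfl

end Groth.Agent.Lib.Helper2.LCHom
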