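import Mathlib
import Groth.Agent.Lib.Helper2.LCHom
import Groth.Agent.Lib.Helper2.LCCech1

/-!
# Elementwise description of mapping cocones (flexible indices)
-/

set_option autoImplicit false
universe u

open CategoryTheory CategoryTheory.Limits CochainComplex HomComplex DerCA

namespace Groth.Agent.Lib.Helper2.CechLow1

variable {R : Type u} [CommRing R] {K L : DRing.Cx R} (φ : K ⟶ L)

/-- first projection of the cocone. -/
noncomputable def kfst (n q : ℤ) (h : n = q) : (mappingCocone φ).X n →ₗ[R] K.X q :=
  ((mappingCone.fst φ).1.v (n + -1) q (by omega)).hom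

/-- second projection of the cocone. -/
noncomputable def ksnd (n q : ℤ) (h : q + 1 = n) : (mappingCocone φ).X n →ₗ[R] L.X q :=
  ((mappingCone.snd φ).v (n + -1) q (by omega)).hom

/-- first inclusion into the cocone. -/
noncomputable def kinl (n q : ℤ) (h : n = q) : K.X q →ₗ[R] (mappingCocone φ).X n :=
  ((mappingCone.inl φ).v q (n + -1) (by omega)).hom

/-- second inclusion into the cocone. -/
noncomputable def kinr (n q : ℤ) (h : q + 1 = n) : L.X q →ₗ[R] (mappingCocone φ).X n :=
  ((Cochain.ofHom (mappingCone.inr φ)).v q (n + -1) (by omega)).hom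

theorem kfst_kinl (n q : ℤ) (h : n = q) (a : K.X q) : kfst φ n q h (kinl φ n q h a) = a := by
  subst h
  have := congrArg (fun g => g.hom a) (mappingCone.inl_v_fst_v φ n (n + -1) (by omega))
  exact this

theorem ksnd_kinl (n q q' : ℤ) (h : n = q) (h' : q' + 1 = n) (a : K.X q) :
    ksnd φ n q' h' (kinl φ n q h a) = 0 := by
  subst h
  obtain rfl : q' = n + -1 := by omega
  have := congrArg (fun g => g.hom a) (mappingCone.inl_v_snd_v φ n (n + -1) (by omega))
  exact this

theorem kfst_kinr (n q q' : ℤ) (h : n = q) (h' : q' + 1 = n) (b : L.X q') :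
    kfst φ n q h (kinr φ n q' h' b) = 0 := by
  subst h
  obtain rfl : q' = n + -1 := by omega
  have := congrArg (fun g => g.hom b) (mappingCone.inr_f_fst_v φ (n + -1) n (by omega))
  unfold kfst kinr
  rw [Cochain.ofHom_v]
  exact this

theorem ksnd_kinr (n q' : ℤ) (h' : q' + 1 = n) (b : L.X q') :
    ksnd φ n q' h' (kinr φ n q' h' b) = b := by
  obtain rfl : q' = n + -1 := by omega
  have := congrArg (fun g => g.hom b) (mappingCone.inr_f_snd_v φ (n + -1))
  unfold ksnd kinr
  rw [Cochain.ofHom_v]
  exact this

theorem decomp (n q q' : ℤ) (h : n = q) (h' : q' + 1 = n) (x : (mappingCocone φ).X n) :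
    x = kinl φ n q h (kfst φ n q h x) + kinr φ n q' h' (ksnd φ n q' h' x) := by
  subst h
  obtain rfl : q' = n + -1 := by omega
  have := congrArg (fun g => g.hom x) (mappingCone.id_X φ (n + -1) n (by omega))
  unfold kinl kfst kinr ksnd
  rw [Cochain.ofHom_v]
  exact this.symm

theorem cocone_d_apply (n m : ℤ) (x : (mappingCocone φ).X n) :
    ((mappingCocone φ).d n m).hom x = -((mappingCone φ).d (n + -1) (m + -1)).hom x := by
  have h : (mappingCocone φ).d n m = -(mappingCone φ).d (n + -1) (m + -1) := by
    change (-1 : ℤ).negOnePow • (mappingCone φ).d (n + -1) (m + -1) = _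
    simp
  rw [h]
  rfl

theorem kfst_d (n m q q' : ℤ) (hnm : n + 1 = m) (h : n = q) (h' : m = q')
    (x : (mappingCocone φ).X n) :
    kfst φ m q' h' (((mappingCocone φ).d n m).hom x) = (K.d q q').hom (kfst φ n q h x) := by
  subst h'
  obtain rfl : q = m + -1 := by omega
  rw [cocone_d_apply]
  refine (map_neg (kfst φ m m rfl) _).trans ?_
  have := congrArg (fun g => g.hom x)
    (mappingCone.d_fst_v φ (n + -1) (m + -1) m (by omega) (by omega))
  simp only [ModuleCat.hom_comp, LinearMap.comp_apply] at this
  unfold kfst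
  refine (congrArg Neg.neg this).trans ?_
  simp
  rfl

theorem ksnd_d (n m q q' : ℤ) (hnm : n + 1 = m) (h : n = q) (h' : q' + 1 = n)
    (x : (mappingCocone φ).X n) :
    ksnd φ m q (by omega) (((mappingCocone φ).d n m).hom x) =
      -(φ.f q).hom (kfst φ n q h x) - (L.d q' q).hom (ksnd φ n q' h' x) := by
  obtain rfl : q = m + -1 := by omega
  obtain rfl : q' = n + -1 := by omega
  rw [cocone_d_apply]
  refine (map_neg (ksnd φ m (m + -1) (by omega)) _).trans ?_
  have := congrArg (fun g => g.hom x)
    (mappingCone.d_snd_v φ (n + -1) (m + -1) (by omega))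
  simp only [ModuleCat.hom_comp, LinearMap.comp_apply, ModuleCat.hom_add, LinearMap.add_apply]
    at this
  unfold ksnd kfst
  refine (congrArg Neg.neg this).trans ?_
  abel

end Groth.Agent.Lib.Helper2.CechLow1
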