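import Mathlib
import Groth.Agent.Lib.Helper2.LCHom

/-!
# Colimit presentations of complexes and their cohomology

A system of complexes `K n` with transition maps `t` and compatible maps `θ n : K n ⟶ D` which
is termwise a colimit presentation (jointly surjective, and an element dying in `D` dies at a
later stage) induces an isomorphism `colim_n H^p(K n) ≃ H^p(D)`.
-/

set_option autoImplicit false
universe u

open CategoryTheory CategoryTheory.Limits

namespace Groth.Agent.Lib.Helper2.KosCech1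

open Groth.Agent.Lib.Helper2.LCHom

variable {R : Type u} [CommRing R]

/-- termwise colimit presentation of the complex `D` by the system `(K, t)` through `θ`. -/
structure Pres (K : ℕ → DRing.Cx R) (t : ∀ n m, n ≤ m → (K n ⟶ K m)) (D : DRing.Cx R)
    (θ : ∀ n, K n ⟶ D) : Prop where
  t_self : ∀ n, t n n le_rfl = 𝟙 _
  t_comp : ∀ n m k (h₁ : n ≤ m) (h₂ : m ≤ k), t n m h₁ ≫ t m k h₂ = t n k (h₁.trans h₂)
  t_θ : ∀ n m h, t n m h ≫ θ m = θ n
  surj : ∀ p (x : D.X p), ∃ n, ∃ y : (K n).X p, ((θ n).f p).hom y = x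
  inj : ∀ p n (y : (K n).X p), ((θ n).f p).hom y = 0 →
    ∃ m, ∃ h : n ≤ m, ((t n m h).f p).hom y = 0

theorem comm_apply {C D : DRing.Cx R} (φ : C ⟶ D) (p q : ℤ) (x : C.X p) :
    (φ.f q).hom ((C.d p q).hom x) = (D.d p q).hom ((φ.f p).hom x) := by
  have := congrArg (fun g => g.hom x) (φ.comm p q)
  simp only [ModuleCat.hom_comp, LinearMap.comp_apply] at this
  exact this.symm

theorem comp_f_apply {C D E : DRing.Cx R} (φ : C ⟶ D) (ψ : D ⟶ E) (p : ℤ) (x : C.X p) :
    ((φ ≫ ψ).f p).hom x = (ψ.f p).hom ((φ.f p).hom x) := rfl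

variable {K : ℕ → DRing.Cx R} {t : ∀ n m, n ≤ m → (K n ⟶ K m)} {D : DRing.Cx R}
  {θ : ∀ n, K n ⟶ D}

theorem Pres.t_apply (P : Pres K t D θ) (n m k : ℕ) (h₁ : n ≤ m) (h₂ : m ≤ k) (p : ℤ)
    (x : (K n).X p) :
    ((t m k h₂).f p).hom (((t n m h₁).f p).hom x) = ((t n k (h₁.trans h₂)).f p).hom x := by
  rw [← comp_f_apply, P.t_comp]

theorem Pres.θ_apply (P : Pres K t D θ) (n m : ℕ) (h : n ≤ m) (p : ℤ) (x : (K n).X p) :
    ((θ m).f p).hom (((t n m h).f p).hom x) = ((θ n).f p).hom x := by
  rw [← comp_f_apply, P.t_θ]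

theorem Pres.directedSystem (P : Pres K t D θ) (p : ℤ) :
    DirectedSystem (fun n => ((K n).homology p : Type u))
      (fun n m h => (HomologicalComplex.homologyMap (t n m h) p).hom) where
  map_self n x := by
    change (HomologicalComplex.homologyMap (t n n le_rfl) p).hom x = x
    rw [P.t_self, HomologicalComplex.homologyMap_id]
    rfl
  map_map k j i hij hjk x := by
    change (HomologicalComplex.homologyMap (t j k hjk) p).hom
      ((HomologicalComplex.homologyMap (t i j hij) p).hom x) =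
      (HomologicalComplex.homologyMap (t i k (hij.trans hjk)) p).hom x
    rw [← P.t_comp i j k hij hjk, HomologicalComplex.homologyMap_comp]
    rfl

/-- the comparison map `colim_n H^p(K n) ⟶ H^p(D)`. -/
noncomputable def Pres.lim (P : Pres K t D θ) (p : ℤ) :
    Module.DirectLimit (fun n => ((K n).homology p : Type u))
      (fun n m h => (HomologicalComplex.homologyMap (t n m h) p).hom) →ₗ[R] D.homology p :=
  Module.DirectLimit.lift R ℕ _ _ (fun n => (HomologicalComplex.homologyMap (θ n) p).hom) (by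
    intro n m h x
    change (HomologicalComplex.homologyMap (θ m) p).hom
      ((HomologicalComplex.homologyMap (t n m h) p).hom x) = _
    rw [← P.t_θ n m h, HomologicalComplex.homologyMap_comp]
    rfl)

theorem Pres.lim_surjective (P : Pres K t D θ) (p : ℤ) : Function.Surjective (P.lim p) := by
  intro ξ
  obtain ⟨z, rfl⟩ := toH_surjective D p ξ
  obtain ⟨n, y, hy⟩ := P.surj p z.1
  have h0 : ((θ n).f (p + 1)).hom (((K n).d p (p + 1)).hom y) = 0 := by
    rw [comm_apply, hy]
    exact z.2
  obtain ⟨m, hm, hm0⟩ := P.inj (p + 1) n _ h0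
  rw [comm_apply] at hm0
  let w : Zc (K m) p := ⟨((t n m hm).f p).hom y, hm0⟩
  refine ⟨Module.DirectLimit.of R ℕ _ _ m (toH (K m) p w), ?_⟩
  unfold Pres.lim
  rw [Module.DirectLimit.lift_of, homologyMap_toH]
  congr 1
  apply Subtype.ext
  rw [ZcMap_val]
  change ((θ m).f p).hom (((t n m hm).f p).hom y) = z.1
  rw [P.θ_apply, hy]

theorem Pres.lim_injective (P : Pres K t D θ) (p : ℤ) : Function.Injective (P.lim p) := by
  haveI := P.directedSystem p
  rw [injective_iff_map_eq_zero]
  intro ζ hζ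
  obtain ⟨n, η, rfl⟩ := Module.DirectLimit.exists_of ζ
  obtain ⟨w, rfl⟩ := toH_surjective (K n) p η
  unfold Pres.lim at hζ
  rw [Module.DirectLimit.lift_of, homologyMap_toH, toH_eq_zero_iff] at hζ
  obtain ⟨x', hx'⟩ := hζ
  rw [ZcMap_val] at hx'
  obtain ⟨n', y', hy'⟩ := P.surj (p - 1) x'
  let m := max n n'
  have hnm : n ≤ m := le_max_left _ _
  have hn'm : n' ≤ m := le_max_right _ _
  let u : (K m).X p := ((t n m hnm).f p).hom w.1 -
    ((K m).d (p - 1) p).hom (((t n' m hn'm).f (p - 1)).hom y')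
  have hu : ((θ m).f p).hom u = 0 := by
    change ((θ m).f p).hom (((t n m hnm).f p).hom w.1 -
      ((K m).d (p - 1) p).hom (((t n' m hn'm).f (p - 1)).hom y')) = 0
    rw [map_sub, P.θ_apply, comm_apply, P.θ_apply, hy', hx', sub_self]
  obtain ⟨k, hk, hk0⟩ := P.inj p m u hu
  change ((t m k hk).f p).hom (((t n m hnm).f p).hom w.1 -
      ((K m).d (p - 1) p).hom (((t n' m hn'm).f (p - 1)).hom y')) = 0 at hk0
  rw [map_sub, P.t_apply, comm_apply, P.t_apply, sub_eq_zero] at hk0
  have h1 : (HomologicalComplex.homologyMap (t n k (hnm.trans hk)) p).hom (toH (K n) p w) = 0 := by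
    rw [homologyMap_toH, toH_eq_zero_iff]
    exact ⟨_, hk0.symm⟩
  have h2 := Module.DirectLimit.of_f (R := R) (ι := ℕ)
    (G := fun n => ((K n).homology p : Type u))
    (f := fun n m h => (HomologicalComplex.homologyMap (t n m h) p).hom) (i := n) (j := k)
    (hij := hnm.trans hk) (x := toH (K n) p w)
  rw [← h2]
  change Module.DirectLimit.of R ℕ (fun n => ((K n).homology p : Type u))
    (fun n m h => (HomologicalComplex.homologyMap (t n m h) p).hom) k
    ((HomologicalComplex.homologyMap (t n k (hnm.trans hk)) p).hom (toH (K n) p w)) = 0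
  rw [h1, map_zero]

theorem Pres.homology_equiv (P : Pres K t D θ) (p : ℤ) :
    Nonempty (Module.DirectLimit (fun n => ((K n).homology p : Type u))
      (fun n m h => (HomologicalComplex.homologyMap (t n m h) p).hom) ≃ₗ[R] D.homology p) :=
  ⟨LinearEquiv.ofBijective (P.lim p) ⟨P.lim_injective p, P.lim_surjective p⟩⟩

end Groth.Agent.Lib.Helper2.KosCech1
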