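import Mathlib
import Groth.Agent.Lib.Helper2.CechLow1
import Groth.Agent.Lib.Helper2.KosCech1

/-!
# Low-degree structure of Čech steps: the invariant `JInv`
-/

set_option autoImplicit false
universe u

open CategoryTheory CategoryTheory.Limits CochainComplex HomComplex DerCA

namespace Groth.Agent.Lib.Helper2.CechLow2

open Groth.Agent.Lib.Helper2.LCHom Groth.Agent.Lib.Helper2.CechLow1
  Groth.Agent.Lib.Helper2.LCCech1 Groth.Agent.Lib.Helper2.KosCech1

variable {R : Type u} [CommRing R]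

theorem d_d_apply (C : DRing.Cx R) (i j k : ℤ) (x : C.X i) :
    (C.d j k).hom ((C.d i j).hom x) = 0 := by
  have := congrArg (fun g => g.hom x) (C.d_comp_d i j k)
  exact this

/-- the differential `C^n → Z^{n+1}`. -/
noncomputable def dZ (C : DRing.Cx R) (n : ℤ) : C.X n →ₗ[R] Zc C (n + 1) :=
  (C.d n (n + 1)).hom.codRestrict (Zc C (n + 1)) (fun c => by
    rw [LinearMap.mem_ker]
    exact d_d_apply C _ _ _ c)

theorem dZ_val (C : DRing.Cx R) (n : ℤ) (c : C.X n) : (dZ C n c).1 = (C.d n (n + 1)).hom c := rfl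

theorem toH_eq_zero_iff' (C : DRing.Cx R) (n m : ℤ) (hm : m + 1 = n) (z : Zc C n) :
    toH C n z = 0 ↔ ∃ y : C.X m, (C.d m n).hom y = z.1 := by
  obtain rfl : m = n - 1 := by omega
  exact toH_eq_zero_iff C n z

/-- variant of `equivOfPhi` with a flexible previous index. -/
theorem nonempty_equiv_of_phi (C : DRing.Cx R) (n m : ℤ) (hm : m + 1 = n) {H : Type u}
    [AddCommGroup H] [Module R H] (φ : Zc C n →ₗ[R] H) (hφ : Function.Surjective φ)
    (hker : ∀ z, φ z = 0 ↔ ∃ y : C.X m, (C.d m n).hom y = z.1) :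
    Nonempty (C.homology n ≃ₗ[R] H) := by
  obtain rfl : m = n - 1 := by omega
  exact ⟨equivOfPhi C n φ hφ hker⟩

section JInv

variable {M D : Type u} [AddCommGroup M] [Module R M] [AddCommGroup D] [Module R D]

/-- the complex `C` vanishes below degree `n`, `C^n ≃ M`, `Z^{n+1}(C) ≃ D` compatibly with
`ρ : M → D`. -/
structure JInv (C : DRing.Cx R) (n : ℤ) (ρ : M →ₗ[R] D) : Prop where
  zero_lt : ∀ m, m < n → Subsingleton (C.X m)
  ex : ∃ (e₀ : C.X n ≃ₗ[R] M) (e₁ : Zc C (n + 1) ≃ₗ[R] D), ∀ c, e₁ (dZ C n c) = ρ (e₀ c)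

variable {C : DRing.Cx R} {n : ℤ} {ρ : M →ₗ[R] D}

theorem JInv.H0 (h : JInv C n ρ) : Nonempty (C.homology n ≃ₗ[R] LinearMap.ker ρ) := by
  obtain ⟨e₀, e₁, he⟩ := h.ex
  have hz : ∀ c : C.X n, ρ (e₀ c) = 0 ↔ (C.d n (n + 1)).hom c = 0 := by
    intro c
    rw [← he c]
    constructor
    · intro h0
      have : dZ C n c = 0 := e₁.injective (by rw [h0, map_zero])
      rw [← dZ_val, this]
      rfl
    · intro h0
      have : dZ C n c = 0 := Subtype.ext h0
      rw [this, map_zero]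
  let φ : Zc C n →ₗ[R] LinearMap.ker ρ :=
    (e₀.toLinearMap ∘ₗ (Zc C n).subtype).codRestrict _ (fun z => by
      rw [LinearMap.mem_ker]
      exact (hz z.1).2 z.2)
  haveI := h.zero_lt (n - 1) (by omega)
  refine nonempty_equiv_of_phi C n (n - 1) (by omega) φ ?_ ?_
  · rintro ⟨m, hm⟩
    rw [LinearMap.mem_ker] at hm
    have hc : (C.d n (n + 1)).hom (e₀.symm m) = 0 := by
      rw [← hz, LinearEquiv.apply_symm_apply, hm]
    refine ⟨⟨e₀.symm m, hc⟩, ?_⟩
    apply Subtype.ext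
    exact e₀.apply_symm_apply m
  · intro z
    constructor
    · intro hφz
      have h1 : e₀ z.1 = 0 := congrArg Subtype.val hφz
      have h2 : z.1 = 0 := e₀.injective (by rw [h1, map_zero])
      exact ⟨0, by rw [map_zero, h2]⟩
    · rintro ⟨y, hy⟩
      have : y = 0 := Subsingleton.elim _ _
      rw [this, map_zero] at hy
      apply Subtype.ext
      change e₀ z.1 = 0
      rw [← hy, map_zero]

theorem JInv.H1 (h : JInv C n ρ) :
    Nonempty (C.homology (n + 1) ≃ₗ[R] D ⧸ LinearMap.range ρ) := by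
  obtain ⟨e₀, e₁, he⟩ := h.ex
  let φ : Zc C (n + 1) →ₗ[R] D ⧸ LinearMap.range ρ :=
    (LinearMap.range ρ).mkQ ∘ₗ e₁.toLinearMap
  refine nonempty_equiv_of_phi C (n + 1) n rfl φ ?_ ?_
  · intro q
    obtain ⟨d, rfl⟩ := Submodule.Quotient.mk_surjective _ q
    exact ⟨e₁.symm d, by simp [φ]⟩
  · intro z
    change Submodule.Quotient.mk (e₁ z) = 0 ↔ _
    rw [Submodule.Quotient.mk_eq_zero, LinearMap.mem_range]
    constructor
    · rintro ⟨m, hm⟩
      refine ⟨e₀.symm m, ?_⟩
      have : dZ C n (e₀.symm m) = z := e₁.injective (by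
        rw [he, LinearEquiv.apply_symm_apply, hm])
      rw [← dZ_val, this]
    · rintro ⟨y, hy⟩
      refine ⟨e₀ y, ?_⟩
      rw [← he]
      congr 1
      exact Subtype.ext hy

end JInv

end Groth.Agent.Lib.Helper2.CechLow2
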