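import Mathlib
import Groth.Agent.Lib.Helper2.CechLow2

/-!
# The Čech step preserves the invariant `JInv` (with the pullback target)
-/

set_option autoImplicit false
universe u

open CategoryTheory CategoryTheory.Limits CochainComplex HomComplex DerCA

namespace Groth.Agent.Lib.Helper2.CechLow3

open Groth.Agent.Lib.Helper2.LCHom Groth.Agent.Lib.Helper2.CechLow1
  Groth.Agent.Lib.Helper2.CechLow2 Groth.Agent.Lib.Helper2.LCCech1
  Groth.Agent.Lib.Helper2.KosCech1

variable {R : Type u} [CommRing R]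

section Alg

variable (S : Submonoid R) {N Z P Q : Type u} [AddCommGroup N] [Module R N] [AddCommGroup Z]
  [Module R Z] [AddCommGroup P] [Module R P] [AddCommGroup Q] [Module R Q]

/-- transfer of a relation between two "localizations" of the same map `δ : N → Z`. -/
theorem transfer (δ : N →ₗ[R] Z) (u : Z →ₗ[R] P) (hu : ∀ z, u z = 0 → ∃ s : S, (s : R) • z = 0)
    (δf : LocalizedModule S N →ₗ[R] P) (hδf : ∀ c, δf (LocalizedModule.mkLinearMap S N c) = u (δ c))
    (v : Z →ₗ[R] Q) (δf' : LocalizedModule S N →ₗ[R] Q)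
    (hδf' : ∀ c, δf' (LocalizedModule.mkLinearMap S N c) = v (δ c))
    (hQ : ∀ s : S, Function.Injective (fun q : Q => (s : R) • q))
    (a : Z) (b : LocalizedModule S N) (hab : u a = δf b) : v a = δf' b := by
  obtain ⟨⟨c, s⟩, hcs⟩ := IsLocalizedModule.surj S (LocalizedModule.mkLinearMap S N) b
  change (s : R) • b = LocalizedModule.mkLinearMap S N c at hcs
  have h1 : u ((s : R) • a - δ c) = 0 := by
    rw [map_sub, map_smul, hab, ← map_smul, hcs, hδf, sub_self]
  obtain ⟨t, ht⟩ := hu _ h1
  have h2 : (t : R) • ((s : R) • v a - v (δ c)) = 0 := by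
    rw [← map_smul, ← map_sub, ← map_smul, ht, map_zero]
  rw [← hδf', ← hcs, map_smul, ← smul_sub, smul_smul] at h2
  have h3 := hQ (t * s) (a₁ := v a - δf' b) (a₂ := 0) (by
    change ((t * s : S) : R) • (v a - δf' b) = ((t * s : S) : R) • (0 : Q)
    rw [smul_zero]
    exact h2)
  exact sub_eq_zero.1 h3

theorem subsingleton_localizedModule [Subsingleton N] : Subsingleton (LocalizedModule S N) := by
  refine ⟨fun x y => ?_⟩
  induction x using LocalizedModule.induction_on with
  | h a s =>
    induction y using LocalizedModule.induction_on with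
    | h b t =>
      rw [Subsingleton.elim a 0, Subsingleton.elim b 0, LocalizedModule.zero_mk,
        LocalizedModule.zero_mk]

end Alg

section Pb

variable {M D M' D' : Type u} [AddCommGroup M] [Module R M] [AddCommGroup D] [Module R D]
  [AddCommGroup M'] [Module R M'] [AddCommGroup D'] [Module R D']
  (ρ : M →ₗ[R] D) (lM : M →ₗ[R] M') (lD : D →ₗ[R] D') (ρ' : M' →ₗ[R] D')

/-- the pullback `D ×_{D'} M'`. -/
def Pb : Submodule R (D × M') :=
  LinearMap.ker (lD ∘ₗ LinearMap.fst R D M' - ρ' ∘ₗ LinearMap.snd R D M')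

theorem mem_Pb (x : D × M') : x ∈ Pb lD ρ' ↔ lD x.1 = ρ' x.2 := by
  unfold Pb
  rw [LinearMap.mem_ker, LinearMap.sub_apply, sub_eq_zero]
  rfl

/-- `m ↦ (ρ m, lM m)`. -/
def sig (hcomm : ∀ m, ρ' (lM m) = lD (ρ m)) : M →ₗ[R] Pb lD ρ' :=
  (ρ.prod lM).codRestrict _ (fun m => by
    rw [mem_Pb]
    exact (hcomm m).symm)

theorem sig_val (hcomm : ∀ m, ρ' (lM m) = lD (ρ m)) (m : M) :
    (sig ρ lM lD ρ' hcomm m).1 = (ρ m, lM m) := rfl

end Pb

section Typed

variable (f : R) (C : DRing.Cx R)

/-- first projection, typed. -/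
noncomputable def fstC (m : ℤ) : (cechStep f C).X m →ₗ[R] C.X m :=
  kfst (locCxUnit (Submonoid.powers f) C) m m rfl

/-- second projection, typed. -/
noncomputable def sndC (m q : ℤ) (h : q + 1 = m) :
    (cechStep f C).X m →ₗ[R] LocalizedModule (Submonoid.powers f) (C.X q) :=
  ksnd (locCxUnit (Submonoid.powers f) C) m q h

/-- first inclusion, typed. -/
noncomputable def inlC (m : ℤ) : C.X m →ₗ[R] (cechStep f C).X m :=
  kinl (locCxUnit (Submonoid.powers f) C) m m rfl

/-- second inclusion, typed. -/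
noncomputable def inrC (m q : ℤ) (h : q + 1 = m) :
    LocalizedModule (Submonoid.powers f) (C.X q) →ₗ[R] (cechStep f C).X m :=
  kinr (locCxUnit (Submonoid.powers f) C) m q h

/-- the localized differential, typed. -/
noncomputable def dL (q q' : ℤ) : LocalizedModule (Submonoid.powers f) (C.X q) →ₗ[R]
    LocalizedModule (Submonoid.powers f) (C.X q') :=
  (((locCx (Submonoid.powers f)).obj C).d q q').hom

theorem fstC_inlC (m : ℤ) (a : C.X m) : fstC f C m (inlC f C m a) = a :=
  kfst_kinl _ m m rfl a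

theorem sndC_inlC (m q : ℤ) (h : q + 1 = m) (a : C.X m) : sndC f C m q h (inlC f C m a) = 0 :=
  ksnd_kinl _ m m q rfl h a

theorem fstC_inrC (m q : ℤ) (h : q + 1 = m) (b : LocalizedModule (Submonoid.powers f) (C.X q)) :
    fstC f C m (inrC f C m q h b) = 0 :=
  kfst_kinr (locCxUnit (Submonoid.powers f) C) m m q rfl h b

theorem sndC_inrC (m q : ℤ) (h : q + 1 = m) (b : LocalizedModule (Submonoid.powers f) (C.X q)) :
    sndC f C m q h (inrC f C m q h b) = b :=
  ksnd_kinr (locCxUnit (Submonoid.powers f) C) m q h b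

theorem decompC (m q : ℤ) (h : q + 1 = m) (x : (cechStep f C).X m) :
    x = inlC f C m (fstC f C m x) + inrC f C m q h (sndC f C m q h x) :=
  decomp _ m m q rfl h x

theorem fstC_d (m : ℤ) (x : (cechStep f C).X m) :
    fstC f C (m + 1) (((cechStep f C).d m (m + 1)).hom x) =
      (C.d m (m + 1)).hom (fstC f C m x) :=
  kfst_d _ m (m + 1) m (m + 1) rfl rfl rfl x

theorem sndC_d (m q : ℤ) (h : q + 1 = m) (x : (cechStep f C).X m) :
    sndC f C (m + 1) m rfl (((cechStep f C).d m (m + 1)).hom x) =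
      -LocalizedModule.mkLinearMap (Submonoid.powers f) (C.X m) (fstC f C m x) -
        dL f C q m (sndC f C m q h x) :=
  ksnd_d _ m (m + 1) m q rfl rfl h x

theorem dL_mk (q q' : ℤ) (c : C.X q) :
    dL f C q q' (LocalizedModule.mkLinearMap (Submonoid.powers f) (C.X q) c) =
      LocalizedModule.mkLinearMap (Submonoid.powers f) (C.X q') ((C.d q q').hom c) :=
  (comm_apply (locCxUnit (Submonoid.powers f) C) q q' c).symm

end Typed

end Groth.Agent.Lib.Helper2.CechLow3
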