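import Mathlib
import Groth.Agent.Lib.Helper2.CechLow3

/-!
# The Čech step preserves the invariant `JInv`
-/

set_option autoImplicit false
universe u

open CategoryTheory CategoryTheory.Limits CochainComplex HomComplex DerCA

namespace Groth.Agent.Lib.Helper2.CechLow4

open Groth.Agent.Lib.Helper2.LCHom Groth.Agent.Lib.Helper2.CechLow1
  Groth.Agent.Lib.Helper2.CechLow2 Groth.Agent.Lib.Helper2.CechLow3
  Groth.Agent.Lib.Helper2.LCCech1 Groth.Agent.Lib.Helper2.KosCech1

variable {R : Type u} [CommRing R]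

variable (f : R) {C : DRing.Cx R} {n : ℤ}
  {M D M' D' : Type u} [AddCommGroup M] [Module R M] [AddCommGroup D] [Module R D]
  [AddCommGroup M'] [Module R M'] [AddCommGroup D'] [Module R D']
  (ρ : M →ₗ[R] D) (lM : M →ₗ[R] M') (lD : D →ₗ[R] D') (ρ' : M' →ₗ[R] D')

theorem JInv.step [IsLocalizedModule (Submonoid.powers f) lM]
    [IsLocalizedModule (Submonoid.powers f) lD]
    (hcomm : ∀ m, ρ' (lM m) = lD (ρ m)) (h : JInv C n ρ) :
    JInv (cechStep f C) n (sig ρ lM lD ρ' hcomm) := by
  obtain ⟨e₀, e₁, he⟩ := h.ex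
  have hsub : ∀ m, m < n → Subsingleton (LocalizedModule (Submonoid.powers f) (C.X m)) := by
    intro m hm
    haveI := h.zero_lt m hm
    exact subsingleton_localizedModule (Submonoid.powers f) (N := C.X m)
  constructor
  · intro m hm
    haveI := h.zero_lt m hm
    haveI := hsub (m + -1) (by omega)
    refine ⟨fun x y => ?_⟩
    rw [decompC f C m (m + -1) (by omega) x, decompC f C m (m + -1) (by omega) y]
    congr 1 <;> congr 1 <;> exact Subsingleton.elim _ _
  · haveI := hsub (n + -1) (by omega)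
    -- the degree `n` term
    have hfst_inj : Function.Injective (fstC f C n) := by
      intro x y hxy
      rw [decompC f C n (n + -1) (by omega) x, decompC f C n (n + -1) (by omega) y, hxy]
      congr 2
      exact Subsingleton.elim _ _
    have hfst_surj : Function.Surjective (fstC f C n) :=
      fun a => ⟨inlC f C n a, fstC_inlC f C n a⟩
    let e₀' : (cechStep f C).X n ≃ₗ[R] M :=
      (LinearEquiv.ofBijective (fstC f C n) ⟨hfst_inj, hfst_surj⟩).trans e₀
    have he₀' : ∀ c, e₀' c = e₀ (fstC f C n c) := fun c => rfl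
    -- the localization of `C^n`
    haveI : IsLocalizedModule (Submonoid.powers f) (lM ∘ₗ e₀.toLinearMap) :=
      IsLocalizedModule.of_linearEquiv_right (Submonoid.powers f) lM e₀
    let ψ : LocalizedModule (Submonoid.powers f) (C.X n) ≃ₗ[R] M' :=
      IsLocalizedModule.iso (Submonoid.powers f) (lM ∘ₗ e₀.toLinearMap)
    have hψ : ∀ c : C.X n,
        ψ (LocalizedModule.mkLinearMap (Submonoid.powers f) (C.X n) c) = lM (e₀ c) := by
      intro c
      rw [LocalizedModule.mkLinearMap_apply]
      exact IsLocalizedModule.iso_mk_one (Submonoid.powers f) (lM ∘ₗ e₀.toLinearMap) c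
    -- the two "localizations" of `dZ`
    let u : Zc C (n + 1) →ₗ[R] LocalizedModule (Submonoid.powers f) (C.X (n + 1)) :=
      LocalizedModule.mkLinearMap (Submonoid.powers f) (C.X (n + 1)) ∘ₗ (Zc C (n + 1)).subtype
    have hu_def : ∀ z, u z = LocalizedModule.mkLinearMap (Submonoid.powers f) (C.X (n + 1)) z.1 :=
      fun z => rfl
    have hu : ∀ z, u z = 0 → ∃ s : Submonoid.powers f, (s : R) • z = 0 := by
      intro z hz
      obtain ⟨s, hs⟩ := (IsLocalizedModule.eq_zero_iff (Submonoid.powers f)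
        (LocalizedModule.mkLinearMap (Submonoid.powers f) (C.X (n + 1)))).1 hz
      exact ⟨s, Subtype.ext hs⟩
    have hδf : ∀ c, dL f C n (n + 1)
        (LocalizedModule.mkLinearMap (Submonoid.powers f) (C.X n) c) = u (dZ C n c) := by
      intro c
      rw [dL_mk]
      rfl
    let v : Zc C (n + 1) →ₗ[R] D' := lD ∘ₗ e₁.toLinearMap
    have hv_def : ∀ z, v z = lD (e₁ z) := fun z => rfl
    have hv : ∀ z, v z = 0 → ∃ s : Submonoid.powers f, (s : R) • z = 0 := by
      intro z hz
      obtain ⟨s, hs⟩ := (IsLocalizedModule.eq_zero_iff (Submonoid.powers f) lD).1 hz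
      refine ⟨s, e₁.injective ?_⟩
      rw [map_smul, map_zero]
      exact hs
    let δf' : LocalizedModule (Submonoid.powers f) (C.X n) →ₗ[R] D' := ρ' ∘ₗ ψ.toLinearMap
    have hδf'_def : ∀ b, δf' b = ρ' (ψ b) := fun b => rfl
    have hδf' : ∀ c, δf' (LocalizedModule.mkLinearMap (Submonoid.powers f) (C.X n) c) =
        v (dZ C n c) := by
      intro c
      rw [hδf'_def, hv_def, hψ, hcomm, he]
    have hD' : ∀ s : Submonoid.powers f, Function.Injective (fun q : D' => (s : R) • q) :=
      fun s => IsLocalizedModule.smul_injective lD s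
    have hP : ∀ s : Submonoid.powers f, Function.Injective
        (fun q : LocalizedModule (Submonoid.powers f) (C.X (n + 1)) => (s : R) • q) :=
      fun s => IsLocalizedModule.smul_injective
        (LocalizedModule.mkLinearMap (Submonoid.powers f) (C.X (n + 1))) s
    have key1 : ∀ (a : Zc C (n + 1)) (b : LocalizedModule (Submonoid.powers f) (C.X n)),
        u a = dL f C n (n + 1) b → v a = δf' b :=
      transfer (Submonoid.powers f) (dZ C n) u hu (dL f C n (n + 1)) hδf v δf' hδf' hD'
    have key2 : ∀ (a : Zc C (n + 1)) (b : LocalizedModule (Submonoid.powers f) (C.X n)),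
        v a = δf' b → u a = dL f C n (n + 1) b :=
      transfer (Submonoid.powers f) (dZ C n) v hv δf' hδf' u (dL f C n (n + 1)) hδf hP
    -- cycles of the cocone
    have hcyc1 : ∀ z : Zc (cechStep f C) (n + 1),
        (C.d (n + 1) (n + 1 + 1)).hom (fstC f C (n + 1) z.1) = 0 := by
      intro z
      rw [← fstC_d]
      have hz : ((cechStep f C).d (n + 1) (n + 1 + 1)).hom z.1 = 0 := z.2
      rw [hz, map_zero]
    have hcyc2 : ∀ z : Zc (cechStep f C) (n + 1),
        LocalizedModule.mkLinearMap (Submonoid.powers f) (C.X (n + 1)) (fstC f C (n + 1) z.1) =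
        dL f C n (n + 1) (-(sndC f C (n + 1) n rfl z.1)) := by
      intro z
      have hz : ((cechStep f C).d (n + 1) (n + 1 + 1)).hom z.1 = 0 := z.2
      have h1 := sndC_d f C (n + 1) n rfl z.1
      rw [hz, map_zero] at h1
      rw [map_neg]
      have h2 := sub_eq_zero.1 h1.symm
      rw [neg_eq_iff_eq_neg] at h2
      exact h2
    let kfstZ : Zc (cechStep f C) (n + 1) →ₗ[R] Zc C (n + 1) :=
      ((fstC f C (n + 1)) ∘ₗ (Zc (cechStep f C) (n + 1)).subtype).codRestrict _ (fun z => by
          rw [LinearMap.mem_ker]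
          exact hcyc1 z)
    have hkfstZ : ∀ z, (kfstZ z).1 = fstC f C (n + 1) z.1 := fun z => rfl
    let T : Zc (cechStep f C) (n + 1) →ₗ[R] D × M' :=
      (e₁.toLinearMap ∘ₗ kfstZ).prod
        (-(ψ.toLinearMap ∘ₗ (sndC f C (n + 1) n rfl) ∘ₗ
          (Zc (cechStep f C) (n + 1)).subtype))
    have hT1 : ∀ z, (T z).1 = e₁ (kfstZ z) := fun z => rfl
    have hT2 : ∀ z, (T z).2 = -ψ (sndC f C (n + 1) n rfl z.1) := fun z => rfl
    have hTmem : ∀ z, T z ∈ Pb lD ρ' := by
      intro z
      rw [mem_Pb, hT1, hT2]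
      have := key1 (kfstZ z) (-(sndC f C (n + 1) n rfl z.1)) (by
        rw [hu_def, hkfstZ]
        exact hcyc2 z)
      rw [hv_def, hδf'_def] at this
      rw [this, map_neg]
    let T' : Zc (cechStep f C) (n + 1) →ₗ[R] Pb lD ρ' := T.codRestrict _ hTmem
    have hT'inj : Function.Injective T' := by
      rw [injective_iff_map_eq_zero]
      intro z hz
      have hz' : T z = 0 := congrArg Subtype.val hz
      have h1 : e₁ (kfstZ z) = 0 := by rw [← hT1, hz']; rfl
      have h2 : ψ (sndC f C (n + 1) n rfl z.1) = 0 := by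
        have : (T z).2 = 0 := by rw [hz']; rfl
        rw [hT2, neg_eq_zero] at this
        exact this
      have h3 : kfstZ z = 0 := e₁.injective (by rw [h1, map_zero])
      have h4 : fstC f C (n + 1) z.1 = 0 := by
        rw [← hkfstZ, h3]
        rfl
      have h5 : sndC f C (n + 1) n rfl z.1 = 0 :=
        ψ.injective (by rw [h2, map_zero])
      apply Subtype.ext
      rw [decompC f C (n + 1) n rfl z.1, h4, h5, map_zero, map_zero, add_zero]
      rfl
    have hT'surj : Function.Surjective T' := by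
      rintro ⟨⟨d, m'⟩, hdm⟩
      rw [mem_Pb] at hdm
      change lD d = ρ' m' at hdm
      obtain ⟨a, ha⟩ : ∃ a : Zc C (n + 1), a = e₁.symm d := ⟨_, rfl⟩
      obtain ⟨b, hb⟩ : ∃ b : LocalizedModule (Submonoid.powers f) (C.X n), b = -ψ.symm m' :=
        ⟨_, rfl⟩
      have hab : u a = dL f C n (n + 1) (-b) := by
        apply key2
        rw [hv_def, hδf'_def, ha, hb, neg_neg, LinearEquiv.apply_symm_apply,
          LinearEquiv.apply_symm_apply, hdm]
      obtain ⟨x, hx⟩ : ∃ x : (cechStep f C).X (n + 1),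
          x = inlC f C (n + 1) a.1 + inrC f C (n + 1) n rfl b := ⟨_, rfl⟩
      have hx1 : fstC f C (n + 1) x = a.1 := by
        rw [hx, map_add, fstC_inlC, fstC_inrC, add_zero]
      have hx2 : sndC f C (n + 1) n rfl x = b := by
        rw [hx, map_add, sndC_inlC, sndC_inrC, zero_add]
      have hxcyc : ((cechStep f C).d (n + 1) (n + 1 + 1)).hom x = 0 := by
        rw [decompC f C (n + 1 + 1) (n + 1) rfl (((cechStep f C).d (n + 1) (n + 1 + 1)).hom x),
          fstC_d, sndC_d f C (n + 1) n rfl x, hx1, hx2]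
        have ha2 : (C.d (n + 1) (n + 1 + 1)).hom a.1 = 0 := a.2
        rw [ha2, map_zero, zero_add]
        have : LocalizedModule.mkLinearMap (Submonoid.powers f) (C.X (n + 1)) a.1 =
            -dL f C n (n + 1) b := by
          rw [← map_neg, ← hu_def]
          exact hab
        rw [this, neg_neg, sub_self, map_zero]
      refine ⟨⟨x, hxcyc⟩, ?_⟩
      apply Subtype.ext
      change T ⟨x, hxcyc⟩ = (d, m')
      apply Prod.ext
      · rw [hT1]
        have : kfstZ ⟨x, hxcyc⟩ = a := Subtype.ext hx1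
        rw [this, ha]
        exact e₁.apply_symm_apply d
      · rw [hT2]
        change -ψ (sndC f C (n + 1) n rfl x) = m'
        rw [hx2, hb, map_neg, neg_neg, LinearEquiv.apply_symm_apply]
    let e₁' : Zc (cechStep f C) (n + 1) ≃ₗ[R] Pb lD ρ' :=
      LinearEquiv.ofBijective T' ⟨hT'inj, hT'surj⟩
    refine ⟨e₀', e₁', ?_⟩
    intro c
    apply Subtype.ext
    change T (dZ (cechStep f C) n c) = (sig ρ lM lD ρ' hcomm (e₀' c)).1
    rw [sig_val]
    have hc1 : fstC f C (n + 1) (dZ (cechStep f C) n c).1 =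
        (C.d n (n + 1)).hom (fstC f C n c) := by
      rw [dZ_val]
      exact fstC_d f C n c
    have hc2 : sndC f C (n + 1) n rfl (dZ (cechStep f C) n c).1 =
        -LocalizedModule.mkLinearMap (Submonoid.powers f) (C.X n) (fstC f C n c) := by
      rw [dZ_val, sndC_d f C n (n + -1) (by omega) c]
      have h2 : sndC f C n (n + -1) (by omega) c = 0 := Subsingleton.elim _ _
      rw [h2, map_zero, sub_zero]
    apply Prod.ext
    · rw [hT1]
      have : kfstZ (dZ (cechStep f C) n c) = dZ C n (fstC f C n c) := Subtype.ext hc1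
      rw [this, he, he₀']
    · rw [hT2, hc2, map_neg, neg_neg, hψ, he₀']

end Groth.Agent.Lib.Helper2.CechLow4
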