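import Mathlib
import Groth.Agent.Lib.Helper28.QCohGlobal
import Groth.Agent.Lib.Helper2.CechLow4

/-!
# Sections of a quasi-coherent module as modules over a base ring `A → Γ(X, ⊤)`;
restriction to a basic open is a localization
-/

set_option autoImplicit false
universe u

open CategoryTheory CategoryTheory.Limits AlgebraicGeometry Opposite TopologicalSpace

namespace Groth.Agent.Lib.Helper2.CechGeoA1

open Groth.Agent.Lib.Helper28.QCohLoc

variable {X : Scheme.{u}} {A : Type u} [CommRing A] (φ : A →+* Γ(X, ⊤)) (F : X.Modules)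

/-- sections over `V`, as a module over the base ring `A`. -/
def SecA (_φ : A →+* Γ(X, ⊤)) (F : X.Modules) (V : X.Opens) : Type u := Γ(F, V)

noncomputable instance (V : X.Opens) : AddCommGroup (SecA φ F V) :=
  inferInstanceAs (AddCommGroup Γ(F, V))

noncomputable instance (V : X.Opens) : Module A (SecA φ F V) :=
  Module.compHom Γ(F, V) ((X.presheaf.map (homOfLE (le_top : V ≤ ⊤)).op).hom.comp φ)

/-- view a section as an element of `SecA`. -/
def toSecA {V : X.Opens} (x : Γ(F, V)) : SecA φ F V := x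

/-- view an element of `SecA` as a section. -/
def ofSecA {V : X.Opens} (x : SecA φ F V) : Γ(F, V) := x

theorem smul_def (V : X.Opens) (a : A) (x : SecA φ F V) :
    a • x = toSecA φ F (resO (le_top : V ≤ ⊤) (φ a) • ofSecA φ F x) := rfl

/-- restriction as a linear map over the base ring. -/
noncomputable def resL {V W : X.Opens} (h : W ≤ V) : SecA φ F V →ₗ[A] SecA φ F W where
  toFun x := toSecA φ F (res F h (ofSecA φ F x))
  map_add' x y := map_add _ (ofSecA φ F x) (ofSecA φ F y)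
  map_smul' a x := by
    change toSecA φ F (res F h (resO (le_top : V ≤ ⊤) (φ a) • ofSecA φ F x)) =
      toSecA φ F (resO (le_top : W ≤ ⊤) (φ a) • res F h (ofSecA φ F x))
    rw [res_smul, resO_resO]

theorem resL_apply {V W : X.Opens} (h : W ≤ V) (x : SecA φ F V) :
    resL φ F h x = toSecA φ F (res F h (ofSecA φ F x)) := rfl

theorem resL_resL {V W W' : X.Opens} (h : W ≤ V) (h' : W' ≤ W) (x : SecA φ F V) :
    resL φ F h' (resL φ F h x) = resL φ F (h'.trans h) x := by
  rw [resL_apply, resL_apply, resL_apply]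
  exact congrArg (toSecA φ F) (res_res F h h' (ofSecA φ F x))

theorem resL_self {V : X.Opens} (x : SecA φ F V) : resL φ F (le_refl V) x = x := by
  rw [resL_apply]
  exact congrArg (toSecA φ F) (res_self F (ofSecA φ F x))

theorem smul_pow_def (V : X.Opens) (a : A) (k : ℕ) (x : SecA φ F V) :
    (a ^ k) • x = toSecA φ F ((resO (le_top : V ≤ ⊤) (φ a)) ^ k • ofSecA φ F x) := by
  rw [smul_def, map_pow, resO_pow]

theorem isUnit_resO_of_le (f : Γ(X, ⊤)) (W : X.Opens) (hW : W ≤ X.basicOpen f) :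
    IsUnit (resO (le_top : W ≤ ⊤) f) := by
  have h1 : IsUnit (resO (X.basicOpen_le f) f) :=
    RingedSpace.isUnit_res_basicOpen X.toRingedSpace f
  have h2 : resO (le_top : W ≤ ⊤) f = resO hW (resO (X.basicOpen_le f) f) :=
    (resO_resO _ _ f).symm
  rw [h2]
  exact h1.map (X.presheaf.map (homOfLE hW).op).hom

theorem smul_bijective_of_isUnit {W : X.Opens} (r : Γ(X, W)) (hr : IsUnit r) :
    Function.Bijective (fun x : Γ(F, W) => r • x) := by
  obtain ⟨u, rfl⟩ := hr
  constructor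
  · intro x y hxy
    have := congrArg (fun z => ((u⁻¹ : Γ(X, W)ˣ) : Γ(X, W)) • z) hxy
    simpa [smul_smul] using this
  · intro y
    exact ⟨((u⁻¹ : Γ(X, W)ˣ) : Γ(X, W)) • y, by simp [smul_smul]⟩

theorem isLocalizedModule_resL [F.IsQuasicoherent] (f : A) (V W : X.Opens)
    (hV : IsCompact (V : Set X)) (hV' : IsQuasiSeparated (V : Set X)) (hWV : W ≤ V)
    (hW : W = X.basicOpen (resO (le_top : V ≤ ⊤) (φ f))) :
    IsLocalizedModule (Submonoid.powers f) (resL φ F hWV) := by
  subst hW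
  have hle : X.basicOpen (resO (le_top : V ≤ ⊤) (φ f)) ≤ X.basicOpen (φ f) := by
    rw [basicOpen_resO]
    exact inf_le_right
  have hres : resO (le_top : X.basicOpen (resO (le_top : V ≤ ⊤) (φ f)) ≤ ⊤) (φ f) =
      resO (X.basicOpen_le (resO (le_top : V ≤ ⊤) (φ f))) (resO (le_top : V ≤ ⊤) (φ f)) :=
    (resO_resO _ _ (φ f)).symm
  refine ⟨?_, ?_, ?_⟩
  · rintro ⟨_, k, rfl⟩
    rw [Module.End.isUnit_iff]
    have hu : IsUnit (resO (le_top : X.basicOpen (resO (le_top : V ≤ ⊤) (φ f)) ≤ ⊤)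
        (φ (f ^ k))) := by
      rw [map_pow, resO_pow]
      exact (isUnit_resO_of_le (φ f) _ hle).pow k
    have hb := smul_bijective_of_isUnit F _ hu
    exact ⟨fun x y hxy => hb.1 hxy, fun y => hb.2 y⟩
  · intro y
    obtain ⟨k, x, hx⟩ := exists_pow_smul_eq_res_of_qcqs F hV hV' (resO (le_top : V ≤ ⊤) (φ f))
      (ofSecA φ F y)
    refine ⟨⟨toSecA φ F x, ⟨f ^ k, k, rfl⟩⟩, ?_⟩
    change (f ^ k) • y = resL φ F hWV (toSecA φ F x)
    rw [smul_pow_def, resL_apply, hres]
    exact congrArg (toSecA φ F) hx.symm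
  · intro x₁ x₂ h12
    have h0 : res F (X.basicOpen_le (resO (le_top : V ≤ ⊤) (φ f)))
        (ofSecA φ F x₁ - ofSecA φ F x₂) = 0 := by
      rw [res_sub]
      exact sub_eq_zero.2 h12
    obtain ⟨k, hk⟩ := exists_pow_smul_eq_zero_of_isCompact F hV (resO (le_top : V ≤ ⊤) (φ f)) _ h0
    refine ⟨⟨f ^ k, k, rfl⟩, ?_⟩
    change (f ^ k) • x₁ = (f ^ k) • x₂
    rw [smul_pow_def, smul_pow_def]
    rw [smul_sub] at hk
    exact congrArg (toSecA φ F) (sub_eq_zero.1 hk)

end Groth.Agent.Lib.Helper2.CechGeoA1
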