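import Mathlib
import Groth.Agent.Lib.Helper2.CechGeoA1

/-!
# Quasi-coherent modules on a quasi-compact open of an affine scheme are restrictions of `M~`
-/

set_option autoImplicit false
universe u

open CategoryTheory CategoryTheory.Limits AlgebraicGeometry Opposite TopologicalSpace

namespace Groth.Agent.Lib.Helper2.AffExt1

open Groth.Agent.Lib.Helper28.QCohLoc Groth.Agent.Lib.Helper2.CechGeoA1

variable (A : Type u) [CommRing A] (V : (Spec (CommRingCat.of A)).Opens)
  (F : (V : Scheme.{u}).Modules)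

/-- the structure map `A → Γ(V, ⊤)`. -/
noncomputable def phiV : A →+* Γ((V : Scheme.{u}), ⊤) :=
  (V.ι.appTop).hom.comp (Scheme.ΓSpecIso (CommRingCat.of A)).inv.hom

/-- the pushforward to `Spec A`. -/
noncomputable abbrev Pf : (Spec (CommRingCat.of A)).Modules :=
  (Scheme.Modules.pushforward V.ι).obj F

noncomputable instance instModP (U : (Spec (CommRingCat.of A)).Opens) :
    Module A Γ(Pf A V F, U) :=
  Scheme.Modules.instModuleCarrierCarrierObjOppositeOpensCarrierCarrierCommRingCatSpecAbPresheafOp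
    (R := CommRingCat.of A)

theorem app_res (U : (Spec (CommRingCat.of A)).Opens) (s : Γ(Spec (CommRingCat.of A), ⊤)) :
    V.ι.app U (((Spec (CommRingCat.of A)).presheaf.map U.leTop.op) s) =
      resO (le_top : V.ι ⁻¹ᵁ U ≤ ⊤) (V.ι.appTop s) := by
  have h := congrArg (fun g => g.hom s) (V.ι.naturality U.leTop.op)
  exact h

theorem smul_compat (U : (Spec (CommRingCat.of A)).Opens) (r : A) (x : Γ(Pf A V F, U)) :
    (r • x : Γ(Pf A V F, U)) =
      (show Γ(F, V.ι ⁻¹ᵁ U) from
        (resO (le_top : V.ι ⁻¹ᵁ U ≤ ⊤) (phiV A V r)) • (show Γ(F, V.ι ⁻¹ᵁ U) from x)) := by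
  have h1 : (r • x : Γ(Pf A V F, U)) =
      (show Γ(F, V.ι ⁻¹ᵁ U) from
        (V.ι.app U (((Spec (CommRingCat.of A)).presheaf.map U.leTop.op)
          ((Scheme.ΓSpecIso (CommRingCat.of A)).inv r))) • (show Γ(F, V.ι ⁻¹ᵁ U) from x)) := rfl
  rw [h1, app_res]
  rfl

/-- sections of the pushforward, as sections of `F` over the preimage. -/
noncomputable def secEquiv (U : (Spec (CommRingCat.of A)).Opens) :
    SecA (phiV A V) F (V.ι ⁻¹ᵁ U) ≃ₗ[A] Γ(Pf A V F, U) where
  toFun x := (show Γ(Pf A V F, U) from ofSecA (phiV A V) F x)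
  invFun y := toSecA (phiV A V) F (show Γ(F, V.ι ⁻¹ᵁ U) from y)
  left_inv _ := rfl
  right_inv _ := rfl
  map_add' _ _ := rfl
  map_smul' r x := (smul_compat A V F U r _).symm

theorem preimage_basicOpen (f : A) :
    V.ι ⁻¹ᵁ (PrimeSpectrum.basicOpen f : (Spec (CommRingCat.of A)).Opens) =
      (V : Scheme.{u}).basicOpen (resO (le_top : V.ι ⁻¹ᵁ ⊤ ≤ ⊤) (phiV A V f)) := by
  rw [basicOpen_resO]
  have h1 : (PrimeSpectrum.basicOpen f : (Spec (CommRingCat.of A)).Opens) =
      (Spec (CommRingCat.of A)).basicOpen ((Scheme.ΓSpecIso (CommRingCat.of A)).inv f) :=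
    (basicOpen_eq_of_affine (R := CommRingCat.of A) f).symm
  rw [h1, Scheme.preimage_basicOpen_top]
  refine le_antisymm (le_inf le_top ?_) inf_le_right
  exact le_of_eq rfl

theorem isLocalizing_Pf [F.IsQuasicoherent]
    (hV : IsCompact (V : Set (Spec (CommRingCat.of A)))) :
    IsLocalizing (modulesSpecToSheaf.obj (Pf A V F)) := by
  intro f
  haveI : CompactSpace (V : Scheme.{u}) := isCompact_iff_compactSpace.1 hV
  haveI : QuasiSeparatedSpace (V : Scheme.{u}) :=
    QuasiSeparatedSpace.of_isOpenEmbedding V.ι.isOpenEmbedding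
  have hc : IsCompact ((V.ι ⁻¹ᵁ ⊤ : (V : Scheme.{u}).Opens) : Set (V : Scheme.{u})) :=
    isCompact_univ
  have hq : IsQuasiSeparated ((V.ι ⁻¹ᵁ ⊤ : (V : Scheme.{u}).Opens) : Set (V : Scheme.{u})) :=
    isQuasiSeparated_univ
  have hle : V.ι ⁻¹ᵁ (PrimeSpectrum.basicOpen f : (Spec (CommRingCat.of A)).Opens) ≤
      V.ι ⁻¹ᵁ ⊤ := le_top
  haveI := isLocalizedModule_resL (phiV A V) F f (V.ι ⁻¹ᵁ ⊤)
    (V.ι ⁻¹ᵁ (PrimeSpectrum.basicOpen f : (Spec (CommRingCat.of A)).Opens)) hc hq hle
    (preimage_basicOpen A V f)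
  have hg : ((modulesSpecToSheaf.obj (Pf A V F)).obj.map
      (PrimeSpectrum.basicOpen f : (Spec (CommRingCat.of A)).Opens).leTop.op).hom =
      ((secEquiv A V F (PrimeSpectrum.basicOpen f)).toLinearMap ∘ₗ
        resL (phiV A V) F hle) ∘ₗ (secEquiv A V F ⊤).symm.toLinearMap :=
    LinearMap.ext fun x => rfl
  rw [hg]
  have h1 : IsLocalizedModule (Submonoid.powers f)
      ((secEquiv A V F (PrimeSpectrum.basicOpen f)).toLinearMap ∘ₗ resL (phiV A V) F hle) :=
    IsLocalizedModule.of_linearEquiv _ _ _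
  exact IsLocalizedModule.of_linearEquiv_right (hf := h1) _ _ _

/-- the module of sections over `V`, as an `A`-module. -/
noncomputable abbrev NV : ModuleCat.{u} (CommRingCat.of A) :=
  (modulesSpecToSheaf.obj (Pf A V F)).presheaf.obj (op ⊤)

/-- a quasi-coherent module on a quasi-compact open of `Spec A` is the restriction of the sheaf
associated with its module of sections. -/
theorem nonempty_iso_restrict_tilde [F.IsQuasicoherent]
    (hV : IsCompact (V : Set (Spec (CommRingCat.of A)))) :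
    Nonempty (F ≅ (tilde (R := CommRingCat.of A) (NV A V F)).restrict V.ι) := by
  have h0 := isLocalizing_Pf A V F hV
  have h1 := (isIso_fromTildeΓ_iff_isLocalizing (R := CommRingCat.of A) (Pf A V F)).2 h0
  let e1 : tilde (R := CommRingCat.of A) (NV A V F) ≅ Pf A V F :=
    @asIso _ _ _ _ (Scheme.Modules.fromTildeΓ (R := CommRingCat.of A) (Pf A V F)) h1
  let e2 : (Pf A V F).restrict V.ι ≅ F := (Scheme.Modules.restrictFunctorAdjCounitIso V.ι).app F
  exact ⟨e2.symm ≪≫ (Scheme.Modules.restrictFunctor V.ι).mapIso e1.symm⟩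

end Groth.Agent.Lib.Helper2.AffExt1
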