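import Mathlib
import Groth.Agent.Lib.Helper2.AffExt1
import Groth.Agent.Lib.Helper17.FTExt

/-!
# Finite type for quasi-coherent modules: invariance under isomorphism and restriction to opens
-/

set_option autoImplicit false
universe u

open CategoryTheory CategoryTheory.Limits AlgebraicGeometry Opposite TopologicalSpace

namespace Groth.Agent.Lib.Helper2.AffExt2

variable {X : Scheme.{u}}

theorem isQuasicoherent_of_iso {M N : X.Modules} (e : M ≅ N) [M.IsQuasicoherent] :
    N.IsQuasicoherent :=
  (SheafOfModules.isQuasicoherent X.ringCatSheaf).prop_of_iso e (inferInstance : M.IsQuasicoherent)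

theorem isFT_of_iso {M N : X.Modules} (e : M ≅ N) [M.IsQuasicoherent]
    [SheafOfModules.IsFiniteType.{u} (R := X.ringCatSheaf) M] :
    SheafOfModules.IsFiniteType.{u} (R := X.ringCatSheaf) N := by
  haveI : N.IsQuasicoherent := isQuasicoherent_of_iso e
  apply Groth.Agent.Lib.Helper17.FinTypeConv.isFiniteType_of_forall_finite_sections
  intro U
  have h := Groth.Agent.Lib.Helper28.FinType.finite_of_isAffineOpen M U.2
  refine Groth.Agent.Lib.Helper17.FTExt.finite_transport (R := Γ(X, U.1)) (R' := Γ(X, U.1))
    (M := Γ(M, U.1)) (M' := Γ(N, U.1)) (fun r => r) (e.hom.app U.1).hom ?_ ?_ h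
  · intro r m
    exact Scheme.Modules.Hom.app_smul e.hom r m
  · intro y
    refine ⟨(e.inv.app U.1).hom y, ?_⟩
    have : e.inv.app U.1 ≫ e.hom.app U.1 = 𝟙 _ := by
      rw [← Scheme.Modules.Hom.comp_app, e.inv_hom_id]
      rfl
    exact congrArg (fun g => g.hom y) this

theorem isFT_restrict (O : X.Opens) (M : X.Modules) [M.IsQuasicoherent]
    [SheafOfModules.IsFiniteType.{u} (R := X.ringCatSheaf) M] :
    SheafOfModules.IsFiniteType.{u} (R := (O : Scheme.{u}).ringCatSheaf) (M.restrict O.ι) := by
  apply Groth.Agent.Lib.Helper17.FinTypeConv.isFiniteType_of_forall_finite_sections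
  intro D'
  apply Groth.Agent.Lib.Helper17.FTExt.finite_restrict_of_finite
  exact Groth.Agent.Lib.Helper28.FinType.finite_of_isAffineOpen M
    (D'.2.image_of_isOpenImmersion O.ι)

end Groth.Agent.Lib.Helper2.AffExt2
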