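import Mathlib
import Groth.Agent.Lib.Helper2.LCCech1

/-!
# The kernel of a termwise surjective map is quasi-isomorphic to its mapping cocone
-/

set_option autoImplicit false
universe u

open CategoryTheory CategoryTheory.Limits Pretriangulated CochainComplex

namespace Groth.Agent.Lib.Helper2.LCCech2

open Groth.Agent.Lib.Helper2.LCCech1

section

variable {C : Type*} [Category C] [Abelian C] [HasDerivedCategory C]

theorem exists_quasiIso_to_mappingCocone (S : ShortComplex (CochainComplex C ℤ))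
    (hS : S.ShortExact) : ∃ ρ : S.X₁ ⟶ mappingCocone S.g, QuasiIso ρ := by
  let ρ₁ : S.X₁⟦(1 : ℤ)⟧ ⟶ mappingCone (mappingCone.inr S.f) :=
    (mappingCone.rotateHomotopyEquiv S.f).hom
  have h₁ : QuasiIso ρ₁ := inferInstance
  have hd : QuasiIso (mappingCone.descShortComplex S) := mappingCone.quasiIso_descShortComplex hS
  let ρ₂ : mappingCone (mappingCone.inr S.f) ⟶ mappingCone S.g :=
    mappingCone.map (mappingCone.inr S.f) S.g (𝟙 S.X₂) (mappingCone.descShortComplex S) (by simp)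
  have h₂ : QuasiIso ρ₂ := quasiIso_mappingCone_map _ _ _ _ _
  have h₁₂ : QuasiIso (ρ₁ ≫ ρ₂) := inferInstance
  let ρ' : (S.X₁⟦(1 : ℤ)⟧)⟦(-1 : ℤ)⟧ ⟶ mappingCocone S.g :=
    (CategoryTheory.shiftFunctor (CochainComplex C ℤ) (-1 : ℤ)).map (ρ₁ ≫ ρ₂)
  have h' : QuasiIso ρ' := (quasiIso_shift_iff _ (-1 : ℤ)).2 h₁₂
  let e : S.X₁ ≅ (S.X₁⟦(1 : ℤ)⟧)⟦(-1 : ℤ)⟧ :=
    ((shiftFunctorCompIsoId (CochainComplex C ℤ) (1 : ℤ) (-1) (by norm_num)).app S.X₁).symm
  exact ⟨e.hom ≫ ρ', inferInstance⟩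

end

end Groth.Agent.Lib.Helper2.LCCech2
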