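import Mathlib
import Groth.Agent.Lib.Helper2.LCCech2

/-!
# Torsion subcomplexes and the Čech complex of a "divisible" complex
-/

set_option autoImplicit false
universe u

open CategoryTheory CategoryTheory.Limits Pretriangulated CochainComplex DerCA

namespace Groth.Agent.Lib.Helper2.LCCech3

open Groth.Agent.Lib.Helper2.LCCech1 Groth.Agent.Lib.Helper2.LCCech2

variable {R : Type u} [CommRing R]

attribute [local instance] HasDerivedCategory.standard

/-- the submodule of elements killed by a power of each element of the list. -/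
def torSub (l : List R) (X : Type u) [AddCommGroup X] [Module R X] : Submodule R X where
  carrier := {x | ∀ g ∈ l, ∃ m : ℕ, g ^ m • x = 0}
  add_mem' := by
    intro x y hx hy g hg
    obtain ⟨m, hm⟩ := hx g hg
    obtain ⟨m', hm'⟩ := hy g hg
    refine ⟨m + m', ?_⟩
    have h1 : g ^ (m + m') • x = 0 := by rw [pow_add, mul_comm, mul_smul, hm, smul_zero]
    have h2 : g ^ (m + m') • y = 0 := by rw [pow_add, mul_smul, hm', smul_zero]
    rw [smul_add, h1, h2, add_zero]
  zero_mem' := fun g _ => ⟨0, smul_zero _⟩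
  smul_mem' := by
    intro c x hx g hg
    obtain ⟨m, hm⟩ := hx g hg
    exact ⟨m, by rw [smul_comm, hm, smul_zero]⟩

theorem mem_torSub {l : List R} {X : Type u} [AddCommGroup X] [Module R X] {x : X} :
    x ∈ torSub l X ↔ ∀ g ∈ l, ∃ m : ℕ, g ^ m • x = 0 := Iff.rfl

theorem torSub_map {l : List R} {X Y : Type u} [AddCommGroup X] [Module R X] [AddCommGroup Y]
    [Module R Y] (φ : X →ₗ[R] Y) {x : X} (hx : x ∈ torSub l X) : φ x ∈ torSub l Y := by
  intro g hg
  obtain ⟨m, hm⟩ := hx g hg
  exact ⟨m, by rw [← map_smul, hm, map_zero]⟩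

/-- the subcomplex given by a family of submodules stable under the differential. -/
noncomputable def subCx (K : DRing.Cx R) (N : ∀ n, Submodule R (K.X n))
    (hN : ∀ i j (x : K.X i), x ∈ N i → (K.d i j).hom x ∈ N j) : DRing.Cx R where
  X n := ModuleCat.of R (N n)
  d i j := ModuleCat.ofHom ((K.d i j).hom.restrict (hN i j))
  shape i j h := by
    ext x
    simp [K.shape i j h]
  d_comp_d' i j k _ _ := by
    ext x
    have : (K.d j k).hom ((K.d i j).hom x.1) = 0 := by
      rw [← LinearMap.comp_apply, ← ModuleCat.hom_comp, K.d_comp_d]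
      rfl
    simpa using this

/-- the inclusion of a subcomplex. -/
noncomputable def subCxι (K : DRing.Cx R) (N : ∀ n, Submodule R (K.X n))
    (hN : ∀ i j (x : K.X i), x ∈ N i → (K.d i j).hom x ∈ N j) : subCx K N hN ⟶ K where
  f n := ModuleCat.ofHom (N n).subtype
  comm' i j _ := by
    ext x
    rfl

/-- the torsion subcomplex. -/
noncomputable def torL (l : List R) (K : DRing.Cx R) : DRing.Cx R :=
  subCx K (fun n => torSub l (K.X n)) (fun i j _ hx => torSub_map (K.d i j).hom hx)

theorem torL_d_eq_zero_iff (l : List R) (K : DRing.Cx R) (i j : ℤ) (x : torSub l (K.X i)) :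
    ((torL l K).d i j).hom x = 0 ↔ (K.d i j).hom x.1 = 0 := by
  change (⟨(K.d i j).hom x.1, torSub_map (K.d i j).hom x.2⟩ : torSub l (K.X j)) = 0 ↔ _
  rw [Submodule.mk_eq_zero]

theorem torL_d_eq_iff (l : List R) (K : DRing.Cx R) (i j : ℤ) (x : torSub l (K.X i))
    (y : torSub l (K.X j)) :
    ((torL l K).d i j).hom x = y ↔ (K.d i j).hom x.1 = y.1 := by
  change (⟨(K.d i j).hom x.1, torSub_map (K.d i j).hom x.2⟩ : torSub l (K.X j)) = y ↔ _
  rw [Subtype.ext_iff]

theorem torSub_cons_le (f : R) (l : List R) (X : Type u) [AddCommGroup X] [Module R X] :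
    torSub (f :: l) X ≤ torSub l X :=
  fun _ hx g hg => hx g (List.mem_cons_of_mem _ hg)

/-- the inclusion `Γ_{(f, l)} K ⟶ Γ_l K`. -/
noncomputable def torIncl (f : R) (l : List R) (K : DRing.Cx R) : torL (f :: l) K ⟶ torL l K where
  f n := ModuleCat.ofHom (Submodule.inclusion (torSub_cons_le f l (K.X n)))
  comm' i j _ := by
    ext x
    rfl

/-- divisibility condition on a complex (satisfied by complexes of injectives over a Noetherian
ring). -/
def Div (K : DRing.Cx R) : Prop :=
  ∀ (f : R) (l : List R) (n : ℤ) (x : K.X n), x ∈ torSub l (K.X n) → ∀ N : ℕ,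
    ∃ y ∈ torSub l (K.X n), ∃ c : ℕ, f ^ (N + c) • y = f ^ c • x

/-- the short complex `0 → Γ_{(f,l)} K → Γ_l K → (Γ_l K)_f → 0`. -/
noncomputable def torSC (f : R) (l : List R) (K : DRing.Cx R) : ShortComplex (DRing.Cx R) :=
  ShortComplex.mk (torIncl f l K) (locCxUnit (Submonoid.powers f) (torL l K)) (by
    ext n x
    obtain ⟨m, hm⟩ := x.2 f List.mem_cons_self
    change LocalizedModule.mkLinearMap (Submonoid.powers f) _
      (Submodule.inclusion (torSub_cons_le f l (K.X n)) x) = 0
    rw [← LinearMap.mem_ker, LocalizedModule.mem_ker_mkLinearMap_iff]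
    refine ⟨f ^ m, ⟨m, rfl⟩, ?_⟩
    apply Subtype.ext
    exact hm)

theorem mkLinearMap_surjective_of_div {X : Type u} [AddCommGroup X] [Module R X] (f : R)
    (N' : Submodule R X)
    (h : ∀ x ∈ N', ∀ N : ℕ, ∃ y ∈ N', ∃ c : ℕ, f ^ (N + c) • y = f ^ c • x) :
    Function.Surjective (LocalizedModule.mkLinearMap (Submonoid.powers f) N') := by
  intro z
  induction z using LocalizedModule.induction_on with
  | h x s =>
    obtain ⟨s, N, rfl⟩ := s
    obtain ⟨y, hy, c, hc⟩ := h x.1 x.2 N
    refine ⟨⟨y, hy⟩, ?_⟩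
    rw [LocalizedModule.mkLinearMap_apply, LocalizedModule.mk_eq]
    refine ⟨⟨f ^ c, c, rfl⟩, ?_⟩
    apply Subtype.ext
    change f ^ c • f ^ N • y = f ^ c • (1 : R) • x.1
    rw [one_smul, ← hc, pow_add, mul_smul, smul_comm]

theorem torSC_shortExact {K : DRing.Cx R} (hK : Div K) (f : R) (l : List R) :
    (torSC f l K).ShortExact := by
  apply HomologicalComplex.shortExact_of_degreewise_shortExact
  intro n
  refine ShortComplex.ShortExact.mk' ?_ ?_ ?_
  · rw [ShortComplex.moduleCat_exact_iff]
    intro x hx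
    change LocalizedModule.mkLinearMap (Submonoid.powers f) _ x = 0 at hx
    rw [← LinearMap.mem_ker, LocalizedModule.mem_ker_mkLinearMap_iff] at hx
    obtain ⟨r, ⟨m, rfl⟩, hr⟩ := hx
    have hx' : x.1 ∈ torSub (f :: l) (K.X n) := by
      intro g hg
      rcases List.mem_cons.1 hg with rfl | hg
      · exact ⟨m, congrArg Subtype.val hr⟩
      · exact x.2 g hg
    exact ⟨⟨x.1, hx'⟩, rfl⟩
  · rw [ModuleCat.mono_iff_injective]
    intro x y hxy
    apply Subtype.ext
    exact congrArg (fun z : torSub l (K.X n) => (z : K.X n)) hxy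
  · rw [ModuleCat.epi_iff_surjective]
    exact mkLinearMap_surjective_of_div f (torSub l (K.X n)) (hK f l n)

/-- the quasi-isomorphism `Γ_{(f,l)} K ⟶ cechStep f (Γ_l K)`. -/
theorem exists_quasiIso_torL_cons {K : DRing.Cx R} (hK : Div K) (f : R) (l : List R) :
    ∃ ρ : torL (f :: l) K ⟶ cechStep f (torL l K), QuasiIso ρ :=
  exists_quasiIso_to_mappingCocone (torSC f l K) (torSC_shortExact hK f l)

theorem cech_torL_equiv {K : DRing.Cx R} (hK : Div K) (fs : List R) :
    ∀ (l : List R) (n : ℤ),
      Nonempty ((cechCx (torL l K) fs).homology n ≃ₗ[R] (torL (fs ++ l) K).homology n) := by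
  induction fs using List.reverseRecOn with
  | nil =>
    intro l n
    exact ⟨LinearEquiv.refl _ _⟩
  | append_singleton fs f ih =>
    intro l n
    obtain ⟨ρ, hρ⟩ := exists_quasiIso_torL_cons hK f l
    obtain ⟨e₁⟩ := cech_homology_equiv ρ fs n
    obtain ⟨e₂⟩ := ih (f :: l) n
    rw [cechCx_append, List.append_assoc, List.singleton_append]
    exact ⟨e₁.symm.trans e₂⟩

instance isIso_subCxι_nil (K : DRing.Cx R) :
    IsIso (subCxι K (fun n => torSub [] (K.X n)) (fun i j _ hx => torSub_map (K.d i j).hom hx)) := by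
  apply (config := { allowSynthFailures := true }) HomologicalComplex.Hom.isIso_of_components
  intro n
  rw [ConcreteCategory.isIso_iff_bijective]
  constructor
  · intro x y hxy
    exact Subtype.ext hxy
  · intro x
    exact ⟨⟨x, fun g hg => absurd hg List.not_mem_nil⟩, rfl⟩

/-- for a divisible complex, the Čech complex computes the cohomology of the torsion subcomplex. -/
theorem cech_equiv_torL {K : DRing.Cx R} (hK : Div K) (fs : List R) (n : ℤ) :
    Nonempty ((cechCx K fs).homology n ≃ₗ[R] (torL fs K).homology n) := by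
  obtain ⟨e₁⟩ := cech_torL_equiv hK fs [] n
  have : QuasiIso (subCxι K (fun n => torSub [] (K.X n))
      (fun i j _ hx => torSub_map (K.d i j).hom hx)) := inferInstance
  obtain ⟨e₂⟩ := cech_homology_equiv (subCxι K (fun n => torSub [] (K.X n))
      (fun i j _ hx => torSub_map (K.d i j).hom hx)) fs n
  rw [List.append_nil] at e₁
  exact ⟨e₂.symm.trans e₁⟩

end Groth.Agent.Lib.Helper2.LCCech3
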