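import Mathlib
import Groth.Agent.Lib.helper11.LCKit

/-!
# Local cohomology via an injective resolution (elementwise description)

For an injective resolution `E` of `M`, classes in `H^n_J(M)` are represented by `J`-power torsion
cocycles of `E^n`, and such a class vanishes iff the cocycle is the differential of a `J`-power
torsion element of `E^{n-1}`.
-/

set_option autoImplicit false
universe u

open CategoryTheory CategoryTheory.Limits Opposite

namespace Groth.Agent.Lib.Helper2.LCInj1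

open Groth.Agent.Lib.helper11.LCKit

variable {R : Type u} [CommRing R] (J : Ideal R)

/-- `x` is killed by `J^k`. -/
def Kills (k : ℕ) {E : Type u} [AddCommGroup E] [Module R E] (x : E) : Prop :=
  ∀ a ∈ J ^ k, a • x = 0

theorem Kills.mono {k l : ℕ} (h : k ≤ l) {E : Type u} [AddCommGroup E] [Module R E] {x : E}
    (hx : Kills J k x) : Kills J l x :=
  fun a ha => hx a (Ideal.pow_le_pow_right h ha)

/-- the map `R/J^k → E`, `1 ↦ x`. -/
noncomputable def toE (k : ℕ) {E : ModuleCat.{u} R} (x : E) (hx : Kills J k x) : Q J k ⟶ E :=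
  ModuleCat.ofHom (Submodule.liftQ (J ^ k) (LinearMap.toSpanSingleton R E x) (by
    intro a ha
    rw [LinearMap.mem_ker, LinearMap.toSpanSingleton_apply]
    exact hx a ha))

theorem toE_apply (k : ℕ) {E : ModuleCat.{u} R} (x : E) (hx : Kills J k x) (a : R) :
    (toE J k x hx).hom (Submodule.Quotient.mk a) = a • x := by
  simp only [toE, ModuleCat.hom_ofHom]
  exact (Submodule.liftQ_apply _ _ _).trans (LinearMap.toSpanSingleton_apply _ _ _ _)

theorem toE_one (k : ℕ) {E : ModuleCat.{u} R} (x : E) (hx : Kills J k x) :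
    (toE J k x hx).hom (Submodule.Quotient.mk 1) = x := by
  rw [toE_apply, one_smul]

theorem hom_ext_Q {k : ℕ} {E : ModuleCat.{u} R} (f g : Q J k ⟶ E)
    (h : f.hom (Submodule.Quotient.mk 1) = g.hom (Submodule.Quotient.mk 1)) : f = g := by
  ext : 1
  apply Submodule.linearMap_qext
  ext
  simpa using h

theorem kills_apply_one {k : ℕ} {E : ModuleCat.{u} R} (f : Q J k ⟶ E) :
    Kills J k (f.hom (Submodule.Quotient.mk 1)) := by
  intro a ha
  rw [← map_smul, ← Submodule.Quotient.mk_smul, smul_eq_mul, mul_one]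
  have : (Submodule.Quotient.mk a : R ⧸ J ^ k) = 0 := by
    rw [Submodule.Quotient.mk_eq_zero]
    exact ha
  rw [this, map_zero]

theorem toE_eq {k : ℕ} {E : ModuleCat.{u} R} (f : Q J k ⟶ E) :
    toE J k (f.hom (Submodule.Quotient.mk 1)) (kills_apply_one J f) = f :=
  hom_ext_Q J _ _ (toE_one J k _ _)

theorem toE_comp {k : ℕ} {E E' : ModuleCat.{u} R} (x : E) (hx : Kills J k x) (g : E ⟶ E')
    (hx' : Kills J k (g.hom x)) :
    toE J k x hx ≫ g = toE J k (g.hom x) hx' := by
  apply hom_ext_Q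
  rw [toE_one, ModuleCat.hom_comp, LinearMap.comp_apply, toE_one]

theorem tr_toE {k l : ℕ} (h : k ≤ l) {E : ModuleCat.{u} R} (x : E) (hx : Kills J k x) :
    tr J h ≫ toE J k x hx = toE J l x (hx.mono J h) := by
  apply hom_ext_Q
  have : (tr J h).hom (Submodule.Quotient.mk 1) = (Submodule.Quotient.mk 1 : R ⧸ J ^ k) := by
    simp only [tr, ModuleCat.hom_ofHom]
    rfl
  rw [toE_one, ModuleCat.hom_comp, LinearMap.comp_apply, this, toE_one]

section Res

variable {M : ModuleCat.{u} R} (Res : InjectiveResolution M)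

theorem toE_comp_d_eq_zero (n m : ℕ) (k : ℕ) (x : Res.cocomplex.X n) (hx : Kills J k x)
    (hd : (Res.cocomplex.d n m).hom x = 0) : toE J k x hx ≫ Res.cocomplex.d n m = 0 := by
  apply hom_ext_Q
  rw [ModuleCat.hom_comp, LinearMap.comp_apply, toE_one, hd]
  rfl

/-- the class in `H^n_J(M)` of a `J^k`-torsion cocycle of `E^n`. -/
noncomputable def cls (n k : ℕ) (x : Res.cocomplex.X n) (hx : Kills J k x)
    (hd : (Res.cocomplex.d n (n + 1)).hom x = 0) : (localCohomology J n).obj M :=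
  ιE J n M k (Res.extMk (toE J k x hx) (n + 1) rfl (toE_comp_d_eq_zero J Res n (n + 1) k x hx hd))

theorem cls_surjective (n : ℕ) (ξ : (localCohomology J n).obj M) :
    ∃ (k : ℕ) (x : Res.cocomplex.X n) (hx : Kills J k x)
      (hd : (Res.cocomplex.d n (n + 1)).hom x = 0), cls J Res n k x hx hd = ξ := by
  obtain ⟨k, y, rfl⟩ := exists_rep J n M ξ
  obtain ⟨f, hf, rfl⟩ := Res.extMk_surjective y (n + 1) rfl
  have hd : (Res.cocomplex.d n (n + 1)).hom (f.hom (Submodule.Quotient.mk 1)) = 0 := by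
    rw [← LinearMap.comp_apply, ← ModuleCat.hom_comp, hf]
    rfl
  refine ⟨k, f.hom (Submodule.Quotient.mk 1), kills_apply_one J f, hd, ?_⟩
  unfold cls
  congr 1
  have h : toE J k (f.hom (Submodule.Quotient.mk 1)) (kills_apply_one J f) = f := toE_eq J f
  have key : ∀ (g : Q J k ⟶ Res.cocomplex.X n) (_ : g = f)
      (hg : g ≫ Res.cocomplex.d n (n + 1) = 0),
      Res.extMk g (n + 1) rfl hg = Res.extMk f (n + 1) rfl hf := by
    intro g hgf hg
    subst hgf
    rfl
  exact key _ h _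

theorem cls_eq_zero_iff (p k : ℕ) (x : Res.cocomplex.X (p + 1)) (hx : Kills J k x)
    (hd : (Res.cocomplex.d (p + 1) (p + 1 + 1)).hom x = 0) :
    cls J Res (p + 1) k x hx hd = 0 ↔
      ∃ (l : ℕ) (y : Res.cocomplex.X p), Kills J l y ∧ (Res.cocomplex.d p (p + 1)).hom y = x := by
  unfold cls
  rw [ιE_eq_zero_iff]
  constructor
  · rintro ⟨l, h, hl⟩
    rw [Res.mk₀_comp_extMk, Res.extMk_eq_zero_iff _ _ _ _ p rfl] at hl
    obtain ⟨g, hg⟩ := hl
    refine ⟨l, g.hom (Submodule.Quotient.mk 1), kills_apply_one J g, ?_⟩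
    rw [← LinearMap.comp_apply, ← ModuleCat.hom_comp, hg, tr_toE, toE_one]
  · rintro ⟨l, y, hy, hyx⟩
    refine ⟨max k l, le_max_left _ _, ?_⟩
    rw [Res.mk₀_comp_extMk, Res.extMk_eq_zero_iff _ _ _ _ p rfl]
    refine ⟨toE J (max k l) y (hy.mono J (le_max_right _ _)), ?_⟩
    apply hom_ext_Q
    rw [tr_toE, toE_one, ModuleCat.hom_comp, LinearMap.comp_apply, toE_one, hyx]

/-- vanishing criterion for local cohomology in positive degree. -/
theorem subsingleton_iff (p : ℕ) :
    Subsingleton ((localCohomology J (p + 1)).obj M) ↔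
      ∀ x : Res.cocomplex.X (p + 1), (∃ k, Kills J k x) →
        (Res.cocomplex.d (p + 1) (p + 1 + 1)).hom x = 0 →
        ∃ y : Res.cocomplex.X p, (∃ l, Kills J l y) ∧ (Res.cocomplex.d p (p + 1)).hom y = x := by
  constructor
  · intro h x ⟨k, hx⟩ hd
    have h0 : cls J Res (p + 1) k x hx hd = 0 := Subsingleton.elim _ _
    obtain ⟨l, y, hy, hyx⟩ := (cls_eq_zero_iff J Res p k x hx hd).1 h0
    exact ⟨y, ⟨l, hy⟩, hyx⟩
  · intro h
    refine ⟨fun ξ η => ?_⟩
    have key : ∀ ζ : (localCohomology J (p + 1)).obj M, ζ = 0 := by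
      intro ζ
      obtain ⟨k, x, hx, hd, rfl⟩ := cls_surjective J Res (p + 1) ζ
      obtain ⟨y, ⟨l, hy⟩, hyx⟩ := h x ⟨k, hx⟩ hd
      exact (cls_eq_zero_iff J Res p k x hx hd).2 ⟨l, y, hy, hyx⟩
    rw [key ξ, key η]

end Res

end Groth.Agent.Lib.Helper2.LCInj1
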