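import Mathlib
import Groth.Agent.Lib.Helper2.LCInj1

/-!
# Divisibility in the torsion part of an injective module over a Noetherian ring
-/

set_option autoImplicit false
universe u

namespace Groth.Agent.Lib.Helper2.LCInj2

open Groth.Agent.Lib.Helper2.LCInj1

variable {R : Type u} [CommRing R] [IsNoetherianRing R]

/-- the annihilators of the powers of `f` stabilize. -/
theorem exists_stable (f : R) : ∃ N₀ : ℕ, ∀ (m : ℕ) (a : R), a * f ^ m = 0 → a * f ^ N₀ = 0 := by
  let F : ℕ →o Submodule R R :=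
    ⟨fun n => LinearMap.ker (LinearMap.lsmul R R (f ^ n)), by
      intro n m hnm a ha
      rw [LinearMap.mem_ker, LinearMap.lsmul_apply, smul_eq_mul] at ha ⊢
      obtain ⟨d, rfl⟩ := Nat.exists_eq_add_of_le hnm
      rw [pow_add, mul_comm (f ^ n), mul_assoc, ha, mul_zero]⟩
  obtain ⟨N₀, hN₀⟩ := monotone_stabilizes_iff_noetherian.mpr (inferInstance : IsNoetherian R R) F
  refine ⟨N₀, fun m a ha => ?_⟩
  by_cases hm : N₀ ≤ m
  · have h1 : a ∈ F m := by
      change a ∈ LinearMap.ker (LinearMap.lsmul R R (f ^ m))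
      rw [LinearMap.mem_ker, LinearMap.lsmul_apply, smul_eq_mul, mul_comm]
      exact ha
    rw [← hN₀ m hm] at h1
    change a ∈ LinearMap.ker (LinearMap.lsmul R R (f ^ N₀)) at h1
    rw [LinearMap.mem_ker, LinearMap.lsmul_apply, smul_eq_mul, mul_comm] at h1
    exact h1
  · push Not at hm
    obtain ⟨d, rfl⟩ := Nat.exists_eq_add_of_le hm.le
    rw [pow_add, ← mul_assoc, ha, zero_mul]

/-- divisibility by `f` up to `f`-torsion inside the `I`-torsion of an injective module. -/
theorem exists_div (I : Ideal R) (f : R) (E : Type u) [AddCommGroup E] [Module R E]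
    [Module.Injective R E] (e : E) (k : ℕ) (he : Kills I k e) (N : ℕ) :
    ∃ (e' : E) (K c : ℕ), Kills I K e' ∧ f ^ (N + c) • e' = f ^ c • e := by
  obtain ⟨N₀, hN₀⟩ := exists_stable f
  set g : R := f ^ (N + N₀) with hg
  obtain ⟨c, hc⟩ := Ideal.exists_pow_inf_eq_pow_smul I (Ideal.span {g} : Submodule R R)
  set K := c + k with hK
  set 𝔟 : Ideal R := I ^ K with h𝔟
  set 𝔠 : Ideal R := Submodule.comap (LinearMap.lsmul R R g) 𝔟 with h𝔠
  -- multiplication by `g` from `R/𝔠` to `R/𝔟`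
  let μ : (R ⧸ 𝔠) →ₗ[R] (R ⧸ 𝔟) := Submodule.mapQ 𝔠 𝔟 (LinearMap.lsmul R R g) le_rfl
  have hμ : Function.Injective μ := by
    rw [← LinearMap.ker_eq_bot, LinearMap.ker_eq_bot']
    intro x hx
    obtain ⟨a, rfl⟩ := Submodule.Quotient.mk_surjective _ x
    rw [Submodule.mapQ_apply, Submodule.Quotient.mk_eq_zero] at hx
    rw [Submodule.Quotient.mk_eq_zero]
    exact hx
  -- the key containment
  have hkey : ∀ a ∈ 𝔠, (a * f ^ N₀) • e = 0 := by
    intro a ha
    have h1 : g * a ∈ (I ^ K • ⊤ ⊓ (Ideal.span {g} : Submodule R R) : Submodule R R) := by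
      refine ⟨?_, ?_⟩
      · rw [smul_eq_mul, Ideal.mul_top]
        exact ha
      · exact Ideal.mul_mem_right _ _ (Ideal.subset_span rfl)
    rw [hc K (by omega)] at h1
    have h2 : I ^ (K - c) • (I ^ c • ⊤ ⊓ (Ideal.span {g} : Submodule R R) : Submodule R R) ≤
        I ^ k * Ideal.span {g} := by
      have : K - c = k := by omega
      rw [this, smul_eq_mul]
      exact Ideal.mul_mono_right inf_le_right
    obtain ⟨b, hb, hbg⟩ := Ideal.mem_mul_span_singleton.1 (h2 h1)
    have h3 : (a - b) * f ^ (N + N₀) = 0 := by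
      rw [← hg, sub_mul, hbg]
      ring
    have h4 := hN₀ _ _ h3
    have h5 : a * f ^ N₀ = b * f ^ N₀ := by
      rw [sub_mul] at h4
      exact sub_eq_zero.1 h4
    rw [h5, mul_comm, mul_smul, he b hb, smul_zero]
  let γ : (R ⧸ 𝔠) →ₗ[R] E :=
    Submodule.liftQ 𝔠 (LinearMap.toSpanSingleton R E (f ^ N₀ • e)) (by
      intro a ha
      rw [LinearMap.mem_ker, LinearMap.toSpanSingleton_apply, ← mul_smul]
      exact hkey a ha)
  obtain ⟨h, hh⟩ := Module.Injective.out μ hμ γ
  refine ⟨h (Submodule.Quotient.mk 1), K, N₀, ?_, ?_⟩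
  · intro a ha
    rw [← map_smul, ← Submodule.Quotient.mk_smul, smul_eq_mul, mul_one]
    have : (Submodule.Quotient.mk a : R ⧸ 𝔟) = 0 := by
      rw [Submodule.Quotient.mk_eq_zero]
      exact ha
    rw [this, map_zero]
  · rw [← hg, ← map_smul, ← Submodule.Quotient.mk_smul, smul_eq_mul, mul_one]
    have h1 : (Submodule.Quotient.mk g : R ⧸ 𝔟) = μ (Submodule.Quotient.mk 1) := by
      rw [Submodule.mapQ_apply, LinearMap.lsmul_apply, smul_eq_mul, mul_one]
    rw [h1, hh]
    change Submodule.liftQ 𝔠 _ _ (Submodule.Quotient.mk 1) = _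
    rw [Submodule.liftQ_apply, LinearMap.toSpanSingleton_apply, one_smul]

end Groth.Agent.Lib.Helper2.LCInj2
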