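import Mathlib
import Groth.Agent.Lib.Helper2.LCInj2

/-!
# Vanishing of local cohomology above the number of generators
-/

set_option autoImplicit false
universe u

open CategoryTheory CategoryTheory.Limits

namespace Groth.Agent.Lib.Helper2.LCInj3

open Groth.Agent.Lib.Helper2.LCInj1 Groth.Agent.Lib.Helper2.LCInj2

variable {R : Type u} [CommRing R]

/-- `cd(R, I) ≤ d` for all modules (categorical form). -/
def Cd (I : Ideal R) (d : ℕ) : Prop :=
  ∀ (M : ModuleCat.{u} R) (i : ℕ), d < i → Subsingleton ((localCohomology I i).obj M)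

theorem kills_sup {I : Ideal R} {f : R} {E : Type u} [AddCommGroup E] [Module R E] {y : E}
    {a b : ℕ} (h1 : Kills I a y) (h2 : f ^ b • y = 0) : Kills (I ⊔ Ideal.span {f}) (a + b) y := by
  intro z hz
  have hz' := Ideal.sup_pow_add_le_pow_sup_pow hz
  rw [Ideal.span_singleton_pow] at hz'
  obtain ⟨u, hu, v, hv, rfl⟩ := Submodule.mem_sup.1 hz'
  obtain ⟨w, rfl⟩ := Ideal.mem_span_singleton'.1 hv
  rw [add_smul, h1 u hu, zero_add, mul_smul, h2, smul_zero]

theorem kills_of_sup {I : Ideal R} {f : R} {E : Type u} [AddCommGroup E] [Module R E] {y : E}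
    {k : ℕ} (h : Kills (I ⊔ Ideal.span {f}) k y) : Kills I k y ∧ f ^ k • y = 0 := by
  have hle : I ^ k ≤ (I ⊔ Ideal.span {f}) ^ k := Ideal.pow_right_mono le_sup_left k
  have hf : f ∈ I ⊔ Ideal.span {f} := Ideal.mem_sup_right (Ideal.subset_span rfl)
  have hfk : f ^ k ∈ (I ⊔ Ideal.span {f}) ^ k := Ideal.pow_mem_pow hf k
  exact ⟨fun a ha => h a (hle ha), h _ hfk⟩

variable [IsNoetherianRing R]

theorem cd_step (I : Ideal R) (f : R) (r : ℕ) (hI : Cd I r) : Cd (I ⊔ Ideal.span {f}) (r + 1) := by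
  intro M i hi
  obtain ⟨q, rfl⟩ : ∃ q, i = q + 1 + 1 := ⟨i - 2, by omega⟩
  have hq : r ≤ q := by omega
  let Res : InjectiveResolution M := injectiveResolution M
  rw [subsingleton_iff _ Res (q + 1)]
  rintro x ⟨k, hx⟩ hd
  obtain ⟨hxI, hxf⟩ := kills_of_sup hx
  -- step 1
  have v1 := (subsingleton_iff I Res (q + 1)).1 (hI M (q + 1 + 1) (by omega))
  obtain ⟨e₁, ⟨k₁, he₁⟩, hde₁⟩ := v1 x ⟨k, hxI⟩ hd
  -- step 2
  have v2 := (subsingleton_iff I Res q).1 (hI M (q + 1) (by omega))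
  have hcoc : (Res.cocomplex.d (q + 1) (q + 1 + 1)).hom (f ^ k • e₁) = 0 := by
    rw [map_smul, hde₁, hxf]
  have htor : Kills I k₁ (f ^ k • e₁) := by
    intro a ha
    rw [smul_comm, he₁ a ha, smul_zero]
  obtain ⟨e₂, ⟨k₂, he₂⟩, hde₂⟩ := v2 (f ^ k • e₁) ⟨k₁, htor⟩ hcoc
  -- step 3
  have hinj : CategoryTheory.Injective (ModuleCat.of R (Res.cocomplex.X q)) := Res.injective q
  have : Module.Injective R (Res.cocomplex.X q) :=
    Module.injective_module_of_injective_object R (Res.cocomplex.X q)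
  obtain ⟨e₃, K, c, he₃, hdiv⟩ := exists_div I f (Res.cocomplex.X q) e₂ k₂ he₂ k
  -- step 4
  refine ⟨e₁ - (Res.cocomplex.d q (q + 1)).hom e₃, ⟨max k₁ K + (k + c), ?_⟩, ?_⟩
  · apply kills_sup
    · intro a ha
      rw [smul_sub, he₁ a (Ideal.pow_le_pow_right (le_max_left _ _) ha), ← map_smul,
        he₃ a (Ideal.pow_le_pow_right (le_max_right _ _) ha), map_zero, sub_zero]
    · rw [smul_sub, ← map_smul, hdiv, map_smul, hde₂, pow_add, mul_smul, smul_comm, sub_self]
  · rw [map_sub, hde₁]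
    have : (Res.cocomplex.d (q + 1) (q + 1 + 1)).hom ((Res.cocomplex.d q (q + 1)).hom e₃) = 0 := by
      rw [← LinearMap.comp_apply, ← ModuleCat.hom_comp, Res.cocomplex.d_comp_d]
      rfl
    rw [this, sub_zero]

theorem cd_bot : Cd (⊥ : Ideal R) 0 := by
  intro M i hi
  obtain ⟨q, rfl⟩ : ∃ q, i = q + 1 := ⟨i - 1, by omega⟩
  let Res : InjectiveResolution M := injectiveResolution M
  rw [subsingleton_iff _ Res q]
  rintro x - hd
  have hex := Res.exact_succ q
  rw [ShortComplex.moduleCat_exact_iff] at hex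
  obtain ⟨y, hy⟩ := hex x hd
  refine ⟨y, ⟨1, ?_⟩, hy⟩
  intro a ha
  rw [pow_one, Ideal.mem_bot] at ha
  rw [ha, zero_smul]

theorem cd_span (s : Finset R) : Cd (Ideal.span (s : Set R)) s.card := by
  classical
  induction s using Finset.induction_on with
  | empty =>
    rw [Finset.coe_empty, Ideal.span_empty, Finset.card_empty]
    exact cd_bot
  | insert f s hf ih =>
    rw [Finset.coe_insert, Ideal.span_insert, Finset.card_insert_of_notMem hf, sup_comm]
    exact cd_step _ f _ ih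

end Groth.Agent.Lib.Helper2.LCInj3
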