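import Mathlib
import Groth.Agent.Lib.Helper2.LCCech3
import Groth.Agent.Lib.Helper2.LCInj3

/-!
# Local cohomology as the cohomology of the torsion subcomplex of an injective resolution
-/

set_option autoImplicit false
universe u

open CategoryTheory CategoryTheory.Limits CochainComplex HomComplex

namespace Groth.Agent.Lib.Helper2.LCCech4

open Groth.Agent.Lib.helper11.LCKit Groth.Agent.Lib.Helper2.LCInj1 Groth.Agent.Lib.Helper2.LCInj2
  Groth.Agent.Lib.Helper2.LCInj3 Groth.Agent.Lib.Helper2.LCCech3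

variable {R : Type u} [CommRing R]

section ExtMkZ

variable {M : ModuleCat.{u} R} (Res : InjectiveResolution M)

/-- the `Ext`-class of a cocycle of the `ℤ`-indexed complex attached to an injective resolution. -/
noncomputable def extMkZ {X : ModuleCat.{u} R} (n : ℕ) (g : X ⟶ Res.cochainComplex.X n)
    (q' : ℤ) (hq' : (n : ℤ) + 1 = q') (hg : g ≫ Res.cochainComplex.d n q' = 0) :
    Abelian.Ext X M n :=
  Res.extEquivCohomologyClass.symm
    (.mk (Cocycle.fromSingleMk g (zero_add _) q' hq' hg))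

theorem extMkZ_congr {X : ModuleCat.{u} R} (n : ℕ) {g g' : X ⟶ Res.cochainComplex.X n}
    (h : g = g') (q' : ℤ) (hq' : (n : ℤ) + 1 = q') (hg : g ≫ Res.cochainComplex.d n q' = 0) :
    extMkZ Res n g q' hq' hg = extMkZ Res n g' q' hq' (h ▸ hg) := by
  subst h
  rfl

theorem extMkZ_eq_extMk {X : ModuleCat.{u} R} (n : ℕ) (g : X ⟶ Res.cochainComplex.X n)
    (hg : g ≫ Res.cochainComplex.d n ((n + 1 : ℕ) : ℤ) = 0) :
    extMkZ Res n g ((n + 1 : ℕ) : ℤ) (by push_cast; rfl) hg =
      Res.extMk (g ≫ (Res.cochainComplexXIso n n rfl).hom) (n + 1) rfl (by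
        have := hg
        rw [Res.cochainComplex_d _ _ n (n + 1) rfl rfl] at this
        have h2 := this =≫ (Res.cochainComplexXIso ((n + 1 : ℕ) : ℤ) (n + 1) rfl).hom
        simpa using h2) := by
  unfold InjectiveResolution.extMk
  have key : (g ≫ (Res.cochainComplexXIso n n rfl).hom) ≫ (Res.cochainComplexXIso n n rfl).inv
      = g := by simp
  unfold extMkZ
  congr 2
  have : ∀ (g' : X ⟶ Res.cochainComplex.X n) (_ : g' = g)
      (hg' : g' ≫ Res.cochainComplex.d n ((n + 1 : ℕ) : ℤ) = 0),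
      Cocycle.fromSingleMk g (zero_add _) ((n + 1 : ℕ) : ℤ) (by push_cast; rfl) hg =
        Cocycle.fromSingleMk g' (zero_add _) ((n + 1 : ℕ) : ℤ) (by push_cast; rfl) hg' := by
    intro g' h hg'
    subst h
    rfl
  exact this _ key _

theorem extMkZ_eq_zero_iff {X : ModuleCat.{u} R} (n : ℕ) (g : X ⟶ Res.cochainComplex.X n)
    (q' : ℤ) (hq' : (n : ℤ) + 1 = q') (hg : g ≫ Res.cochainComplex.d n q' = 0)
    (p : ℤ) (hp : p + 1 = n) :
    extMkZ Res n g q' hq' hg = 0 ↔
      ∃ h : X ⟶ Res.cochainComplex.X p, h ≫ Res.cochainComplex.d p n = g := by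
  unfold extMkZ
  rw [← Res.extEquivCohomologyClass.apply_eq_iff_eq, Equiv.apply_symm_apply,
    InjectiveResolution.extEquivCohomologyClass_zero, CohomologyClass.mk_eq_zero_iff,
    Cocycle.fromSingleMk_mem_coboundaries_iff _ _ _ _ _ p hp]

theorem extMkZ_surjective {X : ModuleCat.{u} R} (n : ℕ) (α : Abelian.Ext X M n)
    (q' : ℤ) (hq' : (n : ℤ) + 1 = q') :
    ∃ (g : X ⟶ Res.cochainComplex.X n) (hg : g ≫ Res.cochainComplex.d n q' = 0),
      extMkZ Res n g q' hq' hg = α := by
  obtain ⟨x, rfl⟩ := Res.extEquivCohomologyClass.symm.surjective α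
  obtain ⟨x, rfl⟩ := x.mk_surjective
  obtain ⟨f, hf, rfl⟩ := Cocycle.fromSingleMk_surjective x n (by simp) q' hq'
  exact ⟨f, hf, rfl⟩

theorem extMkZ_add {X : ModuleCat.{u} R} (n : ℕ) (g g' : X ⟶ Res.cochainComplex.X n)
    (q' : ℤ) (hq' : (n : ℤ) + 1 = q') (hg : g ≫ Res.cochainComplex.d n q' = 0)
    (hg' : g' ≫ Res.cochainComplex.d n q' = 0) :
    extMkZ Res n (g + g') q' hq' (by rw [Preadditive.add_comp, hg, hg', add_zero]) =
      extMkZ Res n g q' hq' hg + extMkZ Res n g' q' hq' hg' := by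
  unfold extMkZ
  rw [Cocycle.fromSingleMk_add _ _ _ _ _ hg hg', CohomologyClass.mk_add,
    InjectiveResolution.extEquivCohomologyClass_symm_add]

theorem extMk_congr {X : ModuleCat.{u} R} (n : ℕ) {f f' : X ⟶ Res.cocomplex.X n} (h : f = f')
    (m : ℕ) (hm : n + 1 = m) (hf : f ≫ Res.cocomplex.d n m = 0) :
    Res.extMk f m hm hf = Res.extMk f' m hm (h ▸ hf) := by
  subst h
  rfl

theorem mk₀_comp_extMkZ {X X' : ModuleCat.{u} R} (n : ℕ) (g : X ⟶ Res.cochainComplex.X n)
    (q' : ℤ) (hq' : (n : ℤ) + 1 = q') (hg : g ≫ Res.cochainComplex.d n q' = 0) (a : X' ⟶ X) :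
    (Abelian.Ext.mk₀ a).comp (extMkZ Res n g q' hq' hg) (zero_add _) =
      extMkZ Res n (a ≫ g) q' hq' (by rw [Category.assoc, hg, comp_zero]) := by
  obtain rfl : q' = ((n + 1 : ℕ) : ℤ) := by rw [← hq']; push_cast; rfl
  rw [extMkZ_eq_extMk, extMkZ_eq_extMk, InjectiveResolution.mk₀_comp_extMk]
  exact extMk_congr Res n (Category.assoc _ _ _).symm _ _ _

theorem extMkZ_smul {X : ModuleCat.{u} R} (n : ℕ) (g : X ⟶ Res.cochainComplex.X n)
    (q' : ℤ) (hq' : (n : ℤ) + 1 = q') (hg : g ≫ Res.cochainComplex.d n q' = 0) (a : R) :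
    extMkZ Res n ((a • 𝟙 X) ≫ g) q' hq' (by rw [Category.assoc, hg, comp_zero]) =
      a • extMkZ Res n g q' hq' hg := by
  rw [← mk₀_comp_extMkZ, Abelian.Ext.mk₀_smul, Abelian.Ext.smul_comp, Abelian.Ext.mk₀_id_comp]

end ExtMkZ

section Cls

variable (J : Ideal R) {M : ModuleCat.{u} R} (Res : InjectiveResolution M)

theorem toE_comp_d_eq_zero' (n : ℕ) (k : ℕ) (x : Res.cochainComplex.X n) (hx : Kills J k x)
    (q' : ℤ) (hd : (Res.cochainComplex.d n q').hom x = 0) :
    toE J k x hx ≫ Res.cochainComplex.d n q' = 0 := by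
  apply hom_ext_Q
  rw [ModuleCat.hom_comp, LinearMap.comp_apply, toE_one, hd]
  rfl

/-- the class in `H^n_J(M)` of a `J^k`-torsion cocycle of `E^n` (`ℤ`-indexed version). -/
noncomputable def clsZ (n k : ℕ) (x : Res.cochainComplex.X n) (hx : Kills J k x)
    (hd : (Res.cochainComplex.d n (n + 1)).hom x = 0) : (localCohomology J n).obj M :=
  ιE J n M k (extMkZ Res n (toE J k x hx) (n + 1) rfl (toE_comp_d_eq_zero' J Res n k x hx _ hd))

theorem clsZ_mono (n : ℕ) {k l : ℕ} (h : k ≤ l) (x : Res.cochainComplex.X n) (hx : Kills J k x)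
    (hd : (Res.cochainComplex.d n (n + 1)).hom x = 0) :
    clsZ J Res n l x (hx.mono J h) hd = clsZ J Res n k x hx hd := by
  unfold clsZ
  rw [← ιE_tr J n M h, mk₀_comp_extMkZ]
  congr 1
  exact extMkZ_congr Res n (tr_toE J h x hx).symm _ _ _

theorem clsZ_add (n k : ℕ) (x y : Res.cochainComplex.X n) (hx : Kills J k x) (hy : Kills J k y)
    (hxy : Kills J k (x + y))
    (hdx : (Res.cochainComplex.d n (n + 1)).hom x = 0)
    (hdy : (Res.cochainComplex.d n (n + 1)).hom y = 0)
    (hdxy : (Res.cochainComplex.d n (n + 1)).hom (x + y) = 0) :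
    clsZ J Res n k (x + y) hxy hdxy = clsZ J Res n k x hx hdx + clsZ J Res n k y hy hdy := by
  unfold clsZ
  rw [← map_add, ← extMkZ_add]
  congr 1
  apply extMkZ_congr
  apply hom_ext_Q
  rw [toE_one, ModuleCat.hom_add, LinearMap.add_apply, toE_one, toE_one]

theorem clsZ_smul (n k : ℕ) (a : R) (x : Res.cochainComplex.X n) (hx : Kills J k x)
    (hax : Kills J k (a • x))
    (hdx : (Res.cochainComplex.d n (n + 1)).hom x = 0)
    (hdax : (Res.cochainComplex.d n (n + 1)).hom (a • x) = 0) :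
    clsZ J Res n k (a • x) hax hdax = a • clsZ J Res n k x hx hdx := by
  unfold clsZ
  rw [← map_smul, ← extMkZ_smul]
  congr 1
  apply extMkZ_congr
  apply hom_ext_Q
  rw [toE_one, ModuleCat.hom_comp, LinearMap.comp_apply, ModuleCat.hom_smul, LinearMap.smul_apply,
    ModuleCat.hom_id, LinearMap.id_apply, map_smul, toE_one]

theorem clsZ_surjective (n : ℕ) (ξ : (localCohomology J n).obj M) :
    ∃ (k : ℕ) (x : Res.cochainComplex.X n) (hx : Kills J k x)
      (hd : (Res.cochainComplex.d n (n + 1)).hom x = 0), clsZ J Res n k x hx hd = ξ := by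
  obtain ⟨k, y, rfl⟩ := exists_rep J n M ξ
  obtain ⟨f, hf, rfl⟩ := extMkZ_surjective Res n y (n + 1) rfl
  have hd : (Res.cochainComplex.d n (n + 1)).hom (f.hom (Submodule.Quotient.mk 1)) = 0 := by
    rw [← LinearMap.comp_apply, ← ModuleCat.hom_comp, hf]
    rfl
  refine ⟨k, f.hom (Submodule.Quotient.mk 1), kills_apply_one J f, hd, ?_⟩
  unfold clsZ
  congr 1
  exact extMkZ_congr Res n (toE_eq J f) _ _ _

theorem clsZ_eq_zero_iff (n k : ℕ) (x : Res.cochainComplex.X n) (hx : Kills J k x)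
    (hd : (Res.cochainComplex.d n (n + 1)).hom x = 0) :
    clsZ J Res n k x hx hd = 0 ↔
      ∃ (l : ℕ) (y : Res.cochainComplex.X ((n : ℤ) - 1)), Kills J l y ∧
        (Res.cochainComplex.d ((n : ℤ) - 1) n).hom y = x := by
  unfold clsZ
  rw [ιE_eq_zero_iff]
  constructor
  · rintro ⟨l, h, hl⟩
    rw [mk₀_comp_extMkZ, extMkZ_eq_zero_iff Res _ _ _ _ _ ((n : ℤ) - 1) (by ring)] at hl
    obtain ⟨g, hg⟩ := hl
    refine ⟨l, g.hom (Submodule.Quotient.mk 1), kills_apply_one J g, ?_⟩
    rw [← LinearMap.comp_apply, ← ModuleCat.hom_comp, hg, tr_toE, toE_one]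
  · rintro ⟨l, y, hy, hyx⟩
    refine ⟨max k l, le_max_left _ _, ?_⟩
    rw [mk₀_comp_extMkZ, extMkZ_eq_zero_iff Res _ _ _ _ _ ((n : ℤ) - 1) (by ring)]
    refine ⟨toE J (max k l) y (hy.mono J (le_max_right _ _)), ?_⟩
    apply hom_ext_Q
    rw [tr_toE, toE_one, ModuleCat.hom_comp, LinearMap.comp_apply, toE_one, hyx]

end Cls

section Tor

theorem mem_torSub_of_kills (l : List R) {X : Type u} [AddCommGroup X] [Module R X] {x : X}
    {k : ℕ} (h : Kills (Ideal.span {y | y ∈ l}) k x) : x ∈ torSub l X := by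
  intro g hg
  exact ⟨k, h _ (Ideal.pow_mem_pow (Ideal.subset_span (show g ∈ {y | y ∈ l} from hg)) k)⟩

theorem exists_kills_of_mem_torSub (l : List R) {X : Type u} [AddCommGroup X] [Module R X] {x : X}
    (hx : x ∈ torSub l X) : ∃ k, Kills (Ideal.span {y | y ∈ l}) k x := by
  induction l with
  | nil =>
    refine ⟨1, fun a ha => ?_⟩
    have : ({y | y ∈ ([] : List R)} : Set R) = ∅ := by ext; simp
    rw [this, Ideal.span_empty, pow_one, Ideal.mem_bot] at ha
    rw [ha, zero_smul]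
  | cons g l ih =>
    obtain ⟨a, ha⟩ := ih (torSub_cons_le g l X hx)
    obtain ⟨b, hb⟩ := hx g List.mem_cons_self
    refine ⟨a + b, ?_⟩
    have : ({y | y ∈ g :: l} : Set R) = insert g {y | y ∈ l} := by ext; simp
    rw [this, Ideal.span_insert, sup_comm]
    exact kills_sup ha hb

end Tor

section Homology

theorem homology_equiv_of_surjective (C : DRing.Cx R) (n : ℤ) (H : Type u) [AddCommGroup H]
    [Module R H] (φ : LinearMap.ker (C.d n (n + 1)).hom →ₗ[R] H) (hφ : Function.Surjective φ)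
    (hker : ∀ z, φ z = 0 ↔ ∃ y : C.X (n - 1), (C.d (n - 1) n).hom y = z.1) :
    Nonempty (C.homology n ≃ₗ[R] H) := by
  let iso1 : C.homology n ≅ (C.sc' (n - 1) n (n + 1)).homology :=
    C.homologyIsoSc' (n - 1) n (n + 1) (by simp) (by simp)
  let iso2 := (C.sc' (n - 1) n (n + 1)).moduleCatHomologyIso
  have hrange : LinearMap.range (C.sc' (n - 1) n (n + 1)).moduleCatToCycles = LinearMap.ker φ := by
    ext z
    constructor
    · rintro ⟨y, rfl⟩
      exact (hker _).2 ⟨y, rfl⟩
    · intro hz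
      obtain ⟨y, hy⟩ := (hker z).1 hz
      exact ⟨y, Subtype.ext hy⟩
  exact ⟨(iso1 ≪≫ iso2).toLinearEquiv.trans
    ((Submodule.quotEquivOfEq _ _ hrange).trans (φ.quotKerEquivOfSurjective hφ))⟩

end Homology

section Main

variable (fs : List R) {M : ModuleCat.{u} R} (Res : InjectiveResolution M) (n : ℕ)

theorem hd_of_mem_ker (z : LinearMap.ker ((torL fs Res.cochainComplex).d n (n + 1)).hom) :
    (Res.cochainComplex.d n (n + 1)).hom z.1.1 = 0 :=
  (torL_d_eq_zero_iff fs Res.cochainComplex n (n + 1) z.1).1 (LinearMap.mem_ker.1 z.2)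

/-- the class of a cocycle of the torsion subcomplex. -/
noncomputable def phiFun (z : LinearMap.ker ((torL fs Res.cochainComplex).d n (n + 1)).hom) :
    (localCohomology (Ideal.span {y | y ∈ fs}) n).obj M :=
  clsZ _ Res n (Classical.choose (exists_kills_of_mem_torSub fs z.1.2)) z.1.1
    (Classical.choose_spec (exists_kills_of_mem_torSub fs z.1.2)) (hd_of_mem_ker fs Res n z)

theorem phiFun_eq (z : LinearMap.ker ((torL fs Res.cochainComplex).d n (n + 1)).hom) (k : ℕ)
    (hk : Kills (Ideal.span {y | y ∈ fs}) k z.1.1) :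
    phiFun fs Res n z = clsZ _ Res n k z.1.1 hk (hd_of_mem_ker fs Res n z) := by
  unfold phiFun
  set k₀ := Classical.choose (exists_kills_of_mem_torSub fs z.1.2)
  have hk₀ : Kills (Ideal.span {y | y ∈ fs}) k₀ z.1.1 :=
    Classical.choose_spec (exists_kills_of_mem_torSub fs z.1.2)
  rw [← clsZ_mono _ Res n (le_max_left k₀ k) z.1.1 hk₀,
    ← clsZ_mono _ Res n (le_max_right k₀ k) z.1.1 hk]

/-- the linear map from cocycles of the torsion subcomplex to local cohomology. -/
noncomputable def phi : LinearMap.ker ((torL fs Res.cochainComplex).d n (n + 1)).hom →ₗ[R]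
    (localCohomology (Ideal.span {y | y ∈ fs}) n).obj M where
  toFun := phiFun fs Res n
  map_add' z w := by
    obtain ⟨a, ha⟩ := exists_kills_of_mem_torSub fs z.1.2
    obtain ⟨b, hb⟩ := exists_kills_of_mem_torSub fs w.1.2
    have ha' := ha.mono _ (le_max_left a b)
    have hb' := hb.mono _ (le_max_right a b)
    have hab : Kills (Ideal.span {y | y ∈ fs}) (max a b) (z + w).1.1 := by
      intro c hc
      change c • (z.1.1 + w.1.1) = 0
      rw [smul_add, ha' c hc, hb' c hc, add_zero]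
    rw [phiFun_eq fs Res n z _ ha', phiFun_eq fs Res n w _ hb', phiFun_eq fs Res n (z + w) _ hab]
    exact clsZ_add _ Res n _ z.1.1 w.1.1 ha' hb' _ _ _ _
  map_smul' c z := by
    obtain ⟨a, ha⟩ := exists_kills_of_mem_torSub fs z.1.2
    have hca : Kills (Ideal.span {y | y ∈ fs}) a (c • z).1.1 := by
      intro e he
      change e • c • z.1.1 = 0
      rw [smul_comm, ha e he, smul_zero]
    rw [phiFun_eq fs Res n z _ ha, phiFun_eq fs Res n (c • z) _ hca]
    exact clsZ_smul _ Res n _ c z.1.1 ha _ _ _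

theorem phi_surjective : Function.Surjective (phi fs Res n) := by
  intro ξ
  obtain ⟨k, x, hx, hd, rfl⟩ := clsZ_surjective _ Res n ξ
  have hmem : (⟨x, mem_torSub_of_kills fs hx⟩ : torSub fs (Res.cochainComplex.X n)) ∈
      LinearMap.ker ((torL fs Res.cochainComplex).d n (n + 1)).hom :=
    (torL_d_eq_zero_iff fs Res.cochainComplex n (n + 1) _).2 hd
  refine ⟨⟨⟨x, mem_torSub_of_kills fs hx⟩, hmem⟩, ?_⟩
  exact phiFun_eq fs Res n _ k hx

theorem phi_eq_zero_iff (z : LinearMap.ker ((torL fs Res.cochainComplex).d n (n + 1)).hom) :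
    phi fs Res n z = 0 ↔
      ∃ y : (torL fs Res.cochainComplex).X ((n : ℤ) - 1),
        ((torL fs Res.cochainComplex).d ((n : ℤ) - 1) n).hom y = z.1 := by
  obtain ⟨a, ha⟩ := exists_kills_of_mem_torSub fs z.1.2
  change phiFun fs Res n z = 0 ↔ _
  rw [phiFun_eq fs Res n z _ ha, clsZ_eq_zero_iff]
  constructor
  · rintro ⟨l, y, hy, hyx⟩
    exact ⟨⟨y, mem_torSub_of_kills fs hy⟩,
      (torL_d_eq_iff fs Res.cochainComplex _ _ ⟨y, mem_torSub_of_kills fs hy⟩ z.1).2 hyx⟩
  · rintro ⟨y, hy⟩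
    obtain ⟨l, hl⟩ := exists_kills_of_mem_torSub fs y.2
    exact ⟨l, y.1, hl, (torL_d_eq_iff fs Res.cochainComplex _ _ y z.1).1 hy⟩

/-- local cohomology is the cohomology of the torsion subcomplex of an injective resolution. -/
theorem torL_homology_equiv :
    Nonempty ((torL fs Res.cochainComplex).homology n ≃ₗ[R]
      (localCohomology (Ideal.span {y | y ∈ fs}) n).obj M) :=
  homology_equiv_of_surjective _ _ _ (phi fs Res n) (phi_surjective fs Res n)
    (phi_eq_zero_iff fs Res n)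

end Main

section Final

open Groth.Agent.Lib.Helper2.LCCech1 DerCA

variable [IsNoetherianRing R]

theorem div_cochainComplex {M : ModuleCat.{u} R} (Res : InjectiveResolution M) :
    Div Res.cochainComplex := by
  intro f l n x hx N
  obtain ⟨k, hk⟩ := exists_kills_of_mem_torSub l hx
  have hinj : CategoryTheory.Injective (ModuleCat.of R (Res.cochainComplex.X n)) :=
    inferInstanceAs (CategoryTheory.Injective (Res.cochainComplex.X n))
  have : Module.Injective R (Res.cochainComplex.X n) :=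
    Module.injective_module_of_injective_object R (Res.cochainComplex.X n)
  obtain ⟨e', K, c, he', hdiv⟩ := exists_div (Ideal.span {y | y ∈ l}) f (Res.cochainComplex.X n) x k hk N
  exact ⟨e', mem_torSub_of_kills l he', c, hdiv⟩

/-- the extended Čech complex computes local cohomology (Noetherian case). -/
theorem extCechH_equiv (fs : List R) (M : ModuleCat.{u} R) (n : ℕ) :
    Nonempty (extCechH fs M (n : ℤ) ≃ₗ[R] (localCohomology (Ideal.span {y | y ∈ fs}) n).obj M) := by
  let Res : InjectiveResolution M := injectiveResolution M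
  obtain ⟨e₁⟩ := cech_homology_equiv Res.ι' fs (n : ℤ)
  obtain ⟨e₂⟩ := cech_equiv_torL (div_cochainComplex Res) fs (n : ℤ)
  obtain ⟨e₃⟩ := torL_homology_equiv fs Res n
  have key : ∀ K : DRing.Cx R, K = cechCx
      ((HomologicalComplex.single (ModuleCat.{u} R) (ComplexShape.up ℤ) 0).obj M) fs →
      Nonempty (K.homology (n : ℤ) ≃ₗ[R]
        (localCohomology (Ideal.span {y | y ∈ fs}) n).obj M) := by
    intro K hK
    subst hK
    exact ⟨(e₁.trans e₂).trans e₃⟩
  exact key _ (extCech_eq M fs)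

end Final

end Groth.Agent.Lib.Helper2.LCCech4
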