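import Mathlib
import Groth.Agent.Lib.Helper2.LCCech1

/-!
# The Čech complex commutes with additive functors commuting with localisation
-/

set_option autoImplicit false
universe u

open CategoryTheory CategoryTheory.Limits Pretriangulated CochainComplex DerCA

namespace Groth.Agent.Lib.Helper2.LCCechF

open Groth.Agent.Lib.Helper2.LCCech1

attribute [local instance] HasDerivedCategory.standard

variable {R : Type u} [CommRing R] {R' : Type u} [CommRing R']
variable (G : ModuleCat.{u} R ⥤ ModuleCat.{u} R') [G.Additive]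

/-- compatibility of a functor with localisation at `f`, `f'`. -/
structure LocCompat (f : R) (f' : R') where
  θ : locFunctor (Submonoid.powers f) ⋙ G ≅ G ⋙ locFunctor (Submonoid.powers f')
  unit : ∀ M : ModuleCat.{u} R, G.map ((locUnit (Submonoid.powers f)).app M) ≫ θ.hom.app M =
    (locUnit (Submonoid.powers f')).app (G.obj M)

variable {G}

/-- the comparison on localised complexes. -/
noncomputable def LocCompat.Θ {f : R} {f' : R'} (c : LocCompat G f f') (C : DRing.Cx R) :
    (G.mapHomologicalComplex (ComplexShape.up ℤ)).obj ((locCx (Submonoid.powers f)).obj C) ⟶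
      (locCx (Submonoid.powers f')).obj ((G.mapHomologicalComplex (ComplexShape.up ℤ)).obj C) where
  f n := c.θ.hom.app (C.X n)
  comm' i j _ := (c.θ.hom.naturality (C.d i j)).symm

instance {f : R} {f' : R'} (c : LocCompat G f f') (C : DRing.Cx R) : IsIso (c.Θ C) := by
  apply (config := { allowSynthFailures := true }) HomologicalComplex.Hom.isIso_of_components
  intro n
  change IsIso (c.θ.hom.app (C.X n))
  infer_instance

theorem LocCompat.tri {f : R} {f' : R'} (c : LocCompat G f f') (C : DRing.Cx R) :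
    (G.mapHomologicalComplex (ComplexShape.up ℤ)).map (locCxUnit (Submonoid.powers f) C) ≫ c.Θ C =
      locCxUnit (Submonoid.powers f') ((G.mapHomologicalComplex (ComplexShape.up ℤ)).obj C) := by
  ext n : 1
  exact c.unit (C.X n)

theorem exists_quasiIso_cechStep {f : R} {f' : R'} (c : LocCompat G f f') (C : DRing.Cx R) :
    ∃ ρ : (G.mapHomologicalComplex (ComplexShape.up ℤ)).obj (cechStep f C) ⟶
      cechStep f' ((G.mapHomologicalComplex (ComplexShape.up ℤ)).obj C), QuasiIso ρ := by
  let u := locCxUnit (Submonoid.powers f) C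
  let u' := locCxUnit (Submonoid.powers f') ((G.mapHomologicalComplex (ComplexShape.up ℤ)).obj C)
  change ∃ ρ : (G.mapHomologicalComplex (ComplexShape.up ℤ)).obj
      ((CategoryTheory.shiftFunctor (CochainComplex (ModuleCat.{u} R) ℤ) (-1 : ℤ)).obj
        (mappingCone u)) ⟶
      (CategoryTheory.shiftFunctor (CochainComplex (ModuleCat.{u} R') ℤ) (-1 : ℤ)).obj
        (mappingCone u'), QuasiIso ρ
  let m : mappingCone ((G.mapHomologicalComplex (ComplexShape.up ℤ)).map u) ⟶ mappingCone u' :=
    mappingCone.map _ _ (𝟙 _) (c.Θ C) (by rw [Category.id_comp]; exact c.tri C)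
  have hm : QuasiIso m := quasiIso_mappingCone_map _ _ _ _ _
  let i1 := mappingCone.mapHomologicalComplexIso u G
  let i0 := (G.mapCochainComplexShiftIso (-1 : ℤ)).app (mappingCone u)
  have h1 : QuasiIso (i1.hom ≫ m) := inferInstance
  refine ⟨i0.hom ≫ (CategoryTheory.shiftFunctor (CochainComplex (ModuleCat.{u} R') ℤ) (-1 : ℤ)).map
    (i1.hom ≫ m), ?_⟩
  have h2 : QuasiIso ((CategoryTheory.shiftFunctor (CochainComplex (ModuleCat.{u} R') ℤ)
      (-1 : ℤ)).map (i1.hom ≫ m)) := (quasiIso_shift_iff _ (-1 : ℤ)).2 h1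
  have h3 : QuasiIso i0.hom := quasiIso_of_isIso _
  exact quasiIso_comp _ _

/-- the Čech complex commutes (up to quasi-isomorphism) with `G`. -/
theorem exists_quasiIso_cechCx (K : DRing.Cx R) {fs : List R} {fs' : List R'}
    (h : List.Forall₂ (fun f f' => Nonempty (LocCompat G f f')) fs fs') :
    ∃ ρ : (G.mapHomologicalComplex (ComplexShape.up ℤ)).obj (cechCx K fs) ⟶
      cechCx ((G.mapHomologicalComplex (ComplexShape.up ℤ)).obj K) fs', QuasiIso ρ := by
  induction h with
  | nil =>
    change ∃ ρ : (G.mapHomologicalComplex (ComplexShape.up ℤ)).obj K ⟶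
      (G.mapHomologicalComplex (ComplexShape.up ℤ)).obj K, QuasiIso ρ
    exact ⟨𝟙 _, quasiIso_of_isIso _⟩
  | @cons f f' l l' hc _ ih =>
    obtain ⟨c⟩ := hc
    obtain ⟨ρ₀, hρ₀⟩ := ih
    obtain ⟨ρ₁, hρ₁⟩ := exists_quasiIso_cechStep c (cechCx K l)
    have := quasiIso_cechStepMap f' ρ₀
    change ∃ ρ : (G.mapHomologicalComplex (ComplexShape.up ℤ)).obj (cechStep f (cechCx K l)) ⟶
      cechStep f' (cechCx ((G.mapHomologicalComplex (ComplexShape.up ℤ)).obj K) l'), QuasiIso ρ
    exact ⟨ρ₁ ≫ cechStepMap f' ρ₀, quasiIso_comp _ _⟩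

/-- homology commutes with an exact functor. -/
noncomputable def mapHomologyIso' [G.PreservesHomology] (C : DRing.Cx R) (n : ℤ) :
    ((G.mapHomologicalComplex (ComplexShape.up ℤ)).obj C).homology n ≅ G.obj (C.homology n) :=
  (C.sc n).mapHomologyIso G

/-- an exact functor compatible with localisation commutes with Čech cohomology of modules. -/
theorem cech_functor_iso [G.PreservesHomology] (M : ModuleCat.{u} R) {fs : List R} {fs' : List R'}
    (h : List.Forall₂ (fun f f' => Nonempty (LocCompat G f f')) fs fs') (n : ℤ) :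
    Nonempty (G.obj (extCechH fs M n) ≅ extCechH fs' (G.obj M) n) := by
  obtain ⟨ρ, hρ⟩ := exists_quasiIso_cechCx
    ((HomologicalComplex.single (ModuleCat.{u} R) (ComplexShape.up ℤ) 0).obj M) h
  let σ₀ := (HomologicalComplex.singleMapHomologicalComplex G (ComplexShape.up ℤ) 0).hom.app M
  have hσ₀ : QuasiIso σ₀ := quasiIso_of_isIso _
  have hσ := quasiIso_cechCxMap σ₀ fs'
  let i₁ := mapHomologyIso' (G := G)
    (cechCx ((HomologicalComplex.single (ModuleCat.{u} R) (ComplexShape.up ℤ) 0).obj M) fs) n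
  let i₂ := asIso (HomologicalComplex.homologyMap ρ n)
  let i₃ := asIso (HomologicalComplex.homologyMap (cechCxMap σ₀ fs') n)
  have key : ∀ (K : DRing.Cx R) (K' : DRing.Cx R'),
      K = cechCx ((HomologicalComplex.single (ModuleCat.{u} R) (ComplexShape.up ℤ) 0).obj M) fs →
      K' = cechCx ((HomologicalComplex.single (ModuleCat.{u} R') (ComplexShape.up ℤ) 0).obj
        (G.obj M)) fs' →
      Nonempty (G.obj (K.homology n) ≅ K'.homology n) := by
    intro K K' hK hK'
    subst hK hK'
    exact ⟨i₁.symm ≪≫ i₂ ≪≫ i₃⟩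
  exact key _ _ (extCech_eq M fs) (extCech_eq (G.obj M) fs')

end Groth.Agent.Lib.Helper2.LCCechF
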