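import Mathlib
import Groth.Agent.Lib.Helper2.LCCechF

/-!
# Restriction of scalars commutes with localisation, hence with the Čech complex
-/

set_option autoImplicit false
universe u

open CategoryTheory CategoryTheory.Limits DerCA

namespace Groth.Agent.Lib.Helper2.LCCechRes

open Groth.Agent.Lib.Helper2.LCCech1 Groth.Agent.Lib.Helper2.LCCechF

variable {R : Type u} [CommRing R] {R' : Type u} [CommRing R'] [Algebra R R']

/-- restriction of scalars along `R → R'`. -/
noncomputable abbrev res : ModuleCat.{u} R' ⥤ ModuleCat.{u} R :=
  ModuleCat.restrictScalars (algebraMap R R')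

variable (R) in
theorem isLocalizedModule_res (f : R) (M' : ModuleCat.{u} R') :
    IsLocalizedModule (Submonoid.powers f)
      ((res (R := R)).map ((locUnit (Submonoid.powers (algebraMap R R' f))).app M')).hom := by
  set S' := Submonoid.powers (algebraMap R R' f) with hS'
  have h : IsLocalizedModule S' (LocalizedModule.mkLinearMap S' M') := inferInstance
  have hsm : ∀ (r : R) (y : ((res (R := R)).obj ((locFunctor S').obj M'))),
      r • y = (algebraMap R R' r • (show LocalizedModule S' M' from y) : LocalizedModule S' M') :=
    fun _ _ => rfl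
  have hsm' : ∀ (r : R) (y : ((res (R := R)).obj M')),
      r • y = (algebraMap R R' r • (show M' from y) : M') := fun _ _ => rfl
  refine ⟨?_, ?_, ?_⟩
  · rintro ⟨_, k, rfl⟩
    rw [Module.End.isUnit_iff]
    have := (Module.End.isUnit_iff _).1 (h.map_units ⟨(algebraMap R R' f) ^ k, k, rfl⟩)
    have hfun : (⇑((algebraMap R (Module.End R ((res (R := R)).obj ((locFunctor S').obj M')))) (f ^ k)) :
        LocalizedModule S' M' → LocalizedModule S' M') =
        ⇑(algebraMap R' (Module.End R' (LocalizedModule S' M')) ((algebraMap R R' f) ^ k)) := by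
      funext y
      change (f ^ k) • (show ((res (R := R)).obj ((locFunctor S').obj M')) from y) = _
      rw [hsm, map_pow]
      rfl
    exact hfun ▸ this
  · intro y
    obtain ⟨⟨x, ⟨_, k, rfl⟩⟩, hx⟩ := h.surj (show LocalizedModule S' M' from y)
    refine ⟨⟨x, ⟨f ^ k, k, rfl⟩⟩, ?_⟩
    change (f ^ k) • y = _
    rw [hsm, map_pow]
    exact hx
  · intro x₁ x₂ e
    obtain ⟨⟨_, k, rfl⟩, hc⟩ := h.exists_of_eq (x₁ := (show M' from x₁)) (x₂ := (show M' from x₂)) e
    refine ⟨⟨f ^ k, k, rfl⟩, ?_⟩
    change (f ^ k) • x₁ = (f ^ k) • x₂
    rw [hsm', hsm', map_pow]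
    exact hc

/-- the component of the comparison isomorphism. -/
noncomputable def resθ (f : R) (M' : ModuleCat.{u} R') :
    (res (R := R)).obj ((locFunctor (Submonoid.powers (algebraMap R R' f))).obj M') ≅
      (locFunctor (Submonoid.powers f)).obj ((res (R := R)).obj M') :=
  haveI := isLocalizedModule_res R f M'
  (IsLocalizedModule.iso (Submonoid.powers f)
    ((res (R := R)).map ((locUnit (Submonoid.powers (algebraMap R R' f))).app M')).hom).symm.toModuleIso

theorem resθ_unit (f : R) (M' : ModuleCat.{u} R') :
    (res (R := R)).map ((locUnit (Submonoid.powers (algebraMap R R' f))).app M') ≫ (resθ f M').hom =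
      (locUnit (Submonoid.powers f)).app ((res (R := R)).obj M') := by
  haveI := isLocalizedModule_res R f M'
  ext x
  exact IsLocalizedModule.iso_symm_apply (Submonoid.powers f)
    ((res (R := R)).map ((locUnit (Submonoid.powers (algebraMap R R' f))).app M')).hom x

theorem resθ_naturality (f : R) {M' N' : ModuleCat.{u} R'} (g : M' ⟶ N') :
    (res (R := R)).map ((locFunctor (Submonoid.powers (algebraMap R R' f))).map g) ≫ (resθ f N').hom =
      (resθ f M').hom ≫ (locFunctor (Submonoid.powers f)).map ((res (R := R)).map g) := by
  haveI := isLocalizedModule_res R f M'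
  ext : 1
  apply IsLocalizedModule.linearMap_ext (Submonoid.powers f)
    ((res (R := R)).map ((locUnit (Submonoid.powers (algebraMap R R' f))).app M')).hom
    (LocalizedModule.mkLinearMap (Submonoid.powers f) ((res (R := R)).obj N'))
  have h1 := resθ_unit f M'
  have h2 := resθ_unit f N'
  have n1 := (locUnit (Submonoid.powers (algebraMap R R' f))).naturality g
  have n2 := (locUnit (Submonoid.powers f)).naturality ((res (R := R)).map g)
  have key : (res (R := R)).map ((locUnit (Submonoid.powers (algebraMap R R' f))).app M') ≫
      ((res (R := R)).map ((locFunctor (Submonoid.powers (algebraMap R R' f))).map g) ≫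
        (resθ f N').hom) =
      (res (R := R)).map ((locUnit (Submonoid.powers (algebraMap R R' f))).app M') ≫
      ((resθ f M').hom ≫ (locFunctor (Submonoid.powers f)).map ((res (R := R)).map g)) := by
    rw [← Category.assoc, ← Functor.map_comp, ← n1, Functor.map_comp, Category.assoc, h2,
      ← Category.assoc, h1, ← n2]
    rfl
  exact congrArg ModuleCat.Hom.hom key

/-- restriction of scalars is compatible with localisation. -/
noncomputable def resCompat (f : R) :
    LocCompat (res (R := R) (R' := R')) (algebraMap R R' f) f where
  θ := NatIso.ofComponents (fun M' => resθ f M') (fun g => resθ_naturality f g)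
  unit M' := resθ_unit f M'

end Groth.Agent.Lib.Helper2.LCCechRes
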