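import Mathlib
import Groth.Agent.Lib.Helper2.LCCechRes
import Groth.Agent.Lib.Helper2.LCCech4

/-!
# Independence of the base for local cohomology
-/

set_option autoImplicit false
universe u

open CategoryTheory CategoryTheory.Limits DerCA

namespace Groth.Agent.Lib.Helper2.LCBaseRes

open Groth.Agent.Lib.Helper2.LCCech1 Groth.Agent.Lib.Helper2.LCCechF
  Groth.Agent.Lib.Helper2.LCCechRes Groth.Agent.Lib.Helper2.LCCech4

variable {R : Type u} [CommRing R] {R' : Type u} [CommRing R'] [Algebra R R']

theorem exists_list_span [IsNoetherianRing R] (I : Ideal R) :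
    ∃ fs : List R, Ideal.span {x | x ∈ fs} = I := by
  obtain ⟨s, hs⟩ := (IsNoetherian.noetherian I : I.FG)
  refine ⟨s.toList, ?_⟩
  have : ({x | x ∈ s.toList} : Set R) = ↑s := by ext; simp
  rw [this]
  exact hs

theorem map_span_list (fs : List R) :
    Ideal.map (algebraMap R R') (Ideal.span {x | x ∈ fs}) =
      Ideal.span {y | y ∈ fs.map (algebraMap R R')} := by
  rw [Ideal.map_span]
  congr 1
  ext y
  simp [List.mem_map]

theorem forall₂_res (fs : List R) :
    List.Forall₂ (fun f' f => Nonempty (LocCompat (res (R := R) (R' := R')) f' f))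
      (fs.map (algebraMap R R')) fs := by
  rw [List.forall₂_map_left_iff, List.forall₂_same]
  intro f _
  exact ⟨resCompat f⟩

/-- Čech cohomology does not depend on the base ring. -/
theorem cech_res_iso (fs : List R) (M' : ModuleCat.{u} R') (n : ℤ) :
    Nonempty ((res (R := R)).obj (extCechH (fs.map (algebraMap R R')) M' n) ≅
      extCechH fs ((res (R := R)).obj M') n) :=
  cech_functor_iso M' (forall₂_res fs) n

/-- local cohomology does not depend on the base ring (list form). -/
theorem H_res_equiv [IsNoetherianRing R] [IsNoetherianRing R'] (fs : List R)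
    (M' : ModuleCat.{u} R') (i : ℕ) :
    ∃ φ : (localCohomology (Ideal.span {y | y ∈ fs.map (algebraMap R R')}) i).obj M' ≃+
        (localCohomology (Ideal.span {x | x ∈ fs}) i).obj ((res (R := R)).obj M'),
      ∀ (r : R) (x : (localCohomology (Ideal.span {y | y ∈ fs.map (algebraMap R R')}) i).obj M'),
        φ (algebraMap R R' r • x) = r • φ x := by
  obtain ⟨e1⟩ := extCechH_equiv (fs.map (algebraMap R R')) M' i
  obtain ⟨iso⟩ := cech_res_iso fs M' (i : ℤ)
  obtain ⟨e3⟩ := extCechH_equiv fs ((res (R := R)).obj M') i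
  let e2 : extCechH (fs.map (algebraMap R R')) M' (i : ℤ) ≃+
      extCechH fs ((res (R := R)).obj M') (i : ℤ) := iso.toLinearEquiv.toAddEquiv
  refine ⟨e1.symm.toAddEquiv.trans (e2.trans e3.toAddEquiv), ?_⟩
  intro r x
  change e3 (iso.toLinearEquiv (e1.symm (algebraMap R R' r • x))) =
    r • e3 (iso.toLinearEquiv (e1.symm x))
  have h1 : e1.symm (algebraMap R R' r • x) = algebraMap R R' r • e1.symm x := map_smul _ _ _
  have h2 : iso.toLinearEquiv (algebraMap R R' r • e1.symm x) =
      r • iso.toLinearEquiv (e1.symm x) := iso.toLinearEquiv.map_smul r (e1.symm x)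
  rw [h1, h2, map_smul]

/-- local cohomology does not depend on the base ring. -/
theorem H_res_equiv' [IsNoetherianRing R] [IsNoetherianRing R'] (I : Ideal R)
    (M' : Type u) [AddCommGroup M'] [Module R' M'] [Module R M'] [IsScalarTower R R' M'] (i : ℕ) :
    ∃ φ : LocCoh.H (Ideal.map (algebraMap R R') I) i M' ≃+ LocCoh.H I i M',
      ∀ (r : R) (x : LocCoh.H (Ideal.map (algebraMap R R') I) i M'),
        φ (algebraMap R R' r • x) = r • φ x := by
  obtain ⟨fs, rfl⟩ := exists_list_span I
  have key : ∀ J' : Ideal R', J' = Ideal.span {y | y ∈ fs.map (algebraMap R R')} →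
      ∃ φ : LocCoh.H J' i M' ≃+ LocCoh.H (Ideal.span {x | x ∈ fs}) i M',
        ∀ (r : R) (x : LocCoh.H J' i M'), φ (algebraMap R R' r • x) = r • φ x := by
    intro J' hJ'
    subst hJ'
    obtain ⟨φ, hφ⟩ := H_res_equiv fs (ModuleCat.of R' M') i
    let e0 : ((res (R := R)).obj (ModuleCat.of R' M')) ≃ₗ[R] M' :=
      { toFun := fun x => x
        invFun := fun x => x
        map_add' := fun _ _ => rfl
        map_smul' := fun r x => algebraMap_smul R' r (show M' from x)
        left_inv := fun _ => rfl
        right_inv := fun _ => rfl }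
    let e : (res (R := R)).obj (ModuleCat.of R' M') ≅ ModuleCat.of R M' := e0.toModuleIso
    let e4 := ((localCohomology (Ideal.span {x | x ∈ fs}) i).mapIso e).toLinearEquiv
    refine ⟨φ.trans e4.toAddEquiv, ?_⟩
    intro r x
    change e4 (φ (algebraMap R R' r • x)) = r • e4 (φ x)
    rw [hφ, map_smul]
  exact key _ (map_span_list fs)

end Groth.Agent.Lib.Helper2.LCBaseRes
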