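import Mathlib
import Groth.Agent.Lib.Helper2.LCCechF

/-!
# Extension of scalars commutes with localisation, hence with the Čech complex
-/

set_option autoImplicit false
universe u

open CategoryTheory CategoryTheory.Limits DerCA TensorProduct

namespace Groth.Agent.Lib.Helper2.LCCechExt

open Groth.Agent.Lib.Helper2.LCCech1 Groth.Agent.Lib.Helper2.LCCechF

variable (R : Type u) [CommRing R] (R' : Type u) [CommRing R'] [Algebra R R']

/-- extension of scalars `M ↦ R' ⊗[R] M`. -/
noncomputable def ext : ModuleCat.{u} R ⥤ ModuleCat.{u} R' where
  obj M := ModuleCat.of R' (R' ⊗[R] M)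
  map g := ModuleCat.ofHom (g.hom.baseChange R')
  map_id M := by
    ext : 1
    exact LinearMap.baseChange_id
  map_comp g h := by
    ext : 1
    exact LinearMap.baseChange_comp _ _

instance : (ext R R').Additive where
  map_add {M N g h} := by
    ext : 1
    exact LinearMap.baseChange_add _ _

variable {R R'}

theorem ext_map_apply {M N : ModuleCat.{u} R} (g : M ⟶ N) (x : R' ⊗[R] M) :
    ((ext R R').map g).hom x = g.hom.lTensor R' x := rfl

instance [Module.Flat R R'] : (ext R R').PreservesHomology := by
  apply ((Functor.exact_tfae (ext R R')).out 1 2).1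
  intro S hS
  rw [ShortComplex.ShortExact.moduleCat_exact_iff_function_exact] at hS ⊢
  exact Module.Flat.lTensor_exact R' hS

theorem isLocalizedModule_lTensor (f : R) (M : Type u) [AddCommGroup M] [Module R M] :
    IsLocalizedModule (Submonoid.powers f)
      ((LocalizedModule.mkLinearMap (Submonoid.powers f) M).lTensor R') := by
  have h1 : IsLocalizedModule (Submonoid.powers f)
      (AlgebraTensorModule.rTensor R R' (LocalizedModule.mkLinearMap (Submonoid.powers f) M)) :=
    inferInstance
  rw [← LinearMap.comm_comp_rTensor_comp_comm_eq]
  have h2 : IsLocalizedModule (Submonoid.powers f)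
      ((LocalizedModule.mkLinearMap (Submonoid.powers f) M).rTensor R') := h1
  infer_instance

theorem isLocalizedModule_baseChange (f : R) (M : Type u) [AddCommGroup M] [Module R M] :
    IsLocalizedModule (Submonoid.powers (algebraMap R R' f))
      ((LocalizedModule.mkLinearMap (Submonoid.powers f) M).baseChange R') := by
  have h := isLocalizedModule_lTensor (R' := R') f M
  have h' : IsLocalizedModule (Submonoid.powers f)
      (((LocalizedModule.mkLinearMap (Submonoid.powers f) M).baseChange R').restrictScalars R) :=
    ⟨h.map_units, h.surj, h.exists_of_eq⟩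
  have h'' := IsLocalizedModule.of_restrictScalars (Submonoid.powers f)
    ((LocalizedModule.mkLinearMap (Submonoid.powers f) M).baseChange R')
  rwa [Algebra.algebraMapSubmonoid_powers] at h''

theorem isLocalizedModule_ext (f : R) (M : ModuleCat.{u} R) :
    IsLocalizedModule (Submonoid.powers (algebraMap R R' f))
      ((ext R R').map ((locUnit (Submonoid.powers f)).app M)).hom := by
  have h := isLocalizedModule_baseChange (R' := R') f M
  exact ⟨h.map_units, h.surj, h.exists_of_eq⟩

/-- the component of the comparison isomorphism. -/
noncomputable def extθ (f : R) (M : ModuleCat.{u} R) :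
    (ext R R').obj ((locFunctor (Submonoid.powers f)).obj M) ≅
      (locFunctor (Submonoid.powers (algebraMap R R' f))).obj ((ext R R').obj M) :=
  haveI := isLocalizedModule_ext (R' := R') f M
  (IsLocalizedModule.iso (Submonoid.powers (algebraMap R R' f))
    ((ext R R').map ((locUnit (Submonoid.powers f)).app M)).hom).symm.toModuleIso

theorem extθ_unit (f : R) (M : ModuleCat.{u} R) :
    (ext R R').map ((locUnit (Submonoid.powers f)).app M) ≫ (extθ f M).hom =
      (locUnit (Submonoid.powers (algebraMap R R' f))).app ((ext R R').obj M) := by
  haveI := isLocalizedModule_ext (R' := R') f M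
  ext x
  exact IsLocalizedModule.iso_symm_apply (Submonoid.powers (algebraMap R R' f))
    ((ext R R').map ((locUnit (Submonoid.powers f)).app M)).hom x

theorem extθ_naturality (f : R) {M N : ModuleCat.{u} R} (g : M ⟶ N) :
    (ext R R').map ((locFunctor (Submonoid.powers f)).map g) ≫ (extθ (R' := R') f N).hom =
      (extθ f M).hom ≫ (locFunctor (Submonoid.powers (algebraMap R R' f))).map ((ext R R').map g) := by
  haveI := isLocalizedModule_ext (R' := R') f M
  ext : 1
  apply IsLocalizedModule.linearMap_ext (Submonoid.powers (algebraMap R R' f))
    ((ext R R').map ((locUnit (Submonoid.powers f)).app M)).hom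
    (LocalizedModule.mkLinearMap (Submonoid.powers (algebraMap R R' f)) ((ext R R').obj N))
  have h1 := extθ_unit (R' := R') f M
  have h2 := extθ_unit (R' := R') f N
  have n1 := (locUnit (Submonoid.powers f)).naturality g
  have n2 := (locUnit (Submonoid.powers (algebraMap R R' f))).naturality ((ext R R').map g)
  have key : (ext R R').map ((locUnit (Submonoid.powers f)).app M) ≫
      ((ext R R').map ((locFunctor (Submonoid.powers f)).map g) ≫ (extθ (R' := R') f N).hom) =
      (ext R R').map ((locUnit (Submonoid.powers f)).app M) ≫
      ((extθ f M).hom ≫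
        (locFunctor (Submonoid.powers (algebraMap R R' f))).map ((ext R R').map g)) := by
    rw [← Category.assoc, ← Functor.map_comp, ← n1, Functor.map_comp, Category.assoc, h2,
      ← Category.assoc, h1, ← n2]
    rfl
  exact congrArg ModuleCat.Hom.hom key

/-- extension of scalars is compatible with localisation. -/
noncomputable def extCompat (f : R) :
    LocCompat (ext R R') f (algebraMap R R' f) where
  θ := NatIso.ofComponents (fun M => extθ f M) (fun g => extθ_naturality f g)
  unit M := extθ_unit f M

end Groth.Agent.Lib.Helper2.LCCechExt
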