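import Mathlib
import Groth.Agent.Lib.Helper2.LCCechExt
import Groth.Agent.Lib.Helper2.LCBaseRes

/-!
# Flat base change for local cohomology
-/

set_option autoImplicit false
universe u

open CategoryTheory CategoryTheory.Limits DerCA TensorProduct

namespace Groth.Agent.Lib.Helper2.LCBaseExt

open Groth.Agent.Lib.Helper2.LCCech1 Groth.Agent.Lib.Helper2.LCCechF
  Groth.Agent.Lib.Helper2.LCCechExt Groth.Agent.Lib.Helper2.LCCech4
  Groth.Agent.Lib.Helper2.LCBaseRes

variable {R : Type u} [CommRing R] {R' : Type u} [CommRing R'] [Algebra R R']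

theorem forall₂_ext (fs : List R) :
    List.Forall₂ (fun f f' => Nonempty (LocCompat (ext R R') f f'))
      fs (fs.map (algebraMap R R')) := by
  rw [List.forall₂_map_right_iff, List.forall₂_same]
  intro f _
  exact ⟨extCompat f⟩

/-- flat base change for local cohomology (list form). -/
theorem H_ext_iso [IsNoetherianRing R] [IsNoetherianRing R'] [Module.Flat R R'] (fs : List R)
    (M : ModuleCat.{u} R) (i : ℕ) :
    Nonempty ((ext R R').obj ((localCohomology (Ideal.span {x | x ∈ fs}) i).obj M) ≅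
      (localCohomology (Ideal.span {y | y ∈ fs.map (algebraMap R R')}) i).obj
        ((ext R R').obj M)) := by
  obtain ⟨e1⟩ := extCechH_equiv fs M i
  obtain ⟨iso⟩ := cech_functor_iso (G := ext R R') M (forall₂_ext fs) (i : ℤ)
  obtain ⟨e3⟩ := extCechH_equiv (fs.map (algebraMap R R')) ((ext R R').obj M) i
  exact ⟨((ext R R').mapIso e1.toModuleIso).symm ≪≫ iso ≪≫ e3.toModuleIso⟩

/-- flat base change for local cohomology. -/
theorem H_ext_equiv [IsNoetherianRing R] [IsNoetherianRing R'] [Module.Flat R R'] (I : Ideal R)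
    (M : Type u) [AddCommGroup M] [Module R M] (i : ℕ) :
    Nonempty ((R' ⊗[R] (LocCoh.H I i M)) ≃ₗ[R']
      LocCoh.H (Ideal.map (algebraMap R R') I) i (R' ⊗[R] M)) := by
  obtain ⟨fs, rfl⟩ := exists_list_span I
  have key : ∀ J' : Ideal R', J' = Ideal.span {y | y ∈ fs.map (algebraMap R R')} →
      Nonempty ((R' ⊗[R] (LocCoh.H (Ideal.span {x | x ∈ fs}) i M)) ≃ₗ[R']
        LocCoh.H J' i (R' ⊗[R] M)) := by
    intro J' hJ'
    subst hJ'
    obtain ⟨iso⟩ := H_ext_iso (R' := R') fs (ModuleCat.of R M) i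
    exact ⟨iso.toLinearEquiv⟩
  exact key _ (map_span_list fs)

end Groth.Agent.Lib.Helper2.LCBaseExt
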