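import Mathlib
import Groth.Agent.Lib.helper11.LCKit2
import Groth.Agent.Lib.helper11.ExtKoszul
import Groth.Agent.S11649

/-!
# `n ≤ depth_I(M)` iff `H^i_I(M) = 0` for `i < n` (finite module over a Noetherian ring)
-/

set_option autoImplicit false
universe u

open CategoryTheory CategoryTheory.Abelian

namespace Groth.Agent.Lib.Helper2.HZDepth1

open Groth.Agent.Lib.helper11.LCKit

variable {R : Type u} [CommRing R]

/-- `Ext` is killed by elements killing the first variable. -/
theorem ext_smul_eq_zero_left {X Y : ModuleCat.{u} R} (r : R) (hr : ∀ x : X, r • x = 0) (i : ℕ)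
    (e : Ext X Y i) : r • e = 0 := by
  have h0 : r • 𝟙 X = 0 := by
    ext x
    exact hr x
  rw [← Groth.Agent.Lib.helper11.ExtKoszul.mk₀_smul_id_comp R r e, h0, Ext.mk₀_zero, Ext.zero_comp]

/-- `Ext` is killed by elements killing the second variable. -/
theorem ext_smul_eq_zero_right {X Y : ModuleCat.{u} R} (r : R) (hr : ∀ y : Y, r • y = 0) (i : ℕ)
    (e : Ext X Y i) : r • e = 0 := by
  have h0 : r • 𝟙 Y = 0 := by
    ext y
    exact hr y
  rw [Ext.smul_eq_comp_mk₀, h0, Ext.mk₀_zero, Ext.comp_zero]

/-- if `IM = M` for a finite module, local cohomology vanishes. -/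
theorem subsingleton_H_of_smul_top_eq_top (I : Ideal R) (M : Type u) [AddCommGroup M] [Module R M]
    [Module.Finite R M] (hIM : I • (⊤ : Submodule R M) = ⊤) (i : ℕ) :
    Subsingleton (LocCoh.H I i M) := by
  obtain ⟨r, hr1, hr2⟩ := Submodule.exists_sub_one_mem_and_smul_eq_zero_of_fg_of_le_smul I
    (⊤ : Submodule R M) (Module.Finite.fg_top) (le_of_eq hIM.symm)
  -- `r - 1 ∈ I`, `r M = 0`
  apply subsingleton_of_forall_ext
  intro k
  refine ⟨fun a b => ?_⟩
  have key : ∀ e : Ext (Q I k) (ModuleCat.of R M) i, e = 0 := by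
    intro e
    have h1 : r • e = 0 := ext_smul_eq_zero_right r (fun y => hr2 y Submodule.mem_top) i e
    have h2 : (1 - r) ^ k • e = 0 := by
      apply ext_smul_eq_zero_left
      intro x
      obtain ⟨a, rfl⟩ := Ideal.Quotient.mk_surjective x
      have hmem : (1 - r) ^ k ∈ I ^ k := by
        apply Ideal.pow_mem_pow
        have := I.neg_mem hr1
        rwa [neg_sub] at this
      have : (1 - r) ^ k • (Ideal.Quotient.mk (I ^ k) a) =
          Ideal.Quotient.mk (I ^ k) ((1 - r) ^ k * a) := rfl
      rw [this, Ideal.Quotient.eq_zero_iff_mem]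
      exact Ideal.mul_mem_right _ _ hmem
    -- `1 = (1 - r)^k + r * c`
    obtain ⟨c, hc⟩ : ∃ c : R, (1 : R) = (1 - r) ^ k + r * c := by
      have hdvd : r ∣ 1 - (1 - r) ^ k := by
        have h := sub_dvd_pow_sub_pow (1 : R) (1 - r) k
        rw [one_pow, sub_sub_cancel] at h
        exact h
      obtain ⟨c, hc⟩ := hdvd
      exact ⟨c, by rw [← hc]; ring⟩
    calc e = (1 : R) • e := (one_smul R e).symm
      _ = ((1 - r) ^ k + r * c) • e := by rw [← hc]
      _ = (1 - r) ^ k • e + c • (r • e) := by rw [add_smul, mul_comm, mul_smul]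
      _ = 0 := by rw [h1, h2, smul_zero, add_zero]
  rw [key a, key b]

/-- **depth and vanishing of local cohomology.** -/
theorem le_idealDepth_iff [IsNoetherianRing R] (I : Ideal R) (M : Type u) [AddCommGroup M]
    [Module R M] [Module.Finite R M] (n : ℕ) :
    (n : ℕ∞) ≤ LocCoh.idealDepth I M ↔ ∀ i : ℕ, i < n → Subsingleton (LocCoh.H I i M) := by
  by_cases hIM : I • (⊤ : Submodule R M) = ⊤
  · constructor
    · intro _ i _
      exact subsingleton_H_of_smul_top_eq_top I M hIM i
    · intro _
      rw [LocCoh.idealDepth, if_pos hIM]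
      exact le_top
  · constructor
    · intro h i hi
      apply subsingleton_of_lt_idealDepth I i M hIM
      exact lt_of_lt_of_le (by exact_mod_cast hi) h
    · intro h
      by_contra hlt
      rw [not_le] at hlt
      obtain ⟨t, ht⟩ : ∃ t : ℕ, LocCoh.idealDepth I M = t := by
        cases hd : LocCoh.idealDepth I M with
        | top => rw [hd] at hlt; exact absurd hlt (not_lt.2 le_top)
        | coe t => exact ⟨t, rfl⟩
      rw [ht] at hlt
      have htn : t < n := by exact_mod_cast hlt
      haveI := h t htn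
      haveI := Groth.Agent.S11649.nontrivial_H_at_idealDepth R I M t ht
      exact false_of_nontrivial_of_subsingleton (LocCoh.H I t M)

end Groth.Agent.Lib.Helper2.HZDepth1
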