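import Mathlib
import Groth.Agent.Lib.Helper28.QCohGlobal
import Groth.Agent.Lib.Helper2.CechLow4

/-!
# Sections of a quasi-coherent module as modules over the global functions
-/

set_option autoImplicit false
universe u

open CategoryTheory CategoryTheory.Limits AlgebraicGeometry Opposite TopologicalSpace

namespace Groth.Agent.Lib.Helper2.CechGeo1

open Groth.Agent.Lib.Helper28.QCohLoc

variable {X : Scheme.{u}} (F : X.Modules)

/-- sections over `V`, as a module over the global functions. -/
def SecA (V : X.Opens) : Type u := Γ(F, V)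

noncomputable instance (V : X.Opens) : AddCommGroup (SecA F V) :=
  inferInstanceAs (AddCommGroup Γ(F, V))

noncomputable instance (V : X.Opens) : Module Γ(X, ⊤) (SecA F V) :=
  Module.compHom Γ(F, V) (X.presheaf.map (homOfLE (le_top : V ≤ ⊤)).op).hom

/-- view a section as an element of `SecA`. -/
def toSecA {V : X.Opens} (x : Γ(F, V)) : SecA F V := x

/-- view an element of `SecA` as a section. -/
def ofSecA {V : X.Opens} (x : SecA F V) : Γ(F, V) := x

theorem smul_def (V : X.Opens) (a : Γ(X, ⊤)) (x : SecA F V) :
    a • x = toSecA F (resO (le_top : V ≤ ⊤) a • ofSecA F x) := rfl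

/-- restriction as a linear map over the global functions. -/
noncomputable def resL {V W : X.Opens} (h : W ≤ V) : SecA F V →ₗ[Γ(X, ⊤)] SecA F W where
  toFun x := toSecA F (res F h (ofSecA F x))
  map_add' x y := map_add _ (ofSecA F x) (ofSecA F y)
  map_smul' a x := by
    change toSecA F (res F h (resO (le_top : V ≤ ⊤) a • ofSecA F x)) =
      toSecA F (resO (le_top : W ≤ ⊤) a • res F h (ofSecA F x))
    rw [res_smul, resO_resO]

theorem resL_apply {V W : X.Opens} (h : W ≤ V) (x : SecA F V) :
    resL F h x = toSecA F (res F h (ofSecA F x)) := rfl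

theorem resL_resL {V W W' : X.Opens} (h : W ≤ V) (h' : W' ≤ W) (x : SecA F V) :
    resL F h' (resL F h x) = resL F (h'.trans h) x := by
  rw [resL_apply, resL_apply, resL_apply]
  exact congrArg (toSecA F) (res_res F h h' (ofSecA F x))

theorem smul_pow_def (V : X.Opens) (a : Γ(X, ⊤)) (k : ℕ) (x : SecA F V) :
    (a ^ k) • x = toSecA F ((resO (le_top : V ≤ ⊤) a) ^ k • ofSecA F x) := by
  rw [smul_def, resO_pow]

end Groth.Agent.Lib.Helper2.CechGeo1
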