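import Mathlib
import Groth.Agent.Lib.Helper2.CechGeo1

/-!
# Restriction to a basic open is a localization (quasi-compact quasi-separated opens); gluing
-/

set_option autoImplicit false
universe u

open CategoryTheory CategoryTheory.Limits AlgebraicGeometry Opposite TopologicalSpace

namespace Groth.Agent.Lib.Helper2.CechGeo2

open Groth.Agent.Lib.Helper28.QCohLoc Groth.Agent.Lib.Helper2.CechGeo1
  Groth.Agent.Lib.Helper2.CechLow3

variable {X : Scheme.{u}} (F : X.Modules)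

theorem isUnit_resO_of_le (f : Γ(X, ⊤)) (W : X.Opens) (hW : W ≤ X.basicOpen f) :
    IsUnit (resO (le_top : W ≤ ⊤) f) := by
  have h1 : IsUnit (resO (X.basicOpen_le f) f) :=
    RingedSpace.isUnit_res_basicOpen X.toRingedSpace f
  have h2 : resO (le_top : W ≤ ⊤) f = resO hW (resO (X.basicOpen_le f) f) :=
    (resO_resO _ _ f).symm
  rw [h2]
  exact h1.map (X.presheaf.map (homOfLE hW).op).hom

theorem smul_bijective_of_isUnit {W : X.Opens} (r : Γ(X, W)) (hr : IsUnit r) :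
    Function.Bijective (fun x : Γ(F, W) => r • x) := by
  obtain ⟨u, rfl⟩ := hr
  constructor
  · intro x y hxy
    have := congrArg (fun z => ((u⁻¹ : Γ(X, W)ˣ) : Γ(X, W)) • z) hxy
    simpa [smul_smul] using this
  · intro y
    exact ⟨((u⁻¹ : Γ(X, W)ˣ) : Γ(X, W)) • y, by simp [smul_smul]⟩

theorem isLocalizedModule_resL [F.IsQuasicoherent] (f : Γ(X, ⊤)) (V W : X.Opens)
    (hV : IsCompact (V : Set X)) (hV' : IsQuasiSeparated (V : Set X)) (hWV : W ≤ V)
    (hW : W = X.basicOpen (resO (le_top : V ≤ ⊤) f)) :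
    IsLocalizedModule (Submonoid.powers f) (resL F hWV) := by
  subst hW
  have hle : X.basicOpen (resO (le_top : V ≤ ⊤) f) ≤ X.basicOpen f := by
    rw [basicOpen_resO]
    exact inf_le_right
  have hres : resO (le_top : X.basicOpen (resO (le_top : V ≤ ⊤) f) ≤ ⊤) f =
      resO (X.basicOpen_le (resO (le_top : V ≤ ⊤) f)) (resO (le_top : V ≤ ⊤) f) :=
    (resO_resO _ _ f).symm
  refine ⟨?_, ?_, ?_⟩
  · rintro ⟨_, k, rfl⟩
    rw [Module.End.isUnit_iff]
    have hu : IsUnit (resO (le_top : X.basicOpen (resO (le_top : V ≤ ⊤) f) ≤ ⊤) (f ^ k)) := by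
      rw [resO_pow]
      exact (isUnit_resO_of_le f _ hle).pow k
    have hb := smul_bijective_of_isUnit F _ hu
    exact ⟨fun x y hxy => hb.1 hxy, fun y => hb.2 y⟩
  · intro y
    obtain ⟨k, x, hx⟩ := exists_pow_smul_eq_res_of_qcqs F hV hV' (resO (le_top : V ≤ ⊤) f)
      (ofSecA F y)
    refine ⟨⟨toSecA F x, ⟨f ^ k, k, rfl⟩⟩, ?_⟩
    change (f ^ k) • y = resL F hWV (toSecA F x)
    rw [smul_pow_def, resL_apply, hres]
    exact congrArg (toSecA F) hx.symm
  · intro x₁ x₂ h12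
    have h0 : res F (X.basicOpen_le (resO (le_top : V ≤ ⊤) f)) (ofSecA F x₁ - ofSecA F x₂) = 0 := by
      rw [res_sub]
      exact sub_eq_zero.2 h12
    obtain ⟨k, hk⟩ := exists_pow_smul_eq_zero_of_isCompact F hV (resO (le_top : V ≤ ⊤) f) _ h0
    refine ⟨⟨f ^ k, k, rfl⟩, ?_⟩
    change (f ^ k) • x₁ = (f ^ k) • x₂
    rw [smul_pow_def, smul_pow_def]
    rw [smul_sub] at hk
    exact congrArg (toSecA F) (sub_eq_zero.1 hk)

end Groth.Agent.Lib.Helper2.CechGeo2
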