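import Mathlib
import Groth.Agent.Lib.Helper2.CechGeo2
import Groth.Prelude.Def_ega3

/-!
# Gluing over a union of two opens; the invariant `JInv` for the extended Čech complex of
global sections
-/

set_option autoImplicit false
universe u

open CategoryTheory CategoryTheory.Limits AlgebraicGeometry Opposite TopologicalSpace

namespace Groth.Agent.Lib.Helper2.CechGeo3

open Groth.Agent.Lib.Helper28.QCohLoc Groth.Agent.Lib.Helper2.CechGeo1
  Groth.Agent.Lib.Helper2.CechGeo2 Groth.Agent.Lib.Helper2.CechLow3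
  Groth.Agent.Lib.Helper2.CechLow2 Groth.Agent.Lib.Helper2.CechLow4

variable {X : Scheme.{u}} (F : X.Modules)

section Glue

variable (U B : X.Opens)

/-- sections over `B ⊔ U` are compatible pairs. -/
noncomputable def glueMap : SecA F (B ⊔ U) →ₗ[Γ(X, ⊤)]
    Pb (resL F (inf_le_left : U ⊓ B ≤ U)) (resL F (inf_le_right : U ⊓ B ≤ B)) :=
  ((resL F (le_sup_right : U ≤ B ⊔ U)).prod (resL F (le_sup_left : B ≤ B ⊔ U))).codRestrict _
    (fun x => by
      rw [mem_Pb]
      change resL F _ (resL F _ x) = resL F _ (resL F _ x)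
      rw [resL_resL, resL_resL])

theorem glueMap_val (x : SecA F (B ⊔ U)) :
    (glueMap F U B x).1 = (resL F (le_sup_right : U ≤ B ⊔ U) x, resL F (le_sup_left : B ≤ B ⊔ U) x) :=
  rfl

/-- the two-element cover. -/
def cov (b : Bool) : X.Opens := cond b B U

theorem cov_le (b : Bool) : cov U B b ≤ B ⊔ U := by
  cases b
  · exact le_sup_right
  · exact le_sup_left

theorem le_iSup_cov : B ⊔ U ≤ iSup (cov U B) := by
  rw [iSup_bool_eq]
  exact le_rfl

theorem glueMap_injective : Function.Injective (glueMap F U B) := by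
  rw [injective_iff_map_eq_zero]
  intro x hx
  have hx' := congrArg Subtype.val hx
  rw [glueMap_val] at hx'
  have h1 : resL F (le_sup_right : U ≤ B ⊔ U) x = 0 := congrArg Prod.fst hx'
  have h2 : resL F (le_sup_left : B ≤ B ⊔ U) x = 0 := congrArg Prod.snd hx'
  have := eq_of_locally_eq F (cov U B) (B ⊔ U) (cov_le U B) (le_iSup_cov U B) (ofSecA F x) 0 (by
    intro b
    rw [res_zero]
    cases b
    · exact h1
    · exact h2)
  exact this

theorem glueMap_surjective : Function.Surjective (glueMap F U B) := by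
  rintro ⟨⟨d, m'⟩, hdm⟩
  rw [mem_Pb] at hdm
  change resL F _ d = resL F _ m' at hdm
  have hdm' : res F (inf_le_left : U ⊓ B ≤ U) (ofSecA F d) =
      res F (inf_le_right : U ⊓ B ≤ B) (ofSecA F m') := hdm
  let sf : ∀ b : Bool, Γ(F, cov U B b) := fun b =>
    match b with
    | true => ofSecA F m'
    | false => ofSecA F d
  obtain ⟨x, hx⟩ := exists_gluing F (cov U B) (B ⊔ U) (cov_le U B) (le_iSup_cov U B) sf (by
    intro i j
    cases i <;> cases j
    · rfl
    · exact hdm'
    · have h1 : (B ⊓ U : X.Opens) ≤ U ⊓ B := le_of_eq (inf_comm B U)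
      have h2 := congrArg (res F h1) hdm'
      rw [res_res, res_res] at h2
      exact h2.symm
    · rfl)
  refine ⟨toSecA F x, ?_⟩
  apply Subtype.ext
  rw [glueMap_val]
  apply Prod.ext
  · exact hx false
  · exact hx true

/-- the gluing equivalence. -/
noncomputable def glueEquiv : SecA F (B ⊔ U) ≃ₗ[Γ(X, ⊤)]
    Pb (resL F (inf_le_left : U ⊓ B ≤ U)) (resL F (inf_le_right : U ⊓ B ≤ B)) :=
  LinearEquiv.ofBijective (glueMap F U B) ⟨glueMap_injective F U B, glueMap_surjective F U B⟩

end Glue

section Top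

/-- the global sections, as in the statements, are `SecA F ⊤`. -/
noncomputable def topIso : (F.val.obj (op ⊤)) ≃ₗ[Γ(X, ⊤)] SecA F ⊤ where
  toFun x := toSecA F x
  invFun x := ofSecA F x
  left_inv _ := rfl
  right_inv _ := rfl
  map_add' _ _ := rfl
  map_smul' a x := by
    change toSecA F (a • x) = toSecA F (resO (le_top : (⊤ : X.Opens) ≤ ⊤) a • x)
    have : resO (le_top : (⊤ : X.Opens) ≤ ⊤) a = a := by
      unfold resO
      have h : (homOfLE (le_top : (⊤ : X.Opens) ≤ ⊤)).op = 𝟙 (op ⊤) := rfl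
      rw [h, X.presheaf.map_id]
      rfl
    rw [this]

/-- restriction of global sections. -/
noncomputable def topL (V : X.Opens) : (F.val.obj (op ⊤)) →ₗ[Γ(X, ⊤)] SecA F V :=
  resL F (le_top : V ≤ ⊤) ∘ₗ (topIso F).toLinearMap

theorem topL_apply (V : X.Opens) (x : F.val.obj (op ⊤)) :
    topL F V x = resL F (le_top : V ≤ ⊤) (topIso F x) := rfl

theorem resL_topL {V W : X.Opens} (h : W ≤ V) (x : F.val.obj (op ⊤)) :
    resL F h (topL F V x) = topL F W x := by
  rw [topL_apply, topL_apply, resL_resL]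

end Top

end Groth.Agent.Lib.Helper2.CechGeo3
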