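import Mathlib
import Groth.Agent.Lib.Helper2.CechGeo3

/-!
# The invariant `JInv` for the extended Čech complex of the global sections of a quasi-coherent
module on a quasi-compact separated scheme
-/

set_option autoImplicit false
universe u

open CategoryTheory CategoryTheory.Limits AlgebraicGeometry Opposite TopologicalSpace

namespace Groth.Agent.Lib.Helper2.CechGeo4

open Groth.Agent.Lib.Helper28.QCohLoc Groth.Agent.Lib.Helper2.CechGeo1
  Groth.Agent.Lib.Helper2.CechGeo2 Groth.Agent.Lib.Helper2.CechGeo3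
  Groth.Agent.Lib.Helper2.CechLow3 Groth.Agent.Lib.Helper2.CechLow2
  Groth.Agent.Lib.Helper2.CechLow4 Groth.Agent.Lib.Helper2.LCHom
  Groth.Agent.Lib.Helper2.LCCech1

section Congr

variable {R : Type u} [CommRing R] {M D D₂ : Type u} [AddCommGroup M] [Module R M]
  [AddCommGroup D] [Module R D] [AddCommGroup D₂] [Module R D₂]

theorem JInv.congr {C : DRing.Cx R} {n : ℤ} {ρ : M →ₗ[R] D} (h : JInv C n ρ) (e : D ≃ₗ[R] D₂)
    (ρ₂ : M →ₗ[R] D₂) (hρ : ∀ m, e (ρ m) = ρ₂ m) : JInv C n ρ₂ := by
  obtain ⟨e₀, e₁, he⟩ := h.ex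
  refine ⟨h.zero_lt, e₀, e₁.trans e, ?_⟩
  intro c
  rw [LinearEquiv.trans_apply, he, hρ]

end Congr

variable {X : Scheme.{u}} (F : X.Modules)

/-- the union of the basic opens of a list of global functions. -/
def Uof : List Γ(X, ⊤) → X.Opens
  | [] => ⊥
  | f :: fs => X.basicOpen f ⊔ Uof fs

theorem isCompact_Uof [CompactSpace X] : ∀ fs : List Γ(X, ⊤), IsCompact (Uof fs : Set X)
  | [] => by
    change IsCompact ((⊥ : X.Opens) : Set X)
    rw [Opens.coe_bot]
    exact isCompact_empty
  | f :: fs => by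
    change IsCompact ((X.basicOpen f ⊔ Uof fs : X.Opens) : Set X)
    rw [Opens.coe_sup]
    refine IsCompact.union ?_ (isCompact_Uof fs)
    exact isCompact_basicOpen X (U := ⊤) isCompact_univ f

theorem subsingleton_SecA_bot : Subsingleton (SecA F (⊥ : X.Opens)) := by
  refine ⟨fun x y => ?_⟩
  exact eq_of_locally_eq F (fun i : Empty => (⊥ : X.Opens)) ⊥ (fun i => le_rfl)
    (by simp) (ofSecA F x) (ofSecA F y) (fun i => i.elim)

theorem jinv [CompactSpace X] [X.IsSeparated] [F.IsQuasicoherent] :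
    ∀ fs : List Γ(X, ⊤),
      JInv (DerCA.extCech (ModuleCat.of Γ(X, ⊤) (F.val.obj (op ⊤))) fs) 0 (topL F (Uof fs))
  | [] => by
    haveI : Subsingleton (SecA F (Uof ([] : List Γ(X, ⊤)))) := subsingleton_SecA_bot F
    have hz : ∀ m : ℤ, m ≠ 0 → Subsingleton (((HomologicalComplex.single
        (ModuleCat.{u} Γ(X, ⊤)) (ComplexShape.up ℤ) 0).obj
        (ModuleCat.of Γ(X, ⊤) (F.val.obj (op ⊤)))).X m) := fun m hm =>
      ModuleCat.subsingleton_of_isZero (HomologicalComplex.isZero_single_obj_X _ _ _ _ hm)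
    refine ⟨fun m hm => hz m (by omega), ?_⟩
    haveI : Subsingleton ((DerCA.extCech (ModuleCat.of Γ(X, ⊤) (F.val.obj (op ⊤))) []).X (0 + 1)) :=
      hz (0 + 1) (by omega)
    refine ⟨(HomologicalComplex.singleObjXSelf (ComplexShape.up ℤ) 0
      (ModuleCat.of Γ(X, ⊤) (F.val.obj (op ⊤)))).toLinearEquiv,
      LinearEquiv.ofSubsingleton _ _, fun c => Subsingleton.elim _ _⟩
  | f :: fs => by
    have ih := jinv fs
    have hU := isCompact_Uof fs
    have hqs : ∀ V : X.Opens, IsQuasiSeparated (V : Set X) := fun V =>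
      isQuasiSeparated_univ.of_subset (Set.subset_univ _)
    haveI h1 : IsLocalizedModule (Submonoid.powers f) (topL F (X.basicOpen f)) := by
      haveI := isLocalizedModule_resL F f ⊤ (X.basicOpen f) isCompact_univ (hqs ⊤) le_top (by
        rw [basicOpen_resO, top_inf_eq])
      exact IsLocalizedModule.of_linearEquiv_right (Submonoid.powers f)
        (resL F (le_top : X.basicOpen f ≤ ⊤)) (topIso F)
    haveI h2 : IsLocalizedModule (Submonoid.powers f)
        (resL F (inf_le_left : Uof fs ⊓ X.basicOpen f ≤ Uof fs)) :=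
      isLocalizedModule_resL F f (Uof fs) (Uof fs ⊓ X.basicOpen f) hU (hqs _) inf_le_left (by
        rw [basicOpen_resO])
    have hcomm : ∀ m, resL F (inf_le_right : Uof fs ⊓ X.basicOpen f ≤ X.basicOpen f)
        (topL F (X.basicOpen f) m) =
        resL F (inf_le_left : Uof fs ⊓ X.basicOpen f ≤ Uof fs) (topL F (Uof fs) m) := by
      intro m
      rw [resL_topL, resL_topL]
    have hstep := JInv.step f (topL F (Uof fs)) (topL F (X.basicOpen f))
      (resL F (inf_le_left : Uof fs ⊓ X.basicOpen f ≤ Uof fs))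
      (resL F (inf_le_right : Uof fs ⊓ X.basicOpen f ≤ X.basicOpen f)) hcomm ih
    refine JInv.congr hstep (glueEquiv F (Uof fs) (X.basicOpen f)).symm
      (topL F (X.basicOpen f ⊔ Uof fs)) ?_
    intro m
    rw [LinearEquiv.symm_apply_eq]
    apply Subtype.ext
    change _ = (glueMap F (Uof fs) (X.basicOpen f) _).1
    rw [sig_val, glueMap_val, resL_topL, resL_topL]

end Groth.Agent.Lib.Helper2.CechGeo4
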