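import Mathlib
import Groth.Agent.Lib.Helper2.KosCech1
import Groth.Agent.Lib.Helper2.LCCech1

/-!
# The cone step for colimit presentations (Koszul ⟶ Čech)
-/

set_option autoImplicit false
universe u

open CategoryTheory CategoryTheory.Limits CochainComplex HomComplex DerCA

namespace Groth.Agent.Lib.Helper2.KosCech2

open Groth.Agent.Lib.Helper2.KosCech1

variable {R : Type u} [CommRing R]

section ConeElt

variable {K L : DRing.Cx R} (φ : K ⟶ L)

/-- left inclusion into the cone, elementwise. -/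
noncomputable def cinl (p : ℤ) : K.X (p + 1) →ₗ[R] (mappingCone φ).X p :=
  ((mappingCone.inl φ).v (p + 1) p (by omega)).hom

/-- right inclusion into the cone, elementwise. -/
noncomputable def cinr (p : ℤ) : L.X p →ₗ[R] (mappingCone φ).X p :=
  ((mappingCone.inr φ).f p).hom

/-- first projection from the cone, elementwise. -/
noncomputable def cfst (p : ℤ) : (mappingCone φ).X p →ₗ[R] K.X (p + 1) :=
  ((mappingCone.fst φ).1.v p (p + 1) rfl).hom

/-- second projection from the cone, elementwise. -/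
noncomputable def csnd (p : ℤ) : (mappingCone φ).X p →ₗ[R] L.X p :=
  ((mappingCone.snd φ).v p p (add_zero p)).hom

theorem cfst_cinl (p : ℤ) (a : K.X (p + 1)) : cfst φ p (cinl φ p a) = a := by
  have := congrArg (fun g => g.hom a) (mappingCone.inl_v_fst_v φ (p + 1) p rfl)
  exact this

theorem csnd_cinl (p : ℤ) (a : K.X (p + 1)) : csnd φ p (cinl φ p a) = 0 := by
  have := congrArg (fun g => g.hom a) (mappingCone.inl_v_snd_v φ (p + 1) p (by omega))
  exact this

theorem cfst_cinr (p : ℤ) (b : L.X p) : cfst φ p (cinr φ p b) = 0 := by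
  have := congrArg (fun g => g.hom b) (mappingCone.inr_f_fst_v φ p (p + 1) rfl)
  exact this

theorem csnd_cinr (p : ℤ) (b : L.X p) : csnd φ p (cinr φ p b) = b := by
  have := congrArg (fun g => g.hom b) (mappingCone.inr_f_snd_v φ p)
  exact this

theorem decomp (p : ℤ) (x : (mappingCone φ).X p) :
    x = cinl φ p (cfst φ p x) + cinr φ p (csnd φ p x) := by
  have := congrArg (fun g => g.hom x) (mappingCone.id_X φ p (p + 1) rfl)
  exact this.symm

end ConeElt

section ConeMap

variable {K₁ L₁ K₂ L₂ : DRing.Cx R} (φ₁ : K₁ ⟶ L₁) (φ₂ : K₂ ⟶ L₂) (a : K₁ ⟶ K₂) (b : L₁ ⟶ L₂)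
  (comm : φ₁ ≫ b = a ≫ φ₂)

theorem map_cinl (p : ℤ) (x : K₁.X (p + 1)) :
    ((mappingCone.map φ₁ φ₂ a b comm).f p).hom (cinl φ₁ p x) =
      cinl φ₂ p ((a.f (p + 1)).hom x) := by
  have h : (mappingCone.inl φ₁).v (p + 1) p (by omega) ≫ (mappingCone.map φ₁ φ₂ a b comm).f p =
      a.f (p + 1) ≫ (mappingCone.inl φ₂).v (p + 1) p (by omega) := by
    simp [mappingCone.map]
  have := congrArg (fun g => g.hom x) h
  exact this

theorem map_cinr (p : ℤ) (y : L₁.X p) :
    ((mappingCone.map φ₁ φ₂ a b comm).f p).hom (cinr φ₁ p y) = cinr φ₂ p ((b.f p).hom y) := by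
  have h : (mappingCone.inr φ₁).f p ≫ (mappingCone.map φ₁ φ₂ a b comm).f p =
      b.f p ≫ (mappingCone.inr φ₂).f p := by
    simp [mappingCone.map]
  have := congrArg (fun g => g.hom y) h
  exact this

theorem cfst_map (p : ℤ) (x : (mappingCone φ₁).X p) :
    cfst φ₂ p (((mappingCone.map φ₁ φ₂ a b comm).f p).hom x) =
      (a.f (p + 1)).hom (cfst φ₁ p x) := by
  conv_lhs => rw [decomp φ₁ p x]
  rw [map_add, map_cinl, map_cinr, map_add, cfst_cinl, cfst_cinr, add_zero]

theorem csnd_map (p : ℤ) (x : (mappingCone φ₁).X p) :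
    csnd φ₂ p (((mappingCone.map φ₁ φ₂ a b comm).f p).hom x) = (b.f p).hom (csnd φ₁ p x) := by
  conv_lhs => rw [decomp φ₁ p x]
  rw [map_add, map_cinl, map_cinr, map_add, csnd_cinl, csnd_cinr, zero_add]

theorem map_congr {a a' : K₁ ⟶ K₂} {b b' : L₁ ⟶ L₂} (ha : a = a') (hb : b = b')
    (comm : φ₁ ≫ b = a ≫ φ₂) (comm' : φ₁ ≫ b' = a' ≫ φ₂) :
    mappingCone.map φ₁ φ₂ a b comm = mappingCone.map φ₁ φ₂ a' b' comm' := by
  subst ha hb
  rfl

end ConeMap

section Div

variable (f : R)

instance isIso_smul_locFunctor (S : Submonoid R) (s : S) (X : ModuleCat.{u} R) :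
    IsIso ((s : R) • 𝟙 ((locFunctor S).obj X)) := by
  have hu := IsLocalizedModule.map_units (LocalizedModule.mkLinearMap S X) s
  rw [Module.End.isUnit_iff] at hu
  rw [ConcreteCategory.isIso_iff_bijective]
  exact hu

instance isIso_smul_locCx (S : Submonoid R) (s : S) (D : DRing.Cx R) :
    IsIso ((s : R) • 𝟙 ((locCx S).obj D)) := by
  haveI : ∀ i, IsIso (((s : R) • 𝟙 ((locCx S).obj D)).f i) := by
    intro i
    exact isIso_smul_locFunctor S s (D.X i)
  exact HomologicalComplex.Hom.isIso_of_components _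

/-- division by `f ^ n` on the localized complex. -/
noncomputable def divf (n : ℕ) (D : DRing.Cx R) :
    (locCx (Submonoid.powers f)).obj D ⟶ (locCx (Submonoid.powers f)).obj D :=
  haveI := isIso_smul_locCx (Submonoid.powers f) ⟨f ^ n, n, rfl⟩ D
  inv ((f ^ n) • 𝟙 ((locCx (Submonoid.powers f)).obj D))

theorem smul_divf (n : ℕ) (D : DRing.Cx R) : (f ^ n) • divf f n D = 𝟙 _ := by
  haveI := isIso_smul_locCx (Submonoid.powers f) ⟨f ^ n, n, rfl⟩ D
  have h : ((f ^ n) • 𝟙 ((locCx (Submonoid.powers f)).obj D)) ≫ divf f n D = 𝟙 _ :=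
    IsIso.hom_inv_id _
  rw [Linear.smul_comp, Category.id_comp] at h
  exact h

theorem divf_mul (n m : ℕ) (h : n ≤ m) (D : DRing.Cx R) :
    (f ^ (m - n)) • divf f m D = divf f n D := by
  haveI := isIso_smul_locCx (Submonoid.powers f) ⟨f ^ n, n, rfl⟩ D
  have h1 : ((f ^ n) • 𝟙 ((locCx (Submonoid.powers f)).obj D)) ≫ ((f ^ (m - n)) • divf f m D) =
      𝟙 _ := by
    rw [Linear.smul_comp, Category.id_comp, smul_smul, ← pow_add, Nat.add_sub_cancel' h, smul_divf]
  unfold divf
  exact (IsIso.eq_inv_of_hom_inv_id h1)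

end Div

section Step

variable (f : R) {K : ℕ → DRing.Cx R} {t : ∀ n m, n ≤ m → (K n ⟶ K m)} {D : DRing.Cx R}
  {θ : ∀ n, K n ⟶ D}

/-- the cones of multiplication by `f ^ n`. -/
noncomputable abbrev stepK (K : ℕ → DRing.Cx R) (n : ℕ) : DRing.Cx R :=
  mappingCone (f ^ n • 𝟙 (K n))

/-- transition maps between the cones. -/
noncomputable def stepT (t : ∀ n m, n ≤ m → (K n ⟶ K m)) (n m : ℕ) (h : n ≤ m) :
    stepK f K n ⟶ stepK f K m :=
  mappingCone.map (f ^ n • 𝟙 (K n)) (f ^ m • 𝟙 (K m)) (t n m h) (f ^ (m - n) • t n m h) (by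
    simp only [Linear.smul_comp, Linear.comp_smul, Category.id_comp, Category.comp_id, smul_smul,
      ← pow_add, Nat.sub_add_cancel h])

/-- the cone of the localization map at `f`. -/
noncomputable abbrev coneStep (D : DRing.Cx R) : DRing.Cx R :=
  mappingCone (locCxUnit (Submonoid.powers f) D)

/-- `x ↦ θ_n(x) / f ^ n`. -/
noncomputable def psi (θ : ∀ n, K n ⟶ D) (n : ℕ) : K n ⟶ (locCx (Submonoid.powers f)).obj D :=
  θ n ≫ locCxUnit (Submonoid.powers f) D ≫ divf f n D

theorem psi_comm (θ : ∀ n, K n ⟶ D) (n : ℕ) :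
    (f ^ n • 𝟙 (K n)) ≫ psi f θ n = θ n ≫ locCxUnit (Submonoid.powers f) D := by
  unfold psi
  rw [Linear.smul_comp, Category.id_comp, ← Linear.comp_smul, ← Linear.comp_smul, smul_divf,
    Category.comp_id]

/-- the comparison map of the cones. -/
noncomputable def stepθ (θ : ∀ n, K n ⟶ D) (n : ℕ) : stepK f K n ⟶ coneStep f D :=
  mappingCone.map (f ^ n • 𝟙 (K n)) (locCxUnit (Submonoid.powers f) D) (θ n) (psi f θ n)
    (psi_comm f θ n)

theorem smul_psi_apply (θ : ∀ n, K n ⟶ D) (n : ℕ) (p : ℤ) (y : (K n).X p) :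
    (f ^ n) • ((psi f θ n).f p).hom y =
      LocalizedModule.mkLinearMap (Submonoid.powers f) (D.X p) (((θ n).f p).hom y) := by
  have h := psi_comm f θ n
  have h2 := congrArg (fun g : K n ⟶ (locCx (Submonoid.powers f)).obj D => (g.f p).hom y) h
  simp only [HomologicalComplex.comp_f, ModuleCat.hom_comp, LinearMap.comp_apply] at h2
  rw [← map_smul]
  exact h2

theorem psi_trans (P : Pres K t D θ) (n m : ℕ) (h : n ≤ m) :
    (f ^ (m - n) • t n m h) ≫ psi f θ m = psi f θ n := by
  unfold psi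
  rw [Linear.smul_comp, ← Category.assoc, P.t_θ, ← Linear.comp_smul, ← Linear.comp_smul,
    divf_mul f n m h]

theorem smul_inj (S : Submonoid R) (s : S) (X : ModuleCat.{u} R)
    (b : ((locFunctor S).obj X : Type u)) (hb : (s : R) • b = 0) : b = 0 := by
  have := IsLocalizedModule.smul_injective (LocalizedModule.mkLinearMap S X) s
  apply this
  change (s : R) • b = (s : R) • (0 : LocalizedModule S X)
  rw [smul_zero]
  exact hb

theorem loc_aux (X : Type u) [AddCommGroup X] [Module R X]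
    (b z : LocalizedModule (Submonoid.powers f) X) (c : X) (k n : ℕ) (hk : k ≤ n)
    (hc : (f ^ k) • b = LocalizedModule.mkLinearMap (Submonoid.powers f) X c)
    (hz : (f ^ n) • z = (f ^ (n - k)) • LocalizedModule.mkLinearMap (Submonoid.powers f) X c) :
    z = b := by
  apply IsLocalizedModule.smul_injective (LocalizedModule.mkLinearMap (Submonoid.powers f) X)
    (⟨f ^ n, n, rfl⟩ : Submonoid.powers f)
  change (f ^ n) • z = (f ^ n) • b
  rw [hz, ← hc, smul_smul, ← pow_add, Nat.sub_add_cancel hk]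

theorem Pres.step (P : Pres K t D θ) :
    Pres (stepK f K) (stepT f t) (coneStep f D) (stepθ f θ) where
  t_self n := by
    unfold stepT
    rw [← mappingCone.map_id]
    apply map_congr
    · exact P.t_self n
    · rw [Nat.sub_self, pow_zero, one_smul, P.t_self]
  t_comp n m k h₁ h₂ := by
    unfold stepT
    rw [← mappingCone.map_comp]
    apply map_congr
    · exact P.t_comp n m k h₁ h₂
    · rw [Linear.smul_comp, Linear.comp_smul, smul_smul, P.t_comp, ← pow_add]
      congr 2
      omega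
  t_θ n m h := by
    unfold stepT stepθ
    rw [← mappingCone.map_comp]
    apply map_congr
    · exact P.t_θ n m h
    · exact psi_trans f P n m h
  surj p x := by
    obtain ⟨n₁, a₁, ha₁⟩ := P.surj (p + 1) (cfst _ p x)
    obtain ⟨c, k, hc⟩ : ∃ c : D.X p, ∃ k : ℕ,
        (f ^ k) • csnd (locCxUnit (Submonoid.powers f) D) p x =
          LocalizedModule.mkLinearMap (Submonoid.powers f) (D.X p) c := by
      obtain ⟨⟨c, ⟨_, k, rfl⟩⟩, hcs⟩ := IsLocalizedModule.surj (Submonoid.powers f)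
        (LocalizedModule.mkLinearMap (Submonoid.powers f) (D.X p))
        (csnd (locCxUnit (Submonoid.powers f) D) p x)
      exact ⟨c, k, hcs⟩
    obtain ⟨n₂, c₂, hc₂⟩ := P.surj p c
    let n := n₁ + n₂ + k
    have h₁ : n₁ ≤ n := by omega
    have h₂ : n₂ ≤ n := by omega
    refine ⟨n, cinl _ p (((t n₁ n h₁).f (p + 1)).hom a₁) +
      cinr _ p ((f ^ (n - k)) • ((t n₂ n h₂).f p).hom c₂), ?_⟩
    unfold stepθ
    rw [map_add, map_cinl, map_cinr, P.θ_apply, ha₁]
    conv_rhs => rw [decomp _ p x]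
    congr 2
    refine loc_aux f (D.X p) _ _ c k n (by omega) hc ?_
    have e := smul_psi_apply f θ n p ((f ^ (n - k)) • ((t n₂ n h₂).f p).hom c₂)
    have e2 : ((θ n).f p).hom ((f ^ (n - k)) • ((t n₂ n h₂).f p).hom c₂) = (f ^ (n - k)) • c := by
      rw [map_smul, P.θ_apply, hc₂]
    rw [e2, (LocalizedModule.mkLinearMap (Submonoid.powers f) (D.X p)).map_smul] at e
    exact e
  inj p n y hy := by
    have h1 : ((θ n).f (p + 1)).hom (cfst _ p y) = 0 := by
      have := congrArg (cfst (locCxUnit (Submonoid.powers f) D) p) hy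
      unfold stepθ at this
      rw [cfst_map, map_zero] at this
      exact this
    have h2 : ((psi f θ n).f p).hom (csnd _ p y) = 0 := by
      have := congrArg (csnd (locCxUnit (Submonoid.powers f) D) p) hy
      unfold stepθ at this
      rw [csnd_map, map_zero] at this
      exact this
    obtain ⟨m₁, hm₁, hm₁0⟩ := P.inj (p + 1) n _ h1
    have h3 : LocalizedModule.mkLinearMap (Submonoid.powers f) (D.X p)
        (((θ n).f p).hom (csnd _ p y)) = 0 := by
      rw [← smul_psi_apply, h2, smul_zero]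
      rfl
    obtain ⟨⟨_, k, rfl⟩, hk⟩ := (IsLocalizedModule.eq_zero_iff (Submonoid.powers f)
      (LocalizedModule.mkLinearMap (Submonoid.powers f) (D.X p))).1 h3
    change (f ^ k) • ((θ n).f p).hom (csnd _ p y) = 0 at hk
    rw [← map_smul] at hk
    obtain ⟨m₂, hm₂, hm₂0⟩ := P.inj p n _ hk
    let m := m₁ + m₂ + k
    have hnm : n ≤ m := by omega
    have h₁ : m₁ ≤ m := by omega
    have h₂ : m₂ ≤ m := by omega
    refine ⟨m, hnm, ?_⟩
    unfold stepT
    rw [decomp _ p y, map_add, map_cinl, map_cinr]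
    have e1 : ((t n m hnm).f (p + 1)).hom (cfst _ p y) = 0 := by
      rw [← P.t_apply n m₁ m hm₁ h₁, hm₁0, map_zero]
    have e2 : ((f ^ (m - n) • t n m hnm).f p).hom (csnd _ p y) = 0 := by
      change (f ^ (m - n)) • ((t n m hnm).f p).hom (csnd _ p y) = 0
      have e3 : m - n = (m - n - k) + k := by omega
      rw [e3, pow_add, mul_smul, ← map_smul, ← P.t_apply n m₂ m hm₂ h₂, hm₂0, map_zero,
        smul_zero]
    rw [e1, e2, map_zero, map_zero, add_zero]

end Step

end Groth.Agent.Lib.Helper2.KosCech2
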