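import Mathlib
import Groth.Agent.Lib.Helper2.KosCech2
import Groth.Prelude.Def_ega3

/-!
# Koszul complexes of powers present the iterated cone of localizations
-/

set_option autoImplicit false
universe u

open CategoryTheory CategoryTheory.Limits CochainComplex HomComplex DerCA

namespace Groth.Agent.Lib.Helper2.KosCech3

open Groth.Agent.Lib.Helper2.KosCech1 Groth.Agent.Lib.Helper2.KosCech2

variable {R : Type u} [CommRing R]

/-- iterated cones of the localization maps. -/
noncomputable def coneCx (K : DRing.Cx R) : List R → DRing.Cx R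
  | [] => K
  | f :: fs => coneStep f (coneCx K fs)

/-- the comparison maps from the Koszul complexes of the powers. -/
noncomputable def kosθ (M : ModuleCat.{u} R) : ∀ (fs : List R) (n : ℕ),
    CohIII.koszulCx M (fs.map (· ^ n)) ⟶
      coneCx ((HomologicalComplex.single (ModuleCat.{u} R) (ComplexShape.up ℤ) 0).obj M) fs
  | [], _ => 𝟙 _
  | f :: fs, n => stepθ f (fun n => kosθ M fs n) n

theorem kosPres (M : ModuleCat.{u} R) : ∀ fs : List R,
    Pres (fun n => CohIII.koszulCx M (fs.map (· ^ n)))
      (fun n m h => CohIII.koszulTrans M n m h fs)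
      (coneCx ((HomologicalComplex.single (ModuleCat.{u} R) (ComplexShape.up ℤ) 0).obj M) fs)
      (kosθ M fs)
  | [] =>
    { t_self := fun n => rfl
      t_comp := fun n m k h₁ h₂ => Category.id_comp _
      t_θ := fun n m h => Category.id_comp _
      surj := fun p x => ⟨0, x, rfl⟩
      inj := fun p n y hy => ⟨n, le_rfl, hy⟩ }
  | f :: fs => Groth.Agent.Lib.Helper2.KosCech2.Pres.step f (kosPres M fs)

/-- `colim_n H^p(K(f^n; M)) ≃ H^p(coneCx M fs)`. -/
theorem koszul_lim_equiv (M : ModuleCat.{u} R) (fs : List R) (p : ℤ) :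
    Nonempty (Module.DirectLimit
      (fun n : ℕ => ((CohIII.koszulCx M (fs.map (· ^ n))).homology p : Type u))
      (fun n m h => (HomologicalComplex.homologyMap (CohIII.koszulTrans M n m h fs) p).hom)
      ≃ₗ[R] (coneCx ((HomologicalComplex.single (ModuleCat.{u} R)
        (ComplexShape.up ℤ) 0).obj M) fs).homology p) :=
  (kosPres M fs).homology_equiv p

end Groth.Agent.Lib.Helper2.KosCech3
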