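import Mathlib
import Groth.Agent.Lib.Helper2.KosCech3

/-!
# Iterated cones versus iterated cocones of the localization maps
-/

set_option autoImplicit false
universe u

open CategoryTheory CategoryTheory.Limits CochainComplex HomComplex DerCA

namespace Groth.Agent.Lib.Helper2.KosCech4

open Groth.Agent.Lib.Helper2.KosCech1 Groth.Agent.Lib.Helper2.KosCech2
  Groth.Agent.Lib.Helper2.KosCech3 Groth.Agent.Lib.Helper2.LCCech1

variable {R : Type u} [CommRing R]

section ConeIso

variable {K₁ L₁ K₂ L₂ : DRing.Cx R} (φ₁ : K₁ ⟶ L₁) (φ₂ : K₂ ⟶ L₂)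

/-- isomorphic arrows have isomorphic cones. -/
noncomputable def coneArrowIso (a : K₁ ≅ K₂) (b : L₁ ≅ L₂) (comm : φ₁ ≫ b.hom = a.hom ≫ φ₂) :
    mappingCone φ₁ ≅ mappingCone φ₂ where
  hom := mappingCone.map φ₁ φ₂ a.hom b.hom comm
  inv := mappingCone.map φ₂ φ₁ a.inv b.inv (by
    rw [← cancel_mono b.hom, Category.assoc, Iso.inv_hom_id, Category.comp_id, Category.assoc, comm,
      Iso.inv_hom_id_assoc])
  hom_inv_id := by
    rw [← mappingCone.map_comp, ← mappingCone.map_id]
    apply KosCech2.map_congr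
    · exact a.hom_inv_id
    · exact b.hom_inv_id
  inv_hom_id := by
    rw [← mappingCone.map_comp, ← mappingCone.map_id]
    apply KosCech2.map_congr
    · exact a.inv_hom_id
    · exact b.inv_hom_id

end ConeIso

section Shift

variable (f : R)

/-- the cone step is functorial for isomorphisms. -/
noncomputable def coneStepIso {X Y : DRing.Cx R} (e : X ≅ Y) : coneStep f X ≅ coneStep f Y :=
  coneArrowIso _ _ e ((locCx (Submonoid.powers f)).mapIso e)
    (locCxUnit_naturality (Submonoid.powers f) e.hom)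

/-- the cone step commutes with shifts. -/
noncomputable def coneStepShiftIso (Y : DRing.Cx R) (r : ℤ) :
    coneStep f (Y⟦r⟧) ≅ (coneStep f Y)⟦r⟧ :=
  coneArrowIso (locCxUnit (Submonoid.powers f) (Y⟦r⟧)) ((locCxUnit (Submonoid.powers f) Y)⟦r⟧')
    (Iso.refl _) (((locFunctor (Submonoid.powers f)).mapCochainComplexShiftIso r).app Y) (by
      ext i
      simp only [HomologicalComplex.comp_f, Iso.refl_hom, HomologicalComplex.id_f,
        Category.id_comp]
      erw [Category.comp_id]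
      rfl) ≪≫ (mappingCone.shiftIso (locCxUnit (Submonoid.powers f) Y) r).symm

end Shift

theorem coneCx_iso (K : DRing.Cx R) : ∀ (fs : List R) (r : ℤ), r = fs.length →
    Nonempty (coneCx K fs ≅ (cechCx K fs)⟦r⟧)
  | [], r, hr => by
    subst hr
    exact ⟨((shiftFunctorZero (DRing.Cx R) ℤ).app K).symm⟩
  | f :: fs, r, hr => by
    obtain ⟨e⟩ := coneCx_iso K fs (r - 1) (by simp at hr; omega)
    have e1 : coneCx K (f :: fs) ≅ (coneStep f (cechCx K fs))⟦r - 1⟧ :=
      coneStepIso f e ≪≫ coneStepShiftIso f (cechCx K fs) (r - 1)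
    have e2 : (coneStep f (cechCx K fs))⟦r - 1⟧ ≅ ((coneStep f (cechCx K fs))⟦(-1 : ℤ)⟧)⟦r⟧ :=
      (CategoryTheory.shiftFunctorAdd' (DRing.Cx R) (-1 : ℤ) r (r - 1) (by omega)).app _
    exact ⟨e1 ≪≫ e2⟩

/-- `H^p(coneCx K fs) ≃ H^{p + r}(cechCx K fs)` where `r` is the length of `fs`. -/
theorem coneCx_homology_equiv (K : DRing.Cx R) (fs : List R) (p q : ℤ)
    (h : p + fs.length = q) :
    Nonempty ((coneCx K fs).homology p ≃ₗ[R] (cechCx K fs).homology q) := by
  obtain ⟨e⟩ := coneCx_iso K fs fs.length rfl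
  have e1 : (coneCx K fs).homology p ≅ ((cechCx K fs)⟦(fs.length : ℤ)⟧).homology p :=
    (HomologicalComplex.homologyFunctor (ModuleCat.{u} R) (ComplexShape.up ℤ) p).mapIso e
  have e2 : ((cechCx K fs)⟦(fs.length : ℤ)⟧).homology p ≅ (cechCx K fs).homology q :=
    (CochainComplex.ShiftSequence.shiftIso (ModuleCat.{u} R) (fs.length : ℤ) p q
      (by omega)).app (cechCx K fs)
  exact ⟨(e1 ≪≫ e2).toLinearEquiv⟩

end Groth.Agent.Lib.Helper2.KosCech4
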