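import Mathlib
import Groth.Agent.Lib.Helper2.KosCech4
import Groth.Agent.Lib.Helper2.LCCech4

/-!
# `colim_n H^i(f^n; M)` is the cohomology of the extended Čech complex (any commutative ring),
and local cohomology over a Noetherian ring.
-/

set_option autoImplicit false
universe u

open CategoryTheory CategoryTheory.Limits CochainComplex HomComplex DerCA

namespace Groth.Agent.Lib.Helper2.KosCech5

open Groth.Agent.Lib.Helper2.KosCech1 Groth.Agent.Lib.Helper2.KosCech2
  Groth.Agent.Lib.Helper2.KosCech3 Groth.Agent.Lib.Helper2.KosCech4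
  Groth.Agent.Lib.Helper2.LCCech1

variable {R : Type u} [CommRing R]

/-- the limit Koszul cohomology is the cohomology of the extended Čech complex. -/
theorem koszulHLim_equiv_extCechH (fs : List R) (M : ModuleCat.{u} R) (i : ℕ) :
    Nonempty (CohIII.koszulHLim fs M i ≃ₗ[R] extCechH fs M (i : ℤ)) := by
  obtain ⟨e1⟩ := koszul_lim_equiv M fs ((i : ℤ) - fs.length)
  obtain ⟨e2⟩ := coneCx_homology_equiv
    ((HomologicalComplex.single (ModuleCat.{u} R) (ComplexShape.up ℤ) 0).obj M) fs
    ((i : ℤ) - fs.length) (i : ℤ) (by omega)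
  have key : ∀ K : DRing.Cx R, K = cechCx
      ((HomologicalComplex.single (ModuleCat.{u} R) (ComplexShape.up ℤ) 0).obj M) fs →
      Nonempty (CohIII.koszulHLim fs M i ≃ₗ[R] K.homology (i : ℤ)) := by
    intro K hK
    subst hK
    exact ⟨e1.trans e2⟩
  exact key _ (extCech_eq M fs)

/-- over a Noetherian ring the limit Koszul cohomology is local cohomology. -/
theorem koszulHLim_equiv_localCohomology [IsNoetherianRing R] (fs : List R) (M : ModuleCat.{u} R)
    (i : ℕ) :
    Nonempty (CohIII.koszulHLim fs M i ≃ₗ[R]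
      (localCohomology (Ideal.span {y | y ∈ fs}) i).obj M) := by
  obtain ⟨e1⟩ := koszulHLim_equiv_extCechH fs M i
  obtain ⟨e2⟩ := Groth.Agent.Lib.Helper2.LCCech4.extCechH_equiv fs M i
  exact ⟨e1.trans e2⟩

end Groth.Agent.Lib.Helper2.KosCech5
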