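import Mathlib
import Groth.Agent.Lib.Helper2.CechGeo4
import Groth.Agent.Lib.Helper2.KosCech5

/-!
# Kernel and cokernel of the restriction to a union of basic opens, via limit Koszul cohomology
-/

set_option autoImplicit false
universe u

open CategoryTheory CategoryTheory.Limits AlgebraicGeometry Opposite TopologicalSpace

namespace Groth.Agent.Lib.Helper2.CechGeo5

open Groth.Agent.Lib.Helper28.QCohLoc Groth.Agent.Lib.Helper2.CechGeo1
  Groth.Agent.Lib.Helper2.CechGeo2 Groth.Agent.Lib.Helper2.CechGeo3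
  Groth.Agent.Lib.Helper2.CechGeo4
  Groth.Agent.Lib.Helper2.CechLow3 Groth.Agent.Lib.Helper2.CechLow2
  Groth.Agent.Lib.Helper2.CechLow4

theorem iSup_fin_succ'' {α : Type*} [CompleteLattice α] {t : ℕ} (U : Fin (t + 1) → α) :
    ⨆ i, U i = U 0 ⊔ ⨆ j : Fin t, U j.succ := by
  apply le_antisymm
  · refine iSup_le fun i => ?_
    refine Fin.cases le_sup_left (fun j => ?_) i
    exact le_sup_of_le_right (le_iSup (fun j : Fin t => U j.succ) j)
  · exact sup_le (le_iSup U 0) (iSup_le fun j => le_iSup U j.succ)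

variable {X : Scheme.{u}}

theorem iSup_eq_Uof : ∀ fs : List Γ(X, ⊤),
    (⨆ i : Fin fs.length, X.basicOpen (fs.get i)) = Uof fs
  | [] => by
    change (⨆ i : Fin 0, X.basicOpen (([] : List Γ(X, ⊤)).get i)) = ⊥
    exact iSup_of_empty _
  | f :: fs => by
    change (⨆ i : Fin (fs.length + 1), X.basicOpen ((f :: fs).get i)) = X.basicOpen f ⊔ Uof fs
    rw [iSup_fin_succ'', ← iSup_eq_Uof fs]
    rfl

theorem homology_congr {R : Type u} [CommRing R] (C : DRing.Cx R) (q q' : ℤ) (h : q = q') :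
    Nonempty (C.homology q ≃ₗ[R] C.homology q') := by
  subst h
  exact ⟨LinearEquiv.refl _ _⟩

variable (F : X.Modules)

theorem ker_coker_linear [CompactSpace X] [X.IsSeparated] [F.IsQuasicoherent]
    (fs : List Γ(X, ⊤)) :
    Nonempty (LinearMap.ker (topL F (Uof fs)) ≃ₗ[Γ(X, ⊤)]
      CohIII.koszulHLim fs (ModuleCat.of Γ(X, ⊤) (F.val.obj (op ⊤))) 0) ∧
    Nonempty ((SecA F (Uof fs) ⧸ LinearMap.range (topL F (Uof fs))) ≃ₗ[Γ(X, ⊤)]
      CohIII.koszulHLim fs (ModuleCat.of Γ(X, ⊤) (F.val.obj (op ⊤))) 1) := by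
  have hJ := jinv F fs
  obtain ⟨e0⟩ := hJ.H0
  obtain ⟨e1⟩ := hJ.H1
  obtain ⟨k0⟩ := Groth.Agent.Lib.Helper2.KosCech5.koszulHLim_equiv_extCechH fs
    (ModuleCat.of Γ(X, ⊤) (F.val.obj (op ⊤))) 0
  obtain ⟨k1⟩ := Groth.Agent.Lib.Helper2.KosCech5.koszulHLim_equiv_extCechH fs
    (ModuleCat.of Γ(X, ⊤) (F.val.obj (op ⊤))) 1
  obtain ⟨c0⟩ := homology_congr (DerCA.extCech (ModuleCat.of Γ(X, ⊤) (F.val.obj (op ⊤))) fs)
    ((0 : ℕ) : ℤ) 0 (by norm_num)
  obtain ⟨c1⟩ := homology_congr (DerCA.extCech (ModuleCat.of Γ(X, ⊤) (F.val.obj (op ⊤))) fs)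
    ((1 : ℕ) : ℤ) (0 + 1) (by norm_num)
  exact ⟨⟨((k0.trans c0).trans e0).symm⟩, ⟨((k1.trans c1).trans e1).symm⟩⟩

end Groth.Agent.Lib.Helper2.CechGeo5
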