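import Mathlib

/-!
# General lemmas on long exact sequences for dimension shifting
-/

set_option autoImplicit false
universe u

open CategoryTheory CategoryTheory.Limits

namespace Groth.Agent.Lib.Helper2.FullCech1

section General

variable {C : Type*} [Category C] [Abelian C] {ι : Type*} {c : ComplexShape ι}
  {S : ShortComplex (HomologicalComplex C c)} (hS : S.ShortExact)

include hS

/-- if the homology of the first complex vanishes in degrees `i` and `j = i + 1`, then the second
map is an isomorphism on homology in degree `i`. -/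
theorem isIso_homologyMap_g (i j : ι) (hij : c.Rel i j) (hi : IsZero (S.X₁.homology i))
    (hj : IsZero (S.X₁.homology j)) : IsIso (HomologicalComplex.homologyMap S.g i) := by
  haveI : Mono (HomologicalComplex.homologyMap S.g i) :=
    (hS.homology_exact₂ i).mono_g (hi.eq_of_src _ _)
  haveI : Epi (HomologicalComplex.homologyMap S.g i) :=
    (hS.homology_exact₃ i j hij).epi_f (hj.eq_of_tgt _ _)
  exact isIso_of_mono_of_epi _

/-- the middle homology vanishes when the outer ones do. -/
theorem isZero_homology_mid (i : ι) (h1 : IsZero (S.X₁.homology i))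
    (h3 : IsZero (S.X₃.homology i)) : IsZero (S.X₂.homology i) :=
  (hS.homology_exact₂ i).isZero_of_both_zeros (h1.eq_of_src _ _) (h3.eq_of_tgt _ _)

/-- the connecting isomorphism when the middle complex is acyclic in degrees `i`, `j`. -/
theorem nonempty_δIso (i j : ι) (hij : c.Rel i j) (hi : IsZero (S.X₂.homology i))
    (hj : IsZero (S.X₂.homology j)) : Nonempty (S.X₃.homology i ≅ S.X₁.homology j) :=
  ⟨hS.δIso i j hij hi hj⟩

end General

/-- abstract dimension shifting. -/
theorem ds_induction {Obj : Type*} (S T : ℕ → Obj → Type*) [∀ q M, AddCommGroup (S q M)]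
    [∀ q M, AddCommGroup (T q M)]
    (h0 : ∀ M, Nonempty (S 0 M ≃+ T 0 M))
    (hs : ∀ M, ∃ Q, (∀ q, Nonempty (S (q + 1) M ≃+ S q Q)) ∧
      (∀ q, Nonempty (T (q + 1) M ≃+ T q Q))) :
    ∀ q M, Nonempty (S q M ≃+ T q M) := by
  intro q
  induction q with
  | zero => exact h0
  | succ q ih =>
    intro M
    obtain ⟨Q, hSQ, hTQ⟩ := hs M
    obtain ⟨e1⟩ := hSQ q
    obtain ⟨e2⟩ := hTQ q
    obtain ⟨e3⟩ := ih Q
    exact ⟨(e1.trans e3).trans e2.symm⟩

end Groth.Agent.Lib.Helper2.FullCech1
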