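import Mathlib
import Groth.Agent.Lib.Helper2.FullCech1
import Groth.Agent.Lib.Helper17.CechElem

/-!
# General lemmas on Mathlib's Čech complex: functoriality elementwise, augmentation
-/

set_option autoImplicit false
universe u

open CategoryTheory CategoryTheory.Limits Opposite TopologicalSpace

namespace Groth.Agent.Lib.Helper2.FullCech3

open Groth.Agent.Lib.Helper17.CechElem

section CompMap

variable {X : TopCat.{u}} {ι : Type u} (V : ι → Opens X)

theorem comp_map (n : ℕ) {P Q : (Opens X)ᵒᵖ ⥤ AddCommGrpCat.{u}} (τ : P ⟶ Q)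
    (α : (K V P).X n) (x : Fin (n + 1) → ι) :
    comp V Q ((((cechComplexFunctor V).map τ).f n).hom α) x =
      (τ.app (op (W V x))).hom (comp V P α x) := by
  have h : ((cechComplexFunctor V).map τ).f n ≫
      Pi.π (fun x : Fin (n + 1) → ι => Q.obj (op (∏ᶜ (V ∘ x)))) x =
      Pi.π (fun x : Fin (n + 1) → ι => P.obj (op (∏ᶜ (V ∘ x)))) x ≫ τ.app (op (W V x)) := by
    simp [cechComplexFunctor]
    exact Limits.Pi.map_π _ _
  exact congrArg (fun φ => φ.hom α) h

theorem comp_add (n : ℕ) {P : (Opens X)ᵒᵖ ⥤ AddCommGrpCat.{u}} (α β : (K V P).X n)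
    (x : Fin (n + 1) → ι) : comp V P (α + β) x = comp V P α x + comp V P β x :=
  map_add _ _ _

end CompMap

section Augment

variable {C D E : CochainComplex AddCommGrpCat.{u} ℕ} {X Y Z : AddCommGrpCat.{u}}

/-- a map between augmented complexes. -/
noncomputable def augmentMap (f : X ⟶ C.X 0) (w : f ≫ C.d 0 1 = 0) (g : Y ⟶ D.X 0)
    (w' : g ≫ D.d 0 1 = 0) (a : X ⟶ Y) (φ : C ⟶ D) (h : f ≫ φ.f 0 = a ≫ g) :
    C.augment f w ⟶ D.augment g w' where
  f n := match n with
    | 0 => a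
    | n + 1 => φ.f n
  comm' i j hij := by
    change i + 1 = j at hij
    subst hij
    cases i with
    | zero => exact h.symm
    | succ i => exact φ.comm i (i + 1)

theorem augmentMap_f_zero (f : X ⟶ C.X 0) (w : f ≫ C.d 0 1 = 0) (g : Y ⟶ D.X 0)
    (w' : g ≫ D.d 0 1 = 0) (a : X ⟶ Y) (φ : C ⟶ D) (h : f ≫ φ.f 0 = a ≫ g) :
    (augmentMap f w g w' a φ h).f 0 = a := rfl

theorem augmentMap_f_succ (f : X ⟶ C.X 0) (w : f ≫ C.d 0 1 = 0) (g : Y ⟶ D.X 0)
    (w' : g ≫ D.d 0 1 = 0) (a : X ⟶ Y) (φ : C ⟶ D) (h : f ≫ φ.f 0 = a ≫ g) (n : ℕ) :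
    (augmentMap f w g w' a φ h).f (n + 1) = φ.f n := rfl

/-- the homology of the augmented complex in degrees `≥ 2`. -/
noncomputable def augmentHomologyIso (f : X ⟶ C.X 0) (w : f ≫ C.d 0 1 = 0) (p : ℕ) :
    (C.augment f w).homology (p + 2) ≅ C.homology (p + 1) :=
  ShortComplex.homologyMapIso
    (((C.augment f w).isoSc' (p + 1) (p + 2) (p + 3) (by simp) (by simp)) ≪≫
      (C.isoSc' p (p + 1) (p + 2) (by simp) (by simp)).symm)

end Augment

section Exactness

variable (L : CochainComplex AddCommGrpCat.{u} ℕ)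

theorem isZero_homology_zero (h : ∀ x : L.X 0, L.d 0 1 x = 0 → x = 0) :
    IsZero (L.homology 0) := by
  rw [← HomologicalComplex.exactAt_iff_isZero_homology,
    HomologicalComplex.exactAt_iff' L 0 0 1 (by simp) (by simp), ShortComplex.ab_exact_iff]
  intro x hx
  exact ⟨0, ((h x hx).trans (map_zero _).symm).symm⟩

theorem isZero_homology_succ (p : ℕ)
    (h : ∀ α : L.X (p + 1), L.d (p + 1) (p + 2) α = 0 → ∃ β : L.X p, L.d p (p + 1) β = α) :
    IsZero (L.homology (p + 1)) := by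
  rw [← HomologicalComplex.exactAt_iff_isZero_homology,
    HomologicalComplex.exactAt_iff' L p (p + 1) (p + 2) (by simp) (by simp),
    ShortComplex.ab_exact_iff]
  intro x hx
  exact h x hx

/-- the homology in degree `0` is the kernel of the first differential. -/
theorem nonempty_homology_zero_equiv :
    Nonempty (L.homology 0 ≃+ AddMonoidHom.ker (L.d 0 1).hom) := by
  have e1 : L.homology 0 ≅ (L.sc' 0 0 1).homology :=
    ShortComplex.homologyMapIso (L.isoSc' 0 0 1 (by simp) (by simp))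
  have e2 := (L.sc' 0 0 1).abHomologyIso
  have hr : AddMonoidHom.range (L.sc' 0 0 1).abToCycles = ⊥ := by
    rw [eq_bot_iff]
    rintro _ ⟨x, rfl⟩
    rw [AddSubgroup.mem_bot]
    apply Subtype.ext
    rw [ShortComplex.abToCycles_apply_coe]
    have : (L.sc' 0 0 1).f = 0 := L.shape 0 0 (by simp)
    rw [this]
    rfl
  have e3 : (AddMonoidHom.ker (L.sc' 0 0 1).g.hom) ⧸ AddMonoidHom.range (L.sc' 0 0 1).abToCycles ≃+
      AddMonoidHom.ker (L.sc' 0 0 1).g.hom :=
    (QuotientAddGroup.quotientAddEquivOfEq hr).trans QuotientAddGroup.quotientBot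
  exact ⟨((e1 ≪≫ e2).addCommGroupIsoToAddEquiv).trans e3⟩

end Exactness

end Groth.Agent.Lib.Helper2.FullCech3
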