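import Mathlib
import Groth.Agent.Lib.Helper2.FullCech3

/-!
# Comparison of two Čech complexes with isomorphic coefficient systems
-/

set_option autoImplicit false
universe u

open CategoryTheory CategoryTheory.Limits Opposite TopologicalSpace

namespace Groth.Agent.Lib.Helper2.FullCech10

open Groth.Agent.Lib.Helper17.CechElem Groth.Agent.Lib.Helper2.FullCech3

variable {X X' : TopCat.{u}} {ι : Type u} (V : ι → Opens X) (V' : ι → Opens X')
  (P : (Opens X)ᵒᵖ ⥤ AddCommGrpCat.{u}) (P' : (Opens X')ᵒᵖ ⥤ AddCommGrpCat.{u})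
  (φ : ∀ {n : ℕ} (x : Fin (n + 1) → ι), P.obj (op (W V x)) ≃+ P'.obj (op (W V' x)))

/-- the termwise equivalence. -/
noncomputable def termEquiv (n : ℕ) : (K V P).X n ≃+ (K V' P').X n where
  toFun α := mk V' P' (fun x => φ x (comp V P α x))
  invFun β := mk V P (fun x => (φ x).symm (comp V' P' β x))
  left_inv α := by
    apply Groth.Agent.Lib.Helper17.CechElem.ext
    intro x
    rw [comp_mk, comp_mk, AddEquiv.symm_apply_apply]
  right_inv β := by
    apply Groth.Agent.Lib.Helper17.CechElem.ext
    intro x
    rw [comp_mk, comp_mk, AddEquiv.apply_symm_apply]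
  map_add' α β := by
    apply Groth.Agent.Lib.Helper17.CechElem.ext
    intro x
    refine (?_ : _ = _).trans (comp_add V' n _ _ x).symm
    rw [comp_mk, comp_mk, comp_mk]
    refine (congrArg (φ x) (comp_add V n α β x)).trans ?_
    exact map_add _ _ _

theorem comp_termEquiv (n : ℕ) (α : (K V P).X n) (x : Fin (n + 1) → ι) :
    comp V' P' (termEquiv V V' P P' φ n α) x = φ x (comp V P α x) :=
  comp_mk _ _ _ x

variable (hφ : ∀ {n : ℕ} (y : Fin (n + 2) → ι) (i : Fin (n + 2))
    (s : P.obj (op (W V (y ∘ Fin.succAbove i)))),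
    φ y (P.map (homOfLE (W_face_le V y i)).op s) =
      P'.map (homOfLE (W_face_le V' y i)).op (φ (y ∘ Fin.succAbove i) s))

include hφ

/-- the isomorphism of complexes. -/
noncomputable def complexIso : K V P ≅ K V' P' :=
  HomologicalComplex.Hom.isoOfComponents
    (fun n => (termEquiv V V' P P' φ n).toAddCommGrpIso) (by
      intro i j hij
      change i + 1 = j at hij
      subst hij
      ext α
      change (K V' P').d i (i + 1) (termEquiv V V' P P' φ i α) =
        termEquiv V V' P P' φ (i + 1) ((K V P).d i (i + 1) α)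
      apply Groth.Agent.Lib.Helper17.CechElem.ext
      intro y
      rw [comp_d, comp_termEquiv, comp_d, map_sum]
      refine Finset.sum_congr rfl (fun k _ => ?_)
      rw [map_zsmul, hφ, comp_termEquiv])

theorem homology_equiv (p : ℕ) : Nonempty ((K V P).homology p ≃+ (K V' P').homology p) :=
  ⟨((HomologicalComplex.homologyFunctor _ _ p).mapIso
    (complexIso V V' P P' φ hφ)).addCommGroupIsoToAddEquiv⟩

end Groth.Agent.Lib.Helper2.FullCech10
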