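import Mathlib
import Groth.Agent.Lib.Helper2.CechGeoA1
import Groth.Agent.Lib.Helper2.CechGeo4

/-!
# Gluing and the invariant `JInv` over a base ring `A → Γ(X, ⊤)`
-/

set_option autoImplicit false
universe u

open CategoryTheory CategoryTheory.Limits AlgebraicGeometry Opposite TopologicalSpace

namespace Groth.Agent.Lib.Helper2.CechGeoA2

open Groth.Agent.Lib.Helper28.QCohLoc Groth.Agent.Lib.Helper2.CechGeoA1
  Groth.Agent.Lib.Helper2.CechLow3 Groth.Agent.Lib.Helper2.CechLow2
  Groth.Agent.Lib.Helper2.CechLow4 Groth.Agent.Lib.Helper2.LCHom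
  Groth.Agent.Lib.Helper2.LCCech1

open Groth.Agent.Lib.Helper2.CechGeo3 (cov cov_le le_iSup_cov)

variable {X : Scheme.{u}} {A : Type u} [CommRing A] (φ : A →+* Γ(X, ⊤)) (F : X.Modules)

section Glue

variable (U B : X.Opens)

/-- sections over `B ⊔ U` are compatible pairs. -/
noncomputable def glueMap : SecA φ F (B ⊔ U) →ₗ[A]
    Pb (resL φ F (inf_le_left : U ⊓ B ≤ U)) (resL φ F (inf_le_right : U ⊓ B ≤ B)) :=
  ((resL φ F (le_sup_right : U ≤ B ⊔ U)).prod (resL φ F (le_sup_left : B ≤ B ⊔ U))).codRestrict _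
    (fun x => by
      rw [mem_Pb]
      change resL φ F _ (resL φ F _ x) = resL φ F _ (resL φ F _ x)
      rw [resL_resL, resL_resL])

theorem glueMap_val (x : SecA φ F (B ⊔ U)) :
    (glueMap φ F U B x).1 =
      (resL φ F (le_sup_right : U ≤ B ⊔ U) x, resL φ F (le_sup_left : B ≤ B ⊔ U) x) :=
  rfl

theorem glueMap_injective : Function.Injective (glueMap φ F U B) := by
  rw [injective_iff_map_eq_zero]
  intro x hx
  have hx' := congrArg Subtype.val hx
  rw [glueMap_val] at hx'
  have h1 : resL φ F (le_sup_right : U ≤ B ⊔ U) x = 0 := congrArg Prod.fst hx'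
  have h2 : resL φ F (le_sup_left : B ≤ B ⊔ U) x = 0 := congrArg Prod.snd hx'
  have := eq_of_locally_eq F (cov U B) (B ⊔ U) (cov_le U B) (le_iSup_cov U B) (ofSecA φ F x) 0 (by
    intro b
    rw [res_zero]
    cases b
    · exact h1
    · exact h2)
  exact this

theorem glueMap_surjective : Function.Surjective (glueMap φ F U B) := by
  rintro ⟨⟨d, m'⟩, hdm⟩
  rw [mem_Pb] at hdm
  change resL φ F _ d = resL φ F _ m' at hdm
  have hdm' : res F (inf_le_left : U ⊓ B ≤ U) (ofSecA φ F d) =
      res F (inf_le_right : U ⊓ B ≤ B) (ofSecA φ F m') := hdm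
  let sf : ∀ b : Bool, Γ(F, cov U B b) := fun b =>
    match b with
    | true => ofSecA φ F m'
    | false => ofSecA φ F d
  obtain ⟨x, hx⟩ := exists_gluing F (cov U B) (B ⊔ U) (cov_le U B) (le_iSup_cov U B) sf (by
    intro i j
    cases i <;> cases j
    · rfl
    · exact hdm'
    · have h1 : (B ⊓ U : X.Opens) ≤ U ⊓ B := le_of_eq (inf_comm B U)
      have h2 := congrArg (res F h1) hdm'
      rw [res_res, res_res] at h2
      exact h2.symm
    · rfl)
  refine ⟨toSecA φ F x, ?_⟩
  apply Subtype.ext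
  rw [glueMap_val]
  apply Prod.ext
  · exact hx false
  · exact hx true

/-- the gluing equivalence. -/
noncomputable def glueEquiv : SecA φ F (B ⊔ U) ≃ₗ[A]
    Pb (resL φ F (inf_le_left : U ⊓ B ≤ U)) (resL φ F (inf_le_right : U ⊓ B ≤ B)) :=
  LinearEquiv.ofBijective (glueMap φ F U B)
    ⟨glueMap_injective φ F U B, glueMap_surjective φ F U B⟩

end Glue

/-- the union of the basic opens of a list of elements of the base ring. -/
def UofA : List A → X.Opens
  | [] => ⊥
  | f :: fs => X.basicOpen (φ f) ⊔ UofA fs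

theorem isCompact_UofA [CompactSpace X] : ∀ fs : List A, IsCompact (UofA φ fs : Set X)
  | [] => by
    change IsCompact ((⊥ : X.Opens) : Set X)
    rw [Opens.coe_bot]
    exact isCompact_empty
  | f :: fs => by
    change IsCompact ((X.basicOpen (φ f) ⊔ UofA φ fs : X.Opens) : Set X)
    rw [Opens.coe_sup]
    refine IsCompact.union ?_ (isCompact_UofA fs)
    exact isCompact_basicOpen X (U := ⊤) isCompact_univ (φ f)

theorem subsingleton_SecA_bot : Subsingleton (SecA φ F (⊥ : X.Opens)) := by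
  refine ⟨fun x y => ?_⟩
  exact eq_of_locally_eq F (fun i : Empty => (⊥ : X.Opens)) ⊥ (fun i => le_rfl)
    (by simp) (ofSecA φ F x) (ofSecA φ F y) (fun i => i.elim)

theorem jinv [CompactSpace X] [X.IsSeparated] [F.IsQuasicoherent] :
    ∀ fs : List A,
      JInv (DerCA.extCech (ModuleCat.of A (SecA φ F ⊤)) fs) 0
        (resL φ F (le_top : UofA φ fs ≤ ⊤))
  | [] => by
    haveI : Subsingleton (SecA φ F (UofA φ ([] : List A))) := subsingleton_SecA_bot φ F
    have hz : ∀ m : ℤ, m ≠ 0 → Subsingleton (((HomologicalComplex.single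
        (ModuleCat.{u} A) (ComplexShape.up ℤ) 0).obj
        (ModuleCat.of A (SecA φ F ⊤))).X m) := fun m hm =>
      ModuleCat.subsingleton_of_isZero (HomologicalComplex.isZero_single_obj_X _ _ _ _ hm)
    refine ⟨fun m hm => hz m (by omega), ?_⟩
    haveI : Subsingleton ((DerCA.extCech (ModuleCat.of A (SecA φ F ⊤)) []).X (0 + 1)) :=
      hz (0 + 1) (by omega)
    refine ⟨(HomologicalComplex.singleObjXSelf (ComplexShape.up ℤ) 0
      (ModuleCat.of A (SecA φ F ⊤))).toLinearEquiv,
      LinearEquiv.ofSubsingleton _ _, fun c => Subsingleton.elim _ _⟩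
  | f :: fs => by
    have ih := jinv fs
    have hU := isCompact_UofA φ fs
    have hqs : ∀ V : X.Opens, IsQuasiSeparated (V : Set X) := fun V =>
      isQuasiSeparated_univ.of_subset (Set.subset_univ _)
    haveI h1 : IsLocalizedModule (Submonoid.powers f)
        (resL φ F (le_top : X.basicOpen (φ f) ≤ ⊤)) :=
      isLocalizedModule_resL φ F f ⊤ (X.basicOpen (φ f)) isCompact_univ (hqs ⊤) le_top (by
        rw [basicOpen_resO, top_inf_eq])
    haveI h2 : IsLocalizedModule (Submonoid.powers f)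
        (resL φ F (inf_le_left : UofA φ fs ⊓ X.basicOpen (φ f) ≤ UofA φ fs)) :=
      isLocalizedModule_resL φ F f (UofA φ fs) (UofA φ fs ⊓ X.basicOpen (φ f)) hU (hqs _)
        inf_le_left (by rw [basicOpen_resO])
    have hcomm : ∀ m, resL φ F (inf_le_right : UofA φ fs ⊓ X.basicOpen (φ f) ≤ X.basicOpen (φ f))
        (resL φ F (le_top : X.basicOpen (φ f) ≤ ⊤) m) =
        resL φ F (inf_le_left : UofA φ fs ⊓ X.basicOpen (φ f) ≤ UofA φ fs)
          (resL φ F (le_top : UofA φ fs ≤ ⊤) m) := by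
      intro m
      rw [resL_resL, resL_resL]
    have hstep := JInv.step f (resL φ F (le_top : UofA φ fs ≤ ⊤))
      (resL φ F (le_top : X.basicOpen (φ f) ≤ ⊤))
      (resL φ F (inf_le_left : UofA φ fs ⊓ X.basicOpen (φ f) ≤ UofA φ fs))
      (resL φ F (inf_le_right : UofA φ fs ⊓ X.basicOpen (φ f) ≤ X.basicOpen (φ f))) hcomm ih
    refine Groth.Agent.Lib.Helper2.CechGeo4.JInv.congr hstep (glueEquiv φ F (UofA φ fs) (X.basicOpen (φ f))).symm
      (resL φ F (le_top : X.basicOpen (φ f) ⊔ UofA φ fs ≤ ⊤)) ?_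
    intro m
    rw [LinearEquiv.symm_apply_eq]
    apply Subtype.ext
    change _ = (glueMap φ F (UofA φ fs) (X.basicOpen (φ f)) _).1
    rw [sig_val, glueMap_val, resL_resL, resL_resL]

end Groth.Agent.Lib.Helper2.CechGeoA2
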