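import Mathlib
import Groth.Agent.Lib.Helper2.CechGeoA2
import Groth.Agent.Lib.Helper2.KosCech5
import Groth.Agent.Lib.Helper2.CechGeo5

/-!
# Specialisation to `Spec A`, `M~`: `H^1` of the extended Čech complex of `M` is the cokernel of
`M → Γ(U, M~)`
-/

set_option autoImplicit false
universe u

open CategoryTheory CategoryTheory.Limits AlgebraicGeometry Opposite TopologicalSpace

namespace Groth.Agent.Lib.Helper2.CechGeoA3

open Groth.Agent.Lib.Helper28.QCohLoc Groth.Agent.Lib.Helper2.CechGeoA1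
  Groth.Agent.Lib.Helper2.CechGeoA2
  Groth.Agent.Lib.Helper2.CechLow2

variable (A : Type u) [CommRing A] (M : Type u) [AddCommGroup M] [Module A M]

/-- the affine scheme. -/
noncomputable abbrev XA : Scheme.{u} := Spec (CommRingCat.of A)

/-- the structure map `A → Γ(Spec A, ⊤)`. -/
noncomputable abbrev phiA : A →+* Γ(XA A, ⊤) := (Scheme.ΓSpecIso (CommRingCat.of A)).inv.hom

/-- the module `M~`. -/
noncomputable abbrev FM : (XA A).Modules := tilde (R := CommRingCat.of A) (ModuleCat.of A M)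

/-- `M → Γ(Spec A, M~)`. -/
noncomputable def epsTop : M →ₗ[A] SecA (phiA A) (FM A M) ⊤ where
  toFun m := toSecA (phiA A) (FM A M)
    ((tilde.toOpen (R := CommRingCat.of A) (ModuleCat.of A M) ⊤).hom m)
  map_add' x y := map_add (tilde.toOpen (R := CommRingCat.of A) (ModuleCat.of A M) ⊤).hom x y
  map_smul' a x := map_smul (tilde.toOpen (R := CommRingCat.of A) (ModuleCat.of A M) ⊤).hom a x

theorem epsTop_bijective : Function.Bijective (epsTop A M) := by
  have h := (ConcreteCategory.isIso_iff_bijective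
    (tilde.toOpen (R := CommRingCat.of A) (ModuleCat.of A M) ⊤)).1
    (tilde.isIso_toOpen_top (R := CommRingCat.of A) (M := ModuleCat.of A M))
  exact h

/-- `M ≃ Γ(Spec A, M~)`. -/
noncomputable def epsEquiv : M ≃ₗ[A] SecA (phiA A) (FM A M) ⊤ :=
  LinearEquiv.ofBijective (epsTop A M) (epsTop_bijective A M)

/-- transport of extended Čech cohomology along an isomorphism of modules. -/
theorem extCechH_congr {R : Type u} [CommRing R] {M N : ModuleCat.{u} R} (e : M ≅ N)
    (fs : List R) (n : ℤ) :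
    Nonempty (DerCA.extCechH fs M n ≃ₗ[R] DerCA.extCechH fs N n) := by
  haveI : IsIso ((HomologicalComplex.single (ModuleCat.{u} R) (ComplexShape.up ℤ) 0).map e.hom) :=
    inferInstance
  haveI : QuasiIso ((HomologicalComplex.single (ModuleCat.{u} R) (ComplexShape.up ℤ) 0).map
    e.hom) := inferInstance
  have := Groth.Agent.Lib.Helper2.LCCech1.cech_homology_equiv
    ((HomologicalComplex.single (ModuleCat.{u} R) (ComplexShape.up ℤ) 0).map e.hom) fs n
  rw [← Groth.Agent.Lib.Helper2.LCCech1.extCech_eq,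
    ← Groth.Agent.Lib.Helper2.LCCech1.extCech_eq] at this
  exact this

/-- `colim_n H^1(f^n, M)` is the cokernel of `M → Γ(D(f_1) ∪ … ∪ D(f_r), M~)`. -/
theorem koszulHLim_one_equiv (fs : List A) :
    Nonempty (CohIII.koszulHLim fs (ModuleCat.of A M) 1 ≃ₗ[A]
      (SecA (phiA A) (FM A M) (UofA (phiA A) fs) ⧸
        LinearMap.range (resL (phiA A) (FM A M) (le_top : UofA (phiA A) fs ≤ ⊤)))) := by
  have hJ := jinv (phiA A) (FM A M) fs
  obtain ⟨e1⟩ := hJ.H1
  obtain ⟨k1⟩ := Groth.Agent.Lib.Helper2.KosCech5.koszulHLim_equiv_extCechH fs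
    (ModuleCat.of A M) 1
  obtain ⟨c1⟩ := Groth.Agent.Lib.Helper2.CechGeo5.homology_congr
    (DerCA.extCech (ModuleCat.of A (SecA (phiA A) (FM A M) ⊤)) fs)
    ((1 : ℕ) : ℤ) (0 + 1) (by norm_num)
  obtain ⟨t1⟩ := extCechH_congr (epsEquiv A M).toModuleIso fs ((1 : ℕ) : ℤ)
  exact ⟨((k1.trans t1).trans c1).trans e1⟩

end Groth.Agent.Lib.Helper2.CechGeoA3
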