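import Mathlib
import Groth.Agent.Lib.Helper2.CechGeoA3
import Groth.Prelude.Def_Coh

/-!
# Flasqueness of `M~` on a Noetherian `Spec A` via the restriction maps from the whole space
-/

set_option autoImplicit false
universe u

open CategoryTheory CategoryTheory.Limits AlgebraicGeometry Opposite TopologicalSpace

namespace Groth.Agent.Lib.Helper2.CechGeoA4

open Groth.Agent.Lib.Helper28.QCohLoc Groth.Agent.Lib.Helper2.CechGeoA1
  Groth.Agent.Lib.Helper2.CechGeoA2 Groth.Agent.Lib.Helper2.CechGeoA3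

variable (A : Type u) [CommRing A]

theorem basicOpen_phiA (f : A) :
    (XA A).basicOpen (phiA A f) = PrimeSpectrum.basicOpen f :=
  basicOpen_eq_of_affine (R := CommRingCat.of A) f

theorem mem_basicOpen_phiA (f : A) (p : XA A) :
    p ∈ (XA A).basicOpen (phiA A f) ↔ f ∉ (show PrimeSpectrum A from p).asIdeal :=
  (SetLike.ext_iff.1 (basicOpen_phiA A f) p).trans Iff.rfl

theorem mem_UofA (fs : List A) (p : XA A) :
    p ∈ UofA (phiA A) fs ↔ ∃ f ∈ fs, f ∉ (show PrimeSpectrum A from p).asIdeal := by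
  induction fs with
  | nil =>
    change p ∈ (⊥ : (XA A).Opens) ↔ _
    simp
  | cons g fs ih =>
    change p ∈ (XA A).basicOpen (phiA A g) ⊔ UofA (phiA A) fs ↔ _
    rw [Opens.mem_sup, ih, mem_basicOpen_phiA]
    constructor
    · rintro (h | ⟨f, hf, hfp⟩)
      · exact ⟨g, List.mem_cons_self, h⟩
      · exact ⟨f, List.mem_cons_of_mem _ hf, hfp⟩
    · rintro ⟨f, hf, hfp⟩
      rcases List.mem_cons.1 hf with rfl | hf'
      · exact Or.inl hfp
      · exact Or.inr ⟨f, hf', hfp⟩

theorem exists_eq_UofA [NoetherianSpace (PrimeSpectrum A)] (U : (XA A).Opens) :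
    ∃ fs : List A, U = UofA (phiA A) fs := by
  have hc : IsCompact ((show Opens (PrimeSpectrum A) from U) : Set (PrimeSpectrum A)) :=
    NoetherianSpace.isCompact _
  obtain ⟨t, ht⟩ := PrimeSpectrum.isCompact_isOpen_iff.1
    ⟨hc, (show Opens (PrimeSpectrum A) from U).isOpen⟩
  refine ⟨t.toList, ?_⟩
  ext p
  rw [SetLike.mem_coe, SetLike.mem_coe, mem_UofA]
  have hp : p ∈ U ↔ (show PrimeSpectrum A from p) ∈
      ((show Opens (PrimeSpectrum A) from U) : Set (PrimeSpectrum A)) := Iff.rfl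
  rw [hp, ← ht, Set.mem_compl_iff, PrimeSpectrum.mem_zeroLocus, Set.not_subset]
  constructor
  · rintro ⟨f, hf, hfp⟩
    exact ⟨f, Finset.mem_toList.2 hf, hfp⟩
  · rintro ⟨f, hf, hfp⟩
    exact ⟨f, Finset.mem_toList.1 hf, hfp⟩

theorem isFlasque_iff {X : Scheme.{u}} (F : X.Modules) :
    TopCat.Sheaf.IsFlasque (Coh.toAb F) ↔
      ∀ U : X.Opens, Function.Surjective (res F (le_top : U ≤ ⊤)) := by
  constructor
  · intro h U
    have hepi : Epi ((Coh.toAb F).obj.map (homOfLE (le_top : U ≤ ⊤)).op) := h.epi _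
    exact (AddCommGrpCat.epi_iff_surjective _).1 hepi
  · intro h
    refine ⟨fun {U V} i => ?_⟩
    rw [AddCommGrpCat.epi_iff_surjective]
    intro y
    obtain ⟨x, hx⟩ := h V.unop y
    refine ⟨res F (le_top : U.unop ≤ ⊤) x, ?_⟩
    have hle : V.unop ≤ U.unop := leOfHom i.unop
    have := res_res F (le_top : U.unop ≤ ⊤) hle x
    exact this.trans hx

end Groth.Agent.Lib.Helper2.CechGeoA4
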