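import Mathlib
import Groth.Agent.Lib.Helper2.CechLow1
import Groth.Agent.Lib.Helper2.LCCech1
import Groth.Agent.Lib.Helper2.FullCech1
import Groth.Agent.S9266

/-!
# The extended alternating Čech complex is an exact functor of the module: long exact sequences
-/

set_option autoImplicit false
universe u

open CategoryTheory CategoryTheory.Limits CochainComplex HomComplex DerCA

namespace Groth.Agent.Lib.Helper2.FullCech2

open Groth.Agent.Lib.Helper2.CechLow1 Groth.Agent.Lib.Helper2.LCCech1

variable {R : Type u} [CommRing R]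

/-- termwise short exactness of a pair of maps of complexes. -/
structure TSE {K' K K'' : DRing.Cx R} (a : K' ⟶ K) (b : K ⟶ K'') : Prop where
  inj : ∀ n, Function.Injective (a.f n).hom
  ex : ∀ n, Function.Exact (a.f n).hom (b.f n).hom
  surj : ∀ n, Function.Surjective (b.f n).hom

section StepMap

variable (f : R) {K L : DRing.Cx R} (a : K ⟶ L)

theorem map_kinl (n q : ℤ) (h : n = q) (x : K.X q) :
    ((cechStepMap f a).f n).hom (kinl (locCxUnit (Submonoid.powers f) K) n q h x) =
      kinl (locCxUnit (Submonoid.powers f) L) n q h ((a.f q).hom x) := by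
  have h1 : (mappingCone.inl (locCxUnit (Submonoid.powers f) K)).v q (n + -1) (by omega) ≫
      (mappingCone.map (locCxUnit (Submonoid.powers f) K) (locCxUnit (Submonoid.powers f) L) a
        ((locCx (Submonoid.powers f)).map a) (locCxUnit_naturality _ a)).f (n + -1) =
      a.f q ≫ (mappingCone.inl (locCxUnit (Submonoid.powers f) L)).v q (n + -1) (by omega) := by
    simp [mappingCone.map]
  have := congrArg (fun g => g.hom x) h1
  exact this

theorem map_kinr (n q : ℤ) (h : q + 1 = n) (y : ((locCx (Submonoid.powers f)).obj K).X q) :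
    ((cechStepMap f a).f n).hom (kinr (locCxUnit (Submonoid.powers f) K) n q h y) =
      kinr (locCxUnit (Submonoid.powers f) L) n q h
        ((((locCx (Submonoid.powers f)).map a).f q).hom y) := by
  obtain rfl : q = n + -1 := by omega
  have h1 : (mappingCone.inr (locCxUnit (Submonoid.powers f) K)).f (n + -1) ≫
      (mappingCone.map (locCxUnit (Submonoid.powers f) K) (locCxUnit (Submonoid.powers f) L) a
        ((locCx (Submonoid.powers f)).map a) (locCxUnit_naturality _ a)).f (n + -1) =
      ((locCx (Submonoid.powers f)).map a).f (n + -1) ≫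
        (mappingCone.inr (locCxUnit (Submonoid.powers f) L)).f (n + -1) := by
    simp [mappingCone.map]
  have := congrArg (fun g => g.hom y) h1
  unfold kinr
  rw [Cochain.ofHom_v, Cochain.ofHom_v]
  exact this

theorem kfst_map (n q : ℤ) (h : n = q) (z : (cechStep f K).X n) :
    kfst (locCxUnit (Submonoid.powers f) L) n q h (((cechStepMap f a).f n).hom z) =
      (a.f q).hom (kfst (locCxUnit (Submonoid.powers f) K) n q h z) := by
  conv_lhs => rw [decomp (locCxUnit (Submonoid.powers f) K) n q (n + -1) h (by omega) z]
  rw [map_add, map_kinl, map_kinr, map_add, kfst_kinl, kfst_kinr, add_zero]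

theorem ksnd_map (n q : ℤ) (h : q + 1 = n) (z : (cechStep f K).X n) :
    ksnd (locCxUnit (Submonoid.powers f) L) n q h (((cechStepMap f a).f n).hom z) =
      (((locCx (Submonoid.powers f)).map a).f q).hom
        (ksnd (locCxUnit (Submonoid.powers f) K) n q h z) := by
  conv_lhs => rw [decomp (locCxUnit (Submonoid.powers f) K) n n q rfl h z]
  rw [map_add, map_kinl, map_kinr, map_add, ksnd_kinl, ksnd_kinr, zero_add]

end StepMap

section Loc

variable (S : Submonoid R) {K' K K'' : DRing.Cx R} (a : K' ⟶ K) (b : K ⟶ K'')

theorem locCx_map_hom (n : ℤ) :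
    (((locCx S).map a).f n).hom =
      IsLocalizedModule.map S (LocalizedModule.mkLinearMap S (K'.X n))
        (LocalizedModule.mkLinearMap S (K.X n)) (a.f n).hom := rfl

theorem TSE.loc (h : TSE a b) : TSE ((locCx S).map a) ((locCx S).map b) where
  inj n := by
    change Function.Injective (IsLocalizedModule.map S (LocalizedModule.mkLinearMap S (K'.X n))
        (LocalizedModule.mkLinearMap S (K.X n)) (a.f n).hom)
    exact IsLocalizedModule.map_injective S _ _ _ (h.inj n)
  ex n := by
    change Function.Exact (IsLocalizedModule.map S (LocalizedModule.mkLinearMap S (K'.X n))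
        (LocalizedModule.mkLinearMap S (K.X n)) (a.f n).hom)
      (IsLocalizedModule.map S (LocalizedModule.mkLinearMap S (K.X n))
        (LocalizedModule.mkLinearMap S (K''.X n)) (b.f n).hom)
    exact IsLocalizedModule.map_exact S _ _ _ _ _ (h.ex n)
  surj n := by
    change Function.Surjective (IsLocalizedModule.map S (LocalizedModule.mkLinearMap S (K.X n))
        (LocalizedModule.mkLinearMap S (K''.X n)) (b.f n).hom)
    exact IsLocalizedModule.map_surjective S _ _ _ (h.surj n)

end Loc

section Step

variable (f : R) {K' K K'' : DRing.Cx R} (a : K' ⟶ K) (b : K ⟶ K'')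

theorem TSE.step (h : TSE a b) : TSE (cechStepMap f a) (cechStepMap f b) := by
  have hl := h.loc (Submonoid.powers f)
  refine ⟨fun n => ?_, fun n => ?_, fun n => ?_⟩
  · rw [injective_iff_map_eq_zero]
    intro z hz
    have h1 := kfst_map f a n n rfl z
    have h2 := ksnd_map f a n (n + -1) (by omega) z
    rw [hz, map_zero] at h1 h2
    have e1 : kfst (locCxUnit (Submonoid.powers f) K') n n rfl z = 0 :=
      h.inj n (by rw [← h1, map_zero])
    have e2 : ksnd (locCxUnit (Submonoid.powers f) K') n (n + -1) (by omega) z = 0 :=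
      hl.inj (n + -1) (by rw [← h2, map_zero])
    rw [decomp (locCxUnit (Submonoid.powers f) K') n n (n + -1) rfl (by omega) z, e1, e2,
      map_zero, map_zero, add_zero]
  · intro z
    constructor
    · intro hz
      have h1 := kfst_map f b n n rfl z
      have h2 := ksnd_map f b n (n + -1) (by omega) z
      rw [hz, map_zero] at h1 h2
      obtain ⟨x, hx⟩ := (h.ex n _).1 h1.symm
      obtain ⟨y, hy⟩ := (hl.ex (n + -1) _).1 h2.symm
      refine ⟨kinl (locCxUnit (Submonoid.powers f) K') n n rfl x +
        kinr (locCxUnit (Submonoid.powers f) K') n (n + -1) (by omega) y, ?_⟩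
      rw [map_add, map_kinl, map_kinr, hx, hy]
      exact (decomp (locCxUnit (Submonoid.powers f) K) n n (n + -1) rfl (by omega) z).symm
    · rintro ⟨w, rfl⟩
      rw [decomp (locCxUnit (Submonoid.powers f) K') n n (n + -1) rfl (by omega) w]
      rw [map_add, map_kinl, map_kinr, map_add, map_kinl, map_kinr]
      have e1 : (b.f n).hom ((a.f n).hom
          (kfst (locCxUnit (Submonoid.powers f) K') n n rfl w)) = 0 :=
        (h.ex n).apply_apply_eq_zero _
      have e2 : (((locCx (Submonoid.powers f)).map b).f (n + -1)).hom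
          ((((locCx (Submonoid.powers f)).map a).f (n + -1)).hom
            (ksnd (locCxUnit (Submonoid.powers f) K') n (n + -1) (by omega) w)) = 0 :=
        (hl.ex (n + -1)).apply_apply_eq_zero _
      rw [e1, e2, map_zero, map_zero, add_zero]
  · intro z
    obtain ⟨x, hx⟩ := h.surj n (kfst (locCxUnit (Submonoid.powers f) K'') n n rfl z)
    obtain ⟨y, hy⟩ := hl.surj (n + -1)
      (ksnd (locCxUnit (Submonoid.powers f) K'') n (n + -1) (by omega) z)
    refine ⟨kinl (locCxUnit (Submonoid.powers f) K) n n rfl x +
      kinr (locCxUnit (Submonoid.powers f) K) n (n + -1) (by omega) y, ?_⟩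
    rw [map_add, map_kinl, map_kinr, hx, hy]
    exact (decomp (locCxUnit (Submonoid.powers f) K'') n n (n + -1) rfl (by omega) z).symm

theorem TSE.cechCx (h : TSE a b) : ∀ fs : List R, TSE (cechCxMap a fs) (cechCxMap b fs)
  | [] => h
  | g :: fs => (TSE.cechCx h fs).step g _ _

theorem TSE.comp_zero (h : TSE a b) : a ≫ b = 0 := by
  ext n x
  exact (h.ex n).apply_apply_eq_zero x

theorem TSE.shortExact (h : TSE a b) : (ShortComplex.mk a b h.comp_zero).ShortExact := by
  refine HomologicalComplex.shortExact_of_degreewise_shortExact _ (fun n => ?_)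
  exact
    { exact := by
        rw [ShortComplex.ShortExact.moduleCat_exact_iff_function_exact]
        exact h.ex n
      mono_f := (ModuleCat.mono_iff_injective _).2 (h.inj n)
      epi_g := (ModuleCat.epi_iff_surjective _).2 (h.surj n) }

end Step

section Single

/-- short exactness of a pair of module maps. -/
structure MSE {M' M M'' : ModuleCat.{u} R} (a : M' ⟶ M) (b : M ⟶ M'') : Prop where
  inj : Function.Injective a.hom
  ex : Function.Exact a.hom b.hom
  surj : Function.Surjective b.hom

variable {M' M M'' : ModuleCat.{u} R} (a : M' ⟶ M) (b : M ⟶ M'')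

theorem single_map_apply {N N' : ModuleCat.{u} R} (g : N ⟶ N')
    (x : ((HomologicalComplex.single (ModuleCat.{u} R) (ComplexShape.up ℤ) 0).obj N).X 0) :
    (((HomologicalComplex.single (ModuleCat.{u} R) (ComplexShape.up ℤ) 0).map g).f 0).hom x =
      (HomologicalComplex.singleObjXSelf (ComplexShape.up ℤ) 0 N').inv.hom
        (g.hom ((HomologicalComplex.singleObjXSelf (ComplexShape.up ℤ) 0 N).hom.hom x)) := by
  rw [HomologicalComplex.single_map_f_self]
  rfl

theorem singleIso_hom_inv {N : ModuleCat.{u} R} (x : N) :
    (HomologicalComplex.singleObjXSelf (ComplexShape.up ℤ) 0 N).hom.hom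
      ((HomologicalComplex.singleObjXSelf (ComplexShape.up ℤ) 0 N).inv.hom x) = x := by
  have := congrArg (fun g => g.hom x)
    (HomologicalComplex.singleObjXSelf (ComplexShape.up ℤ) 0 N).inv_hom_id
  exact this

theorem singleIso_inv_hom {N : ModuleCat.{u} R}
    (x : ((HomologicalComplex.single (ModuleCat.{u} R) (ComplexShape.up ℤ) 0).obj N).X 0) :
    (HomologicalComplex.singleObjXSelf (ComplexShape.up ℤ) 0 N).inv.hom
      ((HomologicalComplex.singleObjXSelf (ComplexShape.up ℤ) 0 N).hom.hom x) = x := by
  have := congrArg (fun g => g.hom x)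
    (HomologicalComplex.singleObjXSelf (ComplexShape.up ℤ) 0 N).hom_inv_id
  exact this

theorem singleIso_inv_injective {N : ModuleCat.{u} R} :
    Function.Injective (HomologicalComplex.singleObjXSelf (ComplexShape.up ℤ) 0 N).inv.hom := by
  intro x y hxy
  have := congrArg (HomologicalComplex.singleObjXSelf (ComplexShape.up ℤ) 0 N).hom.hom hxy
  rwa [singleIso_hom_inv, singleIso_hom_inv] at this

theorem singleIso_hom_injective {N : ModuleCat.{u} R} :
    Function.Injective (HomologicalComplex.singleObjXSelf (ComplexShape.up ℤ) 0 N).hom.hom := by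
  intro x y hxy
  have := congrArg (HomologicalComplex.singleObjXSelf (ComplexShape.up ℤ) 0 N).inv.hom hxy
  rwa [singleIso_inv_hom, singleIso_inv_hom] at this

theorem MSE.single (h : MSE a b) :
    TSE ((HomologicalComplex.single (ModuleCat.{u} R) (ComplexShape.up ℤ) 0).map a)
      ((HomologicalComplex.single (ModuleCat.{u} R) (ComplexShape.up ℤ) 0).map b) := by
  have hz : ∀ (N : ModuleCat.{u} R) (n : ℤ), n ≠ 0 → Subsingleton
      (((HomologicalComplex.single (ModuleCat.{u} R) (ComplexShape.up ℤ) 0).obj N).X n) :=
    fun N n hn => ModuleCat.subsingleton_of_isZero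
      (HomologicalComplex.isZero_single_obj_X _ _ _ _ hn)
  refine ⟨fun n => ?_, fun n => ?_, fun n => ?_⟩
  · by_cases hn : n = 0
    · subst hn
      intro x y hxy
      rw [single_map_apply, single_map_apply] at hxy
      exact singleIso_hom_injective (h.inj (singleIso_inv_injective hxy))
    · haveI := hz M' n hn
      exact Function.injective_of_subsingleton _
  · by_cases hn : n = 0
    · subst hn
      intro y
      constructor
      · intro hy
        rw [single_map_apply] at hy
        have hy' : b.hom ((HomologicalComplex.singleObjXSelf (ComplexShape.up ℤ) 0 M).hom.hom y)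
            = 0 := by
          apply singleIso_inv_injective
          rw [hy, map_zero]
        obtain ⟨x, hx⟩ := (h.ex _).1 hy'
        refine ⟨(HomologicalComplex.singleObjXSelf (ComplexShape.up ℤ) 0 M').inv.hom x, ?_⟩
        rw [single_map_apply, singleIso_hom_inv, hx, singleIso_inv_hom]
      · rintro ⟨x, rfl⟩
        rw [single_map_apply, single_map_apply, singleIso_hom_inv,
          h.ex.apply_apply_eq_zero, map_zero]
    · haveI := hz M n hn
      haveI := hz M'' n hn
      intro y
      constructor
      · intro _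
        exact ⟨0, Subsingleton.elim _ _⟩
      · intro _
        exact Subsingleton.elim _ _
  · by_cases hn : n = 0
    · subst hn
      intro z
      obtain ⟨y, hy⟩ := h.surj
        ((HomologicalComplex.singleObjXSelf (ComplexShape.up ℤ) 0 M'').hom.hom z)
      refine ⟨(HomologicalComplex.singleObjXSelf (ComplexShape.up ℤ) 0 M).inv.hom y, ?_⟩
      rw [single_map_apply, singleIso_hom_inv, hy, singleIso_inv_hom]
    · haveI := hz M'' n hn
      intro z
      exact ⟨0, Subsingleton.elim _ _⟩

theorem MSE.extCech (h : MSE a b) (fs : List R) :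
    ∃ (α : extCech M' fs ⟶ extCech M fs) (β : extCech M fs ⟶ extCech M'' fs), TSE α β := by
  rw [extCech_eq, extCech_eq, extCech_eq]
  exact ⟨_, _, h.single.cechCx _ _ fs⟩

end Single

section Consequences

variable {M' M M'' : ModuleCat.{u} R} {a : M' ⟶ M} {b : M ⟶ M''}

/-- dimension shifting along a short exact sequence with acyclic middle term. -/
theorem MSE.shift (h : MSE a b) (fs : List R) (hN : ∀ q : ℤ, IsZero (extCechH fs M q)) (q : ℤ) :
    Nonempty (extCechH fs M'' q ≃+ extCechH fs M' (q + 1)) := by
  obtain ⟨α, β, hαβ⟩ := h.extCech a b fs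
  obtain ⟨e⟩ := FullCech1.nonempty_δIso hαβ.shortExact q (q + 1) rfl (hN q) (hN (q + 1))
  exact ⟨e.toLinearEquiv.toAddEquiv⟩

/-- the quotient map induces an isomorphism where the sub has no cohomology. -/
theorem MSE.mid (h : MSE a b) (fs : List R) (q : ℤ) (h1 : IsZero (extCechH fs M' q))
    (h2 : IsZero (extCechH fs M' (q + 1))) :
    Nonempty (extCechH fs M q ≃+ extCechH fs M'' q) := by
  obtain ⟨α, β, hαβ⟩ := h.extCech a b fs
  haveI := FullCech1.isIso_homologyMap_g hαβ.shortExact q (q + 1) rfl h1 h2
  exact ⟨(asIso (HomologicalComplex.homologyMap β q)).toLinearEquiv.toAddEquiv⟩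

/-- extensions of acyclic modules are acyclic. -/
theorem MSE.ext (h : MSE a b) (fs : List R) (q : ℤ) (h1 : IsZero (extCechH fs M' q))
    (h3 : IsZero (extCechH fs M'' q)) : IsZero (extCechH fs M q) := by
  obtain ⟨α, β, hαβ⟩ := h.extCech a b fs
  exact FullCech1.isZero_homology_mid hαβ.shortExact q h1 h3

end Consequences

section Torsion

theorem subsingleton_localizedModule_of_torsion (f : R) (N : Type*) [AddCommGroup N] [Module R N]
    (hN : ∀ x : N, ∃ k : ℕ, f ^ k • x = 0) :
    Subsingleton (LocalizedModule (Submonoid.powers f) N) := by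
  refine ⟨fun x y => ?_⟩
  have h0 : ∀ z : LocalizedModule (Submonoid.powers f) N, z = 0 := by
    intro z
    induction z using LocalizedModule.induction_on with
    | h m s =>
      obtain ⟨k, hk⟩ := hN m
      refine (LocalizedModule.mk_eq.2 ⟨(⟨f ^ k, k, rfl⟩ : Submonoid.powers f), ?_⟩).trans
        (LocalizedModule.zero_mk s)
      rw [smul_zero, smul_zero, smul_comm]
      change s • (f ^ k • m) = 0
      rw [hk, smul_zero]
  rw [h0 x, h0 y]

/-- for a module on which the elements of `gs` act locally nilpotently, the extended Čech complex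
with respect to elements of `gs` is concentrated in degree `0`. -/
theorem torsion_invariant (M : ModuleCat.{u} R) (gs : List R)
    (hM : ∀ g ∈ gs, ∀ x : M, ∃ k : ℕ, g ^ k • x = 0) :
    ∀ fs : List R, (∀ f ∈ fs, f ∈ gs) →
      (∀ n : ℤ, n ≠ 0 → Subsingleton ((extCech M fs).X n)) ∧
      (∀ g ∈ gs, ∀ x : (extCech M fs).X 0, ∃ k : ℕ, g ^ k • x = 0) := by
  intro fs
  induction fs with
  | nil =>
    intro _
    refine ⟨fun n hn => ModuleCat.subsingleton_of_isZero
      (HomologicalComplex.isZero_single_obj_X _ _ _ _ hn), fun g hg x' => ?_⟩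
    obtain ⟨x, rfl⟩ : ∃ x : ((HomologicalComplex.single (ModuleCat.{u} R)
        (ComplexShape.up ℤ) 0).obj M).X 0, x = x' := ⟨x', rfl⟩
    obtain ⟨k, hk⟩ := hM g hg
      ((HomologicalComplex.singleObjXSelf (ComplexShape.up ℤ) 0 M).hom.hom x)
    refine ⟨k, ?_⟩
    change g ^ k • x = 0
    apply singleIso_hom_injective
    exact (map_smul _ _ _).trans (hk.trans (map_zero _).symm)
  | cons f fs ih =>
    intro hfs
    obtain ⟨ih1, ih2⟩ := ih (fun f' hf' => hfs f' (List.mem_cons_of_mem _ hf'))
    have hf : f ∈ gs := hfs f List.mem_cons_self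
    have hloc : ∀ m : ℤ, Subsingleton
        (((locCx (Submonoid.powers f)).obj (extCech M fs)).X m) := by
      intro m
      by_cases hm : m = 0
      · subst hm
        exact subsingleton_localizedModule_of_torsion f _ (ih2 f hf)
      · haveI := ih1 m hm
        exact subsingleton_localizedModule_of_torsion f _
          (fun x => ⟨0, Subsingleton.elim _ _⟩)
    constructor
    · intro n hn
      refine ⟨fun x y => ?_⟩
      have h0 : ∀ z : (cechStep f (extCech M fs)).X n, z = 0 := by
        intro z
        rw [decomp (locCxUnit (Submonoid.powers f) (extCech M fs)) n n (n + -1) rfl (by omega) z]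
        haveI := ih1 n hn
        haveI := hloc (n + -1)
        rw [Subsingleton.elim (kfst _ n n rfl z) 0, Subsingleton.elim (ksnd _ n (n + -1) _ z) 0,
          map_zero, map_zero, add_zero]
      exact (h0 x).trans (h0 y).symm
    · intro g hg z'
      obtain ⟨z, rfl⟩ : ∃ z : (cechStep f (extCech M fs)).X 0, z = z' := ⟨z', rfl⟩
      have hz : z = kinl (locCxUnit (Submonoid.powers f) (extCech M fs)) 0 0 rfl
          (kfst (locCxUnit (Submonoid.powers f) (extCech M fs)) 0 0 rfl z) := by
        conv_lhs => rw [decomp (locCxUnit (Submonoid.powers f) (extCech M fs)) 0 0 (0 + -1) rfl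
          (by omega) z]
        haveI := hloc (0 + -1)
        rw [Subsingleton.elim (ksnd _ 0 (0 + -1) _ z) 0, map_zero, add_zero]
      obtain ⟨k, hk⟩ := ih2 g hg (kfst (locCxUnit (Submonoid.powers f) (extCech M fs)) 0 0 rfl z)
      refine ⟨k, ?_⟩
      change g ^ k • z = 0
      rw [hz]
      exact (map_smul _ _ _).symm.trans ((congrArg _ hk).trans (map_zero _))

theorem isZero_extCechH_of_torsion (M : ModuleCat.{u} R) (fs : List R)
    (hM : ∀ g ∈ fs, ∀ x : M, ∃ k : ℕ, g ^ k • x = 0) (q : ℤ) (hq : q ≠ 0) :
    IsZero (extCechH fs M q) := by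
  haveI := (torsion_invariant M fs hM fs (fun _ h => h)).1 q hq
  have h : IsZero ((extCech M fs).X q) := ModuleCat.isZero_of_subsingleton _
  have : (extCech M fs).ExactAt q := ShortComplex.exact_of_isZero_X₂ _ h
  exact (HomologicalComplex.exactAt_iff_isZero_homology _ _).1 this

end Torsion

end Groth.Agent.Lib.Helper2.FullCech2
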