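import Mathlib
import Groth.Agent.Lib.Helper2.FullCech3
import Groth.Agent.Lib.Helper2.CechGeoA3
import Groth.Agent.Lib.Helper2.FullCech2

/-!
# The Čech complex of `M~` on `Spec A` for the cover by basic opens: exactness in `M`
-/

set_option autoImplicit false
universe u

open CategoryTheory CategoryTheory.Limits AlgebraicGeometry Opposite TopologicalSpace

namespace Groth.Agent.Lib.Helper2.FullCech4

open Groth.Agent.Lib.Helper17.CechElem Groth.Agent.Lib.Helper2.FullCech3
  Groth.Agent.Lib.Helper2.CechGeoA3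

section Scheme

variable {X : Scheme.{u}} {ι : Type u} (F : ι → Γ(X, ⊤))

theorem basicOpen_prod {J : Type*} (s : Finset J) (g : J → Γ(X, ⊤)) :
    X.basicOpen (∏ a ∈ s, g a) = s.inf (fun a => X.basicOpen (g a)) := by
  classical
  induction s using Finset.induction_on with
  | empty =>
    rw [Finset.prod_empty, Finset.inf_empty]
    exact Scheme.basicOpen_of_isUnit X isUnit_one
  | insert a s ha ih =>
    rw [Finset.prod_insert ha, Finset.inf_insert, Scheme.basicOpen_mul, ih]

theorem W_basicOpen {n : ℕ} (x : Fin (n + 1) → ι) :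
    W (fun i => X.basicOpen (F i)) x = X.basicOpen (∏ a, F (x a)) := by
  rw [basicOpen_prod]
  apply le_antisymm
  · exact Finset.le_inf (fun a _ => W_le (fun i => X.basicOpen (F i)) x a)
  · exact le_W _ _ _ (fun a => Finset.inf_le (Finset.mem_univ a))

end Scheme

section Spec

open Groth.Agent.Lib.Helper2.FullCech2 Groth.Agent.Lib.Helper28.QCohLoc

variable (A : Type u) [CommRing A]

/-- the sheaf associated with a module. -/
noncomputable abbrev Ft (N : ModuleCat.{u} A) : (XA A).Modules :=
  tilde (R := CommRingCat.of A) N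

noncomputable instance instModSec (N : ModuleCat.{u} A) (W : (XA A).Opens) :
    Module A Γ(Ft A N, W) :=
  Scheme.Modules.instModuleCarrierCarrierObjOppositeOpensCarrierCarrierCommRingCatSpecAbPresheafOp
    (R := CommRingCat.of A)

/-- the canonical map `N → Γ(W, N~)`. -/
noncomputable def epsW (N : ModuleCat.{u} A) (W : (XA A).Opens) : N →ₗ[A] Γ(Ft A N, W) :=
  (tilde.toOpen (R := CommRingCat.of A) N W).hom

variable {A}

/-- functoriality of `~`. -/
noncomputable def tmap {N N' : ModuleCat.{u} A} (a : N ⟶ N') : Ft A N ⟶ Ft A N' :=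
  tilde.map (R := CommRingCat.of A) a

/-- the induced map on sections. -/
noncomputable def tapp {N N' : ModuleCat.{u} A} (a : N ⟶ N') (W : (XA A).Opens) :
    Γ(Ft A N, W) →ₗ[A] Γ(Ft A N', W) :=
  ((modulesSpecToSheaf.map (tmap a)).1.app (op W)).hom

theorem tapp_eps {N N' : ModuleCat.{u} A} (a : N ⟶ N') (W : (XA A).Opens) (m : N) :
    tapp a W (epsW A N W m) = epsW A N' W (a.hom m) := by
  have := tilde.toOpen_map_app (R := CommRingCat.of A) a W
  exact congrArg (fun g => g.hom m) this

theorem tapp_eq {N N' : ModuleCat.{u} A} (a : N ⟶ N') (W : (XA A).Opens) (x : Γ(Ft A N, W)) :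
    ((tmap a).mapPresheaf.app (op W)).hom x = tapp a W x := rfl

theorem res_epsW (N : ModuleCat.{u} A) {W W' : (XA A).Opens} (h : W' ≤ W) (m : N) :
    res (Ft A N) h (epsW A N W m) = epsW A N W' m := rfl

theorem res_smul' (N : ModuleCat.{u} A) {W W' : (XA A).Opens} (h : W' ≤ W) (r : A)
    (x : Γ(Ft A N, W)) : res (Ft A N) h (r • x) = r • res (Ft A N) h x :=
  Scheme.Modules.map_smul_Spec (R := CommRingCat.of A) (M := Ft A N) (homOfLE h).op r x

theorem isLoc_epsW (N : ModuleCat.{u} A) (g : A) (W : (XA A).Opens)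
    (hW : W = PrimeSpectrum.basicOpen g) :
    IsLocalizedModule (Submonoid.powers g) (epsW A N W) := by
  subst hW
  exact tilde.instAwayCarrierCarrierObjOppositeOpensCarrierCarrierCommRingCatSpecModuleCatPresheafModulesSheafModulesSpecToSheafOpBasicOpenHomToOpen
    (R := CommRingCat.of A) N g

theorem tapp_eq_map {N N' : ModuleCat.{u} A} (a : N ⟶ N') (g : A) (W : (XA A).Opens)
    (hW : W = PrimeSpectrum.basicOpen g) :
    haveI := isLoc_epsW N g W hW
    haveI := isLoc_epsW N' g W hW
    tapp a W = IsLocalizedModule.map (Submonoid.powers g) (epsW A N W) (epsW A N' W) a.hom := by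
  haveI := isLoc_epsW N g W hW
  haveI := isLoc_epsW N' g W hW
  apply IsLocalizedModule.linearMap_ext (Submonoid.powers g) (epsW A N W) (epsW A N' W)
  ext m
  rw [LinearMap.comp_apply, LinearMap.comp_apply, tapp_eps, IsLocalizedModule.map_apply]

variable {N' N N'' : ModuleCat.{u} A} {a : N' ⟶ N} {b : N ⟶ N''}

theorem tapp_injective (h : MSE a b) (g : A) (W : (XA A).Opens)
    (hW : W = PrimeSpectrum.basicOpen g) : Function.Injective (tapp a W) := by
  haveI := isLoc_epsW N' g W hW
  haveI := isLoc_epsW N g W hW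
  rw [tapp_eq_map a g W hW]
  exact IsLocalizedModule.map_injective _ _ _ _ h.inj

theorem tapp_exact (h : MSE a b) (g : A) (W : (XA A).Opens)
    (hW : W = PrimeSpectrum.basicOpen g) : Function.Exact (tapp a W) (tapp b W) := by
  haveI := isLoc_epsW N' g W hW
  haveI := isLoc_epsW N g W hW
  haveI := isLoc_epsW N'' g W hW
  rw [tapp_eq_map a g W hW, tapp_eq_map b g W hW]
  exact IsLocalizedModule.map_exact _ _ _ _ _ _ h.ex

theorem tapp_surjective (h : MSE a b) (g : A) (W : (XA A).Opens)
    (hW : W = PrimeSpectrum.basicOpen g) : Function.Surjective (tapp b W) := by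
  haveI := isLoc_epsW N g W hW
  haveI := isLoc_epsW N'' g W hW
  rw [tapp_eq_map b g W hW]
  exact IsLocalizedModule.map_surjective _ _ _ _ h.surj

end Spec

end Groth.Agent.Lib.Helper2.FullCech4
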