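import Mathlib
import Groth.Agent.Lib.Helper2.FullCech4
import Groth.Agent.Lib.Helper2.CechGeoA4

/-!
# The augmented Čech complex of `M~` on `Spec A`: long exact sequences in `M`
-/

set_option autoImplicit false
universe u

open CategoryTheory CategoryTheory.Limits AlgebraicGeometry Opposite TopologicalSpace

namespace Groth.Agent.Lib.Helper2.FullCech5

open Groth.Agent.Lib.Helper17.CechElem Groth.Agent.Lib.Helper2.FullCech3
  Groth.Agent.Lib.Helper2.CechGeoA3 Groth.Agent.Lib.Helper2.FullCech4
  Groth.Agent.Lib.Helper2.FullCech2 Groth.Agent.Lib.Helper28.QCohLoc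

variable (A : Type u) [CommRing A] (fs : List A)

/-- the cover of (an open of) `Spec A` by the basic opens of the entries of the list. -/
noncomputable def cov (i : ULift.{u} (Fin fs.length)) : (XA A).Opens :=
  (XA A).basicOpen (phiA A (fs.get i.down))

variable {A}

/-- the product of the entries at a tuple of indices. -/
def gx {n : ℕ} (x : Fin (n + 1) → ULift.{u} (Fin fs.length)) : A := ∏ a, fs.get (x a).down

theorem W_cov {n : ℕ} (x : Fin (n + 1) → ULift.{u} (Fin fs.length)) :
    W (cov A fs) x = PrimeSpectrum.basicOpen (gx fs x) := by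
  have h := W_basicOpen (X := XA A) (fun i : ULift.{u} (Fin fs.length) => phiA A (fs.get i.down)) x
  refine h.trans ?_
  rw [← map_prod]
  exact Groth.Agent.Lib.Helper2.CechGeoA4.basicOpen_phiA A _

/-- the Čech complex of `N~`. -/
noncomputable abbrev KN (N : ModuleCat.{u} A) : CochainComplex AddCommGrpCat.{u} ℕ :=
  K (cov A fs) (Ft A N).presheaf

/-- functoriality of the Čech complex. -/
noncomputable def Kmap {N N' : ModuleCat.{u} A} (a : N ⟶ N') : KN fs N ⟶ KN fs N' :=
  (cechComplexFunctor (cov A fs)).map (tmap a).mapPresheaf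

theorem comp_Kmap {N N' : ModuleCat.{u} A} (a : N ⟶ N') (n : ℕ) (α : (KN fs N).X n)
    (x : Fin (n + 1) → ULift.{u} (Fin fs.length)) :
    comp (cov A fs) (Ft A N').presheaf (((Kmap fs a).f n).hom α) x =
      tapp a (W (cov A fs) x) (comp (cov A fs) (Ft A N).presheaf α x) :=
  comp_map (cov A fs) n (tmap a).mapPresheaf α x

/-- the augmentation, as a function. -/
noncomputable def epsFun (N : ModuleCat.{u} A) (m : N) : (KN fs N).X 0 :=
  mk (cov A fs) (Ft A N).presheaf (fun x => epsW A N (W (cov A fs) x) m)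

theorem comp_epsFun (N : ModuleCat.{u} A) (m : N) (x : Fin (0 + 1) → ULift.{u} (Fin fs.length)) :
    comp (cov A fs) (Ft A N).presheaf (epsFun fs N m) x = epsW A N (W (cov A fs) x) m :=
  comp_mk _ _ _ x

/-- the augmentation. -/
noncomputable def epsK (N : ModuleCat.{u} A) : AddCommGrpCat.of N ⟶ (KN fs N).X 0 :=
  AddCommGrpCat.ofHom (AddMonoidHom.mk' (epsFun fs N) (by
    intro m m'
    apply Groth.Agent.Lib.Helper17.CechElem.ext
    intro x
    refine (?_ : _ = _).trans (comp_add (cov A fs) 0 (epsFun fs N m) (epsFun fs N m') x).symm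
    rw [comp_epsFun, comp_epsFun, comp_epsFun, map_add]))

theorem epsK_apply (N : ModuleCat.{u} A) (m : N) : (epsK fs N).hom m = epsFun fs N m := rfl

theorem epsK_d (N : ModuleCat.{u} A) : epsK fs N ≫ (KN fs N).d 0 1 = 0 := by
  ext m
  change ((KN fs N).d 0 1).hom (epsFun fs N m) = 0
  apply Groth.Agent.Lib.Helper17.CechElem.ext
  intro y
  rw [comp_d, comp_zero, Fin.sum_univ_two, comp_epsFun, comp_epsFun]
  change (-1 : ℤ) ^ ((0 : Fin 2) : ℕ) • epsW A N (W (cov A fs) y) m +
    (-1 : ℤ) ^ ((1 : Fin 2) : ℕ) • epsW A N (W (cov A fs) y) m = 0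
  simp

/-- the augmented Čech complex of `N~`. -/
noncomputable def KA (N : ModuleCat.{u} A) : CochainComplex AddCommGrpCat.{u} ℕ :=
  (KN fs N).augment (epsK fs N) (epsK_d fs N)

theorem epsK_Kmap {N N' : ModuleCat.{u} A} (a : N ⟶ N') :
    epsK fs N ≫ (Kmap fs a).f 0 = AddCommGrpCat.ofHom a.hom.toAddMonoidHom ≫ epsK fs N' := by
  ext m
  change ((Kmap fs a).f 0).hom (epsFun fs N m) = epsFun fs N' (a.hom m)
  apply Groth.Agent.Lib.Helper17.CechElem.ext
  intro x
  rw [comp_Kmap, comp_epsFun, comp_epsFun, tapp_eps]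

/-- functoriality of the augmented Čech complex. -/
noncomputable def KAmap {N N' : ModuleCat.{u} A} (a : N ⟶ N') : KA fs N ⟶ KA fs N' :=
  augmentMap _ _ _ _ (AddCommGrpCat.ofHom a.hom.toAddMonoidHom) (Kmap fs a) (epsK_Kmap fs a)

theorem KAmap_f_zero {N N' : ModuleCat.{u} A} (a : N ⟶ N') :
    (KAmap fs a).f 0 = AddCommGrpCat.ofHom a.hom.toAddMonoidHom := rfl

theorem KAmap_f_succ {N N' : ModuleCat.{u} A} (a : N ⟶ N') (n : ℕ) :
    (KAmap fs a).f (n + 1) = (Kmap fs a).f n := rfl

section SES

variable {N' N N'' : ModuleCat.{u} A} {a : N' ⟶ N} {b : N ⟶ N''}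

theorem Kmap_injective (h : MSE a b) (n : ℕ) : Function.Injective ((Kmap fs a).f n).hom := by
  rw [injective_iff_map_eq_zero]
  intro α hα
  apply Groth.Agent.Lib.Helper17.CechElem.ext
  intro x
  have h1 := comp_Kmap fs a n α x
  rw [hα, comp_zero] at h1
  rw [comp_zero]
  exact tapp_injective h (gx fs x) _ (W_cov fs x) (h1.symm.trans (map_zero _).symm)

theorem Kmap_exact (h : MSE a b) (n : ℕ) (β : (KN fs N).X n)
    (hβ : ((Kmap fs b).f n).hom β = 0) : ∃ α, ((Kmap fs a).f n).hom α = β := by
  have h1 : ∀ x, ∃ αx, tapp a (W (cov A fs) x) αx = comp (cov A fs) (Ft A N).presheaf β x := by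
    intro x
    have h2 := comp_Kmap fs b n β x
    rw [hβ, comp_zero] at h2
    exact ((tapp_exact h (gx fs x) _ (W_cov fs x)) _).1 h2.symm
  choose αf hαf using h1
  refine ⟨mk (cov A fs) (Ft A N').presheaf αf, ?_⟩
  apply Groth.Agent.Lib.Helper17.CechElem.ext
  intro x
  rw [comp_Kmap, comp_mk, hαf]

theorem Kmap_comp_apply (h : MSE a b) (n : ℕ) (α : (KN fs N').X n) :
    ((Kmap fs b).f n).hom (((Kmap fs a).f n).hom α) = 0 := by
  apply Groth.Agent.Lib.Helper17.CechElem.ext
  intro x
  rw [comp_Kmap, comp_Kmap, comp_zero]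
  exact (tapp_exact h (gx fs x) _ (W_cov fs x)).apply_apply_eq_zero _

theorem Kmap_surjective (h : MSE a b) (n : ℕ) :
    Function.Surjective ((Kmap fs b).f n).hom := by
  intro γ
  have h1 : ∀ x, ∃ βx, tapp b (W (cov A fs) x) βx = comp (cov A fs) (Ft A N'').presheaf γ x :=
    fun x => tapp_surjective h (gx fs x) _ (W_cov fs x) _
  choose βf hβf using h1
  refine ⟨mk (cov A fs) (Ft A N).presheaf βf, ?_⟩
  apply Groth.Agent.Lib.Helper17.CechElem.ext
  intro x
  rw [comp_Kmap, comp_mk, hβf]

theorem KAmap_comp (h : MSE a b) : KAmap fs a ≫ KAmap fs b = 0 := by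
  ext n : 1
  cases n with
  | zero =>
    ext m
    exact h.ex.apply_apply_eq_zero m
  | succ n =>
    ext α
    exact Kmap_comp_apply fs h n α

theorem KA_shortExact (h : MSE a b) :
    (ShortComplex.mk (KAmap fs a) (KAmap fs b) (KAmap_comp fs h)).ShortExact := by
  refine HomologicalComplex.shortExact_of_degreewise_shortExact _ (fun n => ?_)
  cases n with
  | zero =>
    exact
      { exact := by
          rw [ShortComplex.ab_exact_iff]
          intro x hx
          exact (h.ex x).1 hx
        mono_f := (AddCommGrpCat.mono_iff_injective _).2 h.inj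
        epi_g := (AddCommGrpCat.epi_iff_surjective _).2 h.surj }
  | succ n =>
    exact
      { exact := by
          rw [ShortComplex.ab_exact_iff]
          intro x hx
          exact Kmap_exact fs h n x hx
        mono_f := (AddCommGrpCat.mono_iff_injective _).2 (Kmap_injective fs h n)
        epi_g := (AddCommGrpCat.epi_iff_surjective _).2 (Kmap_surjective fs h n) }

end SES

section Consequences

variable {N' N N'' : ModuleCat.{u} A} {a : N' ⟶ N} {b : N ⟶ N''}

/-- dimension shifting along a short exact sequence with acyclic middle term. -/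
theorem S_shift (h : MSE a b) (hN : ∀ q : ℕ, IsZero ((KA fs N).homology q)) (q : ℕ) :
    Nonempty ((KA fs N'').homology q ≃+ (KA fs N').homology (q + 1)) := by
  obtain ⟨e⟩ := FullCech1.nonempty_δIso (KA_shortExact fs h) q (q + 1) rfl (hN q) (hN (q + 1))
  exact ⟨e.addCommGroupIsoToAddEquiv⟩

/-- the quotient map induces an isomorphism where the sub has no cohomology. -/
theorem S_mid (h : MSE a b) (q : ℕ) (h1 : IsZero ((KA fs N').homology q))
    (h2 : IsZero ((KA fs N').homology (q + 1))) :
    Nonempty ((KA fs N).homology q ≃+ (KA fs N'').homology q) := by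
  haveI := FullCech1.isIso_homologyMap_g (KA_shortExact fs h) q (q + 1) rfl h1 h2
  exact ⟨(asIso (HomologicalComplex.homologyMap (KAmap fs b) q)).addCommGroupIsoToAddEquiv⟩

/-- extensions of acyclic modules are acyclic. -/
theorem S_ext (h : MSE a b) (q : ℕ) (h1 : IsZero ((KA fs N').homology q))
    (h3 : IsZero ((KA fs N'').homology q)) : IsZero ((KA fs N).homology q) :=
  FullCech1.isZero_homology_mid (KA_shortExact fs h) q h1 h3

end Consequences

end Groth.Agent.Lib.Helper2.FullCech5
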