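import Mathlib
import Groth.Agent.Lib.Helper2.FullCech5

/-!
# Vanishing results for the augmented Čech complex of `M~`: torsion modules and modules on which
one of the functions is invertible
-/

set_option autoImplicit false
universe u

open CategoryTheory CategoryTheory.Limits AlgebraicGeometry Opposite TopologicalSpace

namespace Groth.Agent.Lib.Helper2.FullCech6

open Groth.Agent.Lib.Helper17.CechElem Groth.Agent.Lib.Helper2.FullCech3
  Groth.Agent.Lib.Helper2.CechGeoA3 Groth.Agent.Lib.Helper2.FullCech4
  Groth.Agent.Lib.Helper2.FullCech5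
  Groth.Agent.Lib.Helper2.FullCech2 Groth.Agent.Lib.Helper28.QCohLoc

section Alg

variable {R : Type*} [CommRing R] {M M' : Type*} [AddCommGroup M] [Module R M]
  [AddCommGroup M'] [Module R M']

theorem subsingleton_of_isLocalizedModule_of_torsion (g : R) (l : M →ₗ[R] M')
    [IsLocalizedModule (Submonoid.powers g) l] (h : ∀ m : M, ∃ k : ℕ, g ^ k • m = 0) :
    Subsingleton M' := by
  have h0 : ∀ y : M', y = 0 := by
    intro y
    obtain ⟨⟨m, s⟩, hs⟩ := IsLocalizedModule.surj (Submonoid.powers g) l y
    obtain ⟨k, hk⟩ := h m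
    have hu : ∀ t : Submonoid.powers g, Function.Injective (fun z : M' => t • z) := by
      intro t
      have := IsLocalizedModule.map_units l t
      rw [Module.End.isUnit_iff] at this
      exact this.1
    apply hu s
    apply hu ⟨g ^ k, k, rfl⟩
    change (g ^ k) • (s • y) = (g ^ k) • (s • (0 : M'))
    rw [smul_zero, smul_zero]
    change (g ^ k) • (s • y) = 0
    have hs' : s • y = l m := hs
    rw [hs', ← map_smul, hk, map_zero]
  exact ⟨fun a b => (h0 a).trans (h0 b).symm⟩

/-- a localization of a module on which `f` acts bijectively: `f` acts bijectively. -/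
theorem smul_bijective_of_isLocalizedModule (S : Submonoid R) (l : M →ₗ[R] M')
    [IsLocalizedModule S l] (f : R) (hf : Function.Bijective (fun m : M => f • m)) :
    Function.Bijective (fun y : M' => f • y) := by
  have h1 : IsLocalizedModule.map S l l (f • LinearMap.id : M →ₗ[R] M) = f • LinearMap.id := by
    apply IsLocalizedModule.linearMap_ext S l l
    ext m
    rw [LinearMap.comp_apply, LinearMap.comp_apply, IsLocalizedModule.map_apply]
    simp
  have h2 : Function.Bijective (IsLocalizedModule.map S l l (f • LinearMap.id : M →ₗ[R] M)) :=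
    ⟨IsLocalizedModule.map_injective S l l _ hf.1, IsLocalizedModule.map_surjective S l l _ hf.2⟩
  rw [h1] at h2
  exact h2

/-- if `f` acts bijectively on `M`, a localization of `M` at the powers of `g` is also one at the
powers of `f * g`. -/
theorem isLocalizedModule_mul (f g : R) (l : M →ₗ[R] M')
    [IsLocalizedModule (Submonoid.powers g) l] (hf : Function.Bijective (fun m : M => f • m)) :
    IsLocalizedModule (Submonoid.powers (f * g)) l := by
  have hf' := smul_bijective_of_isLocalizedModule (Submonoid.powers g) l f hf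
  have hpow : ∀ k : ℕ, Function.Bijective (fun y : M' => f ^ k • y) := by
    intro k
    induction k with
    | zero =>
      simp only [pow_zero, one_smul]
      exact Function.bijective_id
    | succ k ih =>
      have : (fun y : M' => f ^ (k + 1) • y) = (fun y => f ^ k • y) ∘ (fun y => f • y) := by
        funext y
        simp [pow_succ, mul_smul]
      rw [this]
      exact ih.comp hf'
  refine ⟨?_, ?_, ?_⟩
  · rintro ⟨_, k, rfl⟩
    rw [Module.End.isUnit_iff]
    have hg := IsLocalizedModule.map_units l (⟨g ^ k, k, rfl⟩ : Submonoid.powers g)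
    rw [Module.End.isUnit_iff] at hg
    have : (fun y : M' => ((f * g) ^ k) • y) = (fun y => f ^ k • y) ∘ (fun y => g ^ k • y) := by
      funext y
      simp [mul_pow, mul_smul]
    change Function.Bijective (fun y : M' => ((f * g) ^ k) • y)
    rw [this]
    exact (hpow k).comp hg
  · intro y
    obtain ⟨⟨m, ⟨_, k, rfl⟩⟩, hs⟩ := IsLocalizedModule.surj (Submonoid.powers g) l y
    refine ⟨⟨f ^ k • m, ⟨(f * g) ^ k, k, rfl⟩⟩, ?_⟩
    change ((f * g) ^ k) • y = l (f ^ k • m)
    have hs' : g ^ k • y = l m := hs
    rw [mul_pow, mul_smul, hs', map_smul]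
  · intro m m' hmm
    obtain ⟨⟨_, k, rfl⟩, hk⟩ := IsLocalizedModule.exists_of_eq (S := Submonoid.powers g) hmm
    refine ⟨⟨(f * g) ^ k, k, rfl⟩, ?_⟩
    change ((f * g) ^ k) • m = ((f * g) ^ k) • m'
    have hk' : g ^ k • m = g ^ k • m' := hk
    rw [mul_pow, mul_smul, mul_smul, hk']

/-- a localization map of a module on which the element is already bijective is bijective. -/
theorem bijective_of_isLocalizedModule (g : R) (l : M →ₗ[R] M')
    [IsLocalizedModule (Submonoid.powers g) l] (hg : Function.Bijective (fun m : M => g • m)) :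
    Function.Bijective l := by
  haveI : IsLocalizedModule (Submonoid.powers g) (LinearMap.id : M →ₗ[R] M) := by
    refine ⟨?_, fun y => ⟨⟨y, 1⟩, by simp⟩, fun h => ⟨1, by simpa using h⟩⟩
    rintro ⟨_, k, rfl⟩
    rw [Module.End.isUnit_iff]
    change Function.Bijective (fun m : M => g ^ k • m)
    induction k with
    | zero =>
      simp only [pow_zero, one_smul]
      exact Function.bijective_id
    | succ k ih =>
      have : (fun y : M => g ^ (k + 1) • y) = (fun y => g ^ k • y) ∘ (fun y => g • y) := by
        funext y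
        simp [pow_succ, mul_smul]
      rw [this]
      exact ih.comp hg
  have h1 : (IsLocalizedModule.linearEquiv (Submonoid.powers g) (LinearMap.id : M →ₗ[R] M)
      l).toLinearMap = l := by
    ext m
    have := IsLocalizedModule.linearEquiv_apply (Submonoid.powers g) (LinearMap.id : M →ₗ[R] M)
      l m
    simpa using this
  rw [← h1]
  exact (IsLocalizedModule.linearEquiv (Submonoid.powers g) (LinearMap.id : M →ₗ[R] M)
    l).bijective

end Alg

section Contract

variable {X : TopCat.{u}} {ι : Type u} (V : ι → Opens X) (P : (Opens X)ᵒᵖ ⥤ AddCommGrpCat.{u})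
  (j : ι)

theorem W_cons_le {n : ℕ} (x : Fin (n + 1) → ι) :
    W V (Fin.cons j x : Fin (n + 2) → ι) ≤ W V x :=
  le_W V x _ (fun a => by
    have h := W_le V (Fin.cons j x : Fin (n + 2) → ι) a.succ
    rwa [Fin.cons_succ] at h)

/-- restriction of a component of a cochain to a smaller open. -/
noncomputable def rs {n : ℕ} (α : (K V P).X n) (x : Fin (n + 1) → ι) (T : Opens X)
    (hT : T ≤ W V x) : P.obj (op T) :=
  P.map (homOfLE hT).op (comp V P α x)

theorem rs_congr {n : ℕ} (α : (K V P).X n) {x x' : Fin (n + 1) → ι} (h : x = x') (T : Opens X)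
    (hT : T ≤ W V x) (hT' : T ≤ W V x') : rs V P α x T hT = rs V P α x' T hT' := by
  subst h
  rfl

theorem map_rs {n : ℕ} (α : (K V P).X n) (x : Fin (n + 1) → ι) (T T' : Opens X)
    (hT : T ≤ W V x) (hT' : T' ≤ T) :
    P.map (homOfLE hT').op (rs V P α x T hT) = rs V P α x T' (hT'.trans hT) := by
  unfold rs
  rw [← ConcreteCategory.comp_apply, ← Functor.map_comp]
  rfl

theorem comp_d_rs {n : ℕ} (α : (K V P).X n) (y : Fin (n + 2) → ι) :
    comp V P ((K V P).d n (n + 1) α) y =
      ∑ i : Fin (n + 2), (-1 : ℤ) ^ (i : ℕ) •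
        rs V P α (y ∘ Fin.succAbove i) (W V y) (W_face_le V y i) :=
  comp_d V P α y

theorem cons_comp_succAbove_zero {n : ℕ} (y : Fin (n + 1) → ι) :
    (Fin.cons j y : Fin (n + 2) → ι) ∘ Fin.succAbove 0 = y := by
  funext a
  simp [Fin.succAbove_zero]

theorem cons_comp_succAbove_succ {n : ℕ} (y : Fin (n + 2) → ι) (i : Fin (n + 2)) :
    (Fin.cons j y : Fin (n + 3) → ι) ∘ Fin.succAbove i.succ =
      (Fin.cons j (y ∘ Fin.succAbove i) : Fin (n + 2) → ι) := by
  funext a
  refine Fin.cases ?_ (fun a' => ?_) a
  · simp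
  · simp [Fin.succ_succAbove_succ]

theorem W_cons_face_le {n : ℕ} (y : Fin (n + 2) → ι) (i : Fin (n + 2)) :
    W V (Fin.cons j y : Fin (n + 3) → ι) ≤
      W V (Fin.cons j (y ∘ Fin.succAbove i) : Fin (n + 2) → ι) := by
  have h := W_face_le V (Fin.cons j y : Fin (n + 3) → ι) i.succ
  rwa [cons_comp_succAbove_succ] at h

/-- contraction of the Čech complex in positive degrees when all restrictions
`P(W x) → P(V j ⊓ W x)` are bijective. -/
theorem contract
    (hρ : ∀ (n : ℕ) (x : Fin (n + 1) → ι),
      Function.Bijective (P.map (homOfLE (W_cons_le V j x)).op))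
    (p : ℕ) (α : (K V P).X (p + 1)) (hα : (K V P).d (p + 1) (p + 2) α = 0) :
    ∃ β : (K V P).X p, (K V P).d p (p + 1) β = α := by
  have hβ : ∀ x : Fin (p + 1) → ι, ∃ b : P.obj (op (W V x)),
      P.map (homOfLE (W_cons_le V j x)).op b = comp V P α (Fin.cons j x) :=
    fun x => (hρ p x).2 _
  choose βf hβf using hβ
  refine ⟨mk V P βf, ?_⟩
  apply Groth.Agent.Lib.Helper17.CechElem.ext
  intro y
  apply (hρ (p + 1) y).1
  -- the right-hand side, from the cocycle condition
  have h0 : comp V P ((K V P).d (p + 1) (p + 2) α) (Fin.cons j y) = 0 := by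
    rw [hα, comp_zero]
  rw [comp_d_rs, Fin.sum_univ_succ] at h0
  have e0 : rs V P α ((Fin.cons j y : Fin (p + 3) → ι) ∘ Fin.succAbove 0) (W V (Fin.cons j y))
      (W_face_le V _ 0) = P.map (homOfLE (W_cons_le V j y)).op (comp V P α y) :=
    rs_congr V P α (cons_comp_succAbove_zero j y) _ _ (W_cons_le V j y)
  have e1 : ∀ i : Fin (p + 2),
      rs V P α ((Fin.cons j y : Fin (p + 3) → ι) ∘ Fin.succAbove i.succ) (W V (Fin.cons j y))
        (W_face_le V _ i.succ) =
      rs V P α (Fin.cons j (y ∘ Fin.succAbove i)) (W V (Fin.cons j y))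
        (W_cons_face_le V j y i) :=
    fun i => rs_congr V P α (cons_comp_succAbove_succ j y i) _ _ _
  rw [e0] at h0
  simp only [e1] at h0
  -- the left-hand side
  have hl : P.map (homOfLE (W_cons_le V j y)).op
      (comp V P ((K V P).d p (p + 1) (mk V P βf)) y) =
      ∑ i : Fin (p + 2), (-1 : ℤ) ^ (i : ℕ) •
        rs V P α (Fin.cons j (y ∘ Fin.succAbove i)) (W V (Fin.cons j y))
        (W_cons_face_le V j y i) := by
    rw [comp_d_rs, map_sum]
    refine Finset.sum_congr rfl (fun i _ => ?_)
    rw [map_zsmul, map_rs]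
    congr 1
    -- both sides are restrictions of the same section
    have hx := hβf (y ∘ Fin.succAbove i)
    unfold rs
    rw [← hx, comp_mk, ← ConcreteCategory.comp_apply, ← Functor.map_comp]
    rfl
  rw [hl]
  have h1 : P.map (homOfLE (W_cons_le V j y)).op (comp V P α y) =
      -∑ i : Fin (p + 2), (-1 : ℤ) ^ ((i.succ : Fin (p + 3)) : ℕ) •
        rs V P α (Fin.cons j (y ∘ Fin.succAbove i)) (W V (Fin.cons j y))
        (W_cons_face_le V j y i) := by
    rw [eq_neg_iff_add_eq_zero]
    simpa using h0
  rw [h1, ← Finset.sum_neg_distrib]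
  refine Finset.sum_congr rfl (fun i _ => ?_)
  rw [Fin.val_succ, pow_succ]
  simp

end Contract

end Groth.Agent.Lib.Helper2.FullCech6
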