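import Mathlib
import Groth.Agent.Lib.Helper2.FullCech6

/-!
# Vanishing of the cohomology of the augmented Čech complex of `M~` for torsion modules and for
modules on which one of the functions acts bijectively
-/

set_option autoImplicit false
universe u

open CategoryTheory CategoryTheory.Limits AlgebraicGeometry Opposite TopologicalSpace

namespace Groth.Agent.Lib.Helper2.FullCech7

open Groth.Agent.Lib.Helper17.CechElem Groth.Agent.Lib.Helper2.FullCech3
  Groth.Agent.Lib.Helper2.CechGeoA3 Groth.Agent.Lib.Helper2.FullCech4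
  Groth.Agent.Lib.Helper2.FullCech5 Groth.Agent.Lib.Helper2.FullCech6
  Groth.Agent.Lib.Helper2.FullCech2 Groth.Agent.Lib.Helper28.QCohLoc

section Alg

variable {R : Type*} [CommRing R] {M M₁ M₂ : Type*} [AddCommGroup M] [Module R M]
  [AddCommGroup M₁] [Module R M₁] [AddCommGroup M₂] [Module R M₂]

theorem bijective_of_two_localizations (S : Submonoid R) (l : M →ₗ[R] M₁) (l' : M →ₗ[R] M₂)
    [IsLocalizedModule S l] [IsLocalizedModule S l'] (r : M₁ →ₗ[R] M₂)
    (h : ∀ m, r (l m) = l' m) : Function.Bijective r := by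
  have h1 : r = (IsLocalizedModule.linearEquiv S l l').toLinearMap := by
    apply IsLocalizedModule.linearMap_ext S l l'
    ext m
    rw [LinearMap.comp_apply, LinearMap.comp_apply, h]
    exact (IsLocalizedModule.linearEquiv_apply S l l' m).symm
  rw [h1]
  exact (IsLocalizedModule.linearEquiv S l l').bijective

end Alg

variable {A : Type u} [CommRing A] (fs : List A)

/-- restriction as a linear map. -/
noncomputable def resLin (N : ModuleCat.{u} A) {W W' : (XA A).Opens} (h : W' ≤ W) :
    Γ(Ft A N, W) →ₗ[A] Γ(Ft A N, W') where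
  toFun := res (Ft A N) h
  map_add' := map_add _
  map_smul' r x := res_smul' N h r x

theorem gx_cons {n : ℕ} (j : ULift.{u} (Fin fs.length))
    (x : Fin (n + 1) → ULift.{u} (Fin fs.length)) :
    gx fs (Fin.cons j x : Fin (n + 2) → ULift.{u} (Fin fs.length)) =
      fs.get j.down * gx fs x := by
  unfold gx
  rw [Fin.prod_univ_succ]
  simp

theorem gx_const (j : ULift.{u} (Fin fs.length)) :
    gx fs (fun _ : Fin (0 + 1) => j) = fs.get j.down := by
  unfold gx
  simp

section Torsion

variable (N : ModuleCat.{u} A) (hN : ∀ f ∈ fs, ∀ m : N, ∃ k : ℕ, f ^ k • m = 0)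

include hN

theorem subsingleton_sections_of_torsion {n : ℕ} (x : Fin (n + 1) → ULift.{u} (Fin fs.length)) :
    Subsingleton Γ(Ft A N, W (cov A fs) x) := by
  haveI := isLoc_epsW N (gx fs x) _ (W_cov fs x)
  refine subsingleton_of_isLocalizedModule_of_torsion (gx fs x) (epsW A N (W (cov A fs) x)) ?_
  intro m
  obtain ⟨k, hk⟩ := hN (fs.get (x 0).down) (List.get_mem _ _) m
  refine ⟨k, ?_⟩
  have hd : fs.get (x 0).down ∣ gx fs x := Finset.dvd_prod_of_mem _ (Finset.mem_univ 0)
  obtain ⟨c, hc⟩ := hd
  rw [hc, mul_pow, mul_comm, mul_smul, hk, smul_zero]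

theorem subsingleton_KN_of_torsion (n : ℕ) : Subsingleton ((KN fs N).X n) := by
  refine ⟨fun α β => ?_⟩
  apply Groth.Agent.Lib.Helper17.CechElem.ext
  intro x
  haveI := subsingleton_sections_of_torsion fs N hN x
  exact Subsingleton.elim _ _

theorem isZero_KA_homology_of_torsion (q : ℕ) : IsZero ((KA fs N).homology (q + 1)) := by
  haveI := subsingleton_KN_of_torsion fs N hN q
  have h : IsZero ((KA fs N).X (q + 1)) := by
    change IsZero ((KN fs N).X q)
    exact AddCommGrpCat.isZero_of_subsingleton _
  have : (KA fs N).ExactAt (q + 1) := ShortComplex.exact_of_isZero_X₂ _ h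
  exact (HomologicalComplex.exactAt_iff_isZero_homology _ _).1 this

end Torsion

section Bij

variable (N : ModuleCat.{u} A) (j : ULift.{u} (Fin fs.length))
  (hbij : Function.Bijective (fun m : N => fs.get j.down • m))

include hbij

theorem bijective_res_cons {n : ℕ} (x : Fin (n + 1) → ULift.{u} (Fin fs.length)) :
    Function.Bijective ((Ft A N).presheaf.map
      (homOfLE (W_cons_le (cov A fs) j x)).op) := by
  haveI h1 := isLoc_epsW N (gx fs x) _ (W_cov fs x)
  haveI h2 : IsLocalizedModule (Submonoid.powers (fs.get j.down * gx fs x))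
      (epsW A N (W (cov A fs) (Fin.cons j x : Fin (n + 2) → ULift.{u} (Fin fs.length)))) := by
    have := isLoc_epsW N (gx fs (Fin.cons j x : Fin (n + 2) → ULift.{u} (Fin fs.length))) _
      (W_cov fs _)
    rwa [gx_cons] at this
  haveI h3 : IsLocalizedModule (Submonoid.powers (fs.get j.down * gx fs x))
      (epsW A N (W (cov A fs) x)) :=
    isLocalizedModule_mul (fs.get j.down) (gx fs x) _ hbij
  exact bijective_of_two_localizations (Submonoid.powers (fs.get j.down * gx fs x))
    (epsW A N (W (cov A fs) x)) (epsW A N (W (cov A fs) (Fin.cons j x)))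
    (resLin N (W_cons_le (cov A fs) j x)) (fun m => rfl)

theorem bijective_eps_const :
    Function.Bijective (epsW A N (W (cov A fs) (fun _ : Fin (0 + 1) => j))) := by
  haveI := isLoc_epsW N (gx fs (fun _ : Fin (0 + 1) => j)) _ (W_cov fs _)
  refine bijective_of_isLocalizedModule (gx fs (fun _ : Fin (0 + 1) => j)) _ ?_
  rw [gx_const]
  exact hbij

theorem isZero_KA_homology_of_bijective (q : ℕ) : IsZero ((KA fs N).homology q) := by
  have hρ := fun (n : ℕ) (x : Fin (n + 1) → ULift.{u} (Fin fs.length)) =>
    bijective_res_cons fs N j hbij x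
  match q with
  | 0 =>
    apply isZero_homology_zero
    intro m hm
    have hm' : epsFun fs N m = 0 := hm
    have h1 := comp_epsFun fs N m (fun _ : Fin (0 + 1) => j)
    rw [hm', comp_zero] at h1
    exact (bijective_eps_const fs N j hbij).1 (h1.symm.trans (map_zero _).symm)
  | 1 =>
    apply isZero_homology_succ (KA fs N) 0
    intro α' hα'
    obtain ⟨α, rfl⟩ : ∃ α : (KN fs N).X 0, α = α' := ⟨α', rfl⟩
    have hα : (KN fs N).d 0 1 α = 0 := hα'
    obtain ⟨m, hm⟩ := (bijective_eps_const fs N j hbij).2
      (comp (cov A fs) (Ft A N).presheaf α (fun _ : Fin (0 + 1) => j))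
    refine ⟨m, ?_⟩
    change epsFun fs N m = α
    apply Groth.Agent.Lib.Helper17.CechElem.ext
    intro x
    rw [comp_epsFun]
    apply (hρ 0 x).1
    have h0 : comp (cov A fs) (Ft A N).presheaf ((KN fs N).d 0 1 α) (Fin.cons j x) = 0 := by
      rw [hα, comp_zero]
    rw [comp_d_rs, Fin.sum_univ_two] at h0
    have e0 : rs (cov A fs) (Ft A N).presheaf α
        ((Fin.cons j x : Fin 2 → ULift.{u} (Fin fs.length)) ∘ Fin.succAbove 0)
        (W (cov A fs) (Fin.cons j x)) (W_face_le _ _ 0) =
        (Ft A N).presheaf.map (homOfLE (W_cons_le (cov A fs) j x)).op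
          (comp (cov A fs) (Ft A N).presheaf α x) :=
      rs_congr _ _ α (cons_comp_succAbove_zero j x) _ _ (W_cons_le (cov A fs) j x)
    have hx1 : (Fin.cons j x : Fin 2 → ULift.{u} (Fin fs.length)) ∘ Fin.succAbove 1 =
        (fun _ : Fin (0 + 1) => j) := by
      funext a
      have ha : a = 0 := Subsingleton.elim _ _
      subst ha
      rfl
    have hle : W (cov A fs) (Fin.cons j x : Fin 2 → ULift.{u} (Fin fs.length)) ≤
        W (cov A fs) (fun _ : Fin (0 + 1) => j) := by
      have := W_face_le (cov A fs) (Fin.cons j x : Fin 2 → ULift.{u} (Fin fs.length)) 1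
      rwa [hx1] at this
    have e1 : rs (cov A fs) (Ft A N).presheaf α
        ((Fin.cons j x : Fin 2 → ULift.{u} (Fin fs.length)) ∘ Fin.succAbove 1)
        (W (cov A fs) (Fin.cons j x)) (W_face_le _ _ 1) =
        rs (cov A fs) (Ft A N).presheaf α (fun _ : Fin (0 + 1) => j)
          (W (cov A fs) (Fin.cons j x)) hle :=
      rs_congr _ _ α hx1 _ _ hle
    rw [e0, e1] at h0
    have h2 : (Ft A N).presheaf.map (homOfLE (W_cons_le (cov A fs) j x)).op
        (comp (cov A fs) (Ft A N).presheaf α x) =
        rs (cov A fs) (Ft A N).presheaf α (fun _ : Fin (0 + 1) => j)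
          (W (cov A fs) (Fin.cons j x)) hle := by
      have h3 := h0
      simp only [Fin.val_zero, pow_zero, one_smul, Fin.val_one, pow_one, neg_smul] at h3
      exact add_neg_eq_zero.1 h3
    rw [h2]
    unfold rs
    rw [← hm]
    rfl
  | (p + 2) =>
    apply isZero_homology_succ (KA fs N) (p + 1)
    intro α hα
    exact contract (cov A fs) (Ft A N).presheaf j hρ p α hα

end Bij

end Groth.Agent.Lib.Helper2.FullCech7
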