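import Mathlib
import Groth.Agent.Lib.Helper2.FullCech7
import Groth.Agent.Lib.Helper2.CechGeoA4

/-!
# Degree `0`: the kernel of the augmentation is `H^0` of the extended alternating Čech complex
-/

set_option autoImplicit false
universe u

open CategoryTheory CategoryTheory.Limits AlgebraicGeometry Opposite TopologicalSpace

namespace Groth.Agent.Lib.Helper2.FullCech8

open Groth.Agent.Lib.Helper17.CechElem Groth.Agent.Lib.Helper2.FullCech3
  Groth.Agent.Lib.Helper2.CechGeoA3 Groth.Agent.Lib.Helper2.FullCech4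
  Groth.Agent.Lib.Helper2.FullCech5 Groth.Agent.Lib.Helper2.FullCech6
  Groth.Agent.Lib.Helper2.FullCech7 Groth.Agent.Lib.Helper2.CechGeoA1
  Groth.Agent.Lib.Helper2.CechGeoA2 Groth.Agent.Lib.Helper2.CechGeoA4
  Groth.Agent.Lib.Helper2.FullCech2 Groth.Agent.Lib.Helper28.QCohLoc

variable {A : Type u} [CommRing A] (fs : List A)

theorem cov_le_UofA (i : ULift.{u} (Fin fs.length)) : cov A fs i ≤ UofA (phiA A) fs := by
  intro p hp
  rw [mem_UofA]
  exact ⟨fs.get i.down, List.get_mem _ _, (mem_basicOpen_phiA A _ p).1 hp⟩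

theorem UofA_le_iSup_cov : UofA (phiA A) fs ≤ ⨆ i, cov A fs i := by
  intro p hp
  rw [mem_UofA] at hp
  obtain ⟨f, hf, hfp⟩ := hp
  obtain ⟨i, rfl⟩ := List.mem_iff_get.1 hf
  exact Opens.mem_iSup.2 ⟨⟨i⟩, (mem_basicOpen_phiA A _ p).2 hfp⟩

theorem W_le_cov (x : Fin (0 + 1) → ULift.{u} (Fin fs.length)) :
    W (cov A fs) x ≤ cov A fs (x 0) := W_le _ x 0

theorem cov_le_W (i : ULift.{u} (Fin fs.length)) :
    cov A fs i ≤ W (cov A fs) (fun _ : Fin (0 + 1) => i) :=
  le_W _ _ _ (fun _ => le_rfl)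

variable (N : ModuleCat.{u} A)

/-- `N ≃ Γ(Spec A, N~)`. -/
noncomputable def epsEquivN : N ≃ₗ[A] SecA (phiA A) (Ft A N) ⊤ := epsEquiv A N

theorem ofSecA_epsEquivN (m : N) :
    ofSecA (phiA A) (Ft A N) (epsEquivN N m) = epsW A N ⊤ m := rfl

theorem epsFun_eq_zero_iff (m : N) :
    epsFun fs N m = 0 ↔ epsW A N (UofA (phiA A) fs) m = 0 := by
  constructor
  · intro h
    refine eq_of_locally_eq (Ft A N) (cov A fs) (UofA (phiA A) fs) (cov_le_UofA fs)
      (UofA_le_iSup_cov fs) _ 0 (fun i => ?_)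
    rw [res_zero]
    have h1 := comp_epsFun fs N m (fun _ : Fin (0 + 1) => i)
    rw [h, comp_zero] at h1
    have h2 : res (Ft A N) (cov_le_W fs i) (epsW A N (W (cov A fs) (fun _ : Fin (0 + 1) => i)) m)
        = 0 := by
      rw [← h1, res_zero]
    exact h2
  · intro h
    apply Groth.Agent.Lib.Helper17.CechElem.ext
    intro x
    rw [comp_epsFun, comp_zero]
    have h2 : res (Ft A N) ((W_le_cov fs x).trans (cov_le_UofA fs (x 0)))
        (epsW A N (UofA (phiA A) fs) m) = 0 := by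
      rw [h, res_zero]
    exact h2

/-- the kernel of the augmentation is the kernel of the restriction to the union. -/
noncomputable def kerEquiv : AddMonoidHom.ker ((KA fs N).d 0 1).hom ≃+
    LinearMap.ker (resL (phiA A) (Ft A N) (le_top : UofA (phiA A) fs ≤ ⊤)) where
  toFun m := ⟨epsEquivN N m.1, by
    rw [LinearMap.mem_ker]
    have hm : epsFun fs N m.1 = 0 := m.2
    exact (epsFun_eq_zero_iff fs N m.1).1 hm⟩
  invFun y := ⟨(epsEquivN N).symm y.1, by
    rw [AddMonoidHom.mem_ker]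
    change epsFun fs N ((epsEquivN N).symm y.1) = 0
    rw [epsFun_eq_zero_iff]
    have hy : resL (phiA A) (Ft A N) (le_top : UofA (phiA A) fs ≤ ⊤) y.1 = 0 := y.2
    have : epsEquivN N ((epsEquivN N).symm y.1) = y.1 := LinearEquiv.apply_symm_apply _ _
    rw [← this] at hy
    exact hy⟩
  left_inv m := Subtype.ext (LinearEquiv.symm_apply_apply _ _)
  right_inv y := Subtype.ext (LinearEquiv.apply_symm_apply _ _)
  map_add' m m' := Subtype.ext (map_add _ _ _)

/-- the degree `0` comparison. -/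
theorem base : Nonempty ((KA fs N).homology 0 ≃+ DerCA.extCechH fs N 0) := by
  obtain ⟨e1⟩ := nonempty_homology_zero_equiv (KA fs N)
  obtain ⟨e3⟩ := (jinv (phiA A) (Ft A N) fs).H0
  obtain ⟨e4⟩ := extCechH_congr (epsEquivN N).toModuleIso fs 0
  exact ⟨(e1.trans (kerEquiv fs N)).trans (e4.trans e3).symm.toAddEquiv⟩

end Groth.Agent.Lib.Helper2.FullCech8
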