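import Mathlib
import Groth.Agent.Lib.Helper2.FullCech8

/-!
# The cohomology of the augmented (full) Čech complex of `M~` for the cover by basic opens is the
cohomology of the extended alternating Čech complex, in all degrees
-/

set_option autoImplicit false
universe u

open CategoryTheory CategoryTheory.Limits AlgebraicGeometry Opposite TopologicalSpace

namespace Groth.Agent.Lib.Helper2.FullCech9

open Groth.Agent.Lib.Helper2.FullCech5 Groth.Agent.Lib.Helper2.FullCech7
  Groth.Agent.Lib.Helper2.FullCech8 Groth.Agent.Lib.Helper2.FullCech2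

variable {A : Type u} [CommRing A] (fs : List A)

section Tors

variable (N : ModuleCat.{u} A)

/-- the submodule of elements killed by powers of all the entries of the list. -/
def torS : Submodule A N where
  carrier := {m | ∀ f ∈ fs, ∃ k : ℕ, f ^ k • m = 0}
  zero_mem' := fun f _ => ⟨0, smul_zero _⟩
  add_mem' := by
    intro m m' hm hm' f hf
    obtain ⟨k, hk⟩ := hm f hf
    obtain ⟨k', hk'⟩ := hm' f hf
    refine ⟨k + k', ?_⟩
    have e1 : f ^ (k + k') • m = 0 := by rw [pow_add, mul_comm, mul_smul, hk, smul_zero]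
    have e2 : f ^ (k + k') • m' = 0 := by rw [pow_add, mul_smul, hk', smul_zero]
    rw [smul_add, e1, e2, add_zero]
  smul_mem' := by
    intro c m hm f hf
    obtain ⟨k, hk⟩ := hm f hf
    exact ⟨k, by rw [smul_comm, hk, smul_zero]⟩

theorem mem_torS (m : N) : m ∈ torS fs N ↔ ∀ f ∈ fs, ∃ k : ℕ, f ^ k • m = 0 := Iff.rfl

/-- the torsion part. -/
noncomputable abbrev Gam : ModuleCat.{u} A := ModuleCat.of A (torS fs N)

/-- the torsion-free quotient. -/
noncomputable abbrev Nbar : ModuleCat.{u} A := ModuleCat.of A (N ⧸ torS fs N)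

/-- inclusion of the torsion part. -/
noncomputable abbrev iGam : Gam fs N ⟶ N := ModuleCat.ofHom (torS fs N).subtype

/-- projection to the torsion-free quotient. -/
noncomputable abbrev pBar : N ⟶ Nbar fs N := ModuleCat.ofHom (torS fs N).mkQ

theorem mse_tors : MSE (iGam fs N) (pBar fs N) where
  inj := Subtype.val_injective
  ex := LinearMap.exact_subtype_mkQ _
  surj := Submodule.mkQ_surjective _

theorem Gam_torsion : ∀ f ∈ fs, ∀ m : Gam fs N, ∃ k : ℕ, f ^ k • m = 0 := by
  intro f hf m
  obtain ⟨k, hk⟩ := m.2 f hf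
  exact ⟨k, Subtype.ext hk⟩

theorem Nbar_torsionFree (x : Nbar fs N) (hx : ∀ f ∈ fs, ∃ k : ℕ, f ^ k • x = 0) : x = 0 := by
  obtain ⟨m, rfl⟩ := Submodule.mkQ_surjective _ x
  rw [Submodule.mkQ_apply, Submodule.Quotient.mk_eq_zero, mem_torS]
  intro f hf
  obtain ⟨k, hk⟩ := hx f hf
  rw [Submodule.mkQ_apply, ← Submodule.Quotient.mk_smul, Submodule.Quotient.mk_eq_zero,
    mem_torS] at hk
  obtain ⟨k', hk'⟩ := hk f hf
  exact ⟨k' + k, by rw [pow_add, mul_smul, hk']⟩

end Tors

section LocProd

/-- the product of the localizations at the entries of a list. -/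
noncomputable def locProd : List A → ModuleCat.{u} A → ModuleCat.{u} A
  | [], _ => ModuleCat.of A PUnit
  | g :: gs, N => ModuleCat.of A (LocalizedModule (Submonoid.powers g) N × locProd gs N)

/-- the diagonal map. -/
noncomputable def diag : ∀ (gs : List A) (N : ModuleCat.{u} A), N →ₗ[A] locProd gs N
  | [], _ => 0
  | g :: gs, N => (LocalizedModule.mkLinearMap (Submonoid.powers g) N).prod (diag gs N)

theorem diag_eq_zero : ∀ (gs : List A) (N : ModuleCat.{u} A) (m : N), diag gs N m = 0 →
    ∀ g ∈ gs, ∃ k : ℕ, g ^ k • m = 0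
  | [], _, _, _ => fun g hg => absurd hg List.not_mem_nil
  | g :: gs, N, m, h => by
    have h1 : LocalizedModule.mkLinearMap (Submonoid.powers g) N m = 0 := congrArg Prod.fst h
    have h2 : diag gs N m = 0 := congrArg Prod.snd h
    intro g' hg'
    rcases List.mem_cons.1 hg' with rfl | hg''
    · obtain ⟨⟨_, k, rfl⟩, hk⟩ := (IsLocalizedModule.eq_zero_iff (Submonoid.powers g')
        (LocalizedModule.mkLinearMap (Submonoid.powers g') N)).1 h1
      exact ⟨k, hk⟩
    · exact diag_eq_zero gs N m h2 g' hg''

end LocProd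

section Vanish

/-- acyclicity for both theories. -/
def Acyc (P : ModuleCat.{u} A) : Prop :=
  (∀ q : ℕ, IsZero ((KA fs P).homology q)) ∧ (∀ q : ℤ, IsZero (DerCA.extCechH fs P q))

theorem acyc_of_subsingleton (P : ModuleCat.{u} A) [Subsingleton P] : Acyc fs P := by
  constructor
  · intro q
    have h : IsZero ((KA fs P).X q) := by
      cases q with
      | zero =>
        change IsZero (AddCommGrpCat.of P)
        exact AddCommGrpCat.isZero_of_subsingleton _
      | succ q =>
        haveI := subsingleton_KN_of_torsion fs P (fun f _ m => ⟨0, Subsingleton.elim _ _⟩) q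
        change IsZero ((KN fs P).X q)
        exact AddCommGrpCat.isZero_of_subsingleton _
    have : (KA fs P).ExactAt q := ShortComplex.exact_of_isZero_X₂ _ h
    exact (HomologicalComplex.exactAt_iff_isZero_homology _ _).1 this
  · intro q
    exact Groth.Agent.S9266.result A fs P 0 (Submodule.zero_mem _)
      ⟨fun a b _ => Subsingleton.elim a b, fun y => ⟨y, Subsingleton.elim _ _⟩⟩ q

theorem acyc_of_bijective (P : ModuleCat.{u} A) (j : Fin fs.length)
    (hbij : Function.Bijective (fun m : P => fs.get j • m)) : Acyc fs P :=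
  ⟨fun q => isZero_KA_homology_of_bijective fs P ⟨j⟩ hbij q,
    fun q => Groth.Agent.S9266.result A fs P (fs.get j)
      (Ideal.subset_span (List.get_mem _ _)) hbij q⟩

theorem acyc_ext {N' N N'' : ModuleCat.{u} A} {a : N' ⟶ N} {b : N ⟶ N''} (h : MSE a b)
    (h1 : Acyc fs N') (h3 : Acyc fs N'') : Acyc fs N :=
  ⟨fun q => S_ext fs h q (h1.1 q) (h3.1 q), fun q => h.ext fs q (h1.2 q) (h3.2 q)⟩

theorem acyc_locProd : ∀ (gs : List A), (∀ g ∈ gs, g ∈ fs) → ∀ N : ModuleCat.{u} A,
    Acyc fs (locProd gs N)
  | [], _, N => by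
    haveI : Subsingleton (locProd ([] : List A) N) := inferInstanceAs (Subsingleton PUnit)
    exact acyc_of_subsingleton fs _
  | g :: gs, hgs, N => by
    have ih := acyc_locProd gs (fun g' hg' => hgs g' (List.mem_cons_of_mem _ hg')) N
    obtain ⟨j, hj⟩ := List.mem_iff_get.1 (hgs g List.mem_cons_self)
    have h1 : Acyc fs (ModuleCat.of A (LocalizedModule (Submonoid.powers g) N)) := by
      refine acyc_of_bijective fs _ j ?_
      rw [hj]
      have hu := IsLocalizedModule.map_units
        (LocalizedModule.mkLinearMap (Submonoid.powers g) N)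
        (⟨g, 1, pow_one g⟩ : Submonoid.powers g)
      rw [Module.End.isUnit_iff] at hu
      exact hu
    have hmse : MSE (M' := ModuleCat.of A (LocalizedModule (Submonoid.powers g) N))
        (M := locProd (g :: gs) N) (M'' := locProd gs N)
        (ModuleCat.ofHom (LinearMap.inl A (LocalizedModule (Submonoid.powers g) N)
          (locProd gs N)))
        (ModuleCat.ofHom (LinearMap.snd A (LocalizedModule (Submonoid.powers g) N)
          (locProd gs N))) :=
      { inj := LinearMap.inl_injective
        ex := by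
          intro y
          constructor
          · intro hy
            exact ⟨y.1, Prod.ext rfl hy.symm⟩
          · rintro ⟨x, rfl⟩
            rfl
        surj := LinearMap.snd_surjective }
    exact acyc_ext fs hmse h1 ih

end Vanish

section Main

/-- the cokernel of the diagonal map of the torsion-free quotient. -/
noncomputable abbrev Qc (N : ModuleCat.{u} A) : ModuleCat.{u} A :=
  ModuleCat.of A (locProd fs (Nbar fs N) ⧸ LinearMap.range (diag fs (Nbar fs N)))

theorem mse_diag (N : ModuleCat.{u} A) :
    MSE (M' := Nbar fs N) (M := locProd fs (Nbar fs N)) (M'' := Qc fs N)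
      (ModuleCat.ofHom (diag fs (Nbar fs N)))
      (ModuleCat.ofHom (LinearMap.range (diag fs (Nbar fs N))).mkQ) where
  inj := by
    rw [injective_iff_map_eq_zero]
    intro x hx
    exact Nbar_torsionFree fs N x (diag_eq_zero fs _ x hx)
  ex := LinearMap.exact_map_mkQ_range _
  surj := Submodule.mkQ_surjective _

theorem step_S (N : ModuleCat.{u} A) (q : ℕ) :
    Nonempty ((KA fs N).homology (q + 1) ≃+ (KA fs (Qc fs N)).homology q) := by
  obtain ⟨e1⟩ := S_mid fs (mse_tors fs N) (q + 1)
    (isZero_KA_homology_of_torsion fs _ (Gam_torsion fs N) q)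
    (isZero_KA_homology_of_torsion fs _ (Gam_torsion fs N) (q + 1))
  obtain ⟨e2⟩ := S_shift fs (mse_diag fs N)
    (acyc_locProd fs fs (fun _ h => h) (Nbar fs N)).1 q
  exact ⟨e1.trans e2.symm⟩

theorem step_T (N : ModuleCat.{u} A) (q : ℕ) :
    Nonempty (DerCA.extCechH fs N ((q + 1 : ℕ) : ℤ) ≃+ DerCA.extCechH fs (Qc fs N) (q : ℤ)) := by
  rw [Nat.cast_succ]
  obtain ⟨e1⟩ := (mse_tors fs N).mid fs ((q : ℤ) + 1)
    (isZero_extCechH_of_torsion _ fs (Gam_torsion fs N) _ (by omega))
    (isZero_extCechH_of_torsion _ fs (Gam_torsion fs N) _ (by omega))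
  obtain ⟨e2⟩ := (mse_diag fs N).shift fs
    (acyc_locProd fs fs (fun _ h => h) (Nbar fs N)).2 (q : ℤ)
  exact ⟨e1.trans e2.symm⟩

/-- **Main comparison on `Spec A`**: the cohomology of the augmented full Čech complex of `N~` with
respect to the cover by the `D(f_i)` is the cohomology of the extended alternating Čech complex. -/
theorem main (q : ℕ) (N : ModuleCat.{u} A) :
    Nonempty ((KA fs N).homology q ≃+ DerCA.extCechH fs N (q : ℤ)) := by
  refine FullCech1.ds_induction (Obj := ModuleCat.{u} A)
    (fun q N => (KA fs N).homology q) (fun q N => DerCA.extCechH fs N (q : ℤ)) ?_ ?_ q N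
  · intro N
    exact base fs N
  · intro N
    exact ⟨Qc fs N, fun q => step_S fs N q, fun q => step_T fs N q⟩

end Main

end Groth.Agent.Lib.Helper2.FullCech9
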