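import Mathlib
import Groth.Agent.Lib.Helper2.FullCech9
import Groth.Agent.Lib.Helper2.FullCech10
import Groth.Agent.Lib.Helper2.CechGeo2
import Groth.Agent.Lib.Helper2.KosCech5

/-!
# The Čech cohomology of a quasi-coherent module on a quasi-compact separated scheme with respect
to the opens `X_{f_i}` is the cohomology of the extended alternating Čech complex of `Γ(X, F)`
-/

set_option autoImplicit false
universe u

open CategoryTheory CategoryTheory.Limits AlgebraicGeometry Opposite TopologicalSpace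

namespace Groth.Agent.Lib.Helper2.FullCech11

open Groth.Agent.Lib.Helper17.CechElem Groth.Agent.Lib.Helper2.FullCech3
  Groth.Agent.Lib.Helper2.CechGeoA3 Groth.Agent.Lib.Helper2.FullCech4
  Groth.Agent.Lib.Helper2.FullCech5 Groth.Agent.Lib.Helper2.FullCech7
  Groth.Agent.Lib.Helper2.FullCech10
  Groth.Agent.Lib.Helper28.QCohLoc

variable {X : Scheme.{u}} (fs : List Γ(X, ⊤)) (F : X.Modules)

/-- the family of opens `X_{f_i}`. -/
noncomputable def VX (i : ULift.{u} (Fin fs.length)) : X.Opens := X.basicOpen (fs.get i.down)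

theorem W_VX {n : ℕ} (x : Fin (n + 1) → ULift.{u} (Fin fs.length)) :
    W (VX fs) x = X.basicOpen (gx fs x) :=
  W_basicOpen (X := X) (fun i : ULift.{u} (Fin fs.length) => fs.get i.down) x

/-- the module of global sections. -/
noncomputable abbrev NF : ModuleCat.{u} Γ(X, ⊤) :=
  ModuleCat.of Γ(X, ⊤) (Groth.Agent.Lib.Helper2.CechGeo1.SecA F ⊤)

variable [CompactSpace X] [X.IsSeparated] [F.IsQuasicoherent]

theorem isLoc_resL {n : ℕ} (x : Fin (n + 1) → ULift.{u} (Fin fs.length)) :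
    IsLocalizedModule (Submonoid.powers (gx fs x))
      (Groth.Agent.Lib.Helper2.CechGeo1.resL F (le_top : W (VX fs) x ≤ ⊤)) := by
  have hqs : IsQuasiSeparated ((⊤ : X.Opens) : Set X) :=
    isQuasiSeparated_univ.of_subset (Set.subset_univ _)
  refine Groth.Agent.Lib.Helper2.CechGeo2.isLocalizedModule_resL F (gx fs x) ⊤ _ isCompact_univ hqs
    le_top ?_
  rw [basicOpen_resO, top_inf_eq]
  exact W_VX fs x

/-- the comparison of sections. -/
noncomputable def phiL {n : ℕ} (x : Fin (n + 1) → ULift.{u} (Fin fs.length)) :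
    Groth.Agent.Lib.Helper2.CechGeo1.SecA F (W (VX fs) x) ≃ₗ[Γ(X, ⊤)]
      Γ(Ft Γ(X, ⊤) (NF F), W (cov Γ(X, ⊤) fs) x) := by
  haveI := isLoc_resL fs F x
  haveI := isLoc_epsW (NF F) (gx fs x) _ (W_cov fs x)
  exact IsLocalizedModule.linearEquiv (Submonoid.powers (gx fs x))
    (Groth.Agent.Lib.Helper2.CechGeo1.resL F (le_top : W (VX fs) x ≤ ⊤))
    (epsW Γ(X, ⊤) (NF F) (W (cov Γ(X, ⊤) fs) x))

theorem phiL_resL {n : ℕ} (x : Fin (n + 1) → ULift.{u} (Fin fs.length))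
    (m : Groth.Agent.Lib.Helper2.CechGeo1.SecA F ⊤) :
    phiL fs F x (Groth.Agent.Lib.Helper2.CechGeo1.resL F (le_top : W (VX fs) x ≤ ⊤) m) =
      epsW Γ(X, ⊤) (NF F) (W (cov Γ(X, ⊤) fs) x) m := by
  haveI := isLoc_resL fs F x
  haveI := isLoc_epsW (NF F) (gx fs x) _ (W_cov fs x)
  exact IsLocalizedModule.linearEquiv_apply _ _ _ m

theorem isUnit_sections {n : ℕ} (N : ModuleCat.{u} Γ(X, ⊤))
    (y : Fin (n + 2) → ULift.{u} (Fin fs.length)) (i : Fin (n + 2))
    (s : Submonoid.powers (gx fs (y ∘ Fin.succAbove i))) :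
    IsUnit (algebraMap Γ(X, ⊤)
      (Module.End Γ(X, ⊤) Γ(Ft Γ(X, ⊤) N, W (cov Γ(X, ⊤) fs) y)) s) := by
  obtain ⟨_, k, rfl⟩ := s
  have hle : W (cov Γ(X, ⊤) fs) y ≤ PrimeSpectrum.basicOpen (gx fs (y ∘ Fin.succAbove i)) := by
    have h1 := W_face_le (cov Γ(X, ⊤) fs) y i
    rwa [W_cov fs (y ∘ Fin.succAbove i)] at h1
  have h := Scheme.Modules.isUnit_algebraMap_end_of_le_basicOpen
    (R := CommRingCat.of Γ(X, ⊤)) (M := Ft Γ(X, ⊤) N) (gx fs (y ∘ Fin.succAbove i)) hle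
  change IsUnit (algebraMap Γ(X, ⊤)
      (Module.End Γ(X, ⊤) Γ(Ft Γ(X, ⊤) N, W (cov Γ(X, ⊤) fs) y))
      (gx fs (y ∘ Fin.succAbove i) ^ k))
  rw [map_pow]
  exact h.pow k

theorem phiL_compat {n : ℕ} (y : Fin (n + 2) → ULift.{u} (Fin fs.length)) (i : Fin (n + 2))
    (s : Groth.Agent.Lib.Helper2.CechGeo1.SecA F (W (VX fs) (y ∘ Fin.succAbove i))) :
    phiL fs F y (Groth.Agent.Lib.Helper2.CechGeo1.resL F (W_face_le (VX fs) y i) s) =
      resLin (NF F) (W_face_le (cov Γ(X, ⊤) fs) y i) (phiL fs F (y ∘ Fin.succAbove i) s) := by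
  haveI := isLoc_resL fs F (y ∘ Fin.succAbove i)
  have key : (phiL fs F y).toLinearMap ∘ₗ
      Groth.Agent.Lib.Helper2.CechGeo1.resL F (W_face_le (VX fs) y i) =
      resLin (NF F) (W_face_le (cov Γ(X, ⊤) fs) y i) ∘ₗ
        (phiL fs F (y ∘ Fin.succAbove i)).toLinearMap := by
    apply IsLocalizedModule.ext (Submonoid.powers (gx fs (y ∘ Fin.succAbove i)))
      (Groth.Agent.Lib.Helper2.CechGeo1.resL F
        (le_top : W (VX fs) (y ∘ Fin.succAbove i) ≤ ⊤))
      (isUnit_sections fs (NF F) y i)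
    ext m
    simp only [LinearMap.comp_apply, LinearEquiv.coe_coe]
    rw [Groth.Agent.Lib.Helper2.CechGeo1.resL_resL, phiL_resL, phiL_resL]
    rfl
  exact congrArg (fun g => g s) key

/-- the Čech cohomology of `F` for the family `X_{f_i}` in positive degrees. -/
theorem cech_equiv (p : ℕ) :
    Nonempty ((K (VX fs) F.presheaf).homology (p + 1) ≃+
      DerCA.extCechH fs (NF F) (((p + 2 : ℕ) : ℤ))) := by
  obtain ⟨e1⟩ := homology_equiv (VX fs) (cov Γ(X, ⊤) fs) F.presheaf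
    (Ft Γ(X, ⊤) (NF F)).presheaf (fun x => (phiL fs F x).toAddEquiv)
    (fun y i s => phiL_compat fs F y i s) (p + 1)
  have e2 : (KA fs (NF F)).homology (p + 2) ≅ (KN fs (NF F)).homology (p + 1) :=
    augmentHomologyIso _ _ p
  obtain ⟨e3⟩ := Groth.Agent.Lib.Helper2.FullCech9.main fs (p + 2) (NF F)
  exact ⟨(e1.trans e2.symm.addCommGroupIsoToAddEquiv).trans e3⟩

end Groth.Agent.Lib.Helper2.FullCech11
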