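import Mathlib
import Groth.Prelude.Def_LocCohZ
import Groth.Agent.Lib.Helper6.SheafCoh

/-!
# `H^1_Z(X, F)` as the cokernel of the restriction `F(X) → F(U)` when `H^1(X, F) = 0`
-/

set_option autoImplicit false
universe u

open CategoryTheory CategoryTheory.Limits Opposite TopologicalSpace Abelian

namespace Groth.Agent.Lib.Helper2.FullCech13

open Groth.Agent.Lib.Helper6

variable {X : TopCat.{u}} (F : CohTop.Ab X) (U : Opens X)

/-- the restriction on `Ext^0`. -/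
noncomputable def r0 : CohTop.HU F 0 ⊤ →+ CohTop.HU F 0 U :=
  (Ext.mk₀ (LocCohZ.zqSeq (le_top : U ≤ ⊤)).f).precomp F (zero_add 0)

theorem ker_delta_eq_range :
    (LocCohZ.delta F 0 (le_top : U ≤ ⊤)).ker = (r0 F U).range := by
  have hS := LocCohZ.zqSeq_shortExact (le_top : U ≤ ⊤)
  ext x₁
  constructor
  · intro hx
    rw [AddMonoidHom.mem_ker] at hx
    obtain ⟨x₂, hx₂⟩ := Ext.contravariant_sequence_exact₁ hS F x₁ (Nat.add_comm 1 0) hx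
    exact ⟨x₂, hx₂⟩
  · rintro ⟨x₂, rfl⟩
    rw [AddMonoidHom.mem_ker]
    change hS.extClass.comp ((Ext.mk₀ (LocCohZ.zqSeq (le_top : U ≤ ⊤)).f).comp x₂ (zero_add 0))
      (Nat.add_comm 1 0) = 0
    rw [← Ext.comp_assoc_of_second_deg_zero, hS.extClass_comp, Ext.zero_comp]

/-- `Ext^0(ℤ_V, F) ≃+ F(V)`. -/
noncomputable def e0 (V : Opens X) : CohTop.HU F 0 V ≃+ F.obj.obj (op V) :=
  SheafCoh.H'equiv₀ (Opens.grothendieckTopology X) F V

theorem e0_r0 (x₂ : CohTop.HU F 0 ⊤) :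
    e0 F U (r0 F U x₂) = F.obj.map (homOfLE (le_top : U ≤ ⊤)).op (e0 F ⊤ x₂) := by
  obtain ⟨w, rfl⟩ := (Ext.mk₀_bijective _ _).2 x₂
  change e0 F U ((Ext.mk₀ (LocCohZ.zqSeq (le_top : U ≤ ⊤)).f).comp (Ext.mk₀ w) (zero_add 0)) = _
  rw [Ext.mk₀_comp_mk₀]
  change SheafCoh.homEquiv _ U F (Ext.addEquiv₀ (Ext.mk₀ _)) =
    F.obj.map _ (SheafCoh.homEquiv _ ⊤ F (Ext.addEquiv₀ (Ext.mk₀ w)))
  have hmk : ∀ {A B : CohTop.Ab X} (w : A ⟶ B), Ext.addEquiv₀ (Ext.mk₀ w) = w :=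
    fun w => Ext.addEquiv₀.apply_symm_apply w
  rw [hmk, hmk]
  exact SheafCoh.homEquiv_naturality_left (Opens.grothendieckTopology X)
    (homOfLE (le_top : U ≤ ⊤)) w

theorem hz_one_equiv (hsurj : Function.Surjective (LocCohZ.delta F 0 (le_top : U ≤ ⊤))) :
    Nonempty (LocCohZ.HZc F 1 U ≃+
      (F.obj.obj (op U)) ⧸ (F.obj.map (homOfLE (le_top : U ≤ ⊤)).op).hom.range) := by
  have e1 := QuotientAddGroup.quotientKerEquivOfSurjective
    (LocCohZ.delta F 0 (le_top : U ≤ ⊤)) hsurj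
  have he : AddSubgroup.map (e0 F U : _ →+ _) (LocCohZ.delta F 0 (le_top : U ≤ ⊤)).ker =
      (F.obj.map (homOfLE (le_top : U ≤ ⊤)).op).hom.range := by
    rw [ker_delta_eq_range]
    ext y
    constructor
    · rintro ⟨_, ⟨x₂, rfl⟩, rfl⟩
      exact ⟨e0 F ⊤ x₂, (e0_r0 F U x₂).symm⟩
    · rintro ⟨s, rfl⟩
      refine ⟨r0 F U ((e0 F ⊤).symm s), ⟨_, rfl⟩, ?_⟩
      change e0 F U (r0 F U ((e0 F ⊤).symm s)) = _
      rw [e0_r0, AddEquiv.apply_symm_apply]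
  have e2 := QuotientAddGroup.congr (LocCohZ.delta F 0 (le_top : U ≤ ⊤)).ker
    (F.obj.map (homOfLE (le_top : U ≤ ⊤)).op).hom.range (e0 F U) he
  exact ⟨e1.symm.trans e2⟩

end Groth.Agent.Lib.Helper2.FullCech13
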