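import Mathlib
import Groth.Agent.Lib.Helper2.FullCech11
import Groth.Agent.Lib.Helper2.FullCech13
import Groth.Agent.Lib.Helper6.CechFamTop
import Groth.Agent.Lib.Helper17.AffineVanish
import Groth.Agent.S6031

/-!
# Cohomology with supports of `M~` on `Spec A` along `V(f_1, …, f_r)` is the cohomology of the
extended alternating Čech complex
-/

set_option autoImplicit false
universe u

open CategoryTheory CategoryTheory.Limits AlgebraicGeometry Opposite TopologicalSpace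

namespace Groth.Agent.Lib.Helper2.FullCech14

open Groth.Agent.Lib.Helper17.CechElem Groth.Agent.Lib.Helper2.FullCech3
  Groth.Agent.Lib.Helper2.CechGeoA3 Groth.Agent.Lib.Helper2.FullCech4
  Groth.Agent.Lib.Helper2.FullCech5 Groth.Agent.Lib.Helper2.FullCech8
  Groth.Agent.Lib.Helper2.CechGeoA1 Groth.Agent.Lib.Helper2.CechGeoA2
  Groth.Agent.Lib.Helper2.CechGeoA4
  Groth.Agent.Lib.Helper28.QCohLoc

variable {A : Type u} [CommRing A] (fs : List A)

theorem puncturedOpen_eq :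
    LocCoh.puncturedOpen A (Ideal.span {a | a ∈ fs}) = UofA (phiA A) fs := by
  ext p
  rw [SetLike.mem_coe, SetLike.mem_coe, mem_UofA]
  change (show PrimeSpectrum A from p) ∈ (PrimeSpectrum.zeroLocus
    ((Ideal.span {a | a ∈ fs} : Ideal A) : Set A))ᶜ ↔ _
  rw [Set.mem_compl_iff, PrimeSpectrum.zeroLocus_span, PrimeSpectrum.mem_zeroLocus,
    Set.not_subset]
  constructor
  · rintro ⟨f, hf, hfp⟩
    exact ⟨f, hf, hfp⟩
  · rintro ⟨f, hf, hfp⟩
    exact ⟨f, hf, hfp⟩

theorem iSup_cov : (⨆ i, cov A fs i) = UofA (phiA A) fs :=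
  le_antisymm (iSup_le (cov_le_UofA fs)) (UofA_le_iSup_cov fs)

theorem iInf_cov {p : ℕ} (a : Fin (p + 1) → ULift.{u} (Fin fs.length)) :
    (iInf fun k => cov A fs (a k)) = PrimeSpectrum.basicOpen (gx fs a) := by
  rw [← W_cov fs a]
  exact le_antisymm (le_W _ _ _ (fun k => iInf_le _ k)) (le_iInf (W_le _ a))

variable (N : ModuleCat.{u} A)

theorem hz_ge_two (p : ℕ) :
    Nonempty (LocCohZ.HZM (XA A) (Ft A N) (p + 2) (UofA (phiA A) fs) ≃+
      DerCA.extCechH fs N ((p + 2 : ℕ) : ℤ)) := by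
  obtain ⟨-, hbij⟩ := Groth.Agent.S6031.result (XA A) (Ft A N)
    (inferInstanceAs (Ft A N).IsQuasicoherent) (UofA (phiA A) fs)
  have d := AddEquiv.ofBijective _ (hbij (p + 1) (by omega))
  have hvan : ∀ (p : ℕ) (a : Fin (p + 1) → ULift.{u} (Fin fs.length)) (q : ℕ),
      Subsingleton (CohTop.HU (X := (XA A).toTopCat) (Coh.toAb (Ft A N)) (q + 1)
        (iInf fun k => cov A fs (a k))) := by
    intro p a q
    refine Groth.Agent.Lib.Helper17.AffineVanish.subsingleton_HU_of_isAffineOpen (Ft A N) ?_ q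
    rw [iInf_cov]
    exact IsAffineOpen.Spec_basicOpen (R := CommRingCat.of A) (gx fs a)
  obtain ⟨c⟩ := Groth.Agent.Lib.Helper6.CechFamTop.cech_eq_cohomology (X := (XA A).toTopCat)
    (Coh.toAb (Ft A N)) (cov A fs) hvan (p + 1)
  have hcov : iSup (cov A fs) = UofA (phiA A) fs := iSup_cov fs
  rw [hcov] at c
  have e2 : (KA fs N).homology (p + 2) ≅ (KN fs N).homology (p + 1) :=
    augmentHomologyIso _ _ p
  obtain ⟨e3⟩ := Groth.Agent.Lib.Helper2.FullCech9.main fs (p + 2) N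
  exact ⟨((d.symm.trans c.symm).trans e2.symm.addCommGroupIsoToAddEquiv).trans e3⟩

theorem hz_zero :
    Nonempty (LocCohZ.HZM (XA A) (Ft A N) 0 (UofA (phiA A) fs) ≃+ DerCA.extCechH fs N 0) := by
  have e1 := LocCohZ.sect0Equiv (X := (XA A).toTopCat) (Coh.toAb (Ft A N))
    (le_top : UofA (phiA A) fs ≤ ⊤)
  have hg : ∀ x : ↑((Coh.toAb (Ft A N)).obj.obj (op ⊤)),
      ((Coh.toAb (Ft A N)).obj.map (homOfLE (le_top : UofA (phiA A) fs ≤ ⊤)).op).hom x =
        resL (phiA A) (Ft A N) (le_top : UofA (phiA A) fs ≤ ⊤) x := fun x => rfl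
  let a : ((Coh.toAb (Ft A N)).obj.map (homOfLE (le_top : UofA (phiA A) fs ≤ ⊤)).op).hom.ker ≃+
      LinearMap.ker (resL (phiA A) (Ft A N) (le_top : UofA (phiA A) fs ≤ ⊤)) :=
    { toFun := fun x => ⟨x.1, by
        have := x.2
        rw [AddMonoidHom.mem_ker, hg] at this
        rw [LinearMap.mem_ker]
        exact this⟩
      invFun := fun x => ⟨x.1, by
        have := x.2
        rw [LinearMap.mem_ker] at this
        rw [AddMonoidHom.mem_ker, hg]
        exact this⟩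
      left_inv := fun _ => rfl
      right_inv := fun _ => rfl
      map_add' := fun _ _ => rfl }
  obtain ⟨e3⟩ := (jinv (phiA A) (Ft A N) fs).H0
  obtain ⟨e4⟩ := extCechH_congr (epsEquivN N).toModuleIso fs 0
  exact ⟨(e1.trans a).trans (e4.trans e3).symm.toAddEquiv⟩

theorem hz_one :
    Nonempty (LocCohZ.HZM (XA A) (Ft A N) 1 (UofA (phiA A) fs) ≃+
      DerCA.extCechH fs N 1) := by
  obtain ⟨hsurj, -⟩ := Groth.Agent.S6031.result (XA A) (Ft A N)
    (inferInstanceAs (Ft A N).IsQuasicoherent) (UofA (phiA A) fs)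
  obtain ⟨e1⟩ := Groth.Agent.Lib.Helper2.FullCech13.hz_one_equiv (X := (XA A).toTopCat)
    (Coh.toAb (Ft A N)) (UofA (phiA A) fs) hsurj
  have hrange : (LinearMap.range (resL (phiA A) (Ft A N)
      (le_top : UofA (phiA A) fs ≤ ⊤))).toAddSubgroup =
      ((Coh.toAb (Ft A N)).obj.map (homOfLE (le_top : UofA (phiA A) fs ≤ ⊤)).op).hom.range := by
    ext y
    constructor
    · rintro ⟨x, hx⟩
      exact ⟨x, hx⟩
    · rintro ⟨x, hx⟩
      exact ⟨x, hx⟩
  let b : (↑((Coh.toAb (Ft A N)).obj.obj (op (UofA (phiA A) fs))) ⧸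
      ((Coh.toAb (Ft A N)).obj.map (homOfLE (le_top : UofA (phiA A) fs ≤ ⊤)).op).hom.range) ≃+
      (SecA (phiA A) (Ft A N) (UofA (phiA A) fs) ⧸
        LinearMap.range (resL (phiA A) (Ft A N) (le_top : UofA (phiA A) fs ≤ ⊤))) :=
    QuotientAddGroup.quotientAddEquivOfEq hrange.symm
  obtain ⟨e3⟩ := (jinv (phiA A) (Ft A N) fs).H1
  obtain ⟨e4⟩ := extCechH_congr (epsEquivN N).toModuleIso fs (0 + 1)
  obtain ⟨c⟩ := Groth.Agent.Lib.Helper2.CechGeo5.homology_congr (DerCA.extCech N fs) 1 (0 + 1)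
    (by norm_num)
  exact ⟨(e1.trans b).trans ((c.trans e4).trans e3).symm.toAddEquiv⟩

/-- cohomology with supports in `V(f_1, …, f_r)` of `N~`, in all degrees. -/
theorem hz_all (i : ℕ) :
    Nonempty (LocCohZ.HZM (XA A) (Ft A N) i (UofA (phiA A) fs) ≃+
      DerCA.extCechH fs N (i : ℤ)) := by
  match i with
  | 0 => exact hz_zero fs N
  | 1 => exact hz_one fs N
  | (p + 2) => exact hz_ge_two fs N p

end Groth.Agent.Lib.Helper2.FullCech14
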