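import Mathlib
import Groth.Agent.Lib.Helper2.FullCech14
import Groth.Agent.Lib.Helper2.CechGeo5
import Groth.Agent.Lib.Helper2.LCCech4

/-!
# Cohomology with supports of a quasi-coherent module on an affine scheme is local cohomology
-/

set_option autoImplicit false
universe u

open CategoryTheory CategoryTheory.Limits AlgebraicGeometry Opposite TopologicalSpace

namespace Groth.Agent.Lib.Helper2.HZDepth2

open Groth.Agent.Lib.Helper17.CechElem Groth.Agent.Lib.Helper2.FullCech3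
  Groth.Agent.Lib.Helper2.FullCech5 Groth.Agent.Lib.Helper2.FullCech11
  Groth.Agent.Lib.Helper2.CechGeo1 Groth.Agent.Lib.Helper2.CechGeo3
  Groth.Agent.Lib.Helper2.CechGeo4 Groth.Agent.Lib.Helper2.CechGeo5
  Groth.Agent.Lib.Helper28.QCohLoc

variable {Y : Scheme.{u}} [IsAffine Y] (fs : List Γ(Y, ⊤)) (F : Y.Modules) [F.IsQuasicoherent]

theorem iSup_VX : (⨆ i, VX fs i) = Uof fs := by
  rw [← iSup_eq_Uof fs]
  apply le_antisymm
  · exact iSup_le fun i => le_iSup (fun j : Fin fs.length => Y.basicOpen (fs.get j)) i.down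
  · exact iSup_le fun j => le_iSup (VX fs) (ULift.up j)

theorem iInf_VX {p : ℕ} (a : Fin (p + 1) → ULift.{u} (Fin fs.length)) :
    (iInf fun k => VX fs (a k)) = Y.basicOpen (gx fs a) := by
  rw [← W_VX fs a]
  exact le_antisymm (le_W _ _ _ (fun k => iInf_le _ k)) (le_iInf (W_le _ a))

/-- the module of global sections. -/
noncomputable abbrev N0 : ModuleCat.{u} Γ(Y, ⊤) := ModuleCat.of Γ(Y, ⊤) (F.val.obj (op ⊤))

theorem hz_ge_two (p : ℕ) :
    Nonempty (LocCohZ.HZM Y F (p + 2) (Uof fs) ≃+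
      DerCA.extCechH fs (N0 F) ((p + 2 : ℕ) : ℤ)) := by
  obtain ⟨-, hbij⟩ := Groth.Agent.S6031.result Y F ‹F.IsQuasicoherent› (Uof fs)
  have d := AddEquiv.ofBijective _ (hbij (p + 1) (by omega))
  have hvan : ∀ (p : ℕ) (a : Fin (p + 1) → ULift.{u} (Fin fs.length)) (q : ℕ),
      Subsingleton (CohTop.HU (X := Y.toTopCat) (Coh.toAb F) (q + 1)
        (iInf fun k => VX fs (a k))) := by
    intro p a q
    refine Groth.Agent.Lib.Helper17.AffineVanish.subsingleton_HU_of_isAffineOpen F ?_ q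
    rw [iInf_VX]
    exact (isAffineOpen_top Y).basicOpen _
  obtain ⟨c⟩ := Groth.Agent.Lib.Helper6.CechFamTop.cech_eq_cohomology (X := Y.toTopCat)
    (Coh.toAb F) (VX fs) hvan (p + 1)
  have hcov : iSup (VX fs) = Uof fs := iSup_VX fs
  rw [hcov] at c
  obtain ⟨e3⟩ := cech_equiv fs F p
  obtain ⟨e4⟩ := Groth.Agent.Lib.Helper2.CechGeoA3.extCechH_congr
    (topIso F).toModuleIso fs ((p + 2 : ℕ) : ℤ)
  exact ⟨((d.symm.trans c.symm).trans e3).trans e4.symm.toAddEquiv⟩

theorem hz_zero :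
    Nonempty (LocCohZ.HZM Y F 0 (Uof fs) ≃+ DerCA.extCechH fs (N0 F) 0) := by
  have e1 := LocCohZ.sect0Equiv (X := Y.toTopCat) (Coh.toAb F) (le_top : Uof fs ≤ ⊤)
  have hg : ∀ x : ↑((Coh.toAb F).obj.obj (op ⊤)),
      ((Coh.toAb F).obj.map (homOfLE (le_top : Uof fs ≤ ⊤)).op).hom x = topL F (Uof fs) x :=
    fun x => rfl
  let a : ((Coh.toAb F).obj.map (homOfLE (le_top : Uof fs ≤ ⊤)).op).hom.ker ≃+
      LinearMap.ker (topL F (Uof fs)) :=
    { toFun := fun x => ⟨x.1, by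
        have := x.2
        rw [AddMonoidHom.mem_ker, hg] at this
        rw [LinearMap.mem_ker]
        exact this⟩
      invFun := fun x => ⟨x.1, by
        have := x.2
        rw [LinearMap.mem_ker] at this
        rw [AddMonoidHom.mem_ker, hg]
        exact this⟩
      left_inv := fun _ => rfl
      right_inv := fun _ => rfl
      map_add' := fun _ _ => rfl }
  obtain ⟨e3⟩ := (jinv F fs).H0
  exact ⟨(e1.trans a).trans e3.symm.toAddEquiv⟩

theorem hz_one :
    Nonempty (LocCohZ.HZM Y F 1 (Uof fs) ≃+ DerCA.extCechH fs (N0 F) 1) := by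
  obtain ⟨hsurj, -⟩ := Groth.Agent.S6031.result Y F ‹F.IsQuasicoherent› (Uof fs)
  obtain ⟨e1⟩ := Groth.Agent.Lib.Helper2.FullCech13.hz_one_equiv (X := Y.toTopCat)
    (Coh.toAb F) (Uof fs) hsurj
  have hrange : (LinearMap.range (topL F (Uof fs))).toAddSubgroup =
      ((Coh.toAb F).obj.map (homOfLE (le_top : Uof fs ≤ ⊤)).op).hom.range := by
    ext y
    constructor
    · rintro ⟨x, hx⟩
      exact ⟨x, hx⟩
    · rintro ⟨x, hx⟩
      exact ⟨x, hx⟩
  let b : (↑((Coh.toAb F).obj.obj (op (Uof fs))) ⧸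
      ((Coh.toAb F).obj.map (homOfLE (le_top : Uof fs ≤ ⊤)).op).hom.range) ≃+
      (SecA F (Uof fs) ⧸ LinearMap.range (topL F (Uof fs))) :=
    QuotientAddGroup.quotientAddEquivOfEq hrange.symm
  obtain ⟨e3⟩ := (jinv F fs).H1
  obtain ⟨c⟩ := homology_congr (DerCA.extCech (N0 F) fs) 1 (0 + 1) (by norm_num)
  exact ⟨(e1.trans b).trans (c.trans e3).symm.toAddEquiv⟩

/-- cohomology with supports in `V(f_1, …, f_r)` on an affine scheme, in all degrees. -/
theorem hz_all (i : ℕ) :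
    Nonempty (LocCohZ.HZM Y F i (Uof fs) ≃+ DerCA.extCechH fs (N0 F) (i : ℤ)) := by
  match i with
  | 0 => exact hz_zero fs F
  | 1 => exact hz_one fs F
  | (p + 2) => exact hz_ge_two fs F p

/-- cohomology with supports in `V(f_1, …, f_r)` on an affine scheme is local cohomology. -/
theorem hz_localCohomology [IsNoetherianRing Γ(Y, ⊤)] (i : ℕ) :
    Nonempty (LocCohZ.HZM Y F i (Uof fs) ≃+
      LocCoh.H (Ideal.span {a | a ∈ fs}) i (F.val.obj (op ⊤))) := by
  obtain ⟨e1⟩ := hz_all fs F i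
  obtain ⟨e2⟩ := Groth.Agent.Lib.Helper2.LCCech4.extCechH_equiv fs (N0 F) i
  exact ⟨e1.trans e2.toAddEquiv⟩

end Groth.Agent.Lib.Helper2.HZDepth2
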