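import Mathlib
import Groth.Agent.Lib.Helper2.HZDepth1
import Groth.Agent.Lib.Helper2.HZDepth2
import Groth.Agent.Lib.Helper7.ModHartogs

/-!
# Vanishing of cohomology with supports on an affine Noetherian scheme and depth of the stalks
-/

set_option autoImplicit false
set_option linter.style.haveILetI false
universe u

open CategoryTheory CategoryTheory.Limits AlgebraicGeometry Opposite TopologicalSpace

namespace Groth.Agent.Lib.Helper2.HZDepth3

open Groth.Agent.Lib.Helper2.CechGeo4 Groth.Agent.Lib.Helper2.CechGeo5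
  Groth.Agent.Lib.Helper28.QCohLoc Groth.Agent.Lib.Helper21.DepthKit
open Groth.Agent.Lib.Helper7.Hartogs (idealOf mem_idealOf)

variable {Y : Scheme.{u}} [IsAffine Y]

theorem notMem_basicOpen_of_mem_span (fs : List Γ(Y, ⊤)) (y : Y)
    (hy : ∀ f ∈ fs, y ∉ Y.basicOpen f) (c : Γ(Y, ⊤)) (hc : c ∈ Ideal.span {a | a ∈ fs}) :
    y ∉ Y.basicOpen c := by
  refine Submodule.span_induction (p := fun c _ => y ∉ Y.basicOpen c) ?_ ?_ ?_ ?_ hc
  · intro f hf
    exact hy f hf
  · rw [Scheme.basicOpen_zero]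
    exact fun h => h
  · intro a b _ _ ha hb hab
    rcases (Y.basicOpen_add_le a b) hab with h | h
    · exact ha h
    · exact hb h
  · intro r a _ ha hra
    rw [smul_eq_mul, Scheme.basicOpen_mul] at hra
    exact ha hra.2

theorem Uof_eq (U : Y.Opens) (fs : List Γ(Y, ⊤))
    (h : Ideal.span {a | a ∈ fs} = idealOf U ⊤) : Uof fs = U := by
  rw [← iSup_eq_Uof fs]
  apply le_antisymm
  · refine iSup_le fun i => ?_
    have h1 : fs.get i ∈ idealOf U ⊤ := by
      rw [← h]
      exact Ideal.subset_span (show fs.get i ∈ {a : Γ(Y, ⊤) | a ∈ fs} from List.get_mem fs i)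
    exact (mem_idealOf U _).1 h1
  · intro y hy
    obtain ⟨c, hcU, hyc⟩ := (isAffineOpen_top Y).exists_basicOpen_le ⟨y, hy⟩ (Opens.mem_top y)
    have hc : c ∈ Ideal.span {a | a ∈ fs} := by
      rw [h]
      exact (mem_idealOf U c).2 hcU
    by_contra hno
    refine notMem_basicOpen_of_mem_span fs y ?_ c hc hyc
    intro f hf hyf
    apply hno
    obtain ⟨i, rfl⟩ := List.get_of_mem hf
    exact Opens.mem_iSup.2 ⟨i, hyf⟩

variable [IsLocallyNoetherian Y] (F : Y.Modules) [F.IsQuasicoherent]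
  [SheafOfModules.IsFiniteType.{u} (R := Y.ringCatSheaf) F] (U : Y.Opens) (n : ℕ)

/-- **affine case**: vanishing of cohomology with supports below `n` and depth of stalks. -/
theorem thmA :
    (∀ i : ℕ, i < n → Subsingleton (LocCohZ.HZM Y F i U)) ↔
      ∀ y : Y, y ∉ U → (n : ℕ∞) ≤ LocCoh.depth (Y.presheaf.stalk y) (F.presheaf.stalk y) := by
  classical
  have hW : IsAffineOpen (⊤ : Y.Opens) := isAffineOpen_top Y
  haveI : IsNoetherianRing Γ(Y, ⊤) := IsLocallyNoetherian.component_noetherian ⟨⊤, hW⟩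
  haveI : Module.Finite Γ(Y, ⊤) Γ(F, ⊤) :=
    Groth.Agent.Lib.Helper28.FinType.finite_of_isAffineOpen F hW
  obtain ⟨s, hs⟩ := (isNoetherianRing_iff_ideal_fg Γ(Y, ⊤)).1 inferInstance (idealOf U ⊤)
  have hset : {a : Γ(Y, ⊤) | a ∈ s.toList} = (s : Set Γ(Y, ⊤)) := by
    ext a
    simp
  have hspan : Ideal.span {a : Γ(Y, ⊤) | a ∈ s.toList} = idealOf U ⊤ := by
    rw [hset]
    exact hs
  have hU : Uof s.toList = U := Uof_eq U s.toList hspan
  have h1 : (∀ i : ℕ, i < n → Subsingleton (LocCohZ.HZM Y F i U)) ↔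
      ∀ i : ℕ, i < n → Subsingleton (LocCoh.H (idealOf U ⊤) i Γ(F, ⊤)) := by
    rw [← hspan]
    refine forall_congr' fun i => forall_congr' fun _ => ?_
    obtain ⟨e⟩ := Groth.Agent.Lib.Helper2.HZDepth2.hz_localCohomology s.toList F i
    rw [hU] at e
    exact e.toEquiv.subsingleton_congr
  rw [h1, ← Groth.Agent.Lib.Helper2.HZDepth1.le_idealDepth_iff,
    idealDepth_eq_iInf_depth_localization]
  constructor
  · intro h y hyU
    rw [Groth.Agent.Lib.Helper7.StalkLoc.depth_stalk_eq F hW (isLocOn_of_isQuasicoherent F hW)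
      y (Opens.mem_top y)]
    refine (le_iInf₂_iff.1 h) (hW.primeIdealOf ⟨y, Opens.mem_top y⟩) ?_
    intro c hc
    by_contra hcp
    have h2 : hW.primeIdealOf ⟨y, Opens.mem_top y⟩ ∈ hW.fromSpec ⁻¹ᵁ Y.basicOpen c := by
      rw [hW.fromSpec_preimage_basicOpen]
      exact hcp
    have h3 : hW.fromSpec (hW.primeIdealOf ⟨y, Opens.mem_top y⟩) ∈ Y.basicOpen c := h2
    rw [hW.fromSpec_primeIdealOf ⟨y, Opens.mem_top y⟩] at h3
    exact hyU ((mem_idealOf U c).1 hc h3)
  · intro h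
    refine le_iInf₂ fun p hp => ?_
    have hxU : hW.fromSpec p ∉ U := by
      intro hx
      obtain ⟨c, hcU, hxc⟩ := hW.exists_basicOpen_le ⟨hW.fromSpec p, hx⟩ (Opens.mem_top _)
      have hcp : c ∈ p.asIdeal := hp ((mem_idealOf U c).2 hcU)
      have h1 : p ∈ hW.fromSpec ⁻¹ᵁ Y.basicOpen c := hxc
      rw [hW.fromSpec_preimage_basicOpen] at h1
      exact h1 hcp
    have h2 := h _ hxU
    rw [Groth.Agent.Lib.Helper7.StalkLoc.depth_stalk_eq F hW (isLocOn_of_isQuasicoherent F hW)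
      (hW.fromSpec p) (Opens.mem_top _)] at h2
    have hpp : hW.primeIdealOf ⟨hW.fromSpec p, Opens.mem_top _⟩ = p := by
      apply hW.fromSpec.isOpenEmbedding.injective
      exact hW.fromSpec_primeIdealOf ⟨hW.fromSpec p, Opens.mem_top _⟩
    rw [hpp] at h2
    exact h2

end Groth.Agent.Lib.Helper2.HZDepth3
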