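import Mathlib
import Groth.Agent.Lib.Helper2.HZDepth3
import Groth.Agent.Lib.Helper2.AffExt2
import Groth.Agent.Lib.Helper6.LocCohZExc
import Groth.Agent.Lib.Helper21.DepthKit12

/-!
# Cohomology with supports over an affine open of a locally Noetherian scheme, and depth
-/

set_option autoImplicit false
set_option linter.style.haveILetI false
universe u

open CategoryTheory CategoryTheory.Limits AlgebraicGeometry Opposite TopologicalSpace

namespace Groth.Agent.Lib.Helper2.HZDepth4

open Groth.Agent.Lib.Helper28.QCohLoc Groth.Agent.Lib.Helper29.QCohStalk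

section ExtCongr

variable {C : Type*} [Category C] [Abelian C] [HasExt C]

/-- `Ext` is invariant under isomorphisms in the second variable. -/
noncomputable def extCongrRight (X : C) {Y Y' : C} (e : Y ≅ Y') (n : ℕ) :
    Abelian.Ext X Y n ≃+ Abelian.Ext X Y' n where
  toFun x := x.comp (Abelian.Ext.mk₀ e.hom) (add_zero n)
  invFun x := x.comp (Abelian.Ext.mk₀ e.inv) (add_zero n)
  left_inv x := by
    beta_reduce
    rw [Abelian.Ext.comp_assoc_of_third_deg_zero, Abelian.Ext.mk₀_comp_mk₀, e.hom_inv_id,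
      Abelian.Ext.comp_mk₀_id]
  right_inv x := by
    beta_reduce
    rw [Abelian.Ext.comp_assoc_of_third_deg_zero, Abelian.Ext.mk₀_comp_mk₀, e.inv_hom_id,
      Abelian.Ext.comp_mk₀_id]
  map_add' x y := Abelian.Ext.add_comp _ _ _ _

end ExtCongr

variable {X : Scheme.{u}} (F : X.Modules) (U W : X.Opens)

/-- the restriction of the underlying abelian sheaf is the underlying abelian sheaf of the
restriction. -/
noncomputable def restrIso :
    CohTop.restr (X := X.carrier) (Coh.toAb F) W ≅ Coh.toAb (F.restrict W.ι) :=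
  (TopCat.Sheaf.forget _ _).preimageIso
    (NatIso.ofComponents (fun V => Iso.refl _) (fun _ => rfl))

theorem preimage_eq :
    (Opens.map (CohCx.incl W)).obj (W ⊓ U) = W.ι ⁻¹ᵁ U := by
  ext y
  constructor
  · intro hy
    exact hy.2
  · intro hy
    exact ⟨y.2, hy⟩

/-- excision to the open subscheme. -/
theorem nonempty_HZ_equiv (i : ℕ) :
    Nonempty (LocCohZ.HZ (X := X.carrier) (Coh.toAb F) i (inf_le_left : W ⊓ U ≤ W) ≃+
      LocCohZ.HZM (W : Scheme.{u}) (F.restrict W.ι) i (W.ι ⁻¹ᵁ U)) := by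
  obtain ⟨E⟩ := Groth.Agent.Lib.Helper6.LocCohZExc.nonempty_natIso (X := X.carrier)
    (inf_le_left : W ⊓ U ≤ W) i
  have e1 := Groth.Agent.Lib.Helper6.LocCohZExc.ee (X := X.carrier)
    (inf_le_left : W ⊓ U ≤ W) i E (Coh.toAb F)
  have e2 : LocCohZ.HZc (CohTop.restr (X := X.carrier) (Coh.toAb F) W) i
      ((Opens.map (CohCx.incl W)).obj (W ⊓ U)) ≃+
      LocCohZ.HZc (X := (W : Scheme.{u}).carrier) (Coh.toAb (F.restrict W.ι)) i
        ((Opens.map (CohCx.incl W)).obj (W ⊓ U)) :=
    extCongrRight _ (restrIso F W) i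
  rw [preimage_eq] at e2
  rw [preimage_eq] at e1
  exact ⟨e1.trans e2⟩

end Groth.Agent.Lib.Helper2.HZDepth4
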