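import Mathlib
import Groth.Agent.Lib.Helper2.HZDepth4

/-!
# Depth of the stalks of the restriction of a module to an open subscheme, and the
depth criterion for the vanishing of cohomology with supports over an affine open
-/

set_option autoImplicit false
set_option linter.style.haveILetI false
universe u

open CategoryTheory CategoryTheory.Limits AlgebraicGeometry Opposite TopologicalSpace

namespace Groth.Agent.Lib.Helper2.HZDepth5

open Groth.Agent.Lib.Helper28.QCohLoc Groth.Agent.Lib.Helper29.QCohStalk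

section B2

variable {X Y : Scheme.{u}} (f : Y ⟶ X) [IsOpenImmersion f] (F : X.Modules) (y : Y)

/-- the comparison map on stalks. -/
noncomputable def hh : (F.restrict f).presheaf.stalk y ≅ F.presheaf.stalk (f y) :=
  (Scheme.Modules.restrictStalkNatIso f y).app F

theorem hh_germ (V : Y.Opens) (hy : y ∈ V) (s : Γ(F.restrict f, V)) :
    (hh f F y).hom ((F.restrict f).presheaf.germ V y hy s) =
      F.presheaf.germ (f ''ᵁ V) (f y) ⟨y, hy, rfl⟩ s := by
  have h := Scheme.Modules.germ_restrictStalkNatIso_hom_app f y F hy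
  exact ConcreteCategory.congr_hom h s

theorem stalkMap_germ_appIso_inv (V : Y.Opens) (hy : y ∈ V) (r : Γ(Y, V)) :
    f.stalkMap y (X.presheaf.germ (f ''ᵁ V) (f y) ⟨y, hy, rfl⟩ ((f.appIso V).inv r)) =
      Y.presheaf.germ V y hy r := by
  rw [Scheme.Hom.germ_stalkMap_apply]
  have h1 : f.app (f ''ᵁ V) ((f.appIso V).inv r) =
      Y.presheaf.map (eqToHom (f.preimage_image_eq V)).op r := by
    have h := f.appIso_inv_app V
    exact ConcreteCategory.congr_hom h r
  rw [h1]
  exact TopCat.Presheaf.germ_res_apply Y.presheaf (eqToHom (f.preimage_image_eq V)) y _ r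

instance : IsIso (f.stalkMap y) := (IsOpenImmersion.iff_isIso_stalkMap.1 inferInstance).2 y

/-- the inverse of the stalk map. -/
noncomputable def psi : Y.presheaf.stalk y ≃+* X.presheaf.stalk (f y) :=
  (asIso (f.stalkMap y)).commRingCatIsoToRingEquiv.symm

theorem psi_germ (V : Y.Opens) (hy : y ∈ V) (r : Γ(Y, V)) :
    psi f y (Y.presheaf.germ V y hy r) =
      X.presheaf.germ (f ''ᵁ V) (f y) ⟨y, hy, rfl⟩ ((f.appIso V).inv r) := by
  rw [← stalkMap_germ_appIso_inv f y V hy r]
  exact (asIso (f.stalkMap y)).commRingCatIsoToRingEquiv.symm_apply_apply _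

theorem restrict_smul (V : Y.Opens) (r : Γ(Y, V)) (s : Γ(F.restrict f, V)) :
    (r • s : Γ(F.restrict f, V)) =
      (((f.appIso V).inv r : Γ(X, f ''ᵁ V)) • (show Γ(F, f ''ᵁ V) from s) : Γ(F, f ''ᵁ V)) :=
  rfl

theorem hh_smul (b : Y.presheaf.stalk y) (n : (F.restrict f).presheaf.stalk y) :
    (hh f F y).hom (b • n) = psi f y b • (hh f F y).hom n := by
  obtain ⟨V1, hy1, r, rfl⟩ := TopCat.Presheaf.exists_germ_eq Y.presheaf b
  obtain ⟨V2, hy2, s, rfl⟩ := TopCat.Presheaf.exists_germ_eq (F.restrict f).presheaf n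
  have hy : y ∈ V1 ⊓ V2 := ⟨hy1, hy2⟩
  have e1 : Y.presheaf.germ V1 y hy1 r =
      Y.presheaf.germ (V1 ⊓ V2) y hy (Y.presheaf.map (homOfLE inf_le_left).op r) :=
    (TopCat.Presheaf.germ_res_apply Y.presheaf (homOfLE inf_le_left) y hy r).symm
  have e2 : (F.restrict f).presheaf.germ V2 y hy2 s =
      (F.restrict f).presheaf.germ (V1 ⊓ V2) y hy
        ((F.restrict f).presheaf.map (homOfLE inf_le_right).op s) :=
    (TopCat.Presheaf.germ_res_apply (F.restrict f).presheaf (homOfLE inf_le_right) y hy s).symm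
  rw [e1, e2]
  generalize Y.presheaf.map (homOfLE (inf_le_left : V1 ⊓ V2 ≤ V1)).op r = r'
  generalize (F.restrict f).presheaf.map (homOfLE (inf_le_right : V1 ⊓ V2 ≤ V2)).op s = s'
  have e3 := gm_smul (F.restrict f) (V1 ⊓ V2) y hy r' s'
  unfold gm at e3
  rw [← e3, hh_germ, hh_germ, psi_germ, restrict_smul]
  exact gm_smul F (f ''ᵁ (V1 ⊓ V2)) (f y) ⟨y, hy, rfl⟩ ((f.appIso (V1 ⊓ V2)).inv r') s'

/-- the depth of the stalk of the restriction to an open subscheme. -/
theorem depth_restrict_stalk :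
    LocCoh.depth (Y.presheaf.stalk y) ((F.restrict f).presheaf.stalk y) =
      LocCoh.depth (X.presheaf.stalk (f y)) (F.presheaf.stalk (f y)) := by
  refine Groth.Agent.Lib.Helper21.DepthKit.depth_eq_of_semilinear (psi f y).toRingHom
    (psi f y).surjective (hh f F y).addCommGroupIsoToAddEquiv ?_
  intro a x
  exact hh_smul f F y a x

end B2

end Groth.Agent.Lib.Helper2.HZDepth5

namespace Groth.Agent.Lib.Helper2.HZDepth5

variable {X : Scheme.{u}} [IsLocallyNoetherian X] (F : X.Modules) [F.IsQuasicoherent]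
  [SheafOfModules.IsFiniteType.{u} (R := X.ringCatSheaf) F] (U W : X.Opens) (n : ℕ)

/-- **affine open case**: vanishing of cohomology with supports over an affine open below `n`
and the depth of the stalks. -/
theorem thmB (hW : IsAffineOpen W) :
    (∀ i : ℕ, i < n →
      Subsingleton (LocCohZ.HZ (X := X.carrier) (Coh.toAb F) i (inf_le_left : W ⊓ U ≤ W))) ↔
      ∀ x : X, x ∈ W → x ∉ U →
        (n : ℕ∞) ≤ LocCoh.depth (X.presheaf.stalk x) (F.presheaf.stalk x) := by
  haveI : IsAffine (W : Scheme.{u}) := hW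
  haveI := Groth.Agent.Lib.Helper2.AffExt2.isFT_restrict W F
  have h1 : (∀ i : ℕ, i < n →
      Subsingleton (LocCohZ.HZ (X := X.carrier) (Coh.toAb F) i (inf_le_left : W ⊓ U ≤ W))) ↔
      ∀ i : ℕ, i < n →
        Subsingleton (LocCohZ.HZM (W : Scheme.{u}) (F.restrict W.ι) i (W.ι ⁻¹ᵁ U)) := by
    refine forall_congr' fun i => forall_congr' fun _ => ?_
    obtain ⟨e⟩ := Groth.Agent.Lib.Helper2.HZDepth4.nonempty_HZ_equiv F U W i
    exact e.toEquiv.subsingleton_congr
  rw [h1, Groth.Agent.Lib.Helper2.HZDepth3.thmA]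
  constructor
  · intro h x hxW hxU
    have h2 := h ⟨x, hxW⟩ (fun hx => hxU hx)
    rw [depth_restrict_stalk] at h2
    exact h2
  · intro h y hyU
    rw [depth_restrict_stalk]
    exact h (W.ι y) y.2 (fun hx => hyU hx)

end Groth.Agent.Lib.Helper2.HZDepth5
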