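import Groth.Prelude.Def_CAlg
import Mathlib.RingTheory.Ideal.AssociatedPrime.Finiteness
import Mathlib.RingTheory.Ideal.MinimalPrime.Noetherian
import Mathlib.RingTheory.KrullDimension.Zero
import Mathlib.RingTheory.Localization.Module
import Mathlib.RingTheory.LocalProperties.Reduced

/-! Reduced iff (R0) + (S1) for Noetherian rings: helper lemmas. -/

namespace Groth.Agent.Lib.Helper2.R0S1

open IsLocalRing

universe u

section nzd

variable {A : Type*} [CommRing A]

/-- In a reduced ring, an element avoiding all minimal primes is a nonzerodivisor. -/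
lemma mem_nonZeroDivisors_of_notMem_minimalPrimes [IsReduced A] {x : A}
    (hx : ∀ q ∈ minimalPrimes A, x ∉ q) : x ∈ nonZeroDivisors A := by
  rw [mem_nonZeroDivisors_iff_right]
  intro y hy
  have hy' : y ∈ sInf (minimalPrimes A) := by
    rw [Ideal.mem_sInf]
    intro q hq
    have hq' : q.IsPrime := hq.1.1
    have : y * x ∈ q := by rw [hy]; exact q.zero_mem
    exact (hq'.mem_or_mem this).resolve_right (hx q hq)
  have h2 : sInf (minimalPrimes A) = ⊥ := by
    rw [minimalPrimes, Ideal.sInf_minimalPrimes]
    exact nilradical_eq_zero A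
  rw [h2] at hy'
  exact hy'

lemma exists_nzd_of_reduced [IsReduced A] [IsNoetherianRing A] [IsLocalRing A]
    (hm : maximalIdeal A ∉ minimalPrimes A) :
    ∃ x ∈ maximalIdeal A, x ∈ nonZeroDivisors A := by
  classical
  have hfin : (minimalPrimes A).Finite := minimalPrimes.finite_of_isNoetherianRing A
  have hnot : ¬ ((maximalIdeal A : Set A) ⊆ ⋃ P ∈ (hfin.toFinset : Set (Ideal A)), (P : Set A)) := by
    intro hsub
    rw [Ideal.subset_union_prime (R := A) (s := hfin.toFinset) (f := fun P => P) ⊥ ⊥] at hsub
    · obtain ⟨P, hP, hle⟩ := hsub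
      rw [Set.Finite.mem_toFinset] at hP
      have hPprime : P.IsPrime := hP.1.1
      have hPeq : P = maximalIdeal A :=
        le_antisymm (IsLocalRing.le_maximalIdeal hPprime.ne_top) hle
      exact hm (hPeq ▸ hP)
    · intro P hP _ _
      rw [Set.Finite.mem_toFinset] at hP
      exact hP.1.1
  rw [Set.not_subset] at hnot
  obtain ⟨x, hxm, hxn⟩ := hnot
  simp only [Set.mem_iUnion, not_exists] at hxn
  refine ⟨x, hxm, mem_nonZeroDivisors_of_notMem_minimalPrimes ?_⟩
  intro q hq
  exact hxn q (by simp only [Finset.mem_coe, Set.Finite.mem_toFinset]; exact hq)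

end nzd

section depth

variable {A : Type u} [CommRing A] [IsLocalRing A] {M : Type*} [AddCommGroup M] [Module A M]

lemma one_le_depth_of_regular {x : A} (hx : x ∈ maximalIdeal A) (hreg : IsSMulRegular M x) :
    (1 : ℕ∞) ≤ LocCoh.depth A M := by
  classical
  unfold LocCoh.depth LocCoh.idealDepth
  split_ifs with h1
  · exact le_top
  · refine le_iSup₂_of_le [x] ⟨?_, ?_⟩ ?_
    · rw [RingTheory.Sequence.isWeaklyRegular_singleton_iff]
      exact hreg
    · intro r hr
      rw [List.mem_singleton] at hr
      rw [hr]; exact hx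
    · simp

lemma exists_regular_of_one_le_depth (h : (1 : ℕ∞) ≤ LocCoh.depth A M)
    (hne : maximalIdeal A • (⊤ : Submodule A M) ≠ ⊤) :
    ∃ x ∈ maximalIdeal A, IsSMulRegular M x := by
  classical
  by_contra hcon
  push Not at hcon
  unfold LocCoh.depth LocCoh.idealDepth at h
  rw [if_neg hne] at h
  have hle : (⨆ (rs : List A) (_ : RingTheory.Sequence.IsWeaklyRegular M rs ∧
      ∀ r ∈ rs, r ∈ IsLocalRing.maximalIdeal A), (rs.length : ℕ∞)) ≤ 0 := by
    refine iSup₂_le fun rs hrs => ?_
    cases rs with
    | nil => simp
    | cons r rs' =>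
      exfalso
      have hreg := ((RingTheory.Sequence.isWeaklyRegular_cons_iff M r rs').1 hrs.1).1
      exact hcon r (hrs.2 r List.mem_cons_self) hreg
  have := h.trans hle
  simp at this

end depth

section loc

variable {R : Type u} [CommRing R] (p : Ideal R) [p.IsPrime]

/-- `R_p` as localized module is isomorphic to `R_p` as a ring, `R_p`-linearly. -/
noncomputable def locEquiv :
    LocalizedModule p.primeCompl R ≃ₗ[Localization.AtPrime p] Localization.AtPrime p :=
  (IsLocalizedModule.linearEquiv p.primeCompl (LocalizedModule.mkLinearMap p.primeCompl R)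
    (Algebra.linearMap R (Localization.AtPrime p))).extendScalarsOfIsLocalization p.primeCompl _

lemma locEquiv_mk (r : R) :
    locEquiv p (LocalizedModule.mk r 1) = algebraMap R (Localization.AtPrime p) r := by
  unfold locEquiv
  rw [LinearEquiv.extendScalarsOfIsLocalization_apply]
  have := IsLocalizedModule.linearEquiv_apply p.primeCompl
    (LocalizedModule.mkLinearMap p.primeCompl R)
    (Algebra.linearMap R (Localization.AtPrime p)) r
  simpa using this

lemma supportDim_loc :
    Module.supportDim (Localization.AtPrime p) (LocalizedModule p.primeCompl R) = p.height := by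
  rw [Module.supportDim_eq_of_equiv (locEquiv p), Module.supportDim_self_eq_ringKrullDim,
    IsLocalization.AtPrime.ringKrullDim_eq_height p]

lemma smul_top_ne_top :
    maximalIdeal (Localization.AtPrime p) •
      (⊤ : Submodule (Localization.AtPrime p) (LocalizedModule p.primeCompl R)) ≠ ⊤ := by
  intro h
  have h2 := congrArg (Submodule.map (locEquiv p).toLinearMap) h
  rw [Submodule.map_smul'', Submodule.map_top, LinearEquiv.range] at h2
  have h3 : maximalIdeal (Localization.AtPrime p) = ⊤ := by
    have : maximalIdeal (Localization.AtPrime p) • (⊤ : Ideal (Localization.AtPrime p)) = ⊤ := h2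
    rwa [smul_eq_mul, Ideal.mul_top] at this
  exact (IsLocalRing.maximalIdeal.isMaximal _).ne_top h3

lemma isSMulRegular_loc_of_mem_nonZeroDivisors {x : Localization.AtPrime p}
    (hx : x ∈ nonZeroDivisors (Localization.AtPrime p)) :
    IsSMulRegular (LocalizedModule p.primeCompl R) x := by
  intro a b hab
  have hab' : x • a = x • b := hab
  apply (locEquiv p).injective
  have h2 := congrArg (locEquiv p) hab'
  rw [map_smul, map_smul, smul_eq_mul, smul_eq_mul] at h2
  exact (mul_cancel_left_mem_nonZeroDivisors hx).mp h2

end loc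

end Groth.Agent.Lib.Helper2.R0S1
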