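import Mathlib

set_option autoImplicit false
universe u v

namespace Groth.Agent.Lib.Helper2.LenAt

variable {A : Type u} [CommRing A]

/-- length of the localization at a prime. -/
noncomputable def lenAt (p : PrimeSpectrum A) (N : Type v) [AddCommGroup N] [Module A N] : ℕ∞ :=
  Module.length (Localization.AtPrime p.asIdeal) (LocalizedModule p.asIdeal.primeCompl N)

theorem lenAt_eq_zero_of_subsingleton (p : PrimeSpectrum A) (N : Type v) [AddCommGroup N]
    [Module A N] [Subsingleton N] : lenAt p N = 0 := by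
  unfold lenAt
  rw [Module.length_eq_zero_iff]
  constructor
  intro x y
  induction x using LocalizedModule.induction_on with
  | h m s =>
    induction y using LocalizedModule.induction_on with
    | h m' s' =>
      rw [Subsingleton.elim m 0, Subsingleton.elim m' 0, LocalizedModule.zero_mk,
        LocalizedModule.zero_mk]

theorem lenAt_exact (p : PrimeSpectrum A) {N₁ N₂ N₃ : Type v} [AddCommGroup N₁] [Module A N₁]
    [AddCommGroup N₂] [Module A N₂] [AddCommGroup N₃] [Module A N₃]
    (f : N₁ →ₗ[A] N₂) (g : N₂ →ₗ[A] N₃) (hf : Function.Injective f) (hg : Function.Surjective g)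
    (hfg : Function.Exact f g) : lenAt p N₂ = lenAt p N₁ + lenAt p N₃ := by
  unfold lenAt
  exact Module.length_eq_add_of_exact (LocalizedModule.map p.asIdeal.primeCompl f)
    (LocalizedModule.map p.asIdeal.primeCompl g)
    (LocalizedModule.map_injective _ f hf) (LocalizedModule.map_surjective _ g hg)
    (LocalizedModule.map_exact _ f g hfg)

theorem lenAt_congr (p : PrimeSpectrum A) {N₁ N₂ : Type v} [AddCommGroup N₁] [Module A N₁]
    [AddCommGroup N₂] [Module A N₂] (e : N₁ ≃ₗ[A] N₂) : lenAt p N₁ = lenAt p N₂ := by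
  unfold lenAt
  exact (LinearEquiv.ofBijective (LocalizedModule.map p.asIdeal.primeCompl e.toLinearMap)
    ⟨LocalizedModule.map_injective _ _ e.injective,
      LocalizedModule.map_surjective _ _ e.surjective⟩).length_eq

theorem lenAt_quotient_eq_zero (p q : PrimeSpectrum A) (h : ¬ q ≤ p) :
    lenAt p (A ⧸ q.asIdeal) = 0 := by
  unfold lenAt
  rw [Module.length_eq_zero_iff]
  have h' : ¬ q.asIdeal ≤ p.asIdeal := h
  obtain ⟨s, hsq, hsp⟩ := Set.not_subset.1 h'
  constructor
  intro x y
  have key : ∀ z : LocalizedModule p.asIdeal.primeCompl (A ⧸ q.asIdeal), z = 0 := by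
    intro z
    induction z using LocalizedModule.induction_on with
    | h m t =>
      rw [← LocalizedModule.zero_mk t, LocalizedModule.mk_eq]
      refine ⟨⟨s, hsp⟩, ?_⟩
      obtain ⟨a, rfl⟩ := Ideal.Quotient.mk_surjective m
      rw [smul_zero, smul_zero]
      have : (⟨s, hsp⟩ : p.asIdeal.primeCompl) • t • (Ideal.Quotient.mk q.asIdeal a)
          = Ideal.Quotient.mk q.asIdeal ((s * (t : A)) * a) := by
        rw [Submonoid.smul_def, Submonoid.smul_def, smul_smul]
        rfl
      rw [this, Ideal.Quotient.eq_zero_iff_mem, mul_assoc]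
      exact Ideal.mul_mem_right _ _ hsq
  rw [key x, key y]

theorem lenAt_quotient_self (q : PrimeSpectrum A) : lenAt q (A ⧸ q.asIdeal) = 1 := by
  unfold lenAt
  rw [Module.length_eq_one_iff]
  set S := q.asIdeal.primeCompl with hS
  set K := LocalizedModule S (A ⧸ q.asIdeal) with hK
  let g : K := LocalizedModule.mk (Ideal.Quotient.mk q.asIdeal 1) 1
  have hg0 : g ≠ 0 := by
    intro h0
    rw [← LocalizedModule.zero_mk (1 : S), LocalizedModule.mk_eq] at h0
    obtain ⟨u, hu⟩ := h0
    rw [smul_zero, smul_zero, one_smul] at hu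
    have : (u : S) • (Ideal.Quotient.mk q.asIdeal 1) = Ideal.Quotient.mk q.asIdeal (u : A) := by
      rw [Submonoid.smul_def]
      show Ideal.Quotient.mk q.asIdeal ((u : A) * 1) = _
      rw [mul_one]
    rw [this, Ideal.Quotient.eq_zero_iff_mem] at hu
    exact u.2 hu
  have hgen : ∀ z : K, ∃ r : Localization S, z = r • g := by
    intro z
    induction z using LocalizedModule.induction_on with
    | h m t =>
      obtain ⟨a, rfl⟩ := Ideal.Quotient.mk_surjective m
      refine ⟨Localization.mk a t, ?_⟩
      rw [LocalizedModule.mk_smul_mk, mul_one]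
      congr 1
      show _ = Ideal.Quotient.mk q.asIdeal (a * 1)
      rw [mul_one]
  have hx : ∀ x : K, x ≠ 0 → ∃ r : Localization S, r • x = g := by
    intro x hx0
    induction x using LocalizedModule.induction_on with
    | h m t =>
      obtain ⟨a, rfl⟩ := Ideal.Quotient.mk_surjective m
      have ha : a ∉ q.asIdeal := by
        intro ha
        apply hx0
        rw [Ideal.Quotient.eq_zero_iff_mem.2 ha, LocalizedModule.zero_mk]
      refine ⟨Localization.mk (t : A) (⟨a, ha⟩ : S), ?_⟩
      rw [LocalizedModule.mk_smul_mk, LocalizedModule.mk_eq]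
      refine ⟨1, ?_⟩
      rw [one_smul, one_smul, one_smul]
      show Ideal.Quotient.mk q.asIdeal ((t : A) * a) = _
      rw [Submonoid.smul_def]
      show _ = Ideal.Quotient.mk q.asIdeal (((⟨a, ha⟩ * t : S) : A) * 1)
      rw [mul_one]
      simp [mul_comm]
  rw [isSimpleModule_iff_toSpanSingleton_surjective]
  refine ⟨⟨⟨g, 0, hg0⟩⟩, fun x hx0 z => ?_⟩
  obtain ⟨r, hr⟩ := hx x hx0
  obtain ⟨r', rfl⟩ := hgen z
  refine ⟨r' * r, ?_⟩
  rw [LinearMap.toSpanSingleton_apply, mul_smul, hr]

end Groth.Agent.Lib.Helper2.LenAt
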