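import Mathlib

set_option autoImplicit false
universe u v w

namespace Groth.Agent.Lib.Helper2.RelLength

variable {A : Type u} [CommRing A] {M : Type v} [AddCommGroup M] [Module A M]
  {M₂ : Type w} [AddCommGroup M₂] [Module A M₂]

/-- relative length `ℓ(Q / (P ∩ Q))`. -/
noncomputable def rl (P Q : Submodule A M) : ℕ∞ := Module.length A (↥Q ⧸ P.submoduleOf Q)

theorem rl_eq_zero_of_le {P Q : Submodule A M} (h : Q ≤ P) : rl P Q = 0 := by
  unfold rl
  rw [Module.length_eq_zero_iff, Submodule.Quotient.subsingleton_iff]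
  rw [eq_top_iff]
  intro x _
  exact h x.2

theorem le_of_rl_eq_zero {P Q : Submodule A M} (h : rl P Q = 0) : Q ≤ P := by
  unfold rl at h
  rw [Module.length_eq_zero_iff, Submodule.Quotient.subsingleton_iff] at h
  intro x hx
  have : (⟨x, hx⟩ : Q) ∈ P.submoduleOf Q := by rw [h]; trivial
  exact this

theorem rl_add {P Q T : Submodule A M} (hPQ : P ≤ Q) (hQT : Q ≤ T) :
    rl P T = rl P Q + rl Q T := by
  unfold rl
  let α : (↥Q ⧸ P.submoduleOf Q) →ₗ[A] (↥T ⧸ P.submoduleOf T) :=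
    Submodule.mapQ _ _ (Submodule.inclusion hQT) (fun x hx => hx)
  let β : (↥T ⧸ P.submoduleOf T) →ₗ[A] (↥T ⧸ Q.submoduleOf T) :=
    Submodule.mapQ _ _ LinearMap.id (fun x hx => hPQ hx)
  apply Module.length_eq_add_of_exact α β
  · rw [← LinearMap.ker_eq_bot, LinearMap.ker_eq_bot']
    intro y hy
    obtain ⟨x, rfl⟩ := Submodule.Quotient.mk_surjective _ y
    simp only [α, Submodule.mapQ_apply] at hy
    rw [Submodule.Quotient.mk_eq_zero] at hy ⊢
    exact hy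
  · intro y
    obtain ⟨x, rfl⟩ := Submodule.Quotient.mk_surjective _ y
    exact ⟨Submodule.Quotient.mk x, rfl⟩
  · intro y
    obtain ⟨t, rfl⟩ := Submodule.Quotient.mk_surjective _ y
    simp only [β, Submodule.mapQ_apply, LinearMap.id_apply]
    rw [Submodule.Quotient.mk_eq_zero]
    constructor
    · intro ht
      exact ⟨Submodule.Quotient.mk ⟨t.1, ht⟩, rfl⟩
    · rintro ⟨z, hz⟩
      obtain ⟨x, rfl⟩ := Submodule.Quotient.mk_surjective _ z
      simp only [α, Submodule.mapQ_apply] at hz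
      rw [Submodule.Quotient.eq] at hz
      have h1 : (Submodule.inclusion hQT x - t : T) ∈ P.submoduleOf T := hz
      have h2 : ((Submodule.inclusion hQT x - t : T) : M) ∈ Q := hPQ h1
      have h3 : ((Submodule.inclusion hQT x : T) : M) ∈ Q := x.2
      have h4 : (t : M) = (Submodule.inclusion hQT x : T) - ((Submodule.inclusion hQT x - t : T) : M) := by
        simp
      show (t : M) ∈ Q
      rw [h4]
      exact Q.sub_mem h3 h2

theorem rl_le_of_le_left {P Q T : Submodule A M} (hPQ : P ≤ Q) (hQT : Q ≤ T) : rl Q T ≤ rl P T := by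
  rw [rl_add hPQ hQT]
  exact le_add_self

theorem rl_le_of_le_right {P Q T : Submodule A M} (hPQ : P ≤ Q) (hQT : Q ≤ T) : rl P Q ≤ rl P T := by
  rw [rl_add hPQ hQT]
  exact le_self_add

theorem rl_inf (P Q : Submodule A M) : rl (Q ⊓ P) Q = rl P Q := by
  unfold rl
  have : (Q ⊓ P).submoduleOf Q = P.submoduleOf Q := by
    ext x
    simp [Submodule.submoduleOf, x.2]
  rw [this]

theorem rl_iso (f : M →ₗ[A] M₂) (P₂ : Submodule A M₂) (Q : Submodule A M) :
    rl (P₂.comap f) Q = rl P₂ (P₂ ⊔ Q.map f) := by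
  unfold rl
  let g0 : ↥Q →ₗ[A] ↥(P₂ ⊔ Q.map f) :=
    LinearMap.codRestrict _ (f ∘ₗ Q.subtype)
      (fun q => Submodule.mem_sup_right (Submodule.mem_map_of_mem q.2))
  let g : ↥Q →ₗ[A] (↥(P₂ ⊔ Q.map f) ⧸ P₂.submoduleOf (P₂ ⊔ Q.map f)) :=
    (Submodule.mkQ _) ∘ₗ g0
  have hsurj : Function.Surjective g := by
    intro y
    obtain ⟨⟨y, hy⟩, rfl⟩ := Submodule.Quotient.mk_surjective _ y
    obtain ⟨p, hp, z, hz, rfl⟩ := Submodule.mem_sup.1 hy
    obtain ⟨q, hq, rfl⟩ := Submodule.mem_map.1 hz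
    refine ⟨⟨q, hq⟩, ?_⟩
    simp only [g, LinearMap.comp_apply, Submodule.mkQ_apply]
    rw [Submodule.Quotient.eq]
    show ((g0 ⟨q, hq⟩ - ⟨p + f q, hy⟩ : ↥(P₂ ⊔ Q.map f)) : M₂) ∈ P₂
    have : ((g0 ⟨q, hq⟩ - ⟨p + f q, hy⟩ : ↥(P₂ ⊔ Q.map f)) : M₂) = - p := by
      simp [g0]
    rw [this]
    exact P₂.neg_mem hp
  have hker : LinearMap.ker g = (P₂.comap f).submoduleOf Q := by
    ext q
    simp only [g, LinearMap.mem_ker, LinearMap.comp_apply, Submodule.mkQ_apply]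
    rw [Submodule.Quotient.mk_eq_zero]
    rfl
  exact ((Submodule.quotEquivOfEq _ _ hker).symm.trans
    (LinearMap.quotKerEquivOfSurjective g hsurj)).length_eq

theorem rl_four_term (f : M →ₗ[A] M) {P Q P₂ Q₂ : Submodule A M} (hPQ : P ≤ Q)
    (hP₂Q₂ : P₂ ≤ Q₂) (hfQ : Q.map f ≤ Q₂) (hfP : P.map f ≤ P₂) :
    rl P Q + rl (P₂ ⊔ Q.map f) Q₂ = rl P₂ Q₂ + rl P (Q ⊓ P₂.comap f) := by
  have hPK : P ≤ Q ⊓ P₂.comap f := le_inf hPQ (Submodule.map_le_iff_le_comap.1 hfP)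
  have h1 : rl P Q = rl P (Q ⊓ P₂.comap f) + rl (Q ⊓ P₂.comap f) Q := rl_add hPK inf_le_left
  have h2 : rl (Q ⊓ P₂.comap f) Q = rl P₂ (P₂ ⊔ Q.map f) := by rw [rl_inf, rl_iso]
  have h3 : rl P₂ Q₂ = rl P₂ (P₂ ⊔ Q.map f) + rl (P₂ ⊔ Q.map f) Q₂ :=
    rl_add le_sup_left (sup_le hP₂Q₂ hfQ)
  rw [h1, h2, h3]
  ring

theorem rl_bot_eq (Q : Submodule A M) : rl ⊥ Q = Module.length A Q := by
  unfold rl
  have : (⊥ : Submodule A M).submoduleOf Q = ⊥ := by
    ext x
    simp [Submodule.submoduleOf]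
  rw [this]
  exact (Submodule.quotEquivOfEqBot _ rfl).length_eq

theorem rl_top_eq (P : Submodule A M) : rl P ⊤ = Module.length A (M ⧸ P) := by
  unfold rl
  let g : ↥(⊤ : Submodule A M) →ₗ[A] M ⧸ P := P.mkQ ∘ₗ (⊤ : Submodule A M).subtype
  have hsurj : Function.Surjective g := by
    intro y
    obtain ⟨x, rfl⟩ := P.mkQ_surjective y
    exact ⟨⟨x, trivial⟩, rfl⟩
  have hker : LinearMap.ker g = P.submoduleOf ⊤ := by
    ext q
    simp only [g, LinearMap.mem_ker, LinearMap.comp_apply, Submodule.mkQ_apply,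
      Submodule.subtype_apply]
    rw [Submodule.Quotient.mk_eq_zero]
    rfl
  exact ((Submodule.quotEquivOfEq _ _ hker).symm.trans
    (LinearMap.quotKerEquivOfSurjective g hsurj)).length_eq

end Groth.Agent.Lib.Helper2.RelLength
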