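import Mathlib
import Groth.Agent.Lib.Helper2.RelLength

set_option autoImplicit false
universe u v w

namespace Groth.Agent.Lib.Helper2.Snake

open Groth.Agent.Lib.Helper2.RelLength
open Pointwise

variable {A : Type u} [CommRing A] (t : A)

/-- length of the cokernel of multiplication by `t`. -/
noncomputable def a (N : Type v) [AddCommGroup N] [Module A N] : ℕ∞ :=
  Module.length A (N ⧸ (Ideal.span {t} • (⊤ : Submodule A N)))

/-- length of the kernel of multiplication by `t`. -/
noncomputable def b (N : Type v) [AddCommGroup N] [Module A N] : ℕ∞ :=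
  Module.length A (LinearMap.ker (LinearMap.lsmul A N t))

section Basic

variable {N : Type v} [AddCommGroup N] [Module A N]

theorem rl_sup (P Q : Submodule A N) : rl P (P ⊔ Q) = rl P Q := by
  have := rl_iso (LinearMap.id : N →ₗ[A] N) P Q
  rw [Submodule.comap_id, Submodule.map_id] at this
  exact this.symm

theorem mem_span_smul_top (x : N) :
    x ∈ Ideal.span {t} • (⊤ : Submodule A N) ↔ ∃ y : N, t • y = x := by
  rw [Submodule.ideal_span_singleton_smul, Submodule.mem_smul_pointwise_iff_exists]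
  simp

theorem smul_top_eq_range :
    Ideal.span {t} • (⊤ : Submodule A N) = LinearMap.range (LinearMap.lsmul A N t) := by
  ext x
  rw [mem_span_smul_top, LinearMap.mem_range]
  rfl

theorem a_eq_rl : a t N = rl (LinearMap.range (LinearMap.lsmul A N t)) ⊤ := by
  rw [rl_top_eq, ← smul_top_eq_range]
  rfl

theorem b_eq_rl : b t N = rl ⊥ (LinearMap.ker (LinearMap.lsmul A N t)) := by
  rw [rl_bot_eq]
  rfl

end Basic

section Congr

variable {N : Type v} [AddCommGroup N] [Module A N] {N' : Type w} [AddCommGroup N'] [Module A N']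

theorem a_congr (e : N ≃ₗ[A] N') : a t N = a t N' := by
  unfold a
  refine (Submodule.Quotient.equiv _ _ e ?_).length_eq
  rw [Submodule.map_smul'', Submodule.map_top, LinearEquiv.range]

theorem b_congr (e : N ≃ₗ[A] N') : b t N = b t N' := by
  unfold b
  have h : (LinearMap.ker (LinearMap.lsmul A N t)).map (e : N →ₗ[A] N') =
      LinearMap.ker (LinearMap.lsmul A N' t) := by
    ext x
    simp only [Submodule.mem_map, LinearMap.mem_ker, LinearMap.lsmul_apply, LinearEquiv.coe_coe]
    constructor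
    · rintro ⟨y, hy, rfl⟩
      rw [← map_smul, hy, map_zero]
    · intro hx
      refine ⟨e.symm x, ?_, e.apply_symm_apply x⟩
      rw [← map_smul, hx, map_zero]
  exact ((e.submoduleMap _).trans (LinearEquiv.ofEq _ _ h)).length_eq

end Congr

section Sub

variable {N : Type v} [AddCommGroup N] [Module A N] (K : Submodule A N)

theorem a_sub : a t K = rl (K.map (LinearMap.lsmul A N t)) K := by
  unfold a rl
  have h : Ideal.span {t} • (⊤ : Submodule A K) = (K.map (LinearMap.lsmul A N t)).submoduleOf K := by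
    ext x
    rw [mem_span_smul_top]
    simp only [Submodule.submoduleOf, Submodule.mem_comap, Submodule.subtype_apply,
      Submodule.mem_map, LinearMap.lsmul_apply]
    constructor
    · rintro ⟨y, rfl⟩
      exact ⟨y.1, y.2, rfl⟩
    · rintro ⟨y, hy, hyx⟩
      exact ⟨⟨y, hy⟩, Subtype.ext hyx⟩
  rw [h]

theorem b_sub : b t K = rl ⊥ (K ⊓ LinearMap.ker (LinearMap.lsmul A N t)) := by
  rw [rl_bot_eq]
  unfold b
  let φ : ↥(LinearMap.ker (LinearMap.lsmul A K t)) →ₗ[A]
      ↥(K ⊓ LinearMap.ker (LinearMap.lsmul A N t)) :=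
    LinearMap.codRestrict _ (K.subtype ∘ₗ (LinearMap.ker (LinearMap.lsmul A K t)).subtype)
      (fun x => by
        refine ⟨x.1.2, ?_⟩
        show ((x.1 : K) : N) ∈ LinearMap.ker (LinearMap.lsmul A N t)
        have hx := x.2
        rw [LinearMap.mem_ker, LinearMap.lsmul_apply] at hx ⊢
        have h2 : ((t • (x.1 : K) : K) : N) = ((0 : K) : N) := congrArg (Subtype.val) hx
        rw [Submodule.coe_smul, Submodule.coe_zero] at h2
        exact h2)
  have hinj : Function.Injective φ := by
    intro x y hxy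
    have := congrArg Subtype.val hxy
    exact Subtype.ext (Subtype.ext this)
  have hsurj : Function.Surjective φ := by
    rintro ⟨y, hyK, hyker⟩
    have hyker' : y ∈ LinearMap.ker (LinearMap.lsmul A N t) := hyker
    refine ⟨⟨⟨y, hyK⟩, ?_⟩, rfl⟩
    rw [LinearMap.mem_ker, LinearMap.lsmul_apply] at hyker' ⊢
    exact Subtype.ext hyker'
  exact (LinearEquiv.ofBijective φ ⟨hinj, hsurj⟩).length_eq

theorem a_quot : a t (N ⧸ K) = rl (K ⊔ LinearMap.range (LinearMap.lsmul A N t)) ⊤ := by
  rw [rl_top_eq]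
  unfold a
  let g : N →ₗ[A] (N ⧸ K) ⧸ (Ideal.span {t} • (⊤ : Submodule A (N ⧸ K))) :=
    (Submodule.mkQ _) ∘ₗ K.mkQ
  have hsurj : Function.Surjective g :=
    (Submodule.mkQ_surjective _).comp K.mkQ_surjective
  have hker : LinearMap.ker g = K ⊔ LinearMap.range (LinearMap.lsmul A N t) := by
    rw [LinearMap.ker_comp, Submodule.ker_mkQ]
    have : Ideal.span {t} • (⊤ : Submodule A (N ⧸ K)) =
        (Ideal.span {t} • (⊤ : Submodule A N)).map K.mkQ := by
      rw [Submodule.map_smul'', Submodule.map_top, Submodule.range_mkQ]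
    rw [this, Submodule.comap_map_eq, Submodule.ker_mkQ, smul_top_eq_range, sup_comm]
  exact ((LinearMap.quotKerEquivOfSurjective g hsurj).symm.trans
    (Submodule.quotEquivOfEq _ _ hker)).length_eq

theorem b_quot : b t (N ⧸ K) = rl K (K.comap (LinearMap.lsmul A N t)) := by
  unfold b rl
  set C := K.comap (LinearMap.lsmul A N t) with hC
  let g : ↥C →ₗ[A] ↥(LinearMap.ker (LinearMap.lsmul A (N ⧸ K) t)) :=
    LinearMap.codRestrict _ (K.mkQ ∘ₗ C.subtype) (fun x => by
      rw [LinearMap.mem_ker, LinearMap.lsmul_apply]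
      show t • K.mkQ (x : N) = 0
      rw [← map_smul, Submodule.mkQ_apply, Submodule.Quotient.mk_eq_zero]
      exact x.2)
  have hsurj : Function.Surjective g := by
    rintro ⟨y, hy⟩
    obtain ⟨x, rfl⟩ := K.mkQ_surjective y
    rw [LinearMap.mem_ker, LinearMap.lsmul_apply, ← map_smul, Submodule.mkQ_apply,
      Submodule.Quotient.mk_eq_zero] at hy
    exact ⟨⟨x, hy⟩, rfl⟩
  have hker : LinearMap.ker g = K.submoduleOf C := by
    ext x
    rw [LinearMap.mem_ker]
    constructor
    · intro hx
      have := congrArg Subtype.val hx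
      simp only [g, LinearMap.codRestrict_apply, LinearMap.comp_apply, Submodule.subtype_apply,
        Submodule.mkQ_apply, ZeroMemClass.coe_zero, Submodule.Quotient.mk_eq_zero] at this
      exact this
    · intro hx
      apply Subtype.ext
      simp only [g, LinearMap.codRestrict_apply, LinearMap.comp_apply, Submodule.subtype_apply,
        Submodule.mkQ_apply, ZeroMemClass.coe_zero, Submodule.Quotient.mk_eq_zero]
      exact hx
  exact ((LinearMap.quotKerEquivOfSurjective g hsurj).symm.trans
    (Submodule.quotEquivOfEq _ _ hker)).length_eq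

/-- The snake identity for a submodule. -/
theorem snake_sub :
    a t N + b t K + b t (N ⧸ K) = a t K + a t (N ⧸ K) + b t N ∧
      a t K ≤ a t N + b t (N ⧸ K) := by
  set τ := LinearMap.lsmul A N t with hτ
  set R := LinearMap.range τ with hR
  set Z := LinearMap.ker τ with hZ
  set tK := K.map τ with htK
  set C := K.comap τ with hCdef
  have htKK : tK ≤ K := by
    rintro _ ⟨y, hy, rfl⟩
    exact K.smul_mem t hy
  have htKR : tK ≤ R := LinearMap.map_le_range
  have hKC : K ≤ C := by
    intro x hx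
    exact K.smul_mem t hx
  have hZC : Z ≤ C := by
    intro x hx
    show τ x ∈ K
    rw [LinearMap.mem_ker.1 hx]
    exact K.zero_mem
  set X := rl tK (K ⊓ R) with hX
  set Y := rl (K ⊔ Z) C with hY
  have haN : a t N = rl R K + a t (N ⧸ K) := by
    rw [a_eq_rl, a_quot, rl_add (le_sup_right : R ≤ K ⊔ R) le_top, sup_comm K R, rl_sup]
  have h2 : rl R K = rl (K ⊓ R) K := (rl_inf R K).symm
  have haK : a t K = X + rl (K ⊓ R) K := by
    rw [a_sub, rl_add (le_inf htKK htKR) inf_le_left]
  have hbN : b t N = b t K + rl K Z := by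
    rw [b_eq_rl, b_sub, rl_add bot_le (inf_le_right : K ⊓ Z ≤ Z), inf_comm K Z, rl_inf K Z]
  have hbQ : b t (N ⧸ K) = rl K Z + Y := by
    rw [b_quot, rl_add (le_sup_left : K ≤ K ⊔ Z) (sup_le hKC hZC), rl_sup]
  have hXY : Y = X := by
    rw [hY, hX]
    have h1 : K ⊔ Z = tK.comap τ := by
      rw [htK, Submodule.comap_map_eq]
    rw [h1, rl_iso τ tK C, hCdef, Submodule.map_comap_eq, sup_eq_right.2 (le_inf htKR htKK),
      inf_comm]
  refine ⟨?_, ?_⟩
  · rw [haN, hbN, hbQ, haK, hXY, h2]
    ring
  · calc a t K ≤ a t K + a t (N ⧸ K) := le_self_add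
      _ = X + a t N := by rw [haK, haN, h2]; ring
      _ ≤ a t N + b t (N ⧸ K) := by
        rw [hbQ, hXY, add_comm]
        gcongr
        exact le_add_self

theorem a_quot_le : a t (N ⧸ K) ≤ a t N := by
  rw [a_quot, a_eq_rl]
  exact rl_le_of_le_left le_sup_right le_top

end Sub

section Exact

variable {N₁ : Type v} [AddCommGroup N₁] [Module A N₁] {N₂ : Type v} [AddCommGroup N₂]
  [Module A N₂] {N₃ : Type v} [AddCommGroup N₃] [Module A N₃]

theorem snake_exact (f : N₁ →ₗ[A] N₂) (g : N₂ →ₗ[A] N₃) (hf : Function.Injective f)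
    (hg : Function.Surjective g) (hfg : Function.Exact f g) :
    a t N₂ + b t N₁ + b t N₃ = a t N₁ + a t N₃ + b t N₂ ∧
      a t N₁ ≤ a t N₂ + b t N₃ ∧ a t N₃ ≤ a t N₂ := by
  set K := LinearMap.range f with hK
  have e₁ : N₁ ≃ₗ[A] K := LinearEquiv.ofInjective f hf
  have hker : LinearMap.ker g = K := (LinearMap.exact_iff.1 hfg)
  have e₃ : N₃ ≃ₗ[A] (N₂ ⧸ K) :=
    (LinearMap.quotKerEquivOfSurjective g hg).symm.trans (Submodule.quotEquivOfEq _ _ hker)
  rw [a_congr t e₁, b_congr t e₁, a_congr t e₃, b_congr t e₃]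
  exact ⟨(snake_sub t K).1, (snake_sub t K).2, a_quot_le t K⟩

end Exact

end Groth.Agent.Lib.Helper2.Snake
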