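import Mathlib
import Groth.Agent.Lib.Helper2.Snake
import Groth.Agent.Lib.Helper2.LenAt

set_option autoImplicit false
universe u v w

namespace Groth.Agent.Lib.Helper2.ChiLocal

open Groth.Agent.Lib.Helper2.RelLength Groth.Agent.Lib.Helper2.Snake Groth.Agent.Lib.Helper2.LenAt
open Pointwise

section General

variable {A : Type u} [CommRing A] (t : A)

theorem a_of_smul_eq_zero (N : Type v) [AddCommGroup N] [Module A N] (h : ∀ x : N, t • x = 0) :
    a t N = Module.length A N := by
  unfold a
  have : Ideal.span {t} • (⊤ : Submodule A N) = ⊥ := by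
    rw [eq_bot_iff]
    intro x hx
    obtain ⟨y, rfl⟩ := (mem_span_smul_top t x).1 hx
    rw [h y]
    exact Submodule.zero_mem _
  exact (Submodule.quotEquivOfEqBot _ this).length_eq

theorem b_of_smul_eq_zero (N : Type v) [AddCommGroup N] [Module A N] (h : ∀ x : N, t • x = 0) :
    b t N = Module.length A N := by
  unfold b
  have : LinearMap.ker (LinearMap.lsmul A N t) = ⊤ := by
    rw [eq_top_iff]
    intro x _
    rw [LinearMap.mem_ker, LinearMap.lsmul_apply, h x]
  rw [this, Module.length_top]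

theorem b_eq_zero_iff (N : Type v) [AddCommGroup N] [Module A N] :
    b t N = 0 ↔ IsSMulRegular N t := by
  unfold b
  rw [Module.length_eq_zero_iff, Submodule.subsingleton_iff_eq_bot, LinearMap.ker_eq_bot]
  rfl

theorem b_quot_prime (q : Ideal A) [q.IsPrime] (ht : t ∉ q) : b t (A ⧸ q) = 0 := by
  rw [b_eq_zero_iff]
  intro x y hxy
  obtain ⟨x, rfl⟩ := Ideal.Quotient.mk_surjective x
  obtain ⟨y, rfl⟩ := Ideal.Quotient.mk_surjective y
  have h1 : Ideal.Quotient.mk q (t * x) = Ideal.Quotient.mk q (t * y) := hxy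
  rw [Ideal.Quotient.eq, ← mul_sub] at h1
  rw [Ideal.Quotient.eq]
  exact (Ideal.IsPrime.mem_or_mem ‹_› h1).resolve_left ht

theorem a_quot_ideal (p : Ideal A) :
    a t (A ⧸ p) = Module.length A (A ⧸ (p ⊔ Ideal.span {t})) := by
  have h := a_quot t (p : Submodule A A)
  rw [rl_top_eq, ← smul_top_eq_range] at h
  have h2 : Ideal.span {t} • (⊤ : Submodule A A) = Ideal.span {t} := by
    rw [smul_eq_mul, Ideal.mul_top]
  rw [h2] at h
  exact h

end General

section Local

variable {B : Type u} [CommRing B] [IsLocalRing B]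

theorem eq_maximalIdeal_of_isFiniteLength (P : Ideal B) [P.IsPrime]
    (h : IsFiniteLength B (B ⧸ P)) : P = IsLocalRing.maximalIdeal B := by
  have h1 : IsArtinian B (B ⧸ P) := (isFiniteLength_iff_isNoetherian_isArtinian.1 h).2
  have h2 : IsArtinianRing (B ⧸ P) := isArtinian_of_tower B h1
  have h3 : P.IsMaximal := Ideal.Quotient.maximal_of_isField _ (IsArtinianRing.isField_of_isDomain _)
  exact IsLocalRing.eq_maximalIdeal h3

theorem eq_maximalIdeal_of_mem_support (N : Type v) [AddCommGroup N] [Module B N]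
    (h : Module.length B N ≠ ⊤) (P : PrimeSpectrum B) (hP : P ∈ Module.support B N) :
    P.asIdeal = IsLocalRing.maximalIdeal B := by
  obtain ⟨x, hx⟩ := Module.mem_support_iff_exists_annihilator.1 hP
  rw [Ideal.annihilator_span_singleton_eq_torsionOf] at hx
  apply eq_maximalIdeal_of_isFiniteLength
  rw [← Module.length_ne_top_iff]
  have h1 : Module.length B (B ⧸ P.asIdeal) ≤ Module.length B (B ⧸ Ideal.torsionOf B N x) :=
    Module.length_le_of_surjective
      (Submodule.mapQ (Ideal.torsionOf B N x) P.asIdeal LinearMap.id (by simpa using hx))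
      (by
        intro y
        obtain ⟨y, rfl⟩ := Ideal.Quotient.mk_surjective y
        exact ⟨Submodule.Quotient.mk y, rfl⟩)
  have h2 : Module.length B (B ⧸ Ideal.torsionOf B N x) ≤ Module.length B N := by
    rw [(Ideal.quotTorsionOfEquivSpanSingleton B N x).length_eq]
    exact Module.length_le_of_injective (Submodule.subtype _) (Submodule.subtype_injective _)
  exact ne_top_of_le_ne_top h (h1.trans h2)

variable (t : B) (ht : t ∈ IsLocalRing.maximalIdeal B)

theorem length_residue : Module.length B (B ⧸ IsLocalRing.maximalIdeal B) = 1 := by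
  rw [Module.length_eq_one_iff, isSimpleModule_iff_isCoatom, ← Ideal.isMaximal_def]
  infer_instance

include ht in
theorem smul_residue_eq_zero (x : B ⧸ IsLocalRing.maximalIdeal B) : t • x = 0 := by
  obtain ⟨x, rfl⟩ := Ideal.Quotient.mk_surjective x
  show Ideal.Quotient.mk _ (t * x) = 0
  rw [Ideal.Quotient.eq_zero_iff_mem]
  exact Ideal.mul_mem_right _ _ ht

include ht in
theorem a_residue : a t (B ⧸ IsLocalRing.maximalIdeal B) = 1 := by
  rw [a_of_smul_eq_zero t _ (smul_residue_eq_zero t ht), length_residue]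

include ht in
theorem b_residue : b t (B ⧸ IsLocalRing.maximalIdeal B) = 1 := by
  rw [b_of_smul_eq_zero t _ (smul_residue_eq_zero t ht), length_residue]

include ht in
theorem a_quot_ne_zero (p : Ideal B) (hp : p ≤ IsLocalRing.maximalIdeal B) : a t (B ⧸ p) ≠ 0 := by
  rw [a_quot_ideal, Ne, Module.length_eq_zero_iff, not_subsingleton_iff_nontrivial,
    Ideal.Quotient.nontrivial_iff]
  intro h
  have : p ⊔ Ideal.span {t} ≤ IsLocalRing.maximalIdeal B :=
    sup_le hp ((Ideal.span_singleton_le_iff_mem _).2 ht)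
  rw [h] at this
  exact (IsLocalRing.maximalIdeal.isMaximal B).ne_top (top_le_iff.1 this)

include ht in
theorem a_quot_eq_one_iff (p : Ideal B) (hp : p ≤ IsLocalRing.maximalIdeal B) :
    a t (B ⧸ p) = 1 ↔ Ideal.map (Ideal.Quotient.mk p) (IsLocalRing.maximalIdeal B) =
      Ideal.span {Ideal.Quotient.mk p t} := by
  rw [a_quot_ideal, Module.length_eq_one_iff, isSimpleModule_iff_isCoatom, ← Ideal.isMaximal_def]
  have hle : p ⊔ Ideal.span {t} ≤ IsLocalRing.maximalIdeal B :=
    sup_le hp ((Ideal.span_singleton_le_iff_mem _).2 ht)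
  have hmap : Ideal.map (Ideal.Quotient.mk p) (p ⊔ Ideal.span {t}) =
      Ideal.span {Ideal.Quotient.mk p t} := by
    rw [Ideal.map_sup, Ideal.map_quotient_self, bot_sup_eq, Ideal.map_span, Set.image_singleton]
  constructor
  · intro hmax
    rw [← hmap, IsLocalRing.eq_maximalIdeal hmax]
  · intro h
    have h2 : p ⊔ Ideal.span {t} = IsLocalRing.maximalIdeal B := by
      have h3 := congrArg (Ideal.comap (Ideal.Quotient.mk p)) (hmap.trans h.symm)
      rw [Ideal.comap_map_of_surjective _ Ideal.Quotient.mk_surjective,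
        Ideal.comap_map_of_surjective _ Ideal.Quotient.mk_surjective,
        ← RingHom.ker_eq_comap_bot, Ideal.mk_ker] at h3
      rw [sup_eq_left.2 hp, sup_eq_left.2 (le_sup_left : p ≤ p ⊔ Ideal.span {t})] at h3
      exact h3
    rw [h2]
    infer_instance

end Local

section Main

variable {B : Type u} [CommRing B] [IsNoetherianRing B] [IsLocalRing B] (t : B)
  (ht : t ∈ IsLocalRing.maximalIdeal B)
  (M : Type u) [AddCommGroup M] [Module B M] [Module.Finite B M]
  (hdim : 0 < Module.supportDim B M) (hfin : a t M ≠ ⊤)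

include hfin in
theorem eq_max_of_mem (P : PrimeSpectrum B) (hP : P ∈ Module.support B M) (htP : t ∈ P.asIdeal) :
    P.asIdeal = IsLocalRing.maximalIdeal B := by
  apply eq_maximalIdeal_of_mem_support _ hfin P
  rw [Module.support_quotient]
  refine ⟨hP, ?_⟩
  rw [PrimeSpectrum.mem_zeroLocus]
  exact (Ideal.span_singleton_le_iff_mem _).2 htP

include hdim in
theorem ne_max_of_minimal (p : Ideal B) (hp : p ∈ (Module.annihilator B M).minimalPrimes) :
    p ≠ IsLocalRing.maximalIdeal B := by
  rintro rfl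
  rw [Module.supportDim, Order.krullDim_pos_iff] at hdim
  obtain ⟨x, y, hxy⟩ := hdim
  have hx : Module.annihilator B M ≤ x.1.asIdeal := Module.annihilator_le_of_mem_support x.2
  have hxm : x.1.asIdeal ≤ IsLocalRing.maximalIdeal B :=
    IsLocalRing.le_maximalIdeal x.1.isPrime.ne_top
  have hym : y.1.asIdeal ≤ IsLocalRing.maximalIdeal B :=
    IsLocalRing.le_maximalIdeal y.1.isPrime.ne_top
  have h1 : IsLocalRing.maximalIdeal B ≤ x.1.asIdeal := hp.2 ⟨x.1.isPrime, hx⟩ hxm
  have h2 : x.1.asIdeal < y.1.asIdeal := hxy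
  exact absurd (lt_of_lt_of_le h2 (hym.trans h1)) (lt_irrefl _)

include ht hfin in
theorem minimal_of_mem_support (q : PrimeSpectrum B) (hq : q ∈ Module.support B M)
    (hqm : q.asIdeal ≠ IsLocalRing.maximalIdeal B) :
    q.asIdeal ∈ (Module.annihilator B M).minimalPrimes := by
  have hann : Module.annihilator B M ≤ q.asIdeal := Module.annihilator_le_of_mem_support hq
  obtain ⟨q', hq'min, hq'le⟩ := Ideal.exists_minimalPrimes_le hann
  by_cases hqq : q' = q.asIdeal
  · rw [← hqq]; exact hq'min
  exfalso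
  have hq'prime : q'.IsPrime := hq'min.1.1
  have hlt : q' < q.asIdeal := lt_of_le_of_ne hq'le hqq
  have hqm' : q.asIdeal < IsLocalRing.maximalIdeal B :=
    lt_of_le_of_ne (IsLocalRing.le_maximalIdeal q.isPrime.ne_top) hqm
  have hspan : Ideal.span (insert t (q' : Set B)) ≤ IsLocalRing.maximalIdeal B := by
    rw [Ideal.span_le, Set.insert_subset_iff]
    exact ⟨ht, fun x hx => hqm'.le (hq'le hx)⟩
  have hm : IsLocalRing.maximalIdeal B ∈ (Ideal.span (insert t (q' : Set B))).minimalPrimes := by
    refine ⟨⟨inferInstance, hspan⟩, ?_⟩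
    rintro P ⟨hPprime, hPle⟩ _
    have hP : (⟨P, hPprime⟩ : PrimeSpectrum B) ∈ Module.support B M := by
      rw [Module.mem_support_iff_of_finite]
      refine hq'min.1.2.trans ?_
      intro x hx
      exact hPle (Ideal.subset_span (Set.mem_insert_of_mem _ hx))
    have htP : t ∈ P := hPle (Ideal.subset_span (Set.mem_insert _ _))
    exact (eq_max_of_mem t M hfin ⟨P, hPprime⟩ hP htP).ge
  have := Ideal.mem_minimalPrimes_span_of_mem_minimalPrimes_span_insert hqm' t (q' : Set B) hm
    (q' : Set B) hlt.le (fun x hx => Ideal.le_radical (Ideal.subset_span (Set.mem_insert_of_mem _ hx)))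
  rw [Ideal.span_eq, Ideal.minimalPrimes_eq_subsingleton_self] at this
  exact hqq this.symm

include ht hdim hfin in
theorem main_aux (N : Type u) [AddCommGroup N] [Module B N] [hN : Module.Finite B N] :
    Module.support B N ⊆ Module.support B M → a t N ≠ ⊤ →
      b t N ≠ ⊤ ∧ a t N = b t N + ∑ᶠ p : (Module.annihilator B M).minimalPrimes,
        lenAt ⟨p.1, p.2.1.1⟩ N * a t (B ⧸ p.1) := by
  haveI : Finite ↥(Module.annihilator B M).minimalPrimes :=
    (Ideal.finite_minimalPrimes_of_isNoetherianRing B (Module.annihilator B M)).to_subtype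
  induction hN using IsNoetherianRing.induction_on_isQuotientEquivQuotientPrime B with
  | subsingleton N =>
    intro _ _
    have ha : a t N = 0 := by
      unfold a
      rw [Module.length_eq_zero_iff]
      infer_instance
    have hb : b t N = 0 := by
      unfold b
      rw [Module.length_eq_zero_iff]
      infer_instance
    rw [ha, hb]
    refine ⟨by simp, ?_⟩
    rw [finsum_congr (g := fun _ => (0 : ℕ∞)), finsum_zero, add_zero]
    intro p
    rw [lenAt_eq_zero_of_subsingleton, zero_mul]
  | quotient N q e =>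
    intro hsupp hafin
    have hq : q ∈ Module.support B M := by
      apply hsupp
      rw [e.support_eq, Module.mem_support_iff_of_finite, Ideal.annihilator_quotient]
    have hlen : ∀ p : PrimeSpectrum B, lenAt p N = lenAt p (B ⧸ q.asIdeal) :=
      fun p => lenAt_congr p e
    rw [a_congr t e, b_congr t e]
    by_cases hqm : q.asIdeal = IsLocalRing.maximalIdeal B
    · have hzero : ∀ p : (Module.annihilator B M).minimalPrimes,
          lenAt ⟨p.1, p.2.1.1⟩ N * a t (B ⧸ p.1) = 0 := by
        intro p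
        rw [hlen, lenAt_quotient_eq_zero, zero_mul]
        intro hle
        have hle' : q.asIdeal ≤ p.1 := hle
        rw [hqm] at hle'
        have hp1 : p.1 ≤ IsLocalRing.maximalIdeal B := IsLocalRing.le_maximalIdeal p.2.1.1.ne_top
        exact ne_max_of_minimal M hdim p.1 p.2 (le_antisymm hp1 hle')
      rw [finsum_congr hzero, finsum_zero, add_zero, hqm, a_residue t ht, b_residue t ht]
      exact ⟨by simp, rfl⟩
    · have htq : t ∉ q.asIdeal := fun h => hqm (eq_max_of_mem t M hfin q hq h)
      have hqS := minimal_of_mem_support t ht M hfin q hq hqm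
      rw [b_quot_prime t q.asIdeal htq, zero_add]
      refine ⟨by simp, ?_⟩
      rw [finsum_eq_single _ (⟨q.asIdeal, hqS⟩ : (Module.annihilator B M).minimalPrimes)]
      · rw [hlen]
        have : lenAt (⟨q.asIdeal, hqS.1.1⟩ : PrimeSpectrum B) (B ⧸ q.asIdeal) = 1 :=
          lenAt_quotient_self q
        rw [this, one_mul]
      · intro p hp
        rw [hlen, lenAt_quotient_eq_zero, zero_mul]
        intro hle
        have hle' : q.asIdeal ≤ p.1 := hle
        apply hp
        apply Subtype.ext
        exact le_antisymm (p.2.2 ⟨q.isPrime, Module.annihilator_le_of_mem_support hq⟩ hle') hle'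
  | exact N₁ N₂ N₃ f g hf hg hfg ih₁ ih₃ =>
    intro hsupp hafin
    obtain ⟨hsnake, hle₁, hle₃⟩ := snake_exact t f g hf hg hfg
    have hs₁ : Module.support B N₁ ⊆ Module.support B M :=
      (Module.support_subset_of_injective f hf).trans hsupp
    have hs₃ : Module.support B N₃ ⊆ Module.support B M :=
      (Module.support_subset_of_surjective g hg).trans hsupp
    have ha₃ : a t N₃ ≠ ⊤ := ne_top_of_le_ne_top hafin hle₃
    obtain ⟨hb₃, hform₃⟩ := ih₃ hs₃ ha₃
    have ha₁ : a t N₁ ≠ ⊤ := ne_top_of_le_ne_top (WithTop.add_ne_top.2 ⟨hafin, hb₃⟩) hle₁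
    obtain ⟨hb₁, hform₁⟩ := ih₁ hs₁ ha₁
    have hb₂ : b t N₂ ≠ ⊤ := by
      have h1 : b t N₂ ≤ a t N₁ + a t N₃ + b t N₂ := le_add_self
      rw [← hsnake] at h1
      exact ne_top_of_le_ne_top
        (WithTop.add_ne_top.2 ⟨WithTop.add_ne_top.2 ⟨hafin, hb₁⟩, hb₃⟩) h1
    refine ⟨hb₂, ?_⟩
    have hadd : ∀ p : (Module.annihilator B M).minimalPrimes,
        lenAt ⟨p.1, p.2.1.1⟩ N₂ * a t (B ⧸ p.1) =
          lenAt ⟨p.1, p.2.1.1⟩ N₁ * a t (B ⧸ p.1) + lenAt ⟨p.1, p.2.1.1⟩ N₃ * a t (B ⧸ p.1) := by
      intro p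
      rw [lenAt_exact _ f g hf hg hfg, add_mul]
    rw [finsum_congr hadd, finsum_add_distrib (Set.toFinite _) (Set.toFinite _)]
    apply ENat.add_left_injective_of_ne_top (WithTop.add_ne_top.2 ⟨hb₁, hb₃⟩)
    show a t N₂ + (b t N₁ + b t N₃) = _ + (b t N₁ + b t N₃)
    rw [← add_assoc, hsnake]
    conv_lhs => rw [hform₁, hform₃]
    ring

end Main

end Groth.Agent.Lib.Helper2.ChiLocal
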