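import Mathlib

set_option autoImplicit false

namespace Groth.Agent.Lib.Helper2.BinPoly

/-- the basis `b k i = C(i + k, k)`. -/
def b (k i : ℕ) : ℤ := ((i + k).choose k : ℤ)

/-- eventually an integer combination of `b 0, …, b (d-1)`. -/
def IsBinPoly (d : ℕ) (f : ℕ → ℤ) : Prop :=
  ∃ c : ℕ → ℤ, ∃ N : ℕ, ∀ i, N ≤ i → f i = ∑ k ∈ Finset.range d, c k * b k i

lemma b_zero (i : ℕ) : b 0 i = 1 := by simp [b]

lemma b_succ_diff (k i : ℕ) : b (k + 1) (i + 1) - b (k + 1) i = b k (i + 1) := by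
  unfold b
  have h : (i + 1 + (k + 1)).choose (k + 1) = (i + 1 + k).choose k + (i + (k + 1)).choose (k + 1) := by
    have : i + 1 + (k + 1) = (i + 1 + k) + 1 := by ring
    rw [this, Nat.choose_succ_succ]
    congr 2
    ring
  rw [h]
  push_cast
  ring

lemma IsBinPoly.congr {d : ℕ} {f g : ℕ → ℤ} (hf : IsBinPoly d f) (N : ℕ)
    (h : ∀ i, N ≤ i → f i = g i) : IsBinPoly d g := by
  obtain ⟨c, N', hc⟩ := hf
  refine ⟨c, max N N', fun i hi => ?_⟩
  rw [← h i (le_of_max_le_left hi), hc i (le_of_max_le_right hi)]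

lemma IsBinPoly.add {d : ℕ} {f g : ℕ → ℤ} (hf : IsBinPoly d f) (hg : IsBinPoly d g) :
    IsBinPoly d (fun i => f i + g i) := by
  obtain ⟨c, N, hc⟩ := hf
  obtain ⟨c', N', hc'⟩ := hg
  refine ⟨fun k => c k + c' k, max N N', fun i hi => ?_⟩
  simp only
  rw [hc i (le_of_max_le_left hi), hc' i (le_of_max_le_right hi), ← Finset.sum_add_distrib]
  apply Finset.sum_congr rfl
  intro k _
  ring

lemma IsBinPoly.neg {d : ℕ} {f : ℕ → ℤ} (hf : IsBinPoly d f) : IsBinPoly d (fun i => - f i) := by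
  obtain ⟨c, N, hc⟩ := hf
  refine ⟨fun k => - c k, N, fun i hi => ?_⟩
  simp only
  rw [hc i hi, ← Finset.sum_neg_distrib]
  apply Finset.sum_congr rfl
  intro k _
  ring

lemma IsBinPoly.sub {d : ℕ} {f g : ℕ → ℤ} (hf : IsBinPoly d f) (hg : IsBinPoly d g) :
    IsBinPoly d (fun i => f i - g i) := by
  have := hf.add hg.neg
  refine this.congr 0 (fun i _ => ?_)
  ring

lemma IsBinPoly.mono {d d' : ℕ} (h : d ≤ d') {f : ℕ → ℤ} (hf : IsBinPoly d f) : IsBinPoly d' f := by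
  obtain ⟨c, N, hc⟩ := hf
  refine ⟨fun k => if k < d then c k else 0, N, fun i hi => ?_⟩
  rw [hc i hi, ← Finset.sum_subset (Finset.range_subset_range.2 h)]
  · apply Finset.sum_congr rfl
    intro k hk
    simp only
    rw [if_pos (Finset.mem_range.1 hk)]
  · intro k _ hk
    simp only
    rw [if_neg (fun h' => hk (Finset.mem_range.2 h')), zero_mul]

lemma isBinPoly_const (a : ℤ) : IsBinPoly 1 (fun _ => a) :=
  ⟨fun _ => a, 0, fun i _ => by simp [b_zero]⟩

lemma isBinPoly_zero_iff {f : ℕ → ℤ} : IsBinPoly 0 f ↔ ∃ N, ∀ i, N ≤ i → f i = 0 := by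
  constructor
  · rintro ⟨c, N, hc⟩
    exact ⟨N, fun i hi => by simpa using hc i hi⟩
  · rintro ⟨N, h⟩
    exact ⟨fun _ => 0, N, fun i hi => by simpa using h i hi⟩

/-- discrete antiderivative: `G (i+1) - G i = g (i+1)` eventually. -/
lemma IsBinPoly.exists_sum {d : ℕ} {g : ℕ → ℤ} (hg : IsBinPoly d g) :
    ∃ G : ℕ → ℤ, IsBinPoly (d + 1) G ∧ ∃ N, ∀ i, N ≤ i → G (i + 1) - G i = g (i + 1) := by
  obtain ⟨c, N, hc⟩ := hg
  refine ⟨fun i => ∑ k ∈ Finset.range d, c k * b (k + 1) i, ?_, N, fun i hi => ?_⟩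
  · refine ⟨fun k => if k = 0 then 0 else c (k - 1), 0, fun i _ => ?_⟩
    rw [Finset.sum_range_succ']
    simp
  · simp only
    rw [hc (i + 1) (by omega), ← Finset.sum_sub_distrib]
    apply Finset.sum_congr rfl
    intro k _
    rw [← mul_sub, b_succ_diff]

/-- integration: if `H (i+1) - H i = C (i+1) - K i` eventually with `C, K` binomial of degree `< d`,
then `H` is binomial of degree `< d + 1`. -/
theorem IsBinPoly.integrate {d : ℕ} {H C K : ℕ → ℤ} (hC : IsBinPoly d C) (hK : IsBinPoly d K)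
    (N : ℕ) (h : ∀ i, N ≤ i → H (i + 1) - H i = C (i + 1) - K i) : IsBinPoly (d + 1) H := by
  obtain ⟨GC, hGC, N1, h1⟩ := hC.exists_sum
  obtain ⟨GK, hGK, N2, h2⟩ := hK.exists_sum
  -- D = H - GC + (GK - K) is eventually constant
  set D : ℕ → ℤ := fun i => H i - GC i + (GK i - K i) with hD
  set N0 := max N (max N1 N2) with hN0
  have hstep : ∀ i, N0 ≤ i → D (i + 1) = D i := by
    intro i hi
    have hiN : N ≤ i := le_trans (le_max_left _ _) hi
    have hiN1 : N1 ≤ i := le_trans (le_trans (le_max_left _ _) (le_max_right _ _)) hi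
    have hiN2 : N2 ≤ i := le_trans (le_trans (le_max_right _ _) (le_max_right _ _)) hi
    have e1 := h i hiN
    have e2 := h1 i hiN1
    have e3 := h2 i hiN2
    simp only [hD]
    linarith
  have hconst : ∀ i, N0 ≤ i → D i = D N0 := by
    intro i hi
    induction i, hi using Nat.le_induction with
    | base => rfl
    | succ i hi ih => rw [hstep i hi, ih]
  have hDp : IsBinPoly (d + 1) D :=
    ((isBinPoly_const (D N0)).mono (by omega)).congr N0 (fun i hi => (hconst i hi).symm)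
  have := (hDp.add hGC).sub (hGK.sub (hK.mono (Nat.le_succ d)))
  refine this.congr 0 (fun i _ => ?_)
  simp only [hD]
  ring

lemma IsBinPoly.to_fin {d : ℕ} {f : ℕ → ℤ} (hf : IsBinPoly d f) :
    ∃ c : Fin d → ℤ, ∃ N : ℕ, ∀ i : ℕ, N ≤ i →
      f i = ∑ k : Fin d, c k * ((i + (k : ℕ)).choose (k : ℕ) : ℤ) := by
  obtain ⟨c, N, hc⟩ := hf
  refine ⟨fun k => c k, N, fun i hi => ?_⟩
  rw [hc i hi, Finset.sum_range]
  rfl

end Groth.Agent.Lib.Helper2.BinPoly
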