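import Mathlib
import Groth.Agent.Lib.Helper2.BinPoly
import Groth.Agent.Lib.Helper2.RelLength

set_option autoImplicit false
universe u v

namespace Groth.Agent.Lib.Helper2.HilbSerre

open Groth.Agent.Lib.Helper2.BinPoly Groth.Agent.Lib.Helper2.RelLength

variable {A : Type u} [CommRing A] {M : Type v} [AddCommGroup M] [Module A M] {s : ℕ}
  (ξ : Fin s → M →ₗ[A] M)

/-- a sequence of submodules stable under the degree-one operators. -/
def Stable (N : ℕ → Submodule A M) : Prop := ∀ i n, (N n).map (ξ i) ≤ N (n + 1)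

/-- ascending chains of stable sequences below `T` stabilise. -/
def ACC (T : ℕ → Submodule A M) : Prop :=
  ∀ F : ℕ → ℕ → Submodule A M, (∀ k, Stable ξ (F k)) → (∀ k n, F k n ≤ T n) →
    (∀ k n, F k n ≤ F (k + 1) n) → ∃ k₀, ∀ k, k₀ ≤ k → ∀ n, F k n = F k₀ n

/-- the cokernel sequence. -/
def Cseq (ξj : M →ₗ[A] M) (N' N : ℕ → Submodule A M) : ℕ → Submodule A M
  | 0 => N' 0
  | (m + 1) => N' (m + 1) ⊔ (N m).map ξj

theorem hilbert_serre (hcomm : ∀ i j m, ξ i (ξ j m) = ξ j (ξ i m)) (T : ℕ → Submodule A M)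
    (hT : ACC ξ T) : ∀ d, d ≤ s → ∀ N' N : ℕ → Submodule A M, Stable ξ N' → Stable ξ N →
    (∀ n, N' n ≤ N n) → (∀ n, N n ≤ T n) →
    (∀ i : Fin s, d ≤ (i : ℕ) → ∀ n, (N n).map (ξ i) ≤ N' (n + 1)) →
    (∀ n, rl (N' n) (N n) ≠ ⊤) →
    IsBinPoly d (fun n => ((rl (N' n) (N n)).toNat : ℤ)) := by
  intro d
  induction d with
  | zero =>
    intro _ N' N hN' hN hle hNT hkill _
    rw [isBinPoly_zero_iff]
    let F : ℕ → ℕ → Submodule A M := fun k n => N' n ⊔ (if n < k then N n else ⊥)
    have hF1 : ∀ k, Stable ξ (F k) := by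
      intro k i n
      simp only [F]
      rw [Submodule.map_sup]
      apply sup_le
      · exact (hN' i n).trans le_sup_left
      · refine le_trans ?_ ((hkill i (Nat.zero_le _) n).trans le_sup_left)
        apply Submodule.map_mono
        split_ifs
        · exact le_rfl
        · exact bot_le
    have hF2 : ∀ k n, F k n ≤ T n := by
      intro k n
      simp only [F]
      apply sup_le ((hle n).trans (hNT n))
      split_ifs
      · exact hNT n
      · exact bot_le
    have hF3 : ∀ k n, F k n ≤ F (k + 1) n := by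
      intro k n
      simp only [F]
      apply sup_le_sup_left
      split_ifs with h1 h2
      · exact le_rfl
      · omega
      · exact bot_le
      · exact bot_le
    obtain ⟨k₀, hk₀⟩ := hT F hF1 hF2 hF3
    refine ⟨k₀, fun n hn => ?_⟩
    have h1 := hk₀ (n + 1) (by omega) n
    simp only [F] at h1
    rw [if_pos (Nat.lt_succ_self n), if_neg (by omega), sup_bot_eq] at h1
    have h2 : N n ≤ N' n := by
      rw [← h1]
      exact le_sup_right
    rw [rl_eq_zero_of_le h2]
    rfl
  | succ d ih =>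
    intro hds N' N hN' hN hle hNT hkill hfin
    let j : Fin s := ⟨d, by omega⟩
    let K : ℕ → Submodule A M := fun n => N n ⊓ (N' (n + 1)).comap (ξ j)
    let C' : ℕ → Submodule A M := Cseq (ξ j) N' N
    -- properties of K
    have hK1 : Stable ξ K := by
      intro i n
      rintro _ ⟨x, hx, rfl⟩
      refine ⟨hN i n (Submodule.mem_map_of_mem hx.1), ?_⟩
      show ξ j (ξ i x) ∈ N' (n + 1 + 1)
      rw [hcomm j i x]
      exact hN' i (n + 1) (Submodule.mem_map_of_mem hx.2)
    have hK2 : ∀ n, N' n ≤ K n := by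
      intro n x hx
      exact ⟨hle n hx, hN' j n (Submodule.mem_map_of_mem hx)⟩
    have hK3 : ∀ n, K n ≤ N n := fun n => inf_le_left
    have hK4 : ∀ i : Fin s, d ≤ (i : ℕ) → ∀ n, (K n).map (ξ i) ≤ N' (n + 1) := by
      intro i hi n
      by_cases hid : (i : ℕ) = d
      · have : i = j := Fin.ext hid
        rw [this]
        rintro _ ⟨x, hx, rfl⟩
        exact hx.2
      · exact (Submodule.map_mono (hK3 n)).trans (hkill i (by omega) n)
    have hK5 : ∀ n, rl (N' n) (K n) ≠ ⊤ := by
      intro n
      exact ne_top_of_le_ne_top (hfin n) (rl_le_of_le_right (hK2 n) (hK3 n))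
    -- properties of C'
    have hC0 : C' 0 = N' 0 := rfl
    have hCs : ∀ m, C' (m + 1) = N' (m + 1) ⊔ (N m).map (ξ j) := fun m => rfl
    have hC1 : Stable ξ C' := by
      intro i n
      cases n with
      | zero =>
        rw [hC0, hCs]
        exact (hN' i 0).trans le_sup_left
      | succ m =>
        rw [hCs, hCs, Submodule.map_sup]
        apply sup_le
        · exact (hN' i (m + 1)).trans le_sup_left
        · refine le_trans ?_ le_sup_right
          rintro _ ⟨_, ⟨x, hx, rfl⟩, rfl⟩
          rw [hcomm i j x]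
          exact Submodule.mem_map_of_mem (hN i m (Submodule.mem_map_of_mem hx))
    have hC2 : ∀ n, C' n ≤ N n := by
      intro n
      cases n with
      | zero => rw [hC0]; exact hle 0
      | succ m => rw [hCs]; exact sup_le (hle (m + 1)) (hN j m)
    have hC3 : ∀ n, N' n ≤ C' n := by
      intro n
      cases n with
      | zero => rw [hC0]
      | succ m => rw [hCs]; exact le_sup_left
    have hC4 : ∀ i : Fin s, d ≤ (i : ℕ) → ∀ n, (N n).map (ξ i) ≤ C' (n + 1) := by
      intro i hi n
      rw [hCs]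
      by_cases hid : (i : ℕ) = d
      · have : i = j := Fin.ext hid
        rw [this]
        exact le_sup_right
      · exact (hkill i (by omega) n).trans le_sup_left
    have hC5 : ∀ n, rl (C' n) (N n) ≠ ⊤ := by
      intro n
      exact ne_top_of_le_ne_top (hfin n) (rl_le_of_le_left (hC3 n) (hC2 n))
    have ihK := ih (by omega) N' K hN' hK1 hK2 (fun n => (hK3 n).trans (hNT n)) hK4 hK5
    have ihC := ih (by omega) C' N hC1 hN hC2 hNT hC4 hC5
    refine IsBinPoly.integrate ihC ihK 0 (fun n _ => ?_)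
    have h4 := rl_four_term (ξ j) (hle n) (hle (n + 1)) (hN j n) (hN' j n)
    rw [← hCs] at h4
    have e1 : (rl (N' n) (N n)).toNat + (rl (C' (n + 1)) (N (n + 1))).toNat
        = (rl (N' (n + 1)) (N (n + 1))).toNat + (rl (N' n) (K n)).toNat := by
      rw [← ENat.toNat_add (hfin n) (hC5 (n + 1)), ← ENat.toNat_add (hfin (n + 1)) (hK5 n), h4]
    have e2 : ((rl (N' n) (N n)).toNat : ℤ) + ((rl (C' (n + 1)) (N (n + 1))).toNat : ℤ)
        = ((rl (N' (n + 1)) (N (n + 1))).toNat : ℤ) + ((rl (N' n) (K n)).toNat : ℤ) := by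
      exact_mod_cast e1
    linarith

end Groth.Agent.Lib.Helper2.HilbSerre
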