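import Mathlib
import Groth.Agent.Lib.Helper2.BinPoly
import Groth.Agent.Lib.Helper2.RelLength
import Groth.Agent.Lib.Helper2.HilbSerre

set_option autoImplicit false
universe u v w

namespace Groth.Agent.Lib.Helper2.HilbSamuel

open Groth.Agent.Lib.Helper2.BinPoly Groth.Agent.Lib.Helper2.RelLength
  Groth.Agent.Lib.Helper2.HilbSerre
open Pointwise

section Finiteness

variable {A : Type u} [CommRing A]

/-- a prime containing a power of the Jacobson radical of a semilocal ring is maximal. -/
theorem isMaximal_of_jacobson_pow_le [Finite (MaximalSpectrum A)] (n : ℕ) (p : Ideal A)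
    [hp : p.IsPrime] (h : (Ring.jacobson A) ^ n ≤ p) : p.IsMaximal := by
  have hle : Ring.jacobson A ≤ p := hp.le_of_pow_le h
  have hfin : {I : Ideal A | I.IsMaximal}.Finite := by
    have : {I : Ideal A | I.IsMaximal} = Set.range MaximalSpectrum.asIdeal := by
      ext I
      constructor
      · intro hI; exact ⟨⟨I, hI⟩, rfl⟩
      · rintro ⟨m, rfl⟩; exact m.isMaximal
    rw [this]
    exact Set.finite_range _
  rw [Ring.jacobson_eq_sInf_isMaximal] at hle
  have h2 : hfin.toFinset.inf id ≤ p := by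
    rw [Finset.inf_id_eq_sInf]
    simpa using hle
  obtain ⟨m, hm, hmp⟩ := hp.inf_le'.1 h2
  have hm' : m.IsMaximal := by simpa using hm
  have : m = p := hm'.eq_of_le hp.ne_top hmp
  exact this ▸ hm'

theorem isArtinianRing_quot_jacobson_pow [IsNoetherianRing A] [Finite (MaximalSpectrum A)]
    (n : ℕ) : IsArtinianRing (A ⧸ (Ring.jacobson A) ^ n) := by
  rw [isArtinianRing_iff_krullDimLE_zero, Ring.krullDimLE_zero_iff]
  intro P hP
  have hsurj : Function.Surjective (Ideal.Quotient.mk ((Ring.jacobson A) ^ n)) :=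
    Ideal.Quotient.mk_surjective
  have hcm : (P.comap (Ideal.Quotient.mk ((Ring.jacobson A) ^ n))).IsMaximal := by
    haveI : (P.comap (Ideal.Quotient.mk ((Ring.jacobson A) ^ n))).IsPrime := Ideal.comap_isPrime _ _
    apply isMaximal_of_jacobson_pow_le n
    intro a ha
    rw [Ideal.mem_comap, Ideal.Quotient.eq_zero_iff_mem.2 ha]
    exact P.zero_mem
  have := Ideal.map_eq_top_or_isMaximal_of_surjective _ hsurj hcm
  rw [Ideal.map_comap_of_surjective _ hsurj] at this
  rcases this with h | h
  · exact absurd h hP.ne_top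
  · exact h

variable {M : Type v} [AddCommGroup M] [Module A M]

theorem isFiniteLength_quot_jacobson_pow [IsNoetherianRing A] [Finite (MaximalSpectrum A)]
    [Module.Finite A M] (n : ℕ) :
    IsFiniteLength A (M ⧸ ((Ring.jacobson A) ^ n • (⊤ : Submodule A M))) := by
  set I := (Ring.jacobson A) ^ n with hI
  set Q := M ⧸ (I • (⊤ : Submodule A M)) with hQ
  rw [isFiniteLength_iff_isNoetherian_isArtinian]
  refine ⟨inferInstance, ?_⟩
  haveI : IsArtinianRing (A ⧸ I) := isArtinianRing_quot_jacobson_pow n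
  have htors : Module.IsTorsionBySet A Q (I : Set A) := by
    intro q a
    obtain ⟨m, rfl⟩ := Submodule.Quotient.mk_surjective _ q
    rw [← Submodule.Quotient.mk_smul, Submodule.Quotient.mk_eq_zero]
    exact Submodule.smul_mem_smul a.2 Submodule.mem_top
  letI : Module (A ⧸ I) Q := htors.module
  haveI : IsScalarTower A (A ⧸ I) Q := htors.isScalarTower
  haveI : Module.Finite (A ⧸ I) Q := Module.Finite.of_restrictScalars_finite A _ Q
  haveI : IsArtinian (A ⧸ I) Q := inferInstance
  exact isArtinian_of_surjective_algebraMap (R := A ⧸ I) Ideal.Quotient.mk_surjective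

end Finiteness

section Samuel

variable (A : Type u) [CommRing A] (M : Type v) [AddCommGroup M] [Module A M]
  {M₂ : Type w} [AddCommGroup M₂] [Module A M₂]

/-- the radical filtration. -/
def R (n : ℕ) : Submodule A M := (Ring.jacobson A) ^ n • (⊤ : Submodule A M)

/-- the Samuel function, with values in `ℕ∞`. -/
noncomputable def L (n : ℕ) : ℕ∞ := rl (R A M n) ⊤

variable {A M}

theorem L_eq (n : ℕ) :
    L A M n = Module.length A (M ⧸ ((Ring.jacobson A) ^ n • (⊤ : Submodule A M))) :=
  rl_top_eq _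

theorem L_ne_top [IsNoetherianRing A] [Finite (MaximalSpectrum A)] [Module.Finite A M] (n : ℕ) :
    L A M n ≠ ⊤ := by
  rw [L_eq, Module.length_ne_top_iff]
  exact isFiniteLength_quot_jacobson_pow n

theorem R_succ_le (n : ℕ) : R A M (n + 1) ≤ R A M n := by
  unfold R
  exact Submodule.smul_mono_left (Ideal.pow_le_pow_right (Nat.le_succ n))

theorem R_anti {m n : ℕ} (h : m ≤ n) : R A M n ≤ R A M m := by
  unfold R
  exact Submodule.smul_mono_left (Ideal.pow_le_pow_right h)

theorem L_mono {m n : ℕ} (h : m ≤ n) : L A M m ≤ L A M n :=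
  rl_le_of_le_left (R_anti h) le_top

theorem L_zero : L A M 0 = 0 := by
  apply rl_eq_zero_of_le
  unfold R
  simp

theorem L_le_length (n : ℕ) : L A M n ≤ Module.length A M := by
  rw [L_eq]
  exact Module.length_le_of_surjective _ (Submodule.mkQ_surjective _)

theorem smul_mem_R {x : A} (hx : x ∈ Ring.jacobson A) {n : ℕ} {m : M} (hm : m ∈ R A M n) :
    x • m ∈ R A M (n + 1) := by
  unfold R at hm ⊢
  rw [pow_succ', Submodule.mul_smul]
  exact Submodule.smul_mem_smul hx hm

theorem one_le_L [Module.Finite A M] [Nontrivial M] {n : ℕ} (hn : 1 ≤ n) : 1 ≤ L A M n := by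
  refine le_trans ?_ (L_mono hn)
  rw [Order.one_le_iff_ne_zero]
  intro h
  have h1 : (⊤ : Submodule A M) ≤ R A M 1 := le_of_rl_eq_zero h
  unfold R at h1
  rw [pow_one] at h1
  have := Submodule.eq_bot_of_le_smul_of_le_jacobson_bot (Ring.jacobson A) (⊤ : Submodule A M)
    Module.Finite.fg_top h1 (by rw [Ideal.jacobson_bot])
  exact top_ne_bot this

/-- the radical filtration is compatible with surjections. -/
theorem R_map_of_surjective (π : M →ₗ[A] M₂) (hπ : Function.Surjective π) (n : ℕ) :
    (R A M n).map π = R A M₂ n := by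
  unfold R
  rw [Submodule.map_smul'', Submodule.map_top, LinearMap.range_eq_top.2 hπ]

theorem L_of_surjective (π : M →ₗ[A] M₂) (hπ : Function.Surjective π) (n : ℕ) :
    L A M₂ n = rl (R A M n ⊔ LinearMap.ker π) ⊤ := by
  unfold L
  have h1 := rl_iso π (R A M₂ n) ⊤
  rw [Submodule.map_top, LinearMap.range_eq_top.2 hπ, sup_top_eq] at h1
  rw [← h1, ← R_map_of_surjective π hπ, Submodule.comap_map_eq]

theorem smul_top_eq_map (x : A) :
    (x • (⊤ : Submodule A M)) = Submodule.map (LinearMap.lsmul A M x) ⊤ := by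
  ext m
  rw [Submodule.mem_smul_pointwise_iff_exists]
  simp

/-- decomposition of the Samuel function along multiplication by `x`. -/
theorem L_decomp (x : A) (n : ℕ) :
    L A M n = rl ((R A M n).comap (LinearMap.lsmul A M x)) ⊤ + L A (QuotSMulTop x M) n := by
  have hπ : Function.Surjective (Submodule.mkQ (x • (⊤ : Submodule A M))) :=
    Submodule.mkQ_surjective _
  have h1 : L A (QuotSMulTop x M) n = rl (R A M n ⊔ x • (⊤ : Submodule A M)) ⊤ := by
    have := L_of_surjective (Submodule.mkQ (x • (⊤ : Submodule A M))) hπ n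
    rw [Submodule.ker_mkQ] at this
    exact this
  rw [h1, rl_iso, ← smul_top_eq_map]
  exact rl_add le_sup_left le_top

theorem L_succ_le_add {x : A} (hx : x ∈ Ring.jacobson A) (n : ℕ) :
    L A M (n + 1) ≤ L A M n + L A (QuotSMulTop x M) (n + 1) := by
  rw [L_decomp x (n + 1)]
  gcongr
  apply rl_le_of_le_left _ le_top
  intro m hm
  exact smul_mem_R hx hm

/-- Artin–Rees for an injective map. -/
theorem exists_comap_R_le [IsNoetherianRing A] [Module.Finite A M₂] (f : M →ₗ[A] M₂)
    (hf : Function.Injective f) : ∃ k, ∀ n, (R A M₂ (n + k)).comap f ≤ R A M n := by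
  obtain ⟨k, hk⟩ := Ideal.exists_pow_inf_eq_pow_smul (Ring.jacobson A) (LinearMap.range f)
  refine ⟨k, fun n y hy => ?_⟩
  have h1 : f y ∈ (Ring.jacobson A) ^ (n + k) • (⊤ : Submodule A M₂) ⊓ LinearMap.range f :=
    ⟨hy, LinearMap.mem_range_self f y⟩
  rw [hk (n + k) (by omega), Nat.add_sub_cancel] at h1
  have h2 : (Ring.jacobson A) ^ n • ((Ring.jacobson A) ^ k • (⊤ : Submodule A M₂) ⊓ LinearMap.range f)
      ≤ (R A M n).map f := by
    unfold R
    rw [Submodule.map_smul'', Submodule.map_top]
    exact Submodule.smul_mono le_rfl inf_le_right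
  obtain ⟨z, hz, hzy⟩ := h2 h1
  rw [← hf hzy]
  exact hz

theorem L_le_of_injective [IsNoetherianRing A] [Module.Finite A M₂] (f : M →ₗ[A] M₂)
    (hf : Function.Injective f) : ∃ k, ∀ n, L A M n ≤ L A M₂ (n + k) := by
  obtain ⟨k, hk⟩ := exists_comap_R_le f hf
  refine ⟨k, fun n => ?_⟩
  calc L A M n ≤ rl ((R A M₂ (n + k)).comap f) ⊤ := rl_le_of_le_left (hk n) le_top
    _ = rl (R A M₂ (n + k)) (R A M₂ (n + k) ⊔ Submodule.map f ⊤) := rl_iso _ _ _
    _ ≤ L A M₂ (n + k) := rl_le_of_le_right le_sup_left le_top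

theorem L_add_le_of_injective [IsNoetherianRing A] [Module.Finite A M] (x : A)
    (hx : Function.Injective (LinearMap.lsmul A M x)) :
    ∃ k, ∀ n, L A M n + L A (QuotSMulTop x M) (n + k) ≤ L A M (n + k) := by
  obtain ⟨k, hk⟩ := exists_comap_R_le (LinearMap.lsmul A M x) hx
  refine ⟨k, fun n => ?_⟩
  have h1 := L_decomp (M := M) x (n + k)
  rw [h1]
  exact add_le_add_left (rl_le_of_le_left (hk n) le_top) _

end Samuel

section ACCSamuel

variable {A : Type u} [CommRing A] {M : Type v} [AddCommGroup M] [Module A M] (I : Ideal A)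

theorem pow_smul_le_of_stable (F : ℕ → Submodule A M) (hF : ∀ n, I • F n ≤ F (n + 1))
    (i j : ℕ) : I ^ i • F j ≤ F (i + j) := by
  induction i with
  | zero => simp
  | succ _ ih =>
    rw [pow_succ', Submodule.mul_smul, add_assoc, add_comm 1, ← add_assoc]
    exact (Submodule.smul_mono le_rfl ih).trans (hF _)

/-- the Rees submodule attached to an `I`-stable (not necessarily decreasing) sequence. -/
noncomputable def seqSub (F : ℕ → Submodule A M) (hF : ∀ n, I • F n ≤ F (n + 1)) :
    Submodule (reesAlgebra I) (PolynomialModule A M) where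
  carrier := { f | ∀ i, f.coeff i ∈ F i }
  add_mem' hf hg i := Submodule.add_mem _ (hf i) (hg i)
  zero_mem' _ := Submodule.zero_mem _
  smul_mem' r f hf i := by
    rw [Subalgebra.smul_def, PolynomialModule.smul_apply]
    apply Submodule.sum_mem
    rintro ⟨j, k⟩ e
    rw [Finset.HasAntidiagonal.mem_antidiagonal] at e
    subst e
    exact pow_smul_le_of_stable I F hF j k (Submodule.smul_mem_smul (r.2 j) (hf k))

theorem mem_seqSub (F : ℕ → Submodule A M) (hF : ∀ n, I • F n ≤ F (n + 1))
    (f : PolynomialModule A M) : f ∈ seqSub I F hF ↔ ∀ i, f.coeff i ∈ F i := Iff.rfl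

theorem seqSub_le_iff (F G : ℕ → Submodule A M) (hF : ∀ n, I • F n ≤ F (n + 1))
    (hG : ∀ n, I • G n ≤ G (n + 1)) : seqSub I F hF ≤ seqSub I G hG ↔ ∀ n, F n ≤ G n := by
  constructor
  · intro h n m hm
    have h1 : PolynomialModule.single A n m ∈ seqSub I F hF := by
      intro i
      rw [PolynomialModule.coeff_single, Finsupp.single_apply]
      split_ifs with hni
      · rwa [← hni]
      · exact Submodule.zero_mem _
    have h2 := h h1 n
    rwa [PolynomialModule.coeff_single, Finsupp.single_eq_same] at h2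
  · intro h f hf i
    exact h i (hf i)

theorem acc_samuel [IsNoetherianRing A] [Module.Finite A M] {s : ℕ} (x : Fin s → A) :
    ACC (fun i => LinearMap.lsmul A M (x i))
      (fun n => (Ideal.span (Set.range x)) ^ n • (⊤ : Submodule A M)) := by
  intro F hF1 hF2 hF3
  set J := Ideal.span (Set.range x) with hJ
  have hst : ∀ k n, J • F k n ≤ F k (n + 1) := by
    intro k n
    rw [Submodule.smul_le]
    intro r hr m hm
    induction hr using Submodule.span_induction with
    | mem r hr =>
      obtain ⟨i, rfl⟩ := hr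
      exact hF1 k i n (Submodule.mem_map_of_mem hm)
    | zero => rw [zero_smul]; exact Submodule.zero_mem _
    | add a b _ _ ha hb => rw [add_smul]; exact Submodule.add_mem _ ha hb
    | smul a b _ hb => rw [smul_eq_mul, mul_smul]; exact Submodule.smul_mem _ a hb
  let S : ℕ → Submodule (reesAlgebra J) (PolynomialModule A M) := fun k => seqSub J (F k) (hst k)
  have hSmono : Monotone S := by
    apply monotone_nat_of_le_succ
    intro k
    exact (seqSub_le_iff J _ _ _ _).2 (hF3 k)
  have hStop : ∀ k, S k ≤ (J.stableFiltration (⊤ : Submodule A M)).submodule := by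
    intro k f hf i
    exact hF2 k i (hf i)
  have hfg : ((J.stableFiltration (⊤ : Submodule A M)).submodule).FG := by
    rw [Ideal.Filtration.submodule_fg_iff_stable]
    · exact Ideal.stableFiltration_stable J ⊤
    · intro i
      exact IsNoetherian.noetherian _
  have hnoeth := isNoetherian_of_fg_of_noetherian _ hfg
  rw [isNoetherian_submodule] at hnoeth
  have hsup : (⨆ k, S k).FG := hnoeth _ (iSup_le hStop)
  obtain ⟨k₀, hk₀⟩ := hsup.stabilizes_of_iSup_eq ⟨S, hSmono⟩ rfl
  refine ⟨k₀, fun k hk n => ?_⟩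
  apply le_antisymm
  · have h1 : S k ≤ S k₀ := by
      have : S k ≤ ⨆ k, S k := le_iSup S k
      rw [hk₀] at this
      exact this
    exact (seqSub_le_iff J _ _ _ _).1 h1 n
  · exact (seqSub_le_iff J _ _ _ _).1 (hSmono hk) n

end ACCSamuel

section Existence

variable (A : Type u) [CommRing A] (M : Type v) [AddCommGroup M] [Module A M]

/-- `P` is a Hilbert–Samuel polynomial of `M`. -/
def HS (P : Polynomial ℚ) : Prop :=
  ∃ N : ℕ, ∀ n : ℕ, N ≤ n → ((L A M n).toNat : ℚ) = P.eval (n : ℚ)

variable {A M}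

theorem exists_HS [IsNoetherianRing A] [Finite (MaximalSpectrum A)] [Module.Finite A M] :
    ∃ P, HS A M P := by
  obtain ⟨s, x, hx⟩ := Submodule.fg_iff_exists_fin_generating_family.1
    (IsNoetherian.noetherian (Ring.jacobson A))
  have hJ : Ideal.span (Set.range x) = Ring.jacobson A := hx
  let ξ : Fin s → M →ₗ[A] M := fun i => LinearMap.lsmul A M (x i)
  have hacc : ACC ξ (fun n => R A M n) := by
    have := acc_samuel (M := M) x
    rw [hJ] at this
    exact this
  have hxi : ∀ i, x i ∈ Ring.jacobson A := fun i => hJ ▸ Ideal.subset_span ⟨i, rfl⟩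
  have hN : Stable ξ (fun n => R A M n) := by
    rintro i n _ ⟨m, hm, rfl⟩
    exact smul_mem_R (hxi i) hm
  have hN' : Stable ξ (fun n => R A M (n + 1)) := by
    rintro i n _ ⟨m, hm, rfl⟩
    exact smul_mem_R (hxi i) hm
  have hfin : ∀ n, rl (R A M (n + 1)) (R A M n) ≠ ⊤ := fun n =>
    ne_top_of_le_ne_top (L_ne_top (n + 1)) (rl_le_of_le_right (R_succ_le n) le_top)
  have hbin := hilbert_serre ξ (fun i j m => smul_comm _ _ _) (fun n => R A M n) hacc s le_rfl
    (fun n => R A M (n + 1)) (fun n => R A M n) hN' hN (fun n => R_succ_le n) (fun n => le_rfl)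
    (fun i hi => absurd i.2 (not_lt.2 hi)) hfin
  have hC : IsBinPoly s (fun _ => (0 : ℤ)) :=
    (isBinPoly_zero_iff.2 ⟨0, fun _ _ => rfl⟩).mono (Nat.zero_le s)
  have hH : IsBinPoly (s + 1) (fun n => ((L A M n).toNat : ℤ)) := by
    refine IsBinPoly.integrate hC hbin.neg 0 (fun i _ => ?_)
    have h1 : L A M (i + 1) = rl (R A M (i + 1)) (R A M i) + L A M i :=
      rl_add (R_succ_le i) le_top
    have h2 : (L A M (i + 1)).toNat = (rl (R A M (i + 1)) (R A M i)).toNat + (L A M i).toNat := by
      rw [h1, ENat.toNat_add (hfin i) (L_ne_top i)]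
    simp only [h2]
    push_cast
    ring
  obtain ⟨c, N, hc⟩ := hH
  refine ⟨∑ k ∈ Finset.range (s + 1), (c k : ℚ) • Polynomial.preHilbertPoly ℚ k 0, N,
    fun n hn => ?_⟩
  have h3 : ((L A M n).toNat : ℤ) = ∑ k ∈ Finset.range (s + 1), c k * b k n := hc n hn
  have h4 : ((L A M n).toNat : ℚ) = (((L A M n).toNat : ℤ) : ℚ) := by push_cast; rfl
  rw [h4, h3, Polynomial.eval_finset_sum]
  push_cast
  apply Finset.sum_congr rfl
  intro k _
  rw [Polynomial.eval_smul, Polynomial.preHilbertPoly_eq_choose_sub_add ℚ k (Nat.zero_le n)]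
  simp [b]

end Existence

section PolyLemmas

open Polynomial Filter

theorem natDegree_le_of_eventually_le (P Q : Polynomial ℚ)
    (h0 : ∃ N : ℕ, ∀ n : ℕ, N ≤ n → 0 ≤ P.eval (n : ℚ))
    (h1 : ∃ N : ℕ, ∀ n : ℕ, N ≤ n → P.eval (n : ℚ) ≤ Q.eval (n : ℚ)) :
    P.natDegree ≤ Q.natDegree := by
  by_contra hlt
  push_neg at hlt
  have hdeg : Q.degree < P.degree := Polynomial.degree_lt_degree hlt
  have hPpos : 0 < P.degree := natDegree_pos_iff_degree_pos.1 (by omega)
  have hcast : Tendsto (fun n : ℕ => (n : ℚ)) atTop atTop := tendsto_natCast_atTop_atTop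
  have hlc : 0 ≤ P.leadingCoeff := by
    by_contra hneg
    push_neg at hneg
    have ht := P.tendsto_atBot_of_leadingCoeff_nonpos hPpos hneg.le
    have ht' : Tendsto (fun n : ℕ => P.eval (n : ℚ)) atTop atBot := ht.comp hcast
    have hev := ht'.eventually (eventually_lt_atBot 0)
    obtain ⟨N, hN⟩ := h0
    obtain ⟨n, hn1, hn2⟩ := (hev.and (eventually_ge_atTop N)).exists
    linarith [hN n hn2]
  have hsub_deg : (P - Q).degree = P.degree := Polynomial.degree_sub_eq_left_of_degree_lt hdeg
  have hsub_lc : (P - Q).leadingCoeff = P.leadingCoeff :=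
    Polynomial.leadingCoeff_sub_of_degree_lt hdeg
  have ht := (P - Q).tendsto_atTop_of_leadingCoeff_nonneg (by rw [hsub_deg]; exact hPpos)
    (by rw [hsub_lc]; exact hlc)
  have ht' : Tendsto (fun n : ℕ => (P - Q).eval (n : ℚ)) atTop atTop := ht.comp hcast
  have hev := ht'.eventually (eventually_gt_atTop 0)
  obtain ⟨N, hN⟩ := h1
  obtain ⟨n, hn1, hn2⟩ := (hev.and (eventually_ge_atTop N)).exists
  have := hN n hn2
  rw [Polynomial.eval_sub] at hn1
  linarith

theorem natDegree_comp_X_add_C (P : Polynomial ℚ) (c : ℚ) :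
    (P.comp (X + C c)).natDegree = P.natDegree := by
  rw [natDegree_comp, natDegree_X_add_C, mul_one]

theorem natDegree_comp_sub_lt (P : Polynomial ℚ) (c : ℚ) (h : 1 ≤ P.natDegree) :
    (P.comp (X + C c) - P).natDegree < P.natDegree := by
  have hP0 : P ≠ 0 := by
    rintro rfl
    simp at h
  have hnd : (P.comp (X + C c)).natDegree = P.natDegree := natDegree_comp_X_add_C P c
  have hlc : (P.comp (X + C c)).leadingCoeff = P.leadingCoeff := by
    rw [leadingCoeff_comp (by rw [natDegree_X_add_C]; exact one_ne_zero), leadingCoeff_X_add_C,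
      one_pow, mul_one]
  have hQ0 : P.comp (X + C c) ≠ 0 := by
    intro h0
    rw [h0, leadingCoeff_zero] at hlc
    exact hP0 (leadingCoeff_eq_zero.1 hlc.symm)
  have hd : (P.comp (X + C c)).degree = P.degree := by
    rw [degree_eq_natDegree hQ0, degree_eq_natDegree hP0, hnd]
  have hlt := degree_sub_lt hd hQ0 hlc
  by_cases hz : P.comp (X + C c) - P = 0
  · rw [hz, natDegree_zero]
    omega
  · rw [← hnd]
    exact natDegree_lt_natDegree hz hlt

end PolyLemmas

section Degree

open Polynomial

variable {A : Type u} [CommRing A] [IsNoetherianRing A] [Finite (MaximalSpectrum A)]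
  {M : Type v} [AddCommGroup M] [Module A M] [Module.Finite A M]
  {M₂ : Type w} [AddCommGroup M₂] [Module A M₂] [Module.Finite A M₂]

variable (A M) in
/-- the Samuel function as a natural number. -/
noncomputable def chi (n : ℕ) : ℕ := (L A M n).toNat

theorem coe_chi (n : ℕ) : (chi A M n : ℕ∞) = L A M n := ENat.coe_toNat (L_ne_top n)

theorem chi_mono {m n : ℕ} (h : m ≤ n) : chi A M m ≤ chi A M n := by
  have := L_mono (A := A) (M := M) h
  rw [← coe_chi, ← coe_chi] at this
  exact_mod_cast this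

theorem chi_zero : chi A M 0 = 0 := by
  have := L_zero (A := A) (M := M)
  rw [← coe_chi] at this
  exact_mod_cast this

theorem chi_succ_le {x : A} (hx : x ∈ Ring.jacobson A) (n : ℕ) :
    chi A M (n + 1) ≤ chi A M n + chi A (QuotSMulTop x M) (n + 1) := by
  have := L_succ_le_add (M := M) hx n
  rw [← coe_chi, ← coe_chi, ← coe_chi] at this
  exact_mod_cast this

theorem chi_le_mul {x : A} (hx : x ∈ Ring.jacobson A) (n : ℕ) :
    chi A M n ≤ n * chi A (QuotSMulTop x M) n := by
  induction n with
  | zero => rw [chi_zero]; exact Nat.zero_le _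
  | succ n ih =>
    have h1 := chi_succ_le (M := M) hx n
    have h2 : chi A (QuotSMulTop x M) n ≤ chi A (QuotSMulTop x M) (n + 1) :=
      chi_mono (Nat.le_succ n)
    have h3 : n * chi A (QuotSMulTop x M) n ≤ n * chi A (QuotSMulTop x M) (n + 1) :=
      Nat.mul_le_mul_left _ h2
    calc chi A M (n + 1) ≤ chi A M n + chi A (QuotSMulTop x M) (n + 1) := h1
      _ ≤ n * chi A (QuotSMulTop x M) (n + 1) + chi A (QuotSMulTop x M) (n + 1) := by omega
      _ = (n + 1) * chi A (QuotSMulTop x M) (n + 1) := by ring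

theorem chi_le_of_injective (f : M →ₗ[A] M₂) (hf : Function.Injective f) :
    ∃ k, ∀ n, chi A M n ≤ chi A M₂ (n + k) := by
  obtain ⟨k, hk⟩ := L_le_of_injective f hf
  refine ⟨k, fun n => ?_⟩
  have := hk n
  rw [← coe_chi, ← coe_chi] at this
  exact_mod_cast this

theorem chi_add_le_of_injective (x : A) (hx : Function.Injective (LinearMap.lsmul A M x)) :
    ∃ k, ∀ n, chi A M n + chi A (QuotSMulTop x M) (n + k) ≤ chi A M (n + k) := by
  obtain ⟨k, hk⟩ := L_add_le_of_injective x hx
  refine ⟨k, fun n => ?_⟩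
  have := hk n
  rw [← coe_chi, ← coe_chi, ← coe_chi] at this
  exact_mod_cast this

theorem chi_le_of_isFiniteLength (h : IsFiniteLength A M) : ∃ ℓ : ℕ, ∀ n, chi A M n ≤ ℓ := by
  rw [← Module.length_ne_top_iff] at h
  refine ⟨(Module.length A M).toNat, fun n => ?_⟩
  have := L_le_length (A := A) (M := M) n
  rw [← coe_chi, ← ENat.coe_toNat h] at this
  exact_mod_cast this

theorem one_le_chi [Nontrivial M] {n : ℕ} (hn : 1 ≤ n) : 1 ≤ chi A M n := by
  have := one_le_L (A := A) (M := M) hn
  rw [← coe_chi] at this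
  exact_mod_cast this

theorem HS.eval_eq {P : Polynomial ℚ} (h : HS A M P) :
    ∃ N : ℕ, ∀ n : ℕ, N ≤ n → (chi A M n : ℚ) = P.eval (n : ℚ) := h

theorem HS.nonneg {P : Polynomial ℚ} (h : HS A M P) :
    ∃ N : ℕ, ∀ n : ℕ, N ≤ n → 0 ≤ P.eval (n : ℚ) := by
  obtain ⟨N, hN⟩ := h
  exact ⟨N, fun n hn => by rw [← hN n hn]; exact Nat.cast_nonneg _⟩

theorem HS.natDegree_eq_zero_of_isFiniteLength {P : Polynomial ℚ} (h : HS A M P)
    (hfl : IsFiniteLength A M) : P.natDegree = 0 := by
  obtain ⟨ℓ, hℓ⟩ := chi_le_of_isFiniteLength hfl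
  obtain ⟨N, hN⟩ := h.eval_eq
  have := natDegree_le_of_eventually_le P (C (ℓ : ℚ)) h.nonneg
    ⟨N, fun n hn => by
      rw [← hN n hn, eval_C]
      exact_mod_cast hℓ n⟩
  rw [natDegree_C] at this
  omega

theorem HS.natDegree_le_succ {x : A} (hx : x ∈ Ring.jacobson A) {P P' : Polynomial ℚ}
    (h : HS A M P) (h' : HS A (QuotSMulTop x M) P') : P.natDegree ≤ P'.natDegree + 1 := by
  obtain ⟨N, hN⟩ := h.eval_eq
  obtain ⟨N', hN'⟩ := h'.eval_eq
  have h1 := natDegree_le_of_eventually_le P (X * P') h.nonneg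
    ⟨max N N', fun n hn => by
      rw [← hN n (le_of_max_le_left hn), eval_mul, eval_X, ← hN' n (le_of_max_le_right hn)]
      exact_mod_cast chi_le_mul hx n⟩
  refine h1.trans ?_
  refine natDegree_mul_le.trans ?_
  rw [natDegree_X]
  omega

theorem HS.natDegree_le_of_injective (f : M →ₗ[A] M₂) (hf : Function.Injective f)
    {P P₂ : Polynomial ℚ} (h : HS A M P) (h₂ : HS A M₂ P₂) : P.natDegree ≤ P₂.natDegree := by
  obtain ⟨N, hN⟩ := h.eval_eq
  obtain ⟨N₂, hN₂⟩ := h₂.eval_eq
  obtain ⟨k, hk⟩ := chi_le_of_injective f hf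
  have h1 := natDegree_le_of_eventually_le P (P₂.comp (X + C (k : ℚ))) h.nonneg
    ⟨max N N₂, fun n hn => by
      have e1 : ((n + k : ℕ) : ℚ) = (n : ℚ) + (k : ℚ) := by push_cast; ring
      rw [← hN n (le_of_max_le_left hn), eval_comp, eval_add, eval_X, eval_C, ← e1,
        ← hN₂ (n + k) (le_trans (le_of_max_le_right hn) (Nat.le_add_right n k))]
      exact_mod_cast hk n⟩
  rwa [natDegree_comp_X_add_C] at h1

theorem HS.succ_natDegree_le (x : A) (hx : Function.Injective (LinearMap.lsmul A M x))
    [Nontrivial (QuotSMulTop x M)] {P P' : Polynomial ℚ}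
    (h : HS A M P) (h' : HS A (QuotSMulTop x M) P') : P'.natDegree + 1 ≤ P.natDegree := by
  obtain ⟨N, hN⟩ := h.eval_eq
  obtain ⟨N', hN'⟩ := h'.eval_eq
  obtain ⟨k, hk⟩ := chi_add_le_of_injective x hx
  have hcast : ∀ n : ℕ, ((n + k : ℕ) : ℚ) = (n : ℚ) + (k : ℚ) := fun n => by push_cast; ring
  have hpos : 1 ≤ P.natDegree := by
    by_contra hcon
    have h0 : P.natDegree = 0 := by omega
    have hPC := eq_C_of_natDegree_eq_zero h0
    have e1 := hN (max N 1) (le_max_left _ _)
    have e2 := hN (max N 1 + k) (le_trans (le_max_left _ _) (Nat.le_add_right _ _))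
    rw [hPC, eval_C] at e1 e2
    have e3 : chi A M (max N 1) = chi A M (max N 1 + k) := by
      have : (chi A M (max N 1) : ℚ) = (chi A M (max N 1 + k) : ℚ) := by rw [e1, e2]
      exact_mod_cast this
    have e4 := hk (max N 1)
    have e5 : 1 ≤ chi A (QuotSMulTop x M) (max N 1 + k) :=
      one_le_chi (le_trans (le_max_right N 1) (Nat.le_add_right _ _))
    omega
  have h1 := natDegree_le_of_eventually_le (P'.comp (X + C (k : ℚ)))
    (P.comp (X + C (k : ℚ)) - P)
    ⟨N', fun n hn => by
      rw [eval_comp, eval_add, eval_X, eval_C, ← hcast,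
        ← hN' (n + k) (le_trans hn (Nat.le_add_right n k))]
      exact Nat.cast_nonneg _⟩
    ⟨max N N', fun n hn => by
      rw [eval_sub, eval_comp, eval_comp, eval_add, eval_X, eval_C, ← hcast,
        ← hN' (n + k) (le_trans (le_of_max_le_right hn) (Nat.le_add_right n k)),
        ← hN (n + k) (le_trans (le_of_max_le_left hn) (Nat.le_add_right n k)),
        ← hN n (le_of_max_le_left hn)]
      have := hk n
      have h2 : ((chi A M n + chi A (QuotSMulTop x M) (n + k) : ℕ) : ℚ) ≤ (chi A M (n + k) : ℚ) := by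
        exact_mod_cast this
      push_cast at h2
      linarith⟩
  rw [natDegree_comp_X_add_C] at h1
  have h2 := natDegree_comp_sub_lt P (k : ℚ) hpos
  omega

end Degree

section Bounds

open Polynomial

variable {A : Type u} [CommRing A] [IsNoetherianRing A] [Finite (MaximalSpectrum A)]

theorem HS.natDegree_le_length (l : List A) (hl : ∀ r ∈ l, r ∈ Ring.jacobson A) :
    ∀ (M : Type v) [AddCommGroup M] [Module A M] [Module.Finite A M] (P : Polynomial ℚ),
      HS A M P → IsFiniteLength A (M ⧸ (Ideal.ofList l • ⊤ : Submodule A M)) →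
      P.natDegree ≤ l.length := by
  induction l with
  | nil =>
    intro M _ _ _ P h hfl
    have hbot : (Ideal.ofList ([] : List A) • ⊤ : Submodule A M) = ⊥ := by simp
    have e : (M ⧸ (Ideal.ofList ([] : List A) • ⊤ : Submodule A M)) ≃ₗ[A] M :=
      Submodule.quotEquivOfEqBot _ hbot
    have := h.natDegree_eq_zero_of_isFiniteLength (e.isFiniteLength hfl)
    omega
  | cons r rs ih =>
    intro M _ _ _ P h hfl
    obtain ⟨P', hP'⟩ := exists_HS (A := A) (M := QuotSMulTop r M)
    have h2 := ih (fun r' hr' => hl r' (List.mem_cons_of_mem _ hr')) (QuotSMulTop r M) P' hP'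
      ((Submodule.quotOfListConsSMulTopEquivQuotSMulTopInner M r rs).isFiniteLength hfl)
    have h1 := h.natDegree_le_succ (hl r List.mem_cons_self) hP'
    rw [List.length_cons]
    omega

theorem HS.le_natDegree_of_chain : ∀ (k : ℕ) (M : Type u) [AddCommGroup M] [Module A M]
    [Module.Finite A M] (P : Polynomial ℚ), HS A M P →
    ∀ c : Fin (k + 1) → PrimeSpectrum A, StrictMono c → (∀ i, c i ∈ Module.support A M) →
    k ≤ P.natDegree := by
  intro k
  induction k with
  | zero => intros; exact Nat.zero_le _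
  | succ k ih =>
    intro M _ _ _ P h c hc hsupp
    have h0 := hsupp 0
    rw [Module.mem_support_iff_of_finite] at h0
    obtain ⟨q, hqmin, hq0⟩ := Ideal.exists_minimalPrimes_le h0
    have hass : q ∈ associatedPrimes A M :=
      Module.associatedPrimes.minimalPrimes_annihilator_subset_associatedPrimes A M hqmin
    obtain ⟨hqprime, m, hm⟩ := isAssociatedPrime_iff.1 hass
    -- the embedding `A/q → M`
    have hker : LinearMap.ker (LinearMap.toSpanSingleton A M m) = q := by
      ext a
      rw [LinearMap.mem_ker, LinearMap.toSpanSingleton_apply, hm, Submodule.mem_colon_singleton,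
        Submodule.mem_bot]
    let f : (A ⧸ q) →ₗ[A] M := Submodule.liftQ q (LinearMap.toSpanSingleton A M m) hker.ge
    have hf : Function.Injective f := by
      rw [← LinearMap.ker_eq_bot]
      exact Submodule.ker_liftQ_eq_bot _ _ _ hker.le
    -- the element `x`
    have hlt : c 0 < c 1 := hc (by simp [Fin.lt_def])
    have hlt' : (c 0).asIdeal < (c 1).asIdeal := hlt
    obtain ⟨x, hx1, hx0⟩ := SetLike.exists_of_lt hlt'
    have hxq : x ∉ q := fun hxq => hx0 (hq0 hxq)
    have hxinj : Function.Injective (LinearMap.lsmul A (A ⧸ q) x) := by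
      rw [← LinearMap.ker_eq_bot, LinearMap.ker_eq_bot']
      intro b hb
      obtain ⟨a, rfl⟩ := Ideal.Quotient.mk_surjective b
      rw [LinearMap.lsmul_apply, ← Ideal.Quotient.mk_eq_mk, ← Submodule.Quotient.mk_smul,
        Submodule.Quotient.mk_eq_zero, smul_eq_mul] at hb
      rw [Ideal.Quotient.eq_zero_iff_mem]
      exact (hqprime.mem_or_mem hb).resolve_left hxq
    -- the chain in the support of `A/(q + x)`
    have hsupp' : ∀ i : Fin (k + 1), c i.succ ∈ Module.support A (QuotSMulTop x (A ⧸ q)) := by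
      intro i
      rw [Module.support_quotSMulTop]
      have h01 : c 1 ≤ c i.succ := hc.monotone (by
        rw [Fin.le_def]
        simp)
      have h01' : (c 1).asIdeal ≤ (c i.succ).asIdeal := h01
      constructor
      · rw [Module.mem_support_iff_of_finite, Ideal.annihilator_quotient]
        exact hq0.trans (hlt'.le.trans h01')
      · rw [PrimeSpectrum.mem_zeroLocus, Set.singleton_subset_iff]
        exact h01' hx1
    haveI : Nontrivial (QuotSMulTop x (A ⧸ q)) := by
      by_contra hnon
      rw [not_nontrivial_iff_subsingleton, ← Module.support_eq_empty_iff (R := A)] at hnon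
      have := hsupp' 0
      rw [hnon] at this
      exact this
    obtain ⟨PB, hPB⟩ := exists_HS (A := A) (M := A ⧸ q)
    obtain ⟨PB', hPB'⟩ := exists_HS (A := A) (M := QuotSMulTop x (A ⧸ q))
    have h1 := ih (QuotSMulTop x (A ⧸ q)) PB' hPB' (fun i => c i.succ)
      (hc.comp (Fin.strictMono_succ)) hsupp'
    have h2 := hPB.succ_natDegree_le x hxinj hPB'
    have h3 := hPB.natDegree_le_of_injective f hf h
    omega

end Bounds

end Groth.Agent.Lib.Helper2.HilbSamuel
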