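import Mathlib
import Groth.Agent.Lib.Helper2.BinPoly
import Groth.Agent.Lib.Helper2.RelLength
import Groth.Agent.Lib.Helper2.HilbSerre
import Groth.Agent.Lib.Helper2.HilbSamuel

set_option autoImplicit false
universe u v w

namespace Groth.Agent.Lib.Helper2.SamuelI

open Groth.Agent.Lib.Helper2.BinPoly Groth.Agent.Lib.Helper2.RelLength
  Groth.Agent.Lib.Helper2.HilbSerre Groth.Agent.Lib.Helper2.HilbSamuel
open Pointwise

section Basic

variable {A : Type u} [CommRing A] (I : Ideal A) (M : Type v) [AddCommGroup M] [Module A M]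
  {M₂ : Type w} [AddCommGroup M₂] [Module A M₂]

/-- the `I`-adic filtration. -/
def RI (n : ℕ) : Submodule A M := I ^ n • (⊤ : Submodule A M)

/-- the `I`-adic Samuel function, with values in `ℕ∞`. -/
noncomputable def LI (n : ℕ) : ℕ∞ := rl (RI I M n) ⊤

variable {M}

theorem LI_eq (n : ℕ) : LI I M n = Module.length A (M ⧸ (I ^ n • (⊤ : Submodule A M))) :=
  rl_top_eq _

theorem RI_anti {m n : ℕ} (h : m ≤ n) : RI I M n ≤ RI I M m := by
  unfold RI
  exact Submodule.smul_mono_left (Ideal.pow_le_pow_right h)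

theorem LI_mono {m n : ℕ} (h : m ≤ n) : LI I M m ≤ LI I M n :=
  rl_le_of_le_left (RI_anti I h) le_top

theorem LI_zero : LI I M 0 = 0 := by
  apply rl_eq_zero_of_le
  unfold RI
  simp

theorem smul_mem_RI {x : A} (hx : x ∈ I) {n : ℕ} {m : M} (hm : m ∈ RI I M n) :
    x • m ∈ RI I M (n + 1) := by
  unfold RI at hm ⊢
  rw [pow_succ', Submodule.mul_smul]
  exact Submodule.smul_mem_smul hx hm

theorem RI_map_of_surjective (π : M →ₗ[A] M₂) (hπ : Function.Surjective π) (n : ℕ) :
    (RI I M n).map π = RI I M₂ n := by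
  unfold RI
  rw [Submodule.map_smul'', Submodule.map_top, LinearMap.range_eq_top.2 hπ]

theorem RI_map_le (f : M →ₗ[A] M₂) (n : ℕ) : (RI I M n).map f ≤ RI I M₂ n := by
  unfold RI
  rw [Submodule.map_smul'']
  exact Submodule.smul_mono le_rfl le_top

theorem LI_of_surjective (π : M →ₗ[A] M₂) (hπ : Function.Surjective π) (n : ℕ) :
    LI I M₂ n = rl (RI I M n ⊔ LinearMap.ker π) ⊤ := by
  unfold LI
  have h1 := rl_iso π (RI I M₂ n) ⊤
  rw [Submodule.map_top, LinearMap.range_eq_top.2 hπ, sup_top_eq] at h1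
  rw [← h1, ← RI_map_of_surjective I π hπ, Submodule.comap_map_eq]

theorem LI_congr (e : M ≃ₗ[A] M₂) (n : ℕ) : LI I M n = LI I M₂ n := by
  rw [LI_of_surjective I e.toLinearMap e.surjective, LinearMap.ker_eq_bot.2 e.injective, sup_bot_eq]
  rfl

/-- Artin–Rees for an injective map. -/
theorem exists_comap_RI_le [IsNoetherianRing A] [Module.Finite A M₂] (f : M →ₗ[A] M₂)
    (hf : Function.Injective f) : ∃ k, ∀ n, (RI I M₂ (n + k)).comap f ≤ RI I M n := by
  obtain ⟨k, hk⟩ := Ideal.exists_pow_inf_eq_pow_smul I (LinearMap.range f)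
  refine ⟨k, fun n y hy => ?_⟩
  have h1 : f y ∈ I ^ (n + k) • (⊤ : Submodule A M₂) ⊓ LinearMap.range f :=
    ⟨hy, LinearMap.mem_range_self f y⟩
  rw [hk (n + k) (by omega), Nat.add_sub_cancel] at h1
  have h2 : I ^ n • (I ^ k • (⊤ : Submodule A M₂) ⊓ LinearMap.range f)
      ≤ (RI I M n).map f := by
    unfold RI
    rw [Submodule.map_smul'', Submodule.map_top]
    exact Submodule.smul_mono le_rfl inf_le_right
  obtain ⟨z, hz, hzy⟩ := h2 h1
  rw [← hf hzy]
  exact hz

/-- decomposition along a short exact sequence. -/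
theorem LI_exact {M' : Type*} [AddCommGroup M'] [Module A M'] {M'' : Type*} [AddCommGroup M'']
    [Module A M''] (f : M' →ₗ[A] M) (g : M →ₗ[A] M'') (hg : Function.Surjective g)
    (hfg : LinearMap.range f = LinearMap.ker g) (n : ℕ) :
    LI I M n = rl ((RI I M n).comap f) ⊤ + LI I M'' n := by
  rw [LI_of_surjective I g hg, ← hfg, rl_iso, Submodule.map_top]
  exact rl_add le_sup_left le_top

theorem LI_le_add {M' : Type*} [AddCommGroup M'] [Module A M'] {M'' : Type*} [AddCommGroup M'']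
    [Module A M''] (f : M' →ₗ[A] M) (g : M →ₗ[A] M'') (hg : Function.Surjective g)
    (hfg : LinearMap.range f = LinearMap.ker g) (n : ℕ) :
    LI I M n ≤ LI I M' n + LI I M'' n := by
  rw [LI_exact I f g hg hfg n]
  refine add_le_add_left ?_ _
  apply rl_le_of_le_left _ le_top
  rw [← Submodule.map_le_iff_le_comap]
  exact RI_map_le I f n

theorem exists_add_le_LI [IsNoetherianRing A] [Module.Finite A M]
    {M' : Type*} [AddCommGroup M'] [Module A M'] {M'' : Type*} [AddCommGroup M'']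
    [Module A M''] (f : M' →ₗ[A] M) (g : M →ₗ[A] M'') (hf : Function.Injective f)
    (hg : Function.Surjective g) (hfg : LinearMap.range f = LinearMap.ker g) :
    ∃ k, ∀ n, LI I M' n + LI I M'' (n + k) ≤ LI I M (n + k) := by
  obtain ⟨k, hk⟩ := exists_comap_RI_le I f hf
  refine ⟨k, fun n => ?_⟩
  rw [LI_exact I f g hg hfg (n + k)]
  exact add_le_add_left (rl_le_of_le_left (hk n) le_top) _

/-- comparison of two ideals. -/
theorem LI_le_of_le {I J : Ideal A} (h : I ≤ J) (n : ℕ) : LI J M n ≤ LI I M n := by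
  apply rl_le_of_le_left _ le_top
  unfold RI
  exact Submodule.smul_mono_left (Ideal.pow_right_mono h n)

theorem LI_le_of_pow_le {I J : Ideal A} {N : ℕ} (h : J ^ N ≤ I) (n : ℕ) :
    LI I M n ≤ LI J M (N * n) := by
  apply rl_le_of_le_left _ le_top
  unfold RI
  rw [pow_mul]
  exact Submodule.smul_mono_left (Ideal.pow_right_mono h n)

end Basic

section Finite

variable {A : Type u} [CommRing A] [IsNoetherianRing A] [Finite (MaximalSpectrum A)]
  (I : Ideal A) (M : Type v) [AddCommGroup M] [Module A M] [Module.Finite A M]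

variable {M} in
theorem LI_ne_top (hI : ∃ N, (Ring.jacobson A) ^ N ≤ I) (n : ℕ) : LI I M n ≠ ⊤ := by
  obtain ⟨N, hN⟩ := hI
  exact ne_top_of_le_ne_top (HilbSamuel.L_ne_top (A := A) (M := M) (N * n)) (LI_le_of_pow_le hN n)

/-- the `I`-adic Samuel function as a natural number. -/
noncomputable def chiI (n : ℕ) : ℕ := (LI I M n).toNat

variable {M}

theorem chiI_eq (n : ℕ) :
    chiI I M n = (Module.length A (M ⧸ (I ^ n • (⊤ : Submodule A M)))).toNat := by
  unfold chiI
  rw [LI_eq]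

theorem coe_chiI (hI : ∃ N, (Ring.jacobson A) ^ N ≤ I) (n : ℕ) : (chiI I M n : ℕ∞) = LI I M n :=
  ENat.coe_toNat (LI_ne_top I hI n)

theorem chiI_mono (hI : ∃ N, (Ring.jacobson A) ^ N ≤ I) {m n : ℕ} (h : m ≤ n) :
    chiI I M m ≤ chiI I M n := by
  have := LI_mono I (M := M) h
  rw [← coe_chiI I hI, ← coe_chiI I hI] at this
  exact_mod_cast this

theorem chiI_le_add (hI : ∃ N, (Ring.jacobson A) ^ N ≤ I)
    {M' : Type*} [AddCommGroup M'] [Module A M'] [Module.Finite A M']
    {M'' : Type*} [AddCommGroup M''] [Module A M''] [Module.Finite A M'']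
    (f : M' →ₗ[A] M) (g : M →ₗ[A] M'') (hg : Function.Surjective g)
    (hfg : LinearMap.range f = LinearMap.ker g) (n : ℕ) :
    chiI I M n ≤ chiI I M' n + chiI I M'' n := by
  have := LI_le_add I f g hg hfg n
  rw [← coe_chiI I hI, ← coe_chiI I hI, ← coe_chiI I hI] at this
  exact_mod_cast this

theorem exists_add_le_chiI (hI : ∃ N, (Ring.jacobson A) ^ N ≤ I)
    {M' : Type*} [AddCommGroup M'] [Module A M'] [Module.Finite A M']
    {M'' : Type*} [AddCommGroup M''] [Module A M''] [Module.Finite A M'']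
    (f : M' →ₗ[A] M) (g : M →ₗ[A] M'') (hf : Function.Injective f)
    (hg : Function.Surjective g) (hfg : LinearMap.range f = LinearMap.ker g) :
    ∃ k, ∀ n, chiI I M' n + chiI I M'' (n + k) ≤ chiI I M (n + k) := by
  obtain ⟨k, hk⟩ := exists_add_le_LI I f g hf hg hfg
  refine ⟨k, fun n => ?_⟩
  have := hk n
  rw [← coe_chiI I hI, ← coe_chiI I hI, ← coe_chiI I hI] at this
  exact_mod_cast this

end Finite

section Squeeze

open Filter

theorem tendsto_of_squeeze (c : ℝ) (hc : 0 ≤ c) (d k : ℕ) (a a' a'' : ℕ → ℕ) (e' e'' : ℝ)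
    (hup : ∀ n, a n ≤ a' n + a'' n) (hlo : ∀ n, a' n + a'' (n + k) ≤ a (n + k))
    (h' : Tendsto (fun t : ℕ => c * (a' t : ℝ) / (t : ℝ) ^ d) atTop (nhds e'))
    (h'' : Tendsto (fun t : ℕ => c * (a'' t : ℝ) / (t : ℝ) ^ d) atTop (nhds e'')) :
    Tendsto (fun t : ℕ => c * (a t : ℝ) / (t : ℝ) ^ d) atTop (nhds (e' + e'')) := by
  have hratio : Tendsto (fun t : ℕ => (((t - k : ℕ) : ℝ) / (t : ℝ))) atTop (nhds 1) := by
    have h1 : Tendsto (fun t : ℕ => (1 : ℝ) - (k : ℝ) / (t : ℝ)) atTop (nhds (1 - 0)) :=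
      tendsto_const_nhds.sub (tendsto_const_div_atTop_nhds_zero_nat (k : ℝ))
    rw [sub_zero] at h1
    refine h1.congr' ?_
    filter_upwards [eventually_ge_atTop (k + 1)] with t ht
    have ht0 : (t : ℝ) ≠ 0 := by
      have : 0 < t := by omega
      exact_mod_cast this.ne'
    rw [Nat.cast_sub (by omega : k ≤ t)]
    field_simp
  have hshift : Tendsto (fun t : ℕ => c * (a' (t - k) : ℝ) / ((t - k : ℕ) : ℝ) ^ d) atTop (nhds e') :=
    h'.comp (tendsto_sub_atTop_nat k)
  have hlow : Tendsto (fun t : ℕ => c * (a' (t - k) : ℝ) / ((t - k : ℕ) : ℝ) ^ d *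
      (((t - k : ℕ) : ℝ) / (t : ℝ)) ^ d + c * (a'' t : ℝ) / (t : ℝ) ^ d) atTop (nhds (e' + e'')) := by
    have := (hshift.mul (hratio.pow d)).add h''
    simpa using this
  have hupp : Tendsto (fun t : ℕ => c * (a' t : ℝ) / (t : ℝ) ^ d + c * (a'' t : ℝ) / (t : ℝ) ^ d)
      atTop (nhds (e' + e'')) := h'.add h''
  refine tendsto_of_tendsto_of_tendsto_of_le_of_le' hlow hupp ?_ ?_
  · filter_upwards [eventually_ge_atTop (k + 1)] with t ht
    have htk : 0 < t - k := by omega
    have ht0 : (0 : ℝ) < (t : ℝ) := by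
      have : 0 < t := by omega
      exact_mod_cast this
    have htk0 : (0 : ℝ) < ((t - k : ℕ) : ℝ) := by exact_mod_cast htk
    have e1 : c * (a' (t - k) : ℝ) / ((t - k : ℕ) : ℝ) ^ d * (((t - k : ℕ) : ℝ) / (t : ℝ)) ^ d
        = c * (a' (t - k) : ℝ) / (t : ℝ) ^ d := by
      rw [div_pow]
      field_simp
    rw [e1, ← add_div, ← mul_add]
    have h2 := hlo (t - k)
    rw [Nat.sub_add_cancel (by omega : k ≤ t)] at h2
    have h3 : ((a' (t - k) : ℝ) + (a'' t : ℝ)) ≤ (a t : ℝ) := by exact_mod_cast h2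
    gcongr
  · filter_upwards with t
    rw [← add_div, ← mul_add]
    have h3 : (a t : ℝ) ≤ (a' t : ℝ) + (a'' t : ℝ) := by exact_mod_cast hup t
    gcongr

end Squeeze

section Additivity

open Filter

variable {A : Type u} [CommRing A] [IsNoetherianRing A] [Finite (MaximalSpectrum A)]
  (I : Ideal A)

theorem jacobson_eq_maximalIdeal {A : Type u} [CommRing A] [IsLocalRing A] :
    Ring.jacobson A = IsLocalRing.maximalIdeal A := by
  rw [← Ideal.jacobson_bot]
  exact IsLocalRing.jacobson_eq_maximalIdeal ⊥ bot_ne_top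

theorem tendsto_add_of_exact (hI : ∃ N, (Ring.jacobson A) ^ N ≤ I)
    {M' : Type*} [AddCommGroup M'] [Module A M'] [Module.Finite A M']
    {M : Type*} [AddCommGroup M] [Module A M] [Module.Finite A M]
    {M'' : Type*} [AddCommGroup M''] [Module A M''] [Module.Finite A M'']
    (f : M' →ₗ[A] M) (g : M →ₗ[A] M'') (hf : Function.Injective f)
    (hg : Function.Surjective g) (hfg : LinearMap.range f = LinearMap.ker g)
    (c : ℝ) (hc : 0 ≤ c) (d : ℕ) (e' e'' : ℝ)
    (h' : Tendsto (fun t : ℕ => c *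
      ((Module.length A (M' ⧸ (I ^ t • (⊤ : Submodule A M')))).toNat : ℝ) / (t : ℝ) ^ d) atTop (nhds e'))
    (h'' : Tendsto (fun t : ℕ => c *
      ((Module.length A (M'' ⧸ (I ^ t • (⊤ : Submodule A M'')))).toNat : ℝ) / (t : ℝ) ^ d) atTop (nhds e'')) :
    Tendsto (fun t : ℕ => c *
      ((Module.length A (M ⧸ (I ^ t • (⊤ : Submodule A M)))).toNat : ℝ) / (t : ℝ) ^ d) atTop
      (nhds (e' + e'')) := by
  obtain ⟨k, hk⟩ := exists_add_le_chiI I hI f g hf hg hfg
  have := tendsto_of_squeeze c hc d k (chiI I M) (chiI I M') (chiI I M'') e' e''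
    (chiI_le_add I hI f g hg hfg) hk
    (by simpa only [chiI_eq] using h') (by simpa only [chiI_eq] using h'')
  simpa only [chiI_eq] using this

end Additivity

end Groth.Agent.Lib.Helper2.SamuelI
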