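import Mathlib
import Groth.Agent.Lib.Helper2.ChiLocal
import Groth.Agent.Lib.Helper2.SamuelI

/-!
# The local formula `ℓ(N/tN) = ℓ(N[t]) + ∑_p ℓ_p(N) ℓ(A/(p+t))` over all minimal primes of `A`

Specialisation of `ChiLocal.main_aux` to the reference module `A` itself, together with
finiteness criteria and conversions to `QuotSMulTop`.
-/

set_option autoImplicit false
set_option linter.style.haveILetI false
universe u v w

namespace Groth.Agent.Lib.Helper2.ChiLocal2

open Groth.Agent.Lib.Helper2.Snake Groth.Agent.Lib.Helper2.ChiLocal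
open Groth.Agent.Lib.Helper2.LenAt Groth.Agent.Lib.Helper2.RelLength

section Conv

variable {A : Type u} [CommRing A] (t : A) (N : Type v) [AddCommGroup N] [Module A N]

theorem a_eq_quotSMulTop : a t N = Module.length A (QuotSMulTop t N) := by
  unfold a QuotSMulTop
  exact (Submodule.quotEquivOfEq _ _ (Submodule.ideal_span_singleton_smul t ⊤)).length_eq

theorem b_eq_ker_smul_id :
    b t N = Module.length A (LinearMap.ker (t • (LinearMap.id : N →ₗ[A] N))) := by
  unfold b
  have : LinearMap.lsmul A N t = t • (LinearMap.id : N →ₗ[A] N) := by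
    ext x; simp
  rw [this]

end Conv

theorem exists_small_model (A : Type u) [CommRing A] (M : Type v) [AddCommGroup M] [Module A M]
    [Module.Finite A M] :
    ∃ (M₀ : Type u) (_ : AddCommGroup M₀) (_ : Module A M₀) (_ : Module.Finite A M₀),
      Nonempty (M₀ ≃ₗ[A] M) := by
  obtain ⟨n, f, hf⟩ := Module.Finite.exists_fin' A M
  exact ⟨(Fin n → A) ⧸ LinearMap.ker f, inferInstance, inferInstance, inferInstance,
    ⟨f.quotKerEquivOfSurjective hf⟩⟩

theorem finsum_minimalPrimes_congr {A : Type u} [CommRing A] {J J' : Ideal A} (h : J = J')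
    (F : ∀ p : Ideal A, p.IsPrime → ℕ∞) :
    ∑ᶠ p : J.minimalPrimes, F p.1 p.2.1.1 = ∑ᶠ p : J'.minimalPrimes, F p.1 p.2.1.1 := by
  subst h; rfl

theorem enat_assembly {ι : Type*} [Fintype ι] [DecidableEq ι] (f c : ι → ℕ∞) (b A : ℕ∞)
    (hA : A ≠ ⊤) (hform : A = b + ∑ p, f p * c p) (hc1 : ∀ p, 1 ≤ c p) :
    ∑ p, f p ≤ A ∧ (∑ p, f p = A ↔ b = 0 ∧ ∀ p, f p ≠ 0 → c p = 1) := by
  have hle : ∀ p, f p ≤ f p * c p := by
    intro p
    calc f p = f p * 1 := (mul_one _).symm
      _ ≤ f p * c p := by gcongr; exact hc1 p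
  have hsumle : ∑ p, f p ≤ ∑ p, f p * c p := Finset.sum_le_sum (fun p _ => hle p)
  set T := ∑ p, f p * c p with hT
  have hTfin : T ≠ ⊤ := by
    have : T ≤ b + T := le_add_self
    rw [← hform] at this
    exact ne_top_of_le_ne_top hA this
  rw [hform]
  refine ⟨hsumle.trans le_add_self, ?_⟩
  constructor
  · intro heq
    have hb0 : b = 0 := by
      have h1 : T + b ≤ T + 0 := by
        rw [add_zero, add_comm, ← heq]
        exact hsumle
      exact le_antisymm ((ENat.addLECancellable_of_ne_top hTfin) h1) zero_le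
    rw [hb0, zero_add] at heq
    refine ⟨hb0, ?_⟩
    intro p₀ hf0
    by_contra hne
    have hf1 : 1 ≤ f p₀ := Order.one_le_iff_pos.2 (pos_iff_ne_zero.2 hf0)
    have h2 : 1 + 1 ≤ c p₀ := by
      have h1lt : 1 < c p₀ := lt_of_le_of_ne (hc1 p₀) (Ne.symm hne)
      exact (ENat.add_one_le_iff (by simp)).2 h1lt
    have hle' : ∀ p, f p + (if p = p₀ then 1 else 0) ≤ f p * c p := by
      intro p
      split_ifs with hp
      · subst hp
        calc f p + 1 ≤ f p + f p := by gcongr
          _ = f p * (1 + 1) := by ring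
          _ ≤ f p * c p := by gcongr
      · rw [add_zero]; exact hle p
    have h3 : ∑ p, (f p + (if p = p₀ then (1 : ℕ∞) else 0)) ≤ T :=
      Finset.sum_le_sum (fun p _ => hle' p)
    rw [Finset.sum_add_distrib, Finset.sum_ite_eq' Finset.univ p₀ (fun _ => (1 : ℕ∞)),
      if_pos (Finset.mem_univ _), heq] at h3
    have h4 : T + 1 ≤ T + 0 := by rw [add_zero]; exact h3
    have h5 := (ENat.addLECancellable_of_ne_top hTfin) h4
    simp at h5
  · rintro ⟨hb0, hall⟩
    rw [hb0, zero_add, hT]
    apply Finset.sum_congr rfl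
    intro p _
    by_cases hf0 : f p = 0
    · rw [hf0, zero_mul]
    · rw [hall p hf0, mul_one]

section Local

variable {A : Type u} [CommRing A] [IsNoetherianRing A] [IsLocalRing A] (t : A)

theorem exists_pow_le_of_radical
    (h : ∀ q : Ideal A, q.IsPrime → t ∈ q → q = IsLocalRing.maximalIdeal A) :
    ∃ k, IsLocalRing.maximalIdeal A ^ k ≤ Ideal.span {t} := by
  apply Ideal.exists_pow_le_of_le_radical_of_fg _ (IsNoetherian.noetherian _)
  rw [Ideal.radical_eq_sInf]
  apply le_sInf
  rintro q ⟨hle, hq⟩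
  rw [h q hq (hle (Ideal.mem_span_singleton_self t))]

theorem exists_pow_le_of_artinian (hart : IsArtinianRing (A ⧸ Ideal.span {t})) :
    ∃ k, IsLocalRing.maximalIdeal A ^ k ≤ Ideal.span {t} := by
  apply exists_pow_le_of_radical
  intro q hq htq
  have hle : Ideal.span {t} ≤ q := (Ideal.span_singleton_le_iff_mem _).2 htq
  haveI : (q.map (Ideal.Quotient.mk (Ideal.span {t}))).IsPrime :=
    Ideal.map_isPrime_of_surjective Ideal.Quotient.mk_surjective (by rwa [Ideal.mk_ker])
  have hmax : (q.map (Ideal.Quotient.mk (Ideal.span {t}))).IsMaximal :=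
    IsArtinianRing.isMaximal_of_isPrime _
  have hq' : q.IsMaximal := by
    have := Ideal.comap_isMaximal_of_surjective (Ideal.Quotient.mk (Ideal.span {t}))
      Ideal.Quotient.mk_surjective (K := q.map (Ideal.Quotient.mk (Ideal.span {t})))
    rwa [Ideal.comap_map_of_surjective _ Ideal.Quotient.mk_surjective, ← RingHom.ker_eq_comap_bot,
      Ideal.mk_ker, sup_of_le_left hle] at this
  exact IsLocalRing.eq_maximalIdeal hq'

theorem exists_pow_le_of_dim_one (hdim : ringKrullDim A ≤ 1) (ht : t ∈ nonZeroDivisors A) :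
    ∃ k, IsLocalRing.maximalIdeal A ^ k ≤ Ideal.span {t} := by
  apply exists_pow_le_of_radical
  intro q hq htq
  have hK : Ring.KrullDimLE 1 A := Ring.krullDimLE_iff.2 (by exact_mod_cast hdim)
  rcases Ring.krullDimLE_one_iff.1 hK q hq with hmin | hmax
  · exfalso
    exact Set.disjoint_left.1 (Ideal.disjoint_nonZeroDivisors_of_mem_minimalPrimes hmin) htq ht
  · exact IsLocalRing.eq_maximalIdeal hmax

theorem a_ne_top_of_pow_le (hk : ∃ k, IsLocalRing.maximalIdeal A ^ k ≤ Ideal.span {t})
    (N : Type v) [AddCommGroup N] [Module A N] [Module.Finite A N] : a t N ≠ ⊤ := by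
  obtain ⟨k, hk⟩ := hk
  have hle : (IsLocalRing.maximalIdeal A ^ k • (⊤ : Submodule A N)) ≤
      Ideal.span {t} • (⊤ : Submodule A N) := Submodule.smul_mono_left hk
  have h1 : a t N ≤
      Module.length A (N ⧸ (IsLocalRing.maximalIdeal A ^ k • (⊤ : Submodule A N))) := by
    unfold a
    exact Module.length_le_of_surjective (Submodule.factor hle) (Submodule.factor_surjective hle)
  have h2 := Groth.Agent.Lib.Helper2.HilbSamuel.isFiniteLength_quot_jacobson_pow (A := A) (M := N) k
  rw [Groth.Agent.Lib.Helper2.SamuelI.jacobson_eq_maximalIdeal, ← Module.length_ne_top_iff] at h2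
  exact ne_top_of_le_ne_top h2 h1

theorem annihilator_self : Module.annihilator A A = ⊥ :=
  Module.annihilator_eq_bot.mpr inferInstance

variable (ht : t ∈ IsLocalRing.maximalIdeal A) (hdim : 0 < ringKrullDim A)
  (hk : ∃ k, IsLocalRing.maximalIdeal A ^ k ≤ Ideal.span {t})

include ht hdim hk in
theorem main (N : Type u) [AddCommGroup N] [Module A N] [Module.Finite A N] :
    a t N ≠ ⊤ ∧ b t N ≠ ⊤ ∧
      a t N = b t N + ∑ᶠ p : minimalPrimes A, lenAt ⟨p.1, p.2.1.1⟩ N * a t (A ⧸ p.1) := by
  have haA := a_ne_top_of_pow_le t hk A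
  have haN := a_ne_top_of_pow_le t hk N
  have hdim' : 0 < Module.supportDim A A := by rwa [Module.supportDim_self_eq_ringKrullDim]
  have hsupp : Module.support A N ⊆ Module.support A A := by
    intro p _
    rw [Module.mem_support_iff_of_finite, annihilator_self]
    exact bot_le
  obtain ⟨hb, hform⟩ := main_aux t ht A hdim' haA N hsupp haN
  refine ⟨haN, hb, ?_⟩
  rw [hform]
  congr 1
  exact finsum_minimalPrimes_congr (annihilator_self (A := A))
    (fun p hp => lenAt ⟨p, hp⟩ N * a t (A ⧸ p))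

include hdim in
theorem ne_max_of_minimal' (p : Ideal A) (hp : p ∈ minimalPrimes A) :
    p ≠ IsLocalRing.maximalIdeal A := by
  have hdim' : 0 < Module.supportDim A A := by rwa [Module.supportDim_self_eq_ringKrullDim]
  apply ne_max_of_minimal A hdim' p
  rw [annihilator_self]
  exact hp

include ht hk in
theorem minimal_of_ne_max (q : Ideal A) [hq : q.IsPrime] (hqm : q ≠ IsLocalRing.maximalIdeal A) :
    q ∈ minimalPrimes A := by
  have haA := a_ne_top_of_pow_le t hk A
  have hqS : (⟨q, hq⟩ : PrimeSpectrum A) ∈ Module.support A A := by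
    rw [Module.mem_support_iff_of_finite, annihilator_self]
    exact bot_le
  have := minimal_of_mem_support t ht A haA ⟨q, hq⟩ hqS hqm
  rw [annihilator_self] at this
  exact this

theorem isFiniteLength_of_support_subset (N : Type v) [AddCommGroup N] [Module A N]
    [Module.Finite A N]
    (h : ∀ q ∈ Module.support A N, q.asIdeal = IsLocalRing.maximalIdeal A) :
    IsFiniteLength A N := by
  have hrad : IsLocalRing.maximalIdeal A ≤ (Module.annihilator A N).radical := by
    rw [Ideal.radical_eq_sInf]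
    apply le_sInf
    rintro q ⟨hle, hq⟩
    have hqS : (⟨q, hq⟩ : PrimeSpectrum A) ∈ Module.support A N := by
      rw [Module.mem_support_iff_of_finite]
      exact hle
    rw [← h _ hqS]
  obtain ⟨k, hk⟩ := Ideal.exists_pow_le_of_le_radical_of_fg hrad (IsNoetherian.noetherian _)
  have hbot : (IsLocalRing.maximalIdeal A ^ k • (⊤ : Submodule A N)) = ⊥ := by
    rw [eq_bot_iff, Submodule.smul_le]
    intro r hr x _
    rw [Submodule.mem_bot]
    exact Module.mem_annihilator.1 (hk hr) x
  have h2 := Groth.Agent.Lib.Helper2.HilbSamuel.isFiniteLength_quot_jacobson_pow (A := A) (M := N) k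
  rw [Groth.Agent.Lib.Helper2.SamuelI.jacobson_eq_maximalIdeal] at h2
  exact (Submodule.quotEquivOfEqBot _ hbot).isFiniteLength h2

include hdim in
theorem lenAt_eq_zero_of_isFiniteLength (N : Type v) [AddCommGroup N] [Module A N]
    (hN : IsFiniteLength A N) (p : minimalPrimes A) : lenAt ⟨p.1, p.2.1.1⟩ N = 0 := by
  by_contra hne
  have hp : (⟨p.1, p.2.1.1⟩ : PrimeSpectrum A) ∈ Module.support A N := by
    rw [Module.mem_support_iff]
    unfold lenAt at hne
    rw [Module.length_eq_zero_iff, not_subsingleton_iff_nontrivial] at hne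
    exact hne
  have := eq_maximalIdeal_of_mem_support N (Module.length_ne_top_iff.2 hN) _ hp
  exact ne_max_of_minimal' hdim p.1 p.2 this

include ht hk in
theorem isFiniteLength_of_lenAt_eq_zero (N : Type v) [AddCommGroup N] [Module A N]
    [Module.Finite A N] (h : ∀ p : minimalPrimes A, lenAt ⟨p.1, p.2.1.1⟩ N = 0) :
    IsFiniteLength A N := by
  apply isFiniteLength_of_support_subset
  intro q hq
  by_contra hqm
  haveI := q.isPrime
  have hmin := minimal_of_ne_max t ht hk q.asIdeal hqm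
  have h0 := h ⟨q.asIdeal, hmin⟩
  unfold lenAt at h0
  rw [Module.length_eq_zero_iff] at h0
  rw [Module.mem_support_iff] at hq
  exact not_subsingleton _ h0

include ht hdim hk in
/-- universe-general finiteness of both `a` and `b`. -/
theorem finite_ab (N : Type v) [AddCommGroup N] [Module A N] [Module.Finite A N] :
    a t N ≠ ⊤ ∧ b t N ≠ ⊤ := by
  obtain ⟨N₀, _, _, _, ⟨e⟩⟩ := exists_small_model A N
  obtain ⟨h1, h2, -⟩ := main t ht hdim hk N₀
  rw [← a_congr t e, ← b_congr t e]
  exact ⟨h1, h2⟩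

include ht hdim hk in
theorem b_le_a_and_eq_iff (N : Type v) [AddCommGroup N] [Module A N] [Module.Finite A N] :
    b t N ≤ a t N ∧ (b t N = a t N ↔ IsFiniteLength A N) := by
  classical
  obtain ⟨N₀, _, _, _, ⟨e⟩⟩ := exists_small_model A N
  obtain ⟨h1, h2, hform⟩ := main t ht hdim hk N₀
  rw [← a_congr t e, ← b_congr t e]
  have hiff : IsFiniteLength A N ↔ IsFiniteLength A N₀ :=
    ⟨fun h => e.symm.isFiniteLength h, fun h => e.isFiniteLength h⟩
  rw [hiff]
  refine ⟨by rw [hform]; exact le_self_add, ?_⟩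
  haveI : Finite ↥(minimalPrimes A) :=
    (Ideal.finite_minimalPrimes_of_isNoetherianRing A ⊥).to_subtype
  constructor
  · intro heq
    have hT : ∑ᶠ p : minimalPrimes A, lenAt ⟨p.1, p.2.1.1⟩ N₀ * a t (A ⧸ p.1) = 0 := by
      have h3 : b t N₀ + ∑ᶠ p : minimalPrimes A, lenAt ⟨p.1, p.2.1.1⟩ N₀ * a t (A ⧸ p.1) ≤
          b t N₀ + 0 := by
        rw [add_zero, ← hform, heq]
      exact le_antisymm ((ENat.addLECancellable_of_ne_top h2) h3) zero_le
    apply isFiniteLength_of_lenAt_eq_zero t ht hk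
    intro p
    haveI : Fintype ↥(minimalPrimes A) := Fintype.ofFinite _
    rw [finsum_eq_sum_of_fintype, Finset.sum_eq_zero_iff] at hT
    have h4 := hT p (Finset.mem_univ _)
    rcases mul_eq_zero.1 h4 with h5 | h5
    · exact h5
    · exact absurd h5 (a_quot_ne_zero t ht p.1 (IsLocalRing.le_maximalIdeal p.2.1.1.ne_top))
  · intro hfl
    rw [hform]
    have hz : ∀ p : minimalPrimes A, lenAt ⟨p.1, p.2.1.1⟩ N₀ * a t (A ⧸ p.1) = 0 := by
      intro p
      rw [lenAt_eq_zero_of_isFiniteLength hdim N₀ hfl p, zero_mul]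
    rw [finsum_congr hz, finsum_zero, add_zero]

include ht hdim hk in
theorem sum_le_and_eq_iff (N : Type u) [AddCommGroup N] [Module A N] [Module.Finite A N] :
    (∑ᶠ p : minimalPrimes A, lenAt ⟨p.1, p.2.1.1⟩ N) ≤ a t N ∧
    ((∑ᶠ p : minimalPrimes A, lenAt ⟨p.1, p.2.1.1⟩ N) = a t N ↔
      IsSMulRegular N t ∧ ∀ p : minimalPrimes A, lenAt ⟨p.1, p.2.1.1⟩ N ≠ 0 →
        Ideal.map (Ideal.Quotient.mk p.1) (IsLocalRing.maximalIdeal A) =
          Ideal.span {Ideal.Quotient.mk p.1 t}) := by
  classical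
  obtain ⟨haN, hb, hform⟩ := main t ht hdim hk N
  haveI : Finite ↥(minimalPrimes A) :=
    (Ideal.finite_minimalPrimes_of_isNoetherianRing A ⊥).to_subtype
  haveI : Fintype ↥(minimalPrimes A) := Fintype.ofFinite _
  have hpm : ∀ p : minimalPrimes A, p.1 ≤ IsLocalRing.maximalIdeal A :=
    fun p => IsLocalRing.le_maximalIdeal p.2.1.1.ne_top
  have hc1 : ∀ p : minimalPrimes A, 1 ≤ a t (A ⧸ p.1) := fun p =>
    Order.one_le_iff_pos.2 (pos_iff_ne_zero.2 (a_quot_ne_zero t ht p.1 (hpm p)))
  rw [finsum_eq_sum_of_fintype] at hform ⊢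
  obtain ⟨h1, h2⟩ := enat_assembly (fun p : minimalPrimes A => lenAt ⟨p.1, p.2.1.1⟩ N)
    (fun p : minimalPrimes A => a t (A ⧸ p.1)) (b t N) (a t N) haN hform hc1
  refine ⟨h1, ?_⟩
  rw [h2, b_eq_zero_iff]
  apply and_congr Iff.rfl
  apply forall_congr'
  intro p
  apply imp_congr Iff.rfl
  exact a_quot_eq_one_iff t ht p.1 (hpm p)

end Local

end Groth.Agent.Lib.Helper2.ChiLocal2
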