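import Mathlib

set_option autoImplicit false
universe u

open CategoryTheory CategoryTheory.Limits Pretriangulated DerivedCategory

namespace Groth.Agent.Lib.Helper2.KosChi1

attribute [local instance] HasDerivedCategory.standard

section Alg

variable {A : Type*} [CommRing A]

theorem length_ker_add_range {X Y : Type*} [AddCommGroup X] [Module A X] [AddCommGroup Y]
    [Module A Y] (f : X →ₗ[A] Y) :
    Module.length A X = Module.length A (LinearMap.ker f) + Module.length A (LinearMap.range f) := by
  refine Module.length_eq_add_of_exact (LinearMap.ker f).subtype f.rangeRestrict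
    (Submodule.subtype_injective _) f.surjective_rangeRestrict ?_
  rw [LinearMap.exact_iff, LinearMap.ker_rangeRestrict, Submodule.range_subtype]

theorem length_step {Z' X Y Z X' : Type*} [AddCommGroup Z'] [Module A Z'] [AddCommGroup X]
    [Module A X] [AddCommGroup Y] [Module A Y] [AddCommGroup Z] [Module A Z] [AddCommGroup X']
    [Module A X'] (d' : Z' →ₗ[A] X) (f : X →ₗ[A] Y) (g : Y →ₗ[A] Z) (d : Z →ₗ[A] X')
    (h0 : Function.Exact d' f) (h1 : Function.Exact f g) (h2 : Function.Exact g d) :
    Module.length A Y + Module.length A (LinearMap.range d') + Module.length A (LinearMap.range d) =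
      Module.length A X + Module.length A Z := by
  rw [length_ker_add_range f, length_ker_add_range g, length_ker_add_range d,
    LinearMap.exact_iff.1 h0, LinearMap.exact_iff.1 h1, LinearMap.exact_iff.1 h2]
  ring

/-- the sign `(-1)^n` as an integer. -/
def sg (n : ℤ) : ℤ := ((n.negOnePow : ℤˣ) : ℤ)

theorem sg_succ (n : ℤ) : sg (n + 1) = - sg n := by
  unfold sg
  rw [Int.negOnePow_succ]
  simp

theorem sg_pred (n : ℤ) : sg (n - 1) = - sg n := by
  have := sg_succ (n - 1)
  rw [sub_add_cancel] at this
  rw [this, neg_neg]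

/-- alternating sums: the key telescoping identity. -/
theorem alt_sum_eq (x y z c : ℤ → ℤ) (a b : ℤ)
    (hx : ∀ n, (n < a ∨ b < n) → x n = 0) (hz : ∀ n, (n < a ∨ b < n) → z n = 0)
    (hc : ∀ n, (n < a ∨ b < n) → c n = 0)
    (h : ∀ n, y n + c (n - 1) + c n = x n + z n) :
    (∑ᶠ n : ℤ, sg n * y n) = (∑ᶠ n : ℤ, sg n * x n) + ∑ᶠ n : ℤ, sg n * z n := by
  have hfin : ∀ w : ℤ → ℤ, (∀ n, (n < a ∨ b < n) → w n = 0) →
      (Function.support (fun n => sg n * w n)).Finite := by
    intro w hw
    refine (Set.finite_Icc a b).subset ?_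
    intro n hn
    rw [Function.mem_support] at hn
    rw [Set.mem_Icc]
    by_contra hcon
    apply hn
    rw [hw n (by omega), mul_zero]
  have hfx := hfin x hx
  have hfz := hfin z hz
  have hfc := hfin c hc
  have hfc' : (Function.support (fun n => sg n * c (n - 1))).Finite := by
    refine (Set.finite_Icc (a + 1) (b + 1)).subset ?_
    intro n hn
    rw [Function.mem_support] at hn
    rw [Set.mem_Icc]
    by_contra hcon
    apply hn
    rw [hc (n - 1) (by omega), mul_zero]
  have hshift : (∑ᶠ n : ℤ, sg n * c (n - 1)) = - ∑ᶠ n : ℤ, sg n * c n := by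
    rw [← finsum_comp_equiv (Equiv.addRight (1 : ℤ)), ← finsum_neg_distrib]
    apply finsum_congr
    intro n
    simp only [Equiv.coe_addRight, add_sub_cancel_right, sg_succ]
    ring
  have hy : ∀ n, sg n * y n = sg n * x n + sg n * z n - sg n * c (n - 1) - sg n * c n := by
    intro n
    have := h n
    have hyn : y n = x n + z n - c (n - 1) - c n := by linarith
    rw [hyn]
    ring
  simp_rw [hy]
  have hfxz : (Function.support (fun n => sg n * x n + sg n * z n)).Finite :=
    (hfx.union hfz).subset (Function.support_add _ _)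
  have hfxzc : (Function.support (fun n => sg n * x n + sg n * z n - sg n * c (n - 1))).Finite :=
    (hfxz.union hfc').subset (Function.support_sub _ _)
  rw [finsum_sub_distrib hfxzc hfc, finsum_sub_distrib hfxz hfc', finsum_add_distrib hfx hfz,
    hshift]
  ring

end Alg

section Der

variable {A : Type u} [CommRing A]

/-- `n`-th cohomology module of an object of the derived category. -/
noncomputable abbrev Hn (n : ℤ) (X : DerivedCategory (ModuleCat.{u} A)) : ModuleCat.{u} A :=
  (homologyFunctor (ModuleCat.{u} A) n).obj X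

/-- finite length, bounded cohomology. -/
def Nice (X : DerivedCategory (ModuleCat.{u} A)) : Prop :=
  (∀ n, Module.length A (Hn n X) ≠ ⊤) ∧
    ∃ a b : ℤ, ∀ n, (n < a ∨ b < n) → Module.length A (Hn n X) = 0

/-- Euler characteristic. -/
noncomputable def chi (X : DerivedCategory (ModuleCat.{u} A)) : ℤ :=
  ∑ᶠ n : ℤ, sg n * ((Module.length A (Hn n X)).toNat : ℤ)

theorem length_eq_of_iso {X Y : ModuleCat.{u} A} (e : X ≅ Y) :
    Module.length A X = Module.length A Y :=
  e.toLinearEquiv.length_eq

theorem Hn_length_of_iso {X Y : DerivedCategory (ModuleCat.{u} A)} (e : X ≅ Y) (n : ℤ) :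
    Module.length A (Hn n X) = Module.length A (Hn n Y) :=
  length_eq_of_iso ((homologyFunctor (ModuleCat.{u} A) n).mapIso e)

theorem Nice.of_iso {X Y : DerivedCategory (ModuleCat.{u} A)} (e : X ≅ Y) (h : Nice X) :
    Nice Y := by
  obtain ⟨h1, a, b, h2⟩ := h
  refine ⟨fun n => ?_, a, b, fun n hn => ?_⟩
  · rw [← Hn_length_of_iso e]; exact h1 n
  · rw [← Hn_length_of_iso e]; exact h2 n hn

theorem chi_of_iso {X Y : DerivedCategory (ModuleCat.{u} A)} (e : X ≅ Y) : chi X = chi Y := by
  unfold chi
  apply finsum_congr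
  intro n
  rw [Hn_length_of_iso e]

theorem Hn_shift_length (X : DerivedCategory (ModuleCat.{u} A)) (n m : ℤ) (h : n + 1 = m) :
    Module.length A (Hn n (X⟦(1 : ℤ)⟧)) = Module.length A (Hn m X) :=
  length_eq_of_iso (((homologyFunctor (ModuleCat.{u} A) 0).shiftIso 1 n m (by omega)).app X)

theorem Nice.shift {X : DerivedCategory (ModuleCat.{u} A)} (h : Nice X) :
    Nice (X⟦(1 : ℤ)⟧) := by
  obtain ⟨h1, a, b, h2⟩ := h
  refine ⟨fun n => ?_, a - 1, b - 1, fun n hn => ?_⟩
  · rw [Hn_shift_length X n (n + 1) rfl]; exact h1 _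
  · rw [Hn_shift_length X n (n + 1) rfl]; exact h2 _ (by omega)

theorem chi_shift (X : DerivedCategory (ModuleCat.{u} A)) : chi (X⟦(1 : ℤ)⟧) = - chi X := by
  unfold chi
  rw [← finsum_comp_equiv (Equiv.addRight (1 : ℤ)) (f := fun n =>
    sg n * ((Module.length A (Hn n X)).toNat : ℤ)), ← finsum_neg_distrib]
  apply finsum_congr
  intro n
  simp only [Equiv.coe_addRight]
  rw [Hn_shift_length X n (n + 1) rfl, sg_succ, neg_mul, neg_neg]
  rfl

/-- additivity of the Euler characteristic on distinguished triangles. -/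
theorem tri (T : Triangle (DerivedCategory (ModuleCat.{u} A))) (hT : T ∈ distTriang _)
    (h1 : Nice T.obj₁) (h3 : Nice T.obj₃) :
    Nice T.obj₂ ∧ chi T.obj₂ = chi T.obj₁ + chi T.obj₃ := by
  obtain ⟨f1, a1, b1, z1⟩ := h1
  obtain ⟨f3, a3, b3, z3⟩ := h3
  -- the key identity
  have key : ∀ m n : ℤ, m + 1 = n →
      Module.length A (Hn n T.obj₂) +
        Module.length A (LinearMap.range (HomologySequence.δ T m (m + 1) rfl).hom) +
        Module.length A (LinearMap.range (HomologySequence.δ T n (n + 1) rfl).hom) =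
      Module.length A (Hn n T.obj₁) + Module.length A (Hn n T.obj₃) := by
    intro m n hmn
    subst hmn
    have e1 := HomologySequence.exact₁ T hT m (m + 1) rfl
    have e2 := HomologySequence.exact₂ T hT (m + 1)
    have e3 := HomologySequence.exact₃ T hT (m + 1) (m + 1 + 1) rfl
    rw [ShortComplex.ShortExact.moduleCat_exact_iff_function_exact] at e1 e2 e3
    exact length_step _ _ _ _ e1 e2 e3
  set cL : ℤ → ℕ∞ := fun n =>
    Module.length A (LinearMap.range (HomologySequence.δ T n (n + 1) rfl).hom) with hcL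
  have hcle : ∀ n, cL n ≤ Module.length A (Hn n T.obj₃) := by
    intro n
    exact Module.length_le_of_surjective _ (LinearMap.surjective_rangeRestrict _)
  have hcfin : ∀ n, cL n ≠ ⊤ := fun n => ne_top_of_le_ne_top (f3 n) (hcle n)
  have f2 : ∀ n, Module.length A (Hn n T.obj₂) ≠ ⊤ := by
    intro n
    have h := key (n - 1) n (by omega)
    intro htop
    rw [htop, top_add, top_add] at h
    exact (WithTop.add_ne_top.2 ⟨f1 n, f3 n⟩) h.symm
  set a := min a1 a3 with ha
  set b := max b1 b3 with hb
  have z2 : ∀ n, (n < a ∨ b < n) → Module.length A (Hn n T.obj₂) = 0 := by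
    intro n hn
    have h := key (n - 1) n (by omega)
    rw [z1 n (by omega), z3 n (by omega), add_zero] at h
    have h' : Module.length A (Hn n T.obj₂) ≤ 0 := by
      rw [← h, add_assoc]; exact le_self_add
    exact le_antisymm h' (zero_le)
  refine ⟨⟨f2, a, b, z2⟩, ?_⟩
  unfold chi
  apply alt_sum_eq _ _ _ (fun n => ((cL n).toNat : ℤ)) a b
  · intro n hn; rw [z1 n (by omega)]; simp
  · intro n hn; rw [z3 n (by omega)]; simp
  · intro n hn
    have : cL n = 0 := le_antisymm ((hcle n).trans (z3 n (by omega)).le) (zero_le)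
    rw [this]; simp
  · intro n
    have h := key (n - 1) n (by omega)
    have hc1 : cL (n - 1) = Module.length A
        (LinearMap.range (HomologySequence.δ T (n - 1) (n - 1 + 1) rfl).hom) := rfl
    rw [← hc1] at h
    change _ + cL (n - 1) + cL n = _ at h
    rw [← ENat.natCast_toNat (f2 n), ← ENat.natCast_toNat (hcfin (n - 1)), ← ENat.natCast_toNat (hcfin n),
      ← ENat.natCast_toNat (f1 n), ← ENat.natCast_toNat (f3 n)] at h
    exact_mod_cast h

end Der

end Groth.Agent.Lib.Helper2.KosChi1
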