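import Mathlib
import Groth.Prelude.Def_Koszul
import Groth.Prelude.Def_DRing2
import Groth.Agent.Lib.Helper2.KosChi1

set_option autoImplicit false
universe u

open CategoryTheory CategoryTheory.Limits MonoidalCategory Pretriangulated DerivedCategory
open CochainComplex

namespace Groth.Agent.Lib.Helper2.KosChi2

open Groth.Agent.Lib.Helper2.KosChi1

attribute [local instance] HasDerivedCategory.standard

variable {A : Type u} [CommRing A]

/-- `M ↦ P ⊗ M` as a functor from modules to complexes. -/
noncomputable def G (P : CochainComplex (ModuleCat.{u} A) ℤ) :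
    ModuleCat.{u} A ⥤ CochainComplex (ModuleCat.{u} A) ℤ where
  obj M := DRing.tensorCx P M
  map {M N} g := (NatTrans.mapHomologicalComplex ((tensoringRight (ModuleCat.{u} A)).map g)
    (ComplexShape.up ℤ)).app P
  map_id M := by
    ext n : 1
    simp [DRing.tensorCx]
  map_comp f g := by
    ext n : 1
    simp [DRing.tensorCx]

@[simp]
theorem G_map_f (P : CochainComplex (ModuleCat.{u} A) ℤ) {M N : ModuleCat.{u} A} (g : M ⟶ N)
    (n : ℤ) : ((G P).map g).f n = P.X n ◁ g := rfl

theorem G_map_smul (P : CochainComplex (ModuleCat.{u} A) ℤ) (M : ModuleCat.{u} A) (x : A) :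
    (G P).map (x • 𝟙 M) = x • 𝟙 ((G P).obj M) := by
  ext n : 1
  simp [G_map_f]
  rfl

theorem G_map_zero (P : CochainComplex (ModuleCat.{u} A) ℤ) (M N : ModuleCat.{u} A) :
    (G P).map (0 : M ⟶ N) = 0 := by
  ext n : 1
  simp [G_map_f]
  rfl

instance (P : CochainComplex (ModuleCat.{u} A) ℤ) : (G P).PreservesZeroMorphisms where
  map_zero M N := G_map_zero P M N

/-- the terms of the Koszul complex are projective. -/
theorem projective_koszul (l : List A) : ∀ n : ℤ, Module.Projective A ((Koszul.koszul A l).X n) := by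
  induction l with
  | nil =>
    intro n
    by_cases hn : n = 0
    · subst hn
      exact Module.Projective.of_equiv
        (HomologicalComplex.singleObjXSelf (ComplexShape.up ℤ) (0 : ℤ)
          (ModuleCat.of A A)).toLinearEquiv.symm
    · have hz : IsZero ((Koszul.koszul A []).X n) :=
        HomologicalComplex.isZero_single_obj_X (ComplexShape.up ℤ) 0 (ModuleCat.of A A) n hn
      have : Subsingleton ((Koszul.koszul A []).X n) := ModuleCat.subsingleton_of_isZero hz
      infer_instance
  | cons f l ih =>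
    intro n
    have e1 : (Koszul.koszul A (f :: l)).X n ≅
        (Koszul.koszul A l).X (n + 1) ⊞ (Koszul.koszul A l).X n :=
      HomologicalComplex.homotopyCofiber.XIsoBiprod (f • 𝟙 (Koszul.koszul A l)) n (n + 1) rfl
    have e2 := e1 ≪≫ ModuleCat.biprodIsoProd _ _
    have := ih (n + 1)
    have := ih n
    exact Module.Projective.of_equiv e2.toLinearEquiv.symm

theorem G_shortExact (P : CochainComplex (ModuleCat.{u} A) ℤ) (hP : ∀ n, Module.Flat A (P.X n))
    (S : ShortComplex (ModuleCat.{u} A)) (hS : S.ShortExact) : (S.map (G P)).ShortExact := by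
  apply HomologicalComplex.shortExact_of_degreewise_shortExact
  intro n
  have := hP n
  have hex : Function.Exact S.f.hom S.g.hom :=
    (ShortComplex.ShortExact.moduleCat_exact_iff_function_exact S).1 hS.exact
  have hinj : Function.Injective S.f.hom := hS.moduleCat_injective_f
  have hsurj : Function.Surjective S.g.hom := hS.moduleCat_surjective_g
  refine ShortComplex.ShortExact.mk' ?_ ?_ ?_
  · rw [ShortComplex.ShortExact.moduleCat_exact_iff_function_exact]
    exact Module.Flat.lTensor_exact (P.X n) hex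
  · rw [ModuleCat.mono_iff_injective]
    exact Module.Flat.lTensor_preserves_injective_linearMap (M := P.X n) S.f.hom hinj
  · rw [ModuleCat.epi_iff_surjective]
    exact LinearMap.lTensor_surjective (P.X n) hsurj

/-- cohomology of `Q.obj C` is the homology of `C`. -/
noncomputable def HnQIso (C : CochainComplex (ModuleCat.{u} A) ℤ) (n : ℤ) :
    Hn n (Q.obj C) ≅ C.homology n :=
  (homologyFunctorFactors (ModuleCat.{u} A) n).app C

theorem length_HnQ (C : CochainComplex (ModuleCat.{u} A) ℤ) (n : ℤ) :
    Module.length A (Hn n (Q.obj C)) = Module.length A (C.homology n) :=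
  length_eq_of_iso (HnQIso C n)

/-- niceness of a complex. -/
def NiceC (C : CochainComplex (ModuleCat.{u} A) ℤ) : Prop := Nice (Q.obj C)

/-- Euler characteristic of a complex. -/
noncomputable def chiC (C : CochainComplex (ModuleCat.{u} A) ℤ) : ℤ := chi (Q.obj C)

theorem chiC_eq (C : CochainComplex (ModuleCat.{u} A) ℤ) :
    chiC C = ∑ᶠ i : ℤ, ((i.negOnePow : ℤˣ) : ℤ) * ((Module.length A (C.homology i)).toNat : ℤ) := by
  unfold chiC chi
  apply finsum_congr
  intro n
  rw [length_HnQ]
  rfl

theorem niceC_iff (C : CochainComplex (ModuleCat.{u} A) ℤ) :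
    NiceC C ↔ (∀ n, Module.length A (C.homology n) ≠ ⊤) ∧
      ∃ a b : ℤ, ∀ n, (n < a ∨ b < n) → Module.length A (C.homology n) = 0 := by
  unfold NiceC Nice
  simp_rw [length_HnQ]

theorem NiceC.of_iso {C D : CochainComplex (ModuleCat.{u} A) ℤ} (e : C ≅ D) (h : NiceC C) :
    NiceC D :=
  Nice.of_iso (Q.mapIso e) h

theorem chiC_of_iso {C D : CochainComplex (ModuleCat.{u} A) ℤ} (e : C ≅ D) : chiC C = chiC D :=
  chi_of_iso (Q.mapIso e)

/-- additivity on short exact sequences of complexes. -/
theorem chiC_ses (S : ShortComplex (CochainComplex (ModuleCat.{u} A) ℤ)) (hS : S.ShortExact)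
    (h1 : NiceC S.X₁) (h3 : NiceC S.X₃) : NiceC S.X₂ ∧ chiC S.X₂ = chiC S.X₁ + chiC S.X₃ :=
  tri _ (triangleOfSES_distinguished hS) h1 h3

/-- the octahedron: for `φ = p ≫ j` with `p` epi with kernel `X₁` and `j` mono with cokernel `X₅`. -/
theorem chiC_cone {X₁ X₂ X₃ X₄ X₅ : CochainComplex (ModuleCat.{u} A) ℤ}
    (i : X₁ ⟶ X₂) (p : X₂ ⟶ X₃) (j : X₃ ⟶ X₄) (q : X₄ ⟶ X₅) (w₁ : i ≫ p = 0) (w₂ : j ≫ q = 0)
    (h₁ : (ShortComplex.mk i p w₁).ShortExact) (h₂ : (ShortComplex.mk j q w₂).ShortExact)
    (φ : X₂ ⟶ X₄) (hφ : p ≫ j = φ) (n1 : NiceC X₁) (n5 : NiceC X₅) :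
    NiceC (mappingCone φ) ∧ chiC (mappingCone φ) = chiC X₅ - chiC X₁ := by
  have hT₁ := rot_of_distTriang _ (triangleOfSES_distinguished h₁)
  have hT₂ := triangleOfSES_distinguished h₂
  have hT₃ := mappingCone_triangle_distinguished φ
  have comm : (Q.map p : Q.obj X₂ ⟶ Q.obj X₃) ≫ Q.map j = Q.map φ := by
    rw [← Functor.map_comp, hφ]
  have oct := Triangulated.someOctahedron comm hT₁ hT₂ hT₃
  have h := tri _ oct.mem (Nice.shift n1) n5
  refine ⟨h.1, ?_⟩
  have h2 := h.2
  simp only [Triangle.mk_obj₁, Triangle.mk_obj₂, Triangle.mk_obj₃] at h2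
  unfold chiC
  rw [sub_eq_add_neg, add_comm, ← chi_shift]
  exact h2

/-- tensoring commutes with the cone of a homothety. -/
noncomputable def coneIso (P : CochainComplex (ModuleCat.{u} A) ℤ) (x : A) (M : ModuleCat.{u} A) :
    DRing.tensorCx (mappingCone (x • 𝟙 P)) M ≅ mappingCone (x • 𝟙 (DRing.tensorCx P M)) :=
  (mappingCone.mapHomologicalComplexIso (x • 𝟙 P) (tensorRight M)) ≪≫
    eqToIso (by
      have h : ((tensorRight M).mapHomologicalComplex (ComplexShape.up ℤ)).map (x • 𝟙 P) =
          x • 𝟙 (((tensorRight M).mapHomologicalComplex (ComplexShape.up ℤ)).obj P) := by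
        rw [Functor.map_smul, CategoryTheory.Functor.map_id]
      rw [h]
      rfl)

/-- the base complex. -/
noncomputable def nilIso (M : ModuleCat.{u} A) :
    DRing.tensorCx (Koszul.koszul A []) M ≅
      (HomologicalComplex.single (ModuleCat.{u} A) (ComplexShape.up ℤ) 0).obj M :=
  (HomologicalComplex.singleMapHomologicalComplex (tensorRight M) (ComplexShape.up ℤ) 0).app
      (ModuleCat.of A A) ≪≫
    (HomologicalComplex.single (ModuleCat.{u} A) (ComplexShape.up ℤ) 0).mapIso (λ_ M)

theorem length_single_homology (M : ModuleCat.{u} A) (n : ℤ) :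
    Module.length A (((HomologicalComplex.single (ModuleCat.{u} A) (ComplexShape.up ℤ) 0).obj
      M).homology n) = if n = 0 then Module.length A M else 0 := by
  split_ifs with hn
  · subst hn
    exact length_eq_of_iso (HomologicalComplex.singleObjHomologySelfIso (ComplexShape.up ℤ) 0 M)
  · have hz : IsZero (((HomologicalComplex.single (ModuleCat.{u} A) (ComplexShape.up ℤ) 0).obj
        M).homology n) :=
      (HomologicalComplex.exactAt_single_obj (ComplexShape.up ℤ) 0 M n hn).isZero_homology
    have := ModuleCat.subsingleton_of_isZero hz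
    exact Module.length_eq_zero

theorem niceC_single (M : ModuleCat.{u} A) (hM : Module.length A M ≠ ⊤) :
    NiceC ((HomologicalComplex.single (ModuleCat.{u} A) (ComplexShape.up ℤ) 0).obj M) := by
  rw [niceC_iff]
  refine ⟨fun n => ?_, 0, 0, fun n hn => ?_⟩
  · rw [length_single_homology]
    split_ifs
    · exact hM
    · simp
  · rw [length_single_homology, if_neg (by omega)]

theorem chiC_single (M : ModuleCat.{u} A) :
    chiC ((HomologicalComplex.single (ModuleCat.{u} A) (ComplexShape.up ℤ) 0).obj M) =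
      ((Module.length A M).toNat : ℤ) := by
  rw [chiC_eq]
  rw [finsum_eq_single _ (0 : ℤ)]
  · rw [length_single_homology, if_pos rfl]
    simp
  · intro n hn
    rw [length_single_homology, if_neg hn]
    simp

section Modules

/-- the Koszul complex of `l` with coefficients in `M`. -/
noncomputable abbrev KM (l : List A) (M : Type u) [AddCommGroup M] [Module A M] :
    CochainComplex (ModuleCat.{u} A) ℤ :=
  DRing.tensorCx (Koszul.koszul A l) (ModuleCat.of A M)

/-- finite length and boundedness of Koszul homology. -/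
def KNice (l : List A) (M : Type u) [AddCommGroup M] [Module A M] : Prop := NiceC (KM l M)

/-- the Koszul Euler characteristic. -/
noncomputable def chiK (l : List A) (M : Type u) [AddCommGroup M] [Module A M] : ℤ :=
  chiC (KM l M)

theorem chiK_eq (l : List A) (M : Type u) [AddCommGroup M] [Module A M] :
    chiK l M = ∑ᶠ i : ℤ, ((i.negOnePow : ℤˣ) : ℤ) *
      ((Module.length A ((DRing.tensorCx (Koszul.koszul A l)
        (ModuleCat.of A M)).homology i)).toNat : ℤ) :=
  chiC_eq _

theorem kNice_iff (l : List A) (M : Type u) [AddCommGroup M] [Module A M] :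
    KNice l M ↔ (∀ n, Module.length A ((DRing.tensorCx (Koszul.koszul A l)
        (ModuleCat.of A M)).homology n) ≠ ⊤) ∧
      ∃ a b : ℤ, ∀ n, (n < a ∨ b < n) → Module.length A ((DRing.tensorCx (Koszul.koszul A l)
        (ModuleCat.of A M)).homology n) = 0 :=
  niceC_iff _

variable {M : Type u} [AddCommGroup M] [Module A M] {N : Type u} [AddCommGroup N] [Module A N]

/-- the Koszul complexes of isomorphic modules are isomorphic. -/
noncomputable def KMIso (l : List A) (e : M ≃ₗ[A] N) : KM l M ≅ KM l N :=
  (G (Koszul.koszul A l)).mapIso e.toModuleIso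

theorem KNice.congr (l : List A) (e : M ≃ₗ[A] N) (h : KNice l M) : KNice l N :=
  NiceC.of_iso (KMIso l e) h

theorem chiK_congr (l : List A) (e : M ≃ₗ[A] N) : chiK l M = chiK l N :=
  chiC_of_iso (KMIso l e)

theorem kNice_nil (hM : Module.length A M ≠ ⊤) : KNice ([] : List A) M :=
  NiceC.of_iso (nilIso (ModuleCat.of A M)).symm (niceC_single _ hM)

theorem chiK_nil : chiK ([] : List A) M = ((Module.length A M).toNat : ℤ) := by
  unfold chiK
  rw [chiC_of_iso (nilIso (ModuleCat.of A M)), chiC_single]

theorem flat_koszul (l : List A) (n : ℤ) : Module.Flat A ((Koszul.koszul A l).X n) := by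
  have := projective_koszul l n
  infer_instance

/-- additivity in the module. -/
theorem chiK_additive (l : List A) {M' M'' : Type u} [AddCommGroup M'] [Module A M']
    [AddCommGroup M''] [Module A M''] (f : M' →ₗ[A] M) (g : M →ₗ[A] M'')
    (hf : Function.Injective f) (hg : Function.Surjective g) (hfg : Function.Exact f g)
    (h1 : KNice l M') (h3 : KNice l M'') : KNice l M ∧ chiK l M = chiK l M' + chiK l M'' := by
  let S : ShortComplex (ModuleCat.{u} A) :=
    ShortComplex.mk (ModuleCat.ofHom f) (ModuleCat.ofHom g) (by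
      ext m
      exact hfg.apply_apply_eq_zero m)
  have hS : S.ShortExact := ModuleCat.shortComplex_shortExact S hfg hf hg
  exact chiC_ses _ (G_shortExact (Koszul.koszul A l) (flat_koszul l) S hS) h1 h3

/-- the tail recursion `χ(x, l; M) = χ(l; M/xM) - χ(l; M[x])`. -/
theorem chiK_cons (x : A) (l : List A) (M : Type u) [AddCommGroup M] [Module A M]
    (h1 : KNice l (LinearMap.ker (LinearMap.lsmul A M x)))
    (h2 : KNice l (M ⧸ LinearMap.range (LinearMap.lsmul A M x))) :
    KNice (x :: l) M ∧
      chiK (x :: l) M = chiK l (M ⧸ LinearMap.range (LinearMap.lsmul A M x)) -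
        chiK l (LinearMap.ker (LinearMap.lsmul A M x)) := by
  set f : M →ₗ[A] M := LinearMap.lsmul A M x with hf
  let S₁ : ShortComplex (ModuleCat.{u} A) :=
    ShortComplex.mk (ModuleCat.ofHom (LinearMap.ker f).subtype) (ModuleCat.ofHom f.rangeRestrict) (by
      ext m
      exact m.2)
  have hS₁ : S₁.ShortExact := by
    refine ModuleCat.shortComplex_shortExact S₁ ?_ (Submodule.subtype_injective _)
      f.surjective_rangeRestrict
    rw [LinearMap.exact_iff]
    show LinearMap.ker f.rangeRestrict = LinearMap.range (LinearMap.ker f).subtype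
    rw [LinearMap.ker_rangeRestrict, Submodule.range_subtype]
  let S₂ : ShortComplex (ModuleCat.{u} A) :=
    ShortComplex.mk (ModuleCat.ofHom (LinearMap.range f).subtype)
      (ModuleCat.ofHom (LinearMap.range f).mkQ) (by
      ext m
      simp)
  have hS₂ : S₂.ShortExact := by
    refine ModuleCat.shortComplex_shortExact S₂ ?_ (Submodule.subtype_injective _)
      (Submodule.mkQ_surjective _)
    rw [LinearMap.exact_iff]
    show LinearMap.ker (LinearMap.range f).mkQ = LinearMap.range (LinearMap.range f).subtype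
    rw [Submodule.ker_mkQ, Submodule.range_subtype]
  set P := Koszul.koszul A l with hP
  have h₁ := G_shortExact P (flat_koszul l) S₁ hS₁
  have h₂ := G_shortExact P (flat_koszul l) S₂ hS₂
  have hcomp : S₁.g ≫ S₂.f = x • 𝟙 (ModuleCat.of A M) := by
    ext m
    rfl
  have hφ : (G P).map S₁.g ≫ (G P).map S₂.f = x • 𝟙 (KM l M) := by
    rw [← Functor.map_comp, hcomp, G_map_smul]
    rfl
  have key := chiC_cone ((G P).map S₁.f) ((G P).map S₁.g) ((G P).map S₂.f) ((G P).map S₂.g)
    (S₁.map (G P)).zero (S₂.map (G P)).zero h₁ h₂ (x • 𝟙 (KM l M)) hφ h1 h2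
  have e : KM (x :: l) M ≅ mappingCone (x • 𝟙 (KM l M)) := coneIso P x (ModuleCat.of A M)
  refine ⟨NiceC.of_iso e.symm key.1, ?_⟩
  unfold chiK
  rw [chiC_of_iso e]
  exact key.2

end Modules

end Groth.Agent.Lib.Helper2.KosChi2
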