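import Mathlib

set_option autoImplicit false
universe u
open Filter

namespace Groth.Agent.Lib.Helper2.MultBound

variable {R : Type u} [CommRing R]

theorem sup_pow_succ_le (x : R) (J : Ideal R) (n : ℕ) :
    (Ideal.span {x} ⊔ J) ^ (n + 1) ≤ Ideal.span {x} * (Ideal.span {x} ⊔ J) ^ n ⊔ J ^ (n + 1) := by
  induction n with
  | zero => simp
  | succ n ih =>
    set I := Ideal.span {x} ⊔ J with hI
    have h1 : I ^ (n + 1 + 1) = Ideal.span {x} * I ^ (n + 1) ⊔ J * I ^ (n + 1) := by
      rw [pow_succ' I (n + 1)]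
      conv_lhs => rw [hI, Ideal.sup_mul]
    rw [h1]
    apply sup_le le_sup_left
    calc J * I ^ (n + 1) ≤ J * (Ideal.span {x} * I ^ n ⊔ J ^ (n + 1)) := Ideal.mul_mono_right ih
      _ = Ideal.span {x} * (J * I ^ n) ⊔ J ^ (n + 1 + 1) := by
        rw [Ideal.mul_sup, ← mul_assoc, mul_comm J (Ideal.span {x}), mul_assoc, ← pow_succ' J (n + 1)]
      _ ≤ Ideal.span {x} * I ^ (n + 1) ⊔ J ^ (n + 1 + 1) := by
        apply sup_le_sup_right
        apply Ideal.mul_mono_right
        rw [pow_succ' I n]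
        exact Ideal.mul_mono_left le_sup_right

theorem sup_pow_succ_eq (x : R) (J : Ideal R) (n : ℕ) :
    (Ideal.span {x} ⊔ J) ^ (n + 1) = Ideal.span {x} * (Ideal.span {x} ⊔ J) ^ n ⊔ J ^ (n + 1) := by
  apply le_antisymm (sup_pow_succ_le x J n)
  apply sup_le
  · rw [pow_succ' _ n]
    exact Ideal.mul_mono_left le_sup_left
  · exact Ideal.pow_right_mono le_sup_right _

theorem exists_gens : ∀ (d : ℕ) (g : Fin d → R) (n : ℕ), ∃ T : Finset R,
    T.card ≤ Nat.multichoose d n ∧ Ideal.span (T : Set R) = Ideal.span (Set.range g) ^ n := by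
  classical
  intro d
  induction d with
  | zero =>
    intro g n
    have h0 : Ideal.span (Set.range g) = ⊥ := by
      rw [Set.range_eq_empty, Ideal.span_empty]
    cases n with
    | zero => exact ⟨{1}, by simp, by simp⟩
    | succ n => exact ⟨∅, by simp, by rw [h0]; simp⟩
  | succ d ihd =>
    intro g n
    have hg : Ideal.span (Set.range g) = Ideal.span {g 0} ⊔ Ideal.span (Set.range (Fin.tail g)) := by
      rw [← Ideal.span_union, ← Set.insert_eq, ← Fin.range_cons, Fin.cons_self_tail]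
    induction n with
    | zero => exact ⟨{1}, by simp, by simp⟩
    | succ n ihn =>
      obtain ⟨T1, hT1c, hT1⟩ := ihn
      obtain ⟨T2, hT2c, hT2⟩ := ihd (Fin.tail g) (n + 1)
      refine ⟨T1.image (fun y => g 0 * y) ∪ T2, ?_, ?_⟩
      · rw [Nat.multichoose_succ_succ]
        calc (T1.image (fun y => g 0 * y) ∪ T2).card
            ≤ (T1.image (fun y => g 0 * y)).card + T2.card := Finset.card_union_le _ _
          _ ≤ T1.card + T2.card := Nat.add_le_add_right Finset.card_image_le _
          _ ≤ _ := by omega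
      · rw [Finset.coe_union, Ideal.span_union, hT2, Finset.coe_image]
        conv_rhs => rw [hg, sup_pow_succ_eq, ← hg, ← hT1]
        congr 1
        rw [Ideal.span_mul_span', Set.singleton_mul]

theorem length_ker_le (I K K' : Ideal R) (hK'K : K' ≤ K) (hIK : I * K ≤ K') (T : Finset R)
    (hT : Ideal.span (T : Set R) = K) :
    Module.length R (LinearMap.ker (Submodule.mapQ K' K LinearMap.id hK'K)) ≤
      (T.card : ℕ∞) * Module.length R (R ⧸ I) := by
  classical
  have hTK : ∀ τ : T, (τ : R) ∈ K := fun τ => hT ▸ Ideal.subset_span τ.2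
  let lft : T → (R ⧸ I) →ₗ[R] (R ⧸ K') := fun τ =>
    Submodule.liftQ I (K'.mkQ ∘ₗ LinearMap.mulRight R (τ : R)) (by
      intro r hr
      rw [LinearMap.mem_ker, LinearMap.comp_apply, LinearMap.mulRight_apply, Submodule.mkQ_apply,
        Submodule.Quotient.mk_eq_zero]
      exact hIK (Ideal.mul_mem_mul hr (hTK τ)))
  let Φ : (T → R ⧸ I) →ₗ[R] (R ⧸ K') := ∑ τ : T, (lft τ) ∘ₗ (LinearMap.proj τ)
  have hle : LinearMap.ker (Submodule.mapQ K' K LinearMap.id hK'K) ≤ LinearMap.range Φ := by
    intro z hz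
    obtain ⟨y, rfl⟩ := K'.mkQ_surjective z
    rw [LinearMap.mem_ker, Submodule.mkQ_apply, Submodule.mapQ_apply, LinearMap.id_apply,
      Submodule.Quotient.mk_eq_zero, ← hT] at hz
    obtain ⟨c, hc⟩ := Submodule.mem_span_finset'.1 hz
    refine ⟨fun τ => Submodule.Quotient.mk (c τ), ?_⟩
    simp only [Φ, LinearMap.sum_apply, LinearMap.comp_apply, LinearMap.proj_apply, lft,
      Submodule.liftQ_apply, LinearMap.mulRight_apply, Submodule.mkQ_apply]
    rw [← hc, ← Submodule.mkQ_apply, map_sum]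
    rfl
  calc Module.length R (LinearMap.ker (Submodule.mapQ K' K LinearMap.id hK'K))
      ≤ Module.length R (LinearMap.range Φ) :=
        Module.length_le_of_injective (Submodule.inclusion hle) (Submodule.inclusion_injective hle)
    _ ≤ Module.length R (T → R ⧸ I) :=
        Module.length_le_of_surjective Φ.rangeRestrict Φ.surjective_rangeRestrict
    _ = (T.card : ℕ∞) * Module.length R (R ⧸ I) := by
        rw [Module.length_pi, ENat.card_eq_coe_fintype_card, Fintype.card_coe]

theorem length_quot_pow_le {d : ℕ} (g : Fin d → R) (n : ℕ) :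
    Module.length R (R ⧸ Ideal.span (Set.range g) ^ n) ≤
      ((∑ k ∈ Finset.range n, Nat.multichoose d k : ℕ) : ℕ∞) *
        Module.length R (R ⧸ Ideal.span (Set.range g)) := by
  set I := Ideal.span (Set.range g) with hI
  induction n with
  | zero =>
    have : Subsingleton (R ⧸ I ^ 0) := by
      rw [pow_zero, Ideal.one_eq_top]
      exact Submodule.Quotient.subsingleton_iff.2 (by simp)
    rw [Module.length_eq_zero]
    exact zero_le
  | succ n ih =>
    have hle : I ^ (n + 1) ≤ I ^ n := Ideal.pow_le_pow_right (Nat.le_succ n)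
    obtain ⟨T, hTc, hT⟩ := exists_gens d g n
    have h1 := Module.length_eq_add_of_exact
      (LinearMap.ker (Submodule.mapQ (I ^ (n + 1)) (I ^ n) LinearMap.id hle)).subtype
      (Submodule.mapQ (I ^ (n + 1)) (I ^ n) LinearMap.id hle)
      (Submodule.subtype_injective _)
      (by
        intro z
        obtain ⟨y, rfl⟩ := (I ^ n).mkQ_surjective z
        exact ⟨(I ^ (n + 1)).mkQ y, rfl⟩)
      (LinearMap.exact_subtype_ker_map _)
    have h2 := length_ker_le I (I ^ n) (I ^ (n + 1)) hle (by rw [pow_succ' I n]) T hT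
    rw [h1, Finset.sum_range_succ, Nat.cast_add, add_mul, add_comm]
    apply add_le_add ih
    refine h2.trans ?_
    gcongr


theorem sum_multichoose (d n : ℕ) :
    ∑ k ∈ Finset.range (n + 1), Nat.multichoose d k = Nat.multichoose (d + 1) n := by
  induction n with
  | zero => simp
  | succ n ih => rw [Finset.sum_range_succ, ih, Nat.multichoose_succ_succ, add_comm]

theorem factorial_mul_sum_le (d n : ℕ) :
    d.factorial * ∑ k ∈ Finset.range n, Nat.multichoose d k ≤ (n + d) ^ d := by
  cases n with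
  | zero => simp
  | succ m =>
    rw [sum_multichoose, Nat.multichoose_eq]
    have h1 : d + 1 + m - 1 = m + d := by omega
    rw [h1, Nat.choose_symm_add, ← Nat.descFactorial_eq_factorial_mul_choose]
    exact (Nat.descFactorial_le_pow _ _).trans (Nat.pow_le_pow_left (by omega) _)

theorem tendsto_bound (d : ℕ) (L : ℝ) :
    Tendsto (fun n : ℕ => L * (1 + (d : ℝ) / (n : ℝ)) ^ d) atTop (nhds L) := by
  have h1 : Tendsto (fun n : ℕ => (d : ℝ) / (n : ℝ)) atTop (nhds 0) :=
    tendsto_const_div_atTop_nhds_zero_nat _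
  have h2 : Tendsto (fun n : ℕ => (1 + (d : ℝ) / (n : ℝ)) ^ d) atTop (nhds ((1 + 0) ^ d)) :=
    (h1.const_add 1).pow d
  have h3 := h2.const_mul L
  simpa using h3

theorem mult_le {d : ℕ} (g : Fin d → R) (e : ℕ)
    (he : Tendsto (fun n : ℕ => (d.factorial : ℝ) *
      ((Module.length R (R ⧸ Ideal.span (Set.range g) ^ n)).toNat : ℝ) / (n : ℝ) ^ d)
      atTop (nhds (e : ℝ))) :
    (e : ℕ∞) ≤ Module.length R (R ⧸ Ideal.span (Set.range g)) := by
  by_cases hL : Module.length R (R ⧸ Ideal.span (Set.range g)) = ⊤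
  · rw [hL]; exact le_top
  obtain ⟨L₀, hL₀⟩ := ENat.ne_top_iff_exists.1 hL
  rw [← hL₀]
  have hbound : ∀ n : ℕ, (Module.length R (R ⧸ Ideal.span (Set.range g) ^ n)).toNat ≤
      (∑ k ∈ Finset.range n, Nat.multichoose d k) * L₀ := by
    intro n
    have h := length_quot_pow_le g n
    rw [← hL₀, ← Nat.cast_mul] at h
    exact ENat.toNat_le_of_le_coe h
  have hreal : (e : ℝ) ≤ (L₀ : ℝ) := by
    refine le_of_tendsto_of_tendsto he (tendsto_bound d L₀) ?_
    rw [EventuallyLE, eventually_atTop]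
    refine ⟨1, fun n hn => ?_⟩
    have hn0 : (0 : ℝ) < n := by exact_mod_cast hn
    have hnd : (0 : ℝ) < (n : ℝ) ^ d := pow_pos hn0 d
    rw [div_le_iff₀ hnd]
    have h1 : (1 + (d : ℝ) / (n : ℝ)) ^ d * (n : ℝ) ^ d = ((n : ℝ) + d) ^ d := by
      rw [← mul_pow]
      congr 1
      field_simp
    rw [mul_assoc, h1]
    have h2 : (d.factorial : ℝ) * ((Module.length R (R ⧸ Ideal.span (Set.range g) ^ n)).toNat : ℝ)
        ≤ (d.factorial : ℝ) * (((∑ k ∈ Finset.range n, Nat.multichoose d k) * L₀ : ℕ) : ℝ) := by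
      apply mul_le_mul_of_nonneg_left _ (Nat.cast_nonneg _)
      exact_mod_cast hbound n
    refine h2.trans ?_
    have h3 : ((d.factorial * ∑ k ∈ Finset.range n, Nat.multichoose d k : ℕ) : ℝ) ≤
        (((n + d) ^ d : ℕ) : ℝ) := by exact_mod_cast factorial_mul_sum_le d n
    push_cast at h3 ⊢
    calc (d.factorial : ℝ) * ((∑ k ∈ Finset.range n, (Nat.multichoose d k : ℝ)) * L₀)
        = ((d.factorial : ℝ) * ∑ k ∈ Finset.range n, (Nat.multichoose d k : ℝ)) * L₀ := by ring
      _ ≤ ((n : ℝ) + d) ^ d * L₀ := mul_le_mul_of_nonneg_right h3 (Nat.cast_nonneg _)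
      _ = L₀ * ((n : ℝ) + d) ^ d := by ring
  exact_mod_cast hreal

end Groth.Agent.Lib.Helper2.MultBound
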