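import Mathlib
import Groth.Agent.Lib.Helper2.HilbSamuel
import Groth.Agent.Lib.Helper2.SamuelI
import Groth.Agent.Lib.Helper7.SupportDimParams

set_option autoImplicit false
universe u v w

namespace Groth.Agent.Lib.Helper2.SamuelDim

open Groth.Agent.Lib.Helper2.HilbSamuel Groth.Agent.Lib.Helper2.SamuelI
open Filter

section Degree

variable {A : Type u} [CommRing A] [IsNoetherianRing A] [Finite (MaximalSpectrum A)]

theorem HS.natDegree_le_supportDim {M : Type v} [AddCommGroup M] [Module A M] [Module.Finite A M]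
    {P : Polynomial ℚ} (hP : HS A M P) (d : ℕ) (hd : Module.supportDim A M ≤ d) :
    P.natDegree ≤ d := by
  obtain ⟨l, hlen, hl, hfl⟩ :=
    Groth.Agent.Lib.Helper7.SuppDimParams.exists_list_of_supportDim_le d M hd
  have := HS.natDegree_le_length l hl M P hP hfl
  rwa [hlen] at this

theorem HS.supportDim_le_natDegree {M : Type u} [AddCommGroup M] [Module A M] [Module.Finite A M]
    {P : Polynomial ℚ} (hP : HS A M P) : Module.supportDim A M ≤ (P.natDegree : WithBot ℕ∞) := by
  unfold Module.supportDim Order.krullDim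
  apply iSup_le
  intro p
  have := HS.le_natDegree_of_chain p.length M P hP (fun i => (p i).1)
    (fun i j hij => p.strictMono hij) (fun i => (p i).2)
  exact_mod_cast this

end Degree

section Limits

/-- a polynomial of degree `< d` evaluated at `N₀ t` is `o(t^d)`. -/
theorem tendsto_eval_div_pow_zero (P : Polynomial ℚ) (d N₀ : ℕ) (hP : P.natDegree < d) (c : ℝ) :
    Tendsto (fun t : ℕ => c * ((P.eval (((N₀ * t : ℕ) : ℚ)) : ℚ) : ℝ) / (t : ℝ) ^ d) atTop (nhds 0) := by
  set Q : Polynomial ℝ := (P.comp (Polynomial.C (N₀ : ℚ) * Polynomial.X)).map (algebraMap ℚ ℝ)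
    with hQ
  have hQdeg : Q.degree < (Polynomial.X ^ d : Polynomial ℝ).degree := by
    rw [Polynomial.degree_X_pow]
    refine lt_of_le_of_lt (Polynomial.degree_le_natDegree) ?_
    have h1 : Q.natDegree ≤ P.natDegree := by
      refine (Polynomial.natDegree_map_le).trans ?_
      refine (Polynomial.natDegree_comp_le).trans ?_
      have : (Polynomial.C (N₀ : ℚ) * Polynomial.X).natDegree ≤ 1 := by
        refine (Polynomial.natDegree_C_mul_le _ _).trans ?_
        exact Polynomial.natDegree_X_le
      calc P.natDegree * (Polynomial.C (N₀ : ℚ) * Polynomial.X).natDegree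
          ≤ P.natDegree * 1 := Nat.mul_le_mul_left _ this
        _ = P.natDegree := mul_one _
    exact_mod_cast lt_of_le_of_lt h1 hP
  have h1 := Polynomial.div_tendsto_zero_of_degree_lt Q (Polynomial.X ^ d) hQdeg
  have h2 : Tendsto (fun t : ℕ => Polynomial.eval (t : ℝ) Q / Polynomial.eval (t : ℝ) (Polynomial.X ^ d))
      atTop (nhds 0) := h1.comp tendsto_natCast_atTop_atTop
  have h3 := h2.const_mul c
  rw [mul_zero] at h3
  refine h3.congr (fun t => ?_)
  have e1 : Polynomial.eval (t : ℝ) Q = ((P.eval (((N₀ * t : ℕ) : ℚ)) : ℚ) : ℝ) := by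
    rw [hQ]
    have : (t : ℝ) = algebraMap ℚ ℝ (t : ℚ) := by simp
    rw [this, Polynomial.eval_map_algebraMap, Polynomial.aeval_algebraMap_apply,
      Polynomial.aeval_def, Algebra.algebraMap_self, Polynomial.eval₂_id, Polynomial.eval_comp]
    simp
  rw [e1, Polynomial.eval_pow, Polynomial.eval_X]
  ring

end Limits

end Groth.Agent.Lib.Helper2.SamuelDim
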