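import Mathlib
import Groth.Agent.Lib.Helper2.RelLength
import Groth.Agent.Lib.Helper2.MultBound
import Groth.Agent.Lib.Helper2.SamuelDim

/-!
# The Hilbert function of a regular local ring

`ℓ(A/𝔪^i) = C(i+d-1, d)` for a regular local ring of dimension `d` (Atiyah–Macdonald 11.20–11.22),
via: monomial generator count (upper bound), and propagation of a deficiency through the
division algorithm `MonomialOrder.div_single`, contradicting `deg (Hilbert–Samuel) = dim`.
-/

set_option autoImplicit false
set_option linter.style.haveILetI false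
universe u v w

namespace Groth.Agent.Lib.Helper2.RegHilb

open Groth.Agent.Lib.Helper2.RelLength

section LinComb

variable {A : Type u} [CommRing A] {N : Type v} [AddCommGroup N] [Module A N]
  {ι : Type w} [Fintype ι]

/-- length of `(ι → A) ⧸ I^ι`. -/
theorem length_quot_pi [DecidableEq ι] (I : Ideal A) :
    Module.length A ((ι → A) ⧸ Submodule.pi Set.univ (fun _ : ι => I)) =
      (Fintype.card ι : ℕ∞) * Module.length A (A ⧸ I) := by
  rw [(Submodule.quotientPi (fun _ : ι => I)).length_eq, Module.length_pi_of_fintype]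
  simp

theorem rl_comap_top (y : ι → N) (P : Submodule A N) :
    Module.length A ((ι → A) ⧸ P.comap (Fintype.linearCombination A y)) =
      rl P (P ⊔ Submodule.span A (Set.range y)) := by
  rw [← rl_top_eq, rl_iso, Submodule.map_top, Fintype.range_linearCombination]

/-- upper bound: `K/P` generated by the `y i` and killed by `I`. -/
theorem rl_le_card [DecidableEq ι] (y : ι → N) (P K : Submodule A N) (I : Ideal A) (hPK : P ≤ K)
    (hK : K ≤ P ⊔ Submodule.span A (Set.range y)) (hI : ∀ a ∈ I, ∀ i, a • y i ∈ P) :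
    rl P K ≤ (Fintype.card ι : ℕ∞) * Module.length A (A ⧸ I) := by
  have h1 : rl P K ≤ rl P (P ⊔ Submodule.span A (Set.range y)) := rl_le_of_le_right hPK hK
  refine h1.trans ?_
  rw [← rl_comap_top, ← length_quot_pi]
  have hle : Submodule.pi Set.univ (fun _ : ι => I) ≤
      P.comap (Fintype.linearCombination A y) := by
    intro c hc
    rw [Submodule.mem_comap, Fintype.linearCombination_apply]
    apply Submodule.sum_mem
    intro i _
    exact hI _ ((Submodule.mem_pi.1 hc) i (Set.mem_univ _)) i
  exact Module.length_le_of_surjective (Submodule.factor hle) (Submodule.factor_surjective hle)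

/-- lower bound: if the only relations mod `P` have coefficients in `I`, then `ℓ(K/P) ≥ #ι·ℓ(A/I)`. -/
theorem card_le_rl [DecidableEq ι] (y : ι → N) (P K : Submodule A N) (I : Ideal A) (hPK : P ≤ K)
    (hy : ∀ i, y i ∈ K)
    (hrel : ∀ c : ι → A, (∑ i, c i • y i) ∈ P → ∀ i, c i ∈ I) :
    (Fintype.card ι : ℕ∞) * Module.length A (A ⧸ I) ≤ rl P K := by
  have hK : P ⊔ Submodule.span A (Set.range y) ≤ K :=
    sup_le hPK (Submodule.span_le.2 (by rintro _ ⟨i, rfl⟩; exact hy i))
  have h1 : rl P (P ⊔ Submodule.span A (Set.range y)) ≤ rl P K := rl_le_of_le_right le_sup_left hK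
  refine le_trans ?_ h1
  rw [← rl_comap_top, ← length_quot_pi]
  have hle : P.comap (Fintype.linearCombination A y) ≤
      Submodule.pi Set.univ (fun _ : ι => I) := by
    intro c hc
    rw [Submodule.mem_comap, Fintype.linearCombination_apply] at hc
    rw [Submodule.mem_pi]
    intro i _
    exact hrel c hc i
  exact Module.length_le_of_surjective (Submodule.factor hle) (Submodule.factor_surjective hle)

end LinComb

section Poly

open MvPolynomial

variable {A : Type u} [CommRing A]

theorem homogeneousComponent_mul_of_isHomogeneous {σ : Type*} (g F : MvPolynomial σ A) {s n : ℕ}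
    (hF : F.IsHomogeneous s) (hsn : s ≤ n) :
    homogeneousComponent n (g * F) = homogeneousComponent (n - s) g * F := by
  induction g using MvPolynomial.induction_on' with
  | monomial a c =>
    have h1 : (monomial a c * F).IsHomogeneous (a.degree + s) :=
      (isHomogeneous_monomial c rfl).mul hF
    rw [homogeneousComponent_of_mem h1, homogeneousComponent_of_mem (isHomogeneous_monomial c rfl)]
    by_cases h : n = a.degree + s
    · rw [if_pos h, if_pos (by omega)]
    · rw [if_neg h, if_neg (by omega), zero_mul]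
  | add p q hp hq => rw [add_mul, map_add, map_add, hp, hq, add_mul]

/-- the value of a monomial. -/
noncomputable def mon {σ : Type*} (x : σ → A) (β : σ →₀ ℕ) : A := β.prod (fun i k => x i ^ k)

theorem eval_mem_span {σ : Type*} (x : σ → A) (r : MvPolynomial σ A) (B : Finset (σ →₀ ℕ))
    (hB : ∀ c ∈ r.support, c ∈ B) :
    eval x r ∈ Ideal.span ((fun β => mon x β) '' (B : Set (σ →₀ ℕ))) := by
  have h0 : eval x r = ∑ v ∈ r.support, eval x (monomial v (coeff v r)) := by
    conv_lhs => rw [r.as_sum]
    rw [map_sum]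
  rw [h0]
  apply Ideal.sum_mem
  intro c hc
  rw [eval_monomial]
  exact Ideal.mul_mem_left _ _ (Ideal.subset_span ⟨c, hB c hc, rfl⟩)

variable {d : ℕ}

/-- exponent vectors of degree `n`. -/
noncomputable def Mn (d n : ℕ) : Finset (Fin d →₀ ℕ) :=
  (Finset.univ : Finset (Fin d)).finsuppAntidiag n

theorem mem_Mn {β : Fin d →₀ ℕ} {n : ℕ} : β ∈ Mn d n ↔ β.degree = n := by
  unfold Mn
  rw [Finset.mem_finsuppAntidiag, Finsupp.degree_eq_sum]
  simp

theorem card_Mn (n : ℕ) : (Mn d n).card = Nat.multichoose d n := by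
  unfold Mn
  rw [Finset.card_finsuppAntidiag_nat_eq_multichoose]
  simp

/-- exponent vectors of degree `n` not divisible by `α₀`. -/
noncomputable def Bn (α₀ : Fin d →₀ ℕ) (n : ℕ) : Finset (Fin d →₀ ℕ) :=
  (Mn d n).filter (fun β => ¬ α₀ ≤ β)

theorem card_Bn (α₀ : Fin d →₀ ℕ) (s n : ℕ) (hα : α₀.degree = s) (hsn : s ≤ n) :
    (Bn α₀ n).card + Nat.multichoose d (n - s) = Nat.multichoose d n := by
  classical
  have h1 := Finset.card_filter_add_card_filter_not (s := Mn d n) (fun β => α₀ ≤ β)
  have h2 : ((Mn d n).filter (fun β => α₀ ≤ β)).card = (Mn d (n - s)).card := by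
    apply Finset.card_nbij' (fun β => β - α₀) (fun δ => δ + α₀)
    · intro β hβ
      rw [Finset.mem_coe, Finset.mem_filter, mem_Mn] at hβ
      beta_reduce
      rw [Finset.mem_coe, mem_Mn]
      have h3 : (β - α₀) + α₀ = β := tsub_add_cancel_of_le hβ.2
      have h4 : (β - α₀).degree + α₀.degree = β.degree := by rw [← map_add, h3]
      omega
    · intro δ hδ
      rw [Finset.mem_coe, mem_Mn] at hδ
      beta_reduce
      rw [Finset.mem_coe, Finset.mem_filter, mem_Mn, map_add]
      exact ⟨by omega, le_add_self⟩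
    · intro β hβ
      rw [Finset.mem_coe, Finset.mem_filter] at hβ
      exact tsub_add_cancel_of_le hβ.2
    · intro δ _
      exact add_tsub_cancel_right δ α₀
  unfold Bn
  rw [card_Mn] at h1 h2
  omega

theorem mon_mem_pow (x : Fin d → A) (β : Fin d →₀ ℕ) :
    mon x β ∈ Ideal.span (Set.range x) ^ β.degree := by
  rw [Ideal.mem_span_pow_iff_exists_isHomogeneous]
  refine ⟨monomial β 1, isHomogeneous_monomial 1 rfl, ?_⟩
  rw [eval_monomial, one_mul]
  rfl

theorem support_subset_Mn {p : MvPolynomial (Fin d) A} {n : ℕ} (hp : p.IsHomogeneous n) :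
    ∀ c ∈ p.support, c ∈ Mn d n := by
  intro c hc
  rw [mem_Mn, Finsupp.degree_eq_weight_one]
  exact (hp (mem_support_iff.1 hc))

theorem pow_eq_span_mon (x : Fin d → A) (n : ℕ) :
    Ideal.span (Set.range x) ^ n = Ideal.span ((fun β => mon x β) '' (Mn d n : Set (Fin d →₀ ℕ))) := by
  apply le_antisymm
  · intro y hy
    rw [Ideal.mem_span_pow_iff_exists_isHomogeneous] at hy
    obtain ⟨p, hp, rfl⟩ := hy
    exact eval_mem_span x p (Mn d n) (support_subset_Mn hp)
  · rw [Ideal.span_le]
    rintro _ ⟨β, hβ, rfl⟩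
    have := mon_mem_pow x β
    rw [mem_Mn.1 hβ] at this
    exact this

theorem eval_mem_of_div (x : Fin d → A) (b : MvPolynomial (Fin d) A) (s : ℕ)
    (hb : b.IsHomogeneous s) (hu : IsUnit (MonomialOrder.lex.leadingCoeff b))
    (hbx : eval x b ∈ Ideal.span (Set.range x) ^ (s + 1))
    (n : ℕ) (hsn : s ≤ n) (p : MvPolynomial (Fin d) A) (hp : p.IsHomogeneous n) :
    eval x p ∈ Ideal.span ((fun β => mon x β) ''
        (Bn (MonomialOrder.lex.degree b) n : Set (Fin d →₀ ℕ))) ⊔
      Ideal.span (Set.range x) ^ (n + 1) := by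
  classical
  obtain ⟨g, r, hgr, -, hr⟩ := MonomialOrder.div_single hu p
  have h1 : p = homogeneousComponent (n - s) g * b + homogeneousComponent n r := by
    have := congrArg (homogeneousComponent n) hgr
    rw [homogeneousComponent_eq_self hp, map_add,
      homogeneousComponent_mul_of_isHomogeneous g b hb hsn] at this
    exact this
  rw [h1, map_add, map_mul,
    add_comm (eval x (homogeneousComponent (n - s) g) * eval x b)]
  apply Submodule.add_mem_sup
  · apply eval_mem_span
    intro c hc
    rw [support_homogeneousComponent, Finset.mem_filter] at hc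
    unfold Bn
    rw [Finset.mem_filter, mem_Mn]
    exact ⟨hc.2, hr c hc.1⟩
  · have h2 : eval x (homogeneousComponent (n - s) g) ∈ Ideal.span (Set.range x) ^ (n - s) := by
      rw [Ideal.mem_span_pow_iff_exists_isHomogeneous]
      exact ⟨_, homogeneousComponent_isHomogeneous _ _, rfl⟩
    have h3 : n + 1 = (n - s) + (s + 1) := by omega
    rw [h3, pow_add]
    exact Ideal.mul_mem_mul h2 hbx

end Poly

section Local

open MvPolynomial

variable {A : Type u} [CommRing A] [IsLocalRing A] {d : ℕ} (x : Fin d → A)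
  (hx : Ideal.span (Set.range x) = IsLocalRing.maximalIdeal A)

theorem length_residue : Module.length A (A ⧸ IsLocalRing.maximalIdeal A) = 1 := by
  rw [Module.length_eq_one_iff, isSimpleModule_iff_isCoatom, ← Ideal.isMaximal_def]
  infer_instance

variable (A) in
/-- the Hilbert function `ℓ(𝔪ⁿ/𝔪ⁿ⁺¹)`. -/
noncomputable def H (n : ℕ) : ℕ∞ :=
  rl (IsLocalRing.maximalIdeal A ^ (n + 1)) (IsLocalRing.maximalIdeal A ^ n)

theorem range_mon (S : Finset (Fin d →₀ ℕ)) :
    Set.range (fun β : ↥S => mon x β.1) = (fun β => mon x β) '' (S : Set (Fin d →₀ ℕ)) := by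
  ext z
  constructor
  · rintro ⟨β, rfl⟩
    exact ⟨β.1, β.2, rfl⟩
  · rintro ⟨β, hβ, rfl⟩
    exact ⟨⟨β, hβ⟩, rfl⟩

include hx in
theorem smul_mon_mem (n : ℕ) (a : A) (ha : a ∈ IsLocalRing.maximalIdeal A) (β : Fin d →₀ ℕ)
    (hβ : β ∈ Mn d n) : a • mon x β ∈ IsLocalRing.maximalIdeal A ^ (n + 1) := by
  rw [pow_succ', smul_eq_mul]
  apply Ideal.mul_mem_mul ha
  have := mon_mem_pow x β
  rwa [mem_Mn.1 hβ, hx] at this

include hx in
theorem H_le (n : ℕ) : H A n ≤ (Nat.multichoose d n : ℕ∞) := by
  classical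
  have h := rl_le_card (ι := ↥(Mn d n)) (fun β => mon x β.1)
    (IsLocalRing.maximalIdeal A ^ (n + 1)) (IsLocalRing.maximalIdeal A ^ n)
    (IsLocalRing.maximalIdeal A) (Ideal.pow_le_pow_right (Nat.le_succ n))
    (by
      refine le_trans ?_ le_sup_right
      rw [range_mon, ← hx, pow_eq_span_mon])
    (fun a ha β => smul_mon_mem x hx n a ha β.1 β.2)
  rw [length_residue, mul_one, Fintype.card_coe, card_Mn] at h
  exact h

include hx in
theorem exists_relation (s : ℕ) (hdef : H A s < (Nat.multichoose d s : ℕ∞)) :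
    ∃ b : MvPolynomial (Fin d) A, b.IsHomogeneous s ∧
      IsUnit (MonomialOrder.lex.leadingCoeff b) ∧
      eval x b ∈ IsLocalRing.maximalIdeal A ^ (s + 1) ∧
      (MonomialOrder.lex.degree b).degree = s := by
  classical
  have hex : ∃ c : ↥(Mn d s) → A,
      (∑ β, c β • mon x β.1) ∈ IsLocalRing.maximalIdeal A ^ (s + 1) ∧
        ∃ β, c β ∉ IsLocalRing.maximalIdeal A := by
    by_contra hcon
    push Not at hcon
    have h := card_le_rl (ι := ↥(Mn d s)) (fun β => mon x β.1)
      (IsLocalRing.maximalIdeal A ^ (s + 1)) (IsLocalRing.maximalIdeal A ^ s)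
      (IsLocalRing.maximalIdeal A) (Ideal.pow_le_pow_right (Nat.le_succ s))
      (fun β => by
        have := mon_mem_pow x β.1
        rwa [mem_Mn.1 β.2, hx] at this)
      hcon
    rw [length_residue, mul_one, Fintype.card_coe, card_Mn] at h
    exact absurd hdef (not_lt.2 h)
  obtain ⟨c, hc, β₀, hβ₀⟩ := hex
  set c' : ↥(Mn d s) → A := fun β => if c β ∈ IsLocalRing.maximalIdeal A then 0 else c β with hc'
  set b : MvPolynomial (Fin d) A := ∑ β : ↥(Mn d s), monomial β.1 (c' β) with hb
  have hhom : b.IsHomogeneous s := by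
    apply IsHomogeneous.sum
    intro β _
    exact isHomogeneous_monomial _ (mem_Mn.1 β.2)
  have hcoeff : ∀ γ : ↥(Mn d s), coeff γ.1 b = c' γ := by
    intro γ
    rw [hb, coeff_sum, Finset.sum_eq_single γ]
    · rw [coeff_monomial, if_pos rfl]
    · intro β _ hβγ
      rw [coeff_monomial, if_neg]
      intro h
      exact hβγ (Subtype.ext h)
    · intro h
      exact absurd (Finset.mem_univ _) h
  have hunit : ∀ γ : Fin d →₀ ℕ, coeff γ b ≠ 0 → IsUnit (coeff γ b) := by
    intro γ hγ
    have hγM : γ ∈ Mn d s := support_subset_Mn hhom γ (mem_support_iff.2 hγ)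
    have h1 := hcoeff ⟨γ, hγM⟩
    rw [h1] at hγ ⊢
    simp only [hc'] at hγ ⊢
    split_ifs at hγ ⊢ with h2
    · exact absurd rfl hγ
    · by_contra h3
      exact h2 ((IsLocalRing.mem_maximalIdeal _).2 h3)
  have hb0 : b ≠ 0 := by
    intro h
    have h1 := hcoeff β₀
    rw [h, coeff_zero] at h1
    simp only [hc', if_neg hβ₀] at h1
    rw [← h1] at hβ₀
    exact hβ₀ (Ideal.zero_mem _)
  refine ⟨b, hhom, ?_, ?_, ?_⟩
  · apply hunit
    exact MonomialOrder.coeff_degree_ne_zero_iff.2 hb0
  · have h1 : eval x b = ∑ β : ↥(Mn d s), c' β * mon x β.1 := by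
      rw [hb, map_sum]
      apply Finset.sum_congr rfl
      intro β _
      rw [eval_monomial]
      rfl
    have h2 : eval x b - ∑ β : ↥(Mn d s), c β • mon x β.1 ∈
        IsLocalRing.maximalIdeal A ^ (s + 1) := by
      rw [h1, ← Finset.sum_sub_distrib]
      apply Ideal.sum_mem
      intro β _
      rw [smul_eq_mul, ← sub_mul]
      have h3 : c' β - c β ∈ IsLocalRing.maximalIdeal A := by
        simp only [hc']
        split_ifs with h4
        · rw [zero_sub]; exact neg_mem h4
        · rw [sub_self]; exact Ideal.zero_mem _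
      exact smul_mon_mem x hx s _ h3 β.1 β.2
    exact (Submodule.sub_mem_iff_left _ hc).1 h2
  · exact mem_Mn.1 (support_subset_Mn hhom _ (MonomialOrder.degree_mem_support hb0))

include hx in
theorem H_le_of_relation (b : MvPolynomial (Fin d) A) (s : ℕ) (hb : b.IsHomogeneous s)
    (hu : IsUnit (MonomialOrder.lex.leadingCoeff b))
    (hbx : eval x b ∈ IsLocalRing.maximalIdeal A ^ (s + 1))
    (n : ℕ) (hsn : s ≤ n) :
    H A n ≤ ((Bn (MonomialOrder.lex.degree b) n).card : ℕ∞) := by
  classical
  have h := rl_le_card (ι := ↥(Bn (MonomialOrder.lex.degree b) n)) (fun β => mon x β.1)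
    (IsLocalRing.maximalIdeal A ^ (n + 1)) (IsLocalRing.maximalIdeal A ^ n)
    (IsLocalRing.maximalIdeal A) (Ideal.pow_le_pow_right (Nat.le_succ n))
    (by
      intro z hz
      rw [← hx, Ideal.mem_span_pow_iff_exists_isHomogeneous] at hz
      obtain ⟨p, hp, rfl⟩ := hz
      have := eval_mem_of_div x b s hb hu (by rw [hx]; exact hbx) n hsn p hp
      rw [range_mon, sup_comm, ← hx]
      exact this)
    (fun a ha β => smul_mon_mem x hx n a ha β.1 (Finset.mem_filter.1 β.2).1)
  rw [length_residue, mul_one, Fintype.card_coe] at h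
  exact h

theorem length_quot_pow_eq_sum (N : ℕ) :
    Module.length A (A ⧸ IsLocalRing.maximalIdeal A ^ N) = ∑ n ∈ Finset.range N, H A n := by
  rw [← rl_top_eq]
  induction N with
  | zero =>
    rw [pow_zero, Ideal.one_eq_top, Finset.sum_range_zero]
    exact rl_eq_zero_of_le le_top
  | succ N ih =>
    rw [Finset.sum_range_succ, ← ih,
      rl_add (Ideal.pow_le_pow_right (Nat.le_succ N)) le_top, add_comm]
    rfl

/-- partial sums of `multichoose d`. -/
def S (d N : ℕ) : ℕ := ∑ n ∈ Finset.range N, Nat.multichoose d n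

theorem S_le (d' N s : ℕ) (hs : s ≤ N) :
    S (d' + 1) N ≤ S (d' + 1) (N - s) + s * (N + (d' + 1)) ^ d' := by
  induction s with
  | zero => simp
  | succ s ih =>
    have h1 := ih (by omega)
    have h2 : N - s = (N - (s + 1)) + 1 := by omega
    have h3 : S (d' + 1) (N - s) = S (d' + 1) (N - (s + 1)) +
        Nat.multichoose (d' + 1) (N - (s + 1)) := by
      unfold S
      rw [h2, Finset.sum_range_succ]
    have h4 : Nat.multichoose (d' + 1) (N - (s + 1)) ≤ (N + (d' + 1)) ^ d' := by
      rw [Nat.multichoose_eq]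
      have h5 : d' + 1 + (N - (s + 1)) - 1 = (N - (s + 1)) + d' := by omega
      rw [h5, Nat.choose_symm_add]
      exact (Nat.choose_le_pow _ _).trans (Nat.pow_le_pow_left (by omega) _)
    rw [h3] at h1
    calc S (d' + 1) N ≤ S (d' + 1) (N - (s + 1)) + Nat.multichoose (d' + 1) (N - (s + 1)) +
          s * (N + (d' + 1)) ^ d' := h1
      _ ≤ S (d' + 1) (N - (s + 1)) + (N + (d' + 1)) ^ d' + s * (N + (d' + 1)) ^ d' := by
          gcongr
      _ = S (d' + 1) (N - (s + 1)) + (s + 1) * (N + (d' + 1)) ^ d' := by ring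

include hx in
theorem length_add_S_le (b : MvPolynomial (Fin d) A) (s : ℕ) (hb : b.IsHomogeneous s)
    (hu : IsUnit (MonomialOrder.lex.leadingCoeff b))
    (hbx : eval x b ∈ IsLocalRing.maximalIdeal A ^ (s + 1))
    (hdeg : (MonomialOrder.lex.degree b).degree = s) (N : ℕ) (hN : s ≤ N) :
    Module.length A (A ⧸ IsLocalRing.maximalIdeal A ^ N) + (S d (N - s) : ℕ∞) ≤ (S d N : ℕ∞) := by
  induction N, hN using Nat.le_induction with
  | base =>
    rw [Nat.sub_self]
    unfold S
    rw [Finset.sum_range_zero, Nat.cast_zero, add_zero, length_quot_pow_eq_sum, Nat.cast_sum]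
    exact Finset.sum_le_sum (fun n _ => H_le x hx n)
  | succ N hN ih =>
    have h1 : N + 1 - s = (N - s) + 1 := by omega
    have h2 := H_le_of_relation x hx b s hb hu hbx N hN
    have h3 := card_Bn (MonomialOrder.lex.degree b) s N hdeg hN
    rw [length_quot_pow_eq_sum] at ih ⊢
    rw [Finset.sum_range_succ, h1]
    unfold S at ih ⊢
    rw [Finset.sum_range_succ, Finset.sum_range_succ, Nat.cast_add, Nat.cast_add, ← h3,
      Nat.cast_add]
    calc ∑ n ∈ Finset.range N, H A n + H A N +
          (((∑ n ∈ Finset.range (N - s), Nat.multichoose d n : ℕ) : ℕ∞) +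
            (Nat.multichoose d (N - s) : ℕ∞))
        = (∑ n ∈ Finset.range N, H A n +
            ((∑ n ∈ Finset.range (N - s), Nat.multichoose d n : ℕ) : ℕ∞)) +
            (H A N + (Nat.multichoose d (N - s) : ℕ∞)) := by ring
      _ ≤ _ := by gcongr

end Local

section Regular

open Polynomial Groth.Agent.Lib.Helper2.HilbSamuel Groth.Agent.Lib.Helper2.SamuelDim

variable {A : Type u} [CommRing A] [IsLocalRing A] [IsNoetherianRing A] {d : ℕ} (x : Fin d → A)
  (hx : Ideal.span (Set.range x) = IsLocalRing.maximalIdeal A)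

theorem L_eq_length (n : ℕ) :
    L A A n = Module.length A (A ⧸ IsLocalRing.maximalIdeal A ^ n) := by
  rw [L_eq, Groth.Agent.Lib.Helper2.SamuelI.jacobson_eq_maximalIdeal]
  have : (IsLocalRing.maximalIdeal A ^ n • (⊤ : Submodule A A)) =
      IsLocalRing.maximalIdeal A ^ n := by
    rw [smul_eq_mul, Ideal.mul_top]
  rw [this]

include hx in
theorem H_eq (hd : ringKrullDim A = d) (n : ℕ) : H A n = (Nat.multichoose d n : ℕ∞) := by
  by_contra hne
  have hdef : H A n < (Nat.multichoose d n : ℕ∞) := lt_of_le_of_ne (H_le x hx n) hne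
  obtain ⟨b, hb, hu, hbx, hdeg⟩ := exists_relation x hx n hdef
  have hbound := length_add_S_le x hx b n hb hu hbx hdeg
  rcases Nat.eq_zero_or_pos d with hd0 | hdpos
  · -- d = 0
    subst hd0
    rcases Nat.eq_zero_or_pos n with hn0 | hnpos
    · subst hn0
      have h1 : H A 0 = 1 := by
        unfold H
        rw [pow_zero, zero_add, pow_one, Ideal.one_eq_top, rl_top_eq, length_residue]
      rw [h1] at hne
      exact hne (by simp)
    · have : Nat.multichoose 0 n = 0 := by
        obtain ⟨k, rfl⟩ := Nat.exists_eq_succ_of_ne_zero hnpos.ne'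
        exact Nat.multichoose_zero_succ k
      rw [this] at hdef
      exact absurd hdef (by simp)
  · obtain ⟨d', rfl⟩ := Nat.exists_eq_succ_of_ne_zero hdpos.ne'
    obtain ⟨P, hP⟩ := exists_HS (A := A) (M := A)
    have hdim := HS.supportDim_le_natDegree hP
    rw [Module.supportDim_self_eq_ringKrullDim, hd] at hdim
    have hdim' : d' + 1 ≤ P.natDegree := by exact_mod_cast hdim
    obtain ⟨N₀, hN₀⟩ := hP
    set Q : Polynomial ℚ := C (n : ℚ) * (X + C ((d' + 1 : ℕ) : ℚ)) ^ d' with hQ
    have hQdeg : Q.natDegree ≤ d' := by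
      refine (natDegree_C_mul_le _ _).trans ?_
      refine (natDegree_pow_le).trans ?_
      rw [natDegree_X_add_C, mul_one]
    have hle : P.natDegree ≤ Q.natDegree := by
      apply natDegree_le_of_eventually_le
      · exact ⟨N₀, fun m hm => by rw [← hN₀ m hm]; positivity⟩
      · refine ⟨max N₀ n, fun m hm => ?_⟩
        rw [← hN₀ m (le_trans (le_max_left _ _) hm)]
        have hnm : n ≤ m := le_trans (le_max_right _ _) hm
        have h1 := hbound m hnm
        have h2 := S_le d' m n hnm
        have hfin : L A A m ≠ ⊤ := L_ne_top m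
        rw [← L_eq_length] at h1
        obtain ⟨ℓ, hℓ⟩ := ENat.ne_top_iff_exists.1 hfin
        rw [← hℓ] at h1 ⊢
        have h3 : ℓ + S (d' + 1) (m - n) ≤ S (d' + 1) m := by exact_mod_cast h1
        have h4 : ℓ ≤ n * (m + (d' + 1)) ^ d' := by omega
        rw [ENat.toNat_coe, hQ]
        simp only [eval_mul, eval_C, eval_pow, eval_add, eval_X]
        exact_mod_cast h4
    omega

end Regular

end Groth.Agent.Lib.Helper2.RegHilb
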