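import Mathlib

set_option autoImplicit false

open Filter Topology Finset

namespace Groth.Agent.Lib.Helper2.Stolz

/-- `((n+1)^(s+1) - n^(s+1)) / n^s → s+1`. -/
theorem tendsto_pow_diff (s : ℕ) :
    Tendsto (fun n : ℕ => (((n : ℝ) + 1) ^ (s + 1) - (n : ℝ) ^ (s + 1)) / (n : ℝ) ^ s) atTop
      (𝓝 ((s : ℝ) + 1)) := by
  induction s with
  | zero =>
    simp
  | succ s ih =>
    have hratio : Tendsto (fun n : ℕ => ((n : ℝ) + 1) / (n : ℝ)) atTop (𝓝 1) := by
      have h1 : Tendsto (fun n : ℕ => (1 : ℝ) + 1 / (n : ℝ)) atTop (𝓝 (1 + 0)) :=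
        tendsto_const_nhds.add (tendsto_const_div_atTop_nhds_zero_nat (1 : ℝ))
      rw [add_zero] at h1
      refine h1.congr' ?_
      filter_upwards [eventually_ge_atTop 1] with n hn
      have : (n : ℝ) ≠ 0 := by positivity
      field_simp
    have h2 := (hratio.mul ih).add (tendsto_const_nhds (x := (1 : ℝ)))
    rw [one_mul] at h2
    have h3 : ((s : ℝ) + 1 + 1) = ((s + 1 : ℕ) : ℝ) + 1 := by push_cast; ring
    rw [← h3]
    refine h2.congr' ?_
    filter_upwards [eventually_ge_atTop 1] with n hn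
    have hn0 : (n : ℝ) ≠ 0 := by positivity
    field_simp
    ring

/-- shifting the argument does not change limits of `F n / n^s`. -/
theorem tendsto_shift_add (F : ℕ → ℝ) (s k : ℕ) (e : ℝ)
    (h : Tendsto (fun n : ℕ => F n / (n : ℝ) ^ s) atTop (𝓝 e)) :
    Tendsto (fun n : ℕ => F (n + k) / (n : ℝ) ^ s) atTop (𝓝 e) := by
  have hratio : Tendsto (fun n : ℕ => (((n + k : ℕ) : ℝ)) / (n : ℝ)) atTop (𝓝 1) := by
    have h1 : Tendsto (fun n : ℕ => (1 : ℝ) + (k : ℝ) / (n : ℝ)) atTop (𝓝 (1 + 0)) :=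
      tendsto_const_nhds.add (tendsto_const_div_atTop_nhds_zero_nat (k : ℝ))
    rw [add_zero] at h1
    refine h1.congr' ?_
    filter_upwards [eventually_ge_atTop 1] with n hn
    have : (n : ℝ) ≠ 0 := by positivity
    push_cast
    field_simp
  have h1 : Tendsto (fun n : ℕ => F (n + k) / ((n + k : ℕ) : ℝ) ^ s) atTop (𝓝 e) :=
    h.comp (tendsto_add_atTop_nat k)
  have h2 := h1.mul (hratio.pow s)
  rw [one_pow, mul_one] at h2
  refine h2.congr' ?_
  filter_upwards [eventually_ge_atTop 1] with n hn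
  have hn0 : (n : ℝ) ≠ 0 := by positivity
  have hnk : ((n + k : ℕ) : ℝ) ≠ 0 := by positivity
  rw [div_pow]
  field_simp

theorem tendsto_shift_sub (F : ℕ → ℝ) (s k : ℕ) (e : ℝ)
    (h : Tendsto (fun n : ℕ => F n / (n : ℝ) ^ s) atTop (𝓝 e)) :
    Tendsto (fun n : ℕ => F (n - k) / (n : ℝ) ^ s) atTop (𝓝 e) := by
  have hratio : Tendsto (fun n : ℕ => (((n - k : ℕ) : ℝ)) / (n : ℝ)) atTop (𝓝 1) := by
    have h1 : Tendsto (fun n : ℕ => (1 : ℝ) - (k : ℝ) / (n : ℝ)) atTop (𝓝 (1 - 0)) :=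
      tendsto_const_nhds.sub (tendsto_const_div_atTop_nhds_zero_nat (k : ℝ))
    rw [sub_zero] at h1
    refine h1.congr' ?_
    filter_upwards [eventually_ge_atTop (k + 1)] with n hn
    have : (n : ℝ) ≠ 0 := by
      have : (0 : ℝ) < n := by exact_mod_cast (by omega : 0 < n)
      exact this.ne'
    rw [Nat.cast_sub (by omega)]
    field_simp
  have h1 : Tendsto (fun n : ℕ => F (n - k) / ((n - k : ℕ) : ℝ) ^ s) atTop (𝓝 e) :=
    h.comp (tendsto_sub_atTop_nat k)
  have h2 := h1.mul (hratio.pow s)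
  rw [one_pow, mul_one] at h2
  refine h2.congr' ?_
  filter_upwards [eventually_ge_atTop (k + 1)] with n hn
  have hn0 : (n : ℝ) ≠ 0 := by
    have : (0 : ℝ) < n := by exact_mod_cast (by omega : 0 < n)
    exact this.ne'
  have hnk : ((n - k : ℕ) : ℝ) ≠ 0 := by
    have : (0 : ℝ) < ((n - k : ℕ) : ℝ) := by exact_mod_cast (by omega : 0 < n - k)
    exact this.ne'
  rw [div_pow]
  field_simp

/-- Stolz–Cesàro for `n^(s+1)`. -/
theorem stolz (s : ℕ) (a : ℕ → ℝ) (γ : ℝ)
    (h : Tendsto (fun n : ℕ => (a (n + 1) - a n) / (n : ℝ) ^ s) atTop (𝓝 γ)) :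
    Tendsto (fun n : ℕ => a n / (n : ℝ) ^ (s + 1)) atTop (𝓝 (γ / ((s : ℝ) + 1))) := by
  set g : ℕ → ℝ := fun n => ((n : ℝ) + 1) ^ (s + 1) - (n : ℝ) ^ (s + 1) with hg
  set c : ℝ := γ / ((s : ℝ) + 1) with hc
  have hs1 : ((s : ℝ) + 1) ≠ 0 := by positivity
  set f : ℕ → ℝ := fun n => (a (n + 1) - a n) - c * g n with hf
  have hg0 : 0 ≤ g := by
    intro n
    simp only [hg, Pi.zero_apply, sub_nonneg]
    gcongr
    linarith
  have hsum : ∀ n, ∑ i ∈ range n, g i = (n : ℝ) ^ (s + 1) := by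
    intro n
    induction n with
    | zero => simp
    | succ n ih => rw [sum_range_succ, ih]; simp [hg]
  have hgtop : Tendsto (fun n => ∑ i ∈ range n, g i) atTop atTop := by
    simp_rw [hsum]
    exact (tendsto_pow_atTop (by omega)).comp tendsto_natCast_atTop_atTop
  have hgs := tendsto_pow_diff s
  have hfg : f =o[atTop] g := by
    have hgpos : ∀ᶠ n : ℕ in atTop, g n ≠ 0 := by
      filter_upwards [eventually_ge_atTop 1] with n hn
      have h1 : (n : ℝ) ^ (s + 1) < ((n : ℝ) + 1) ^ (s + 1) := by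
        gcongr
        linarith
      simp only [hg]
      linarith
    rw [Asymptotics.isLittleO_iff_tendsto' (by filter_upwards [hgpos] with n hn h0; exact absurd h0 hn)]
    have h1 : Tendsto (fun n : ℕ => ((a (n + 1) - a n) / (n : ℝ) ^ s - c * (g n / (n : ℝ) ^ s)) /
        (g n / (n : ℝ) ^ s)) atTop (𝓝 ((γ - c * ((s : ℝ) + 1)) / ((s : ℝ) + 1))) :=
      (h.sub (hgs.const_mul c)).div hgs hs1
    have h0 : (γ - c * ((s : ℝ) + 1)) / ((s : ℝ) + 1) = 0 := by
      rw [hc]; field_simp; ring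
    rw [h0] at h1
    refine h1.congr' ?_
    filter_upwards [eventually_ge_atTop 1, hgpos] with n hn hgn
    have hn0 : (n : ℝ) ^ s ≠ 0 := by positivity
    simp only [hf]
    field_simp
  have hsumf := hfg.sum_range hg0 hgtop
  simp_rw [hsum] at hsumf
  have hsumf' : ∀ n, ∑ i ∈ range n, f i = a n - a 0 - c * (n : ℝ) ^ (s + 1) := by
    intro n
    simp only [hf]
    rw [sum_sub_distrib, ← mul_sum, hsum, Finset.sum_range_sub]
  have h2 : Tendsto (fun n : ℕ => (a n - a 0 - c * (n : ℝ) ^ (s + 1)) / (n : ℝ) ^ (s + 1)) atTop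
      (𝓝 0) := by
    have := hsumf.tendsto_div_nhds_zero
    simp_rw [hsumf'] at this
    exact this
  have h3 : Tendsto (fun n : ℕ => a 0 / (n : ℝ) ^ (s + 1)) atTop (𝓝 0) := by
    apply Tendsto.div_atTop tendsto_const_nhds
    exact (tendsto_pow_atTop (by omega)).comp tendsto_natCast_atTop_atTop
  have h4 := (h2.add h3).add (tendsto_const_nhds (x := c))
  rw [add_zero, zero_add] at h4
  refine h4.congr' ?_
  filter_upwards [eventually_ge_atTop 1] with n hn
  have hn0 : (n : ℝ) ^ (s + 1) ≠ 0 := by positivity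
  field_simp
  ring

end Groth.Agent.Lib.Helper2.Stolz
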