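import Mathlib
import Groth.Agent.Lib.Helper2.Stolz

set_option autoImplicit false

open Filter Topology

namespace Groth.Agent.Lib.Helper2.SamuelRecA

open Groth.Agent.Lib.Helper2.Stolz

theorem multichoose_succ_le (t : ℕ) : ∀ j : ℕ, Nat.multichoose (t + 1) j ≤ (j + 1) ^ t := by
  induction t with
  | zero => intro j; simp
  | succ t ih =>
    intro j
    induction j with
    | zero => simp
    | succ j ihj =>
      rw [Nat.multichoose_succ_succ]
      have h1 := ih (j + 1)
      calc Nat.multichoose (t + 1) (j + 1) + Nat.multichoose (t + 1 + 1) j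
          ≤ (j + 1 + 1) ^ t + (j + 1) ^ (t + 1) := add_le_add h1 ihj
        _ ≤ (j + 1 + 1) ^ t + (j + 1) * (j + 1 + 1) ^ t := by
          gcongr
          rw [pow_succ, mul_comm]
          gcongr
          omega
        _ = (j + 1 + 1) ^ (t + 1) := by ring

theorem multichoose_mul_le (s j : ℕ) : Nat.multichoose s (j + 1) * (j + 2) ≤ (j + 2) ^ s := by
  cases s with
  | zero => simp
  | succ t =>
    have := multichoose_succ_le t (j + 1)
    calc Nat.multichoose (t + 1) (j + 1) * (j + 2) ≤ (j + 1 + 1) ^ t * (j + 2) :=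
          Nat.mul_le_mul_right _ this
      _ = (j + 2) ^ (t + 1) := by ring

theorem tendsto_eps (s k K₀ : ℕ) :
    Tendsto (fun n : ℕ => ((K₀ * Nat.multichoose s (n - k + 1) : ℕ) : ℝ) / (n : ℝ) ^ s) atTop
      (𝓝 0) := by
  have hratio : Tendsto (fun n : ℕ => (((n : ℝ) + 2) / (n : ℝ))) atTop (𝓝 1) := by
    have h1 : Tendsto (fun n : ℕ => (1 : ℝ) + 2 / (n : ℝ)) atTop (𝓝 (1 + 0)) :=
      tendsto_const_nhds.add (tendsto_const_div_atTop_nhds_zero_nat (2 : ℝ))
    rw [add_zero] at h1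
    refine h1.congr' ?_
    filter_upwards [eventually_ge_atTop 1] with n hn
    have : (n : ℝ) ≠ 0 := by positivity
    field_simp
  have hinv : Tendsto (fun n : ℕ => (K₀ : ℝ) / (((n - k : ℕ) : ℝ) + 2)) atTop (𝓝 0) := by
    have h1 : Tendsto (fun n : ℕ => (K₀ : ℝ) / ((n : ℝ))) atTop (𝓝 0) :=
      tendsto_const_div_atTop_nhds_zero_nat (K₀ : ℝ)
    have h2 := (h1.comp (tendsto_add_atTop_nat 2)).comp (tendsto_sub_atTop_nat k)
    refine h2.congr ?_
    intro n
    simp only [Function.comp_apply]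
    push_cast
    rfl
  have hup := (hratio.pow s).mul hinv
  rw [one_pow, one_mul] at hup
  apply squeeze_zero' _ _ hup
  · filter_upwards with n
    positivity
  · filter_upwards [eventually_ge_atTop (k + 1)] with n hn
    have hn0 : (0 : ℝ) < (n : ℝ) := by exact_mod_cast (by omega : 0 < n)
    have hpos : (0 : ℝ) < ((n - k : ℕ) : ℝ) + 2 := by positivity
    have hm := multichoose_mul_le s (n - k)
    have hm' : (Nat.multichoose s (n - k + 1) : ℝ) * (((n - k : ℕ) : ℝ) + 2) ≤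
        (((n - k : ℕ) : ℝ) + 2) ^ s := by exact_mod_cast hm
    have hle : (((n - k : ℕ) : ℝ) + 2) ^ s ≤ ((n : ℝ) + 2) ^ s := by
      gcongr
      exact_mod_cast Nat.sub_le n k
    rw [div_pow, div_mul_div_comm, div_le_div_iff₀ (by positivity) (by positivity)]
    push_cast
    calc (K₀ : ℝ) * (Nat.multichoose s (n - k + 1) : ℝ) * ((n : ℝ) ^ s * (((n - k : ℕ) : ℝ) + 2))
        = (K₀ : ℝ) * (n : ℝ) ^ s *
            ((Nat.multichoose s (n - k + 1) : ℝ) * (((n - k : ℕ) : ℝ) + 2)) := by ring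
      _ ≤ (K₀ : ℝ) * (n : ℝ) ^ s * ((n : ℝ) + 2) ^ s := by
          gcongr
          exact hm'.trans hle
      _ = ((n : ℝ) + 2) ^ s * (K₀ : ℝ) * (n : ℝ) ^ s := by ring

theorem analytic (s : ℕ) (a b c Δ : ℕ → ℕ) (k' k K₀ : ℕ) (e₁ e₂ : ℝ)
    (h1 : ∀ n, a n + b (n + 1) = a (n + 1) + Δ n)
    (hlo : ∀ n, c n ≤ Δ (n + k'))
    (hup : ∀ m, Δ (m + k) ≤ c (m + k) + K₀ * Nat.multichoose s (m + 1))
    (hb : Tendsto (fun n : ℕ => (s.factorial : ℝ) * (b n : ℝ) / (n : ℝ) ^ s) atTop (𝓝 e₁))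
    (hc : Tendsto (fun n : ℕ => (s.factorial : ℝ) * (c n : ℝ) / (n : ℝ) ^ s) atTop (𝓝 e₂)) :
    Tendsto (fun n : ℕ => ((s + 1).factorial : ℝ) * (a n : ℝ) / (n : ℝ) ^ (s + 1)) atTop
      (𝓝 (e₁ - e₂)) := by
  have hsf : (s.factorial : ℝ) ≠ 0 := by positivity
  have hb' : Tendsto (fun n : ℕ => (b n : ℝ) / (n : ℝ) ^ s) atTop (𝓝 (e₁ / s.factorial)) := by
    have := hb.div_const (s.factorial : ℝ)
    refine this.congr ?_
    intro n
    field_simp
  have hc' : Tendsto (fun n : ℕ => (c n : ℝ) / (n : ℝ) ^ s) atTop (𝓝 (e₂ / s.factorial)) := by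
    have := hc.div_const (s.factorial : ℝ)
    refine this.congr ?_
    intro n
    field_simp
  have hb1 := tendsto_shift_add (fun n => (b n : ℝ)) s 1 _ hb'
  have hclo := tendsto_shift_sub (fun n => (c n : ℝ)) s k' _ hc'
  have hcup := hc'.add (tendsto_eps s k K₀)
  rw [add_zero] at hcup
  have hΔ : Tendsto (fun n : ℕ => (Δ n : ℝ) / (n : ℝ) ^ s) atTop (𝓝 (e₂ / s.factorial)) := by
    apply tendsto_of_tendsto_of_tendsto_of_le_of_le' hclo hcup
    · filter_upwards [eventually_ge_atTop k'] with n hn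
      have h := hlo (n - k')
      rw [Nat.sub_add_cancel hn] at h
      gcongr
      try exact_mod_cast h
    · filter_upwards [eventually_ge_atTop k] with n hn
      have h := hup (n - k)
      rw [Nat.sub_add_cancel hn] at h
      rw [← add_div]
      gcongr
      try exact_mod_cast h
  have hdiff : Tendsto (fun n : ℕ => ((a (n + 1) : ℝ) - (a n : ℝ)) / (n : ℝ) ^ s) atTop
      (𝓝 (e₁ / s.factorial - e₂ / s.factorial)) := by
    refine (hb1.sub hΔ).congr ?_
    intro n
    have h := h1 n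
    have h' : (a n : ℝ) + (b (n + 1) : ℝ) = (a (n + 1) : ℝ) + (Δ n : ℝ) := by exact_mod_cast h
    rw [← sub_div]
    congr 1
    linarith
  have hst := stolz s (fun n => (a n : ℝ)) _ hdiff
  have hfin := hst.const_mul ((s + 1).factorial : ℝ)
  have hval : ((s + 1).factorial : ℝ) * ((e₁ / s.factorial - e₂ / s.factorial) / ((s : ℝ) + 1)) =
      e₁ - e₂ := by
    rw [Nat.factorial_succ]
    push_cast
    field_simp
  rw [hval] at hfin
  refine hfin.congr ?_
  intro n
  ring

end Groth.Agent.Lib.Helper2.SamuelRecA
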