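import Mathlib
import Groth.Agent.Lib.Helper2.RelLength
import Groth.Agent.Lib.Helper2.SamuelI
import Groth.Agent.Lib.Helper2.RegHilb
import Groth.Agent.Lib.Helper2.Stolz
import Groth.Agent.Lib.Helper2.SamuelRecA

/-!
# The recursion `e(x, y; M) = e(y; M/xM) - e(y; M[x])` for Samuel multiplicities
(Matsumura, Theorem 14.11.)
-/

set_option autoImplicit false
set_option linter.style.haveILetI false
universe u v

namespace Groth.Agent.Lib.Helper2.SamuelRec

open Groth.Agent.Lib.Helper2.RelLength Groth.Agent.Lib.Helper2.SamuelI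
  Groth.Agent.Lib.Helper2.RegHilb

variable {A : Type u} [CommRing A] {M : Type v} [AddCommGroup M] [Module A M]

section Rl

theorem rl_mono_left {P P' Q : Submodule A M} (h : P ≤ P') : rl P' Q ≤ rl P Q := by
  rw [← rl_inf P' Q, ← rl_inf P Q]
  exact rl_le_of_le_left (inf_le_inf_left Q h) inf_le_left

theorem rl_sup_self (P Q : Submodule A M) : rl P (P ⊔ Q) = rl P Q := by
  have := rl_iso (LinearMap.id : M →ₗ[A] M) P Q
  rw [Submodule.comap_id, Submodule.map_id] at this
  exact this.symm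

theorem rl_subtype (P N : Submodule A M) : rl (P.comap N.subtype) ⊤ = rl P N := by
  have := rl_iso N.subtype P ⊤
  rw [Submodule.map_top, Submodule.range_subtype] at this
  rw [this, rl_sup_self]

end Rl

section Step

variable (I : Ideal A) (x : A)

theorem map_lsmul_RI_le (hx : x ∈ I) (n : ℕ) :
    (RI I M n).map (LinearMap.lsmul A M x) ≤ RI I M (n + 1) := by
  rintro _ ⟨m, hm, rfl⟩
  exact smul_mem_RI I hx hm

/-- the basic four-term relation. -/
theorem LI_step (hx : x ∈ I) (n : ℕ) :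
    LI I M n + LI I (M ⧸ LinearMap.range (LinearMap.lsmul A M x)) (n + 1) =
      LI I M (n + 1) + rl (RI I M n) ((RI I M (n + 1)).comap (LinearMap.lsmul A M x)) := by
  have h := rl_four_term (LinearMap.lsmul A M x) (P := RI I M n) (Q := ⊤) (P₂ := RI I M (n + 1))
    (Q₂ := ⊤) le_top le_top le_top (map_lsmul_RI_le I x hx n)
  rw [top_inf_eq, Submodule.map_top] at h
  rw [LI_of_surjective I (Submodule.mkQ _) (Submodule.mkQ_surjective _), Submodule.ker_mkQ]
  exact h

theorem RI_le_comap (hx : x ∈ I) (n : ℕ) :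
    RI I M n ≤ (RI I M (n + 1)).comap (LinearMap.lsmul A M x) :=
  Submodule.map_le_iff_le_comap.1 (map_lsmul_RI_le I x hx n)

theorem ker_le_comap (n : ℕ) :
    LinearMap.ker (LinearMap.lsmul A M x) ≤ (RI I M n).comap (LinearMap.lsmul A M x) := by
  intro z hz
  rw [Submodule.mem_comap, LinearMap.mem_ker.1 hz]
  exact Submodule.zero_mem _

theorem rl_ker_le_LI (n : ℕ) (N : Submodule A M) : rl (RI I M n) N ≤ LI I N n := by
  rw [← rl_subtype]
  apply rl_le_of_le_left _ le_top
  rw [← Submodule.map_le_iff_le_comap]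
  exact RI_map_le I N.subtype n

/-- lower bound for the correction term. -/
theorem le_delta [IsNoetherianRing A] [Module.Finite A M] (hx : x ∈ I) :
    ∃ k', ∀ n, LI I (LinearMap.ker (LinearMap.lsmul A M x)) n ≤
      rl (RI I M (n + k')) ((RI I M (n + k' + 1)).comap (LinearMap.lsmul A M x)) := by
  obtain ⟨k', hk'⟩ := exists_comap_RI_le I (LinearMap.ker (LinearMap.lsmul A M x)).subtype
    (Submodule.subtype_injective _)
  refine ⟨k', fun n => ?_⟩
  have h1 : LI I (LinearMap.ker (LinearMap.lsmul A M x)) n ≤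
      rl ((RI I M (n + k')).comap (LinearMap.ker (LinearMap.lsmul A M x)).subtype) ⊤ :=
    rl_le_of_le_left (hk' n) le_top
  rw [rl_subtype, ← rl_sup_self] at h1
  refine h1.trans ?_
  exact rl_le_of_le_right le_sup_left (sup_le (RI_le_comap I x hx _) (ker_le_comap I x _))

end Step

section Upper

open Pointwise

theorem pow_succ_le (x : A) (I' : Ideal A) (m : ℕ) :
    (Ideal.span {x} ⊔ I') ^ (m + 1) ≤ Ideal.span {x} * (Ideal.span {x} ⊔ I') ^ m ⊔ I' ^ (m + 1) := by
  induction m with
  | zero =>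
    rw [pow_zero, Ideal.one_eq_top, Ideal.mul_top]
    simp
  | succ m ih =>
    set I := Ideal.span {x} ⊔ I' with hI
    have hI'I : I' ≤ I := le_sup_right
    have hxI : Ideal.span {x} ≤ I := le_sup_left
    calc I ^ (m + 1 + 1) = I ^ (m + 1) * I := pow_succ _ _
      _ ≤ (Ideal.span {x} * I ^ m ⊔ I' ^ (m + 1)) * I := Ideal.mul_mono_left ih
      _ = Ideal.span {x} * I ^ m * I ⊔ I' ^ (m + 1) * I := Ideal.sup_mul _ _ _
      _ ≤ Ideal.span {x} * I ^ (m + 1) ⊔ I' ^ (m + 1 + 1) := by
        apply sup_le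
        · rw [mul_assoc, ← pow_succ]
          exact le_sup_left
        · rw [hI, Ideal.mul_sup]
          apply sup_le
          · rw [mul_comm]
            exact le_trans (Ideal.mul_mono_right (Ideal.pow_right_mono hI'I (m + 1))) le_sup_left
          · rw [← pow_succ]
            exact le_sup_right

variable (I : Ideal A) (x : A)

theorem span_smul_comap_le (k : ℕ) :
    Ideal.span {x} • (RI I M k).comap (LinearMap.lsmul A M x) ≤ RI I M k := by
  rw [Submodule.smul_le]
  intro a ha z hz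
  obtain ⟨b, rfl⟩ := Ideal.mem_span_singleton'.1 ha
  rw [mul_smul]
  exact Submodule.smul_mem _ _ hz

theorem RI_add (m k : ℕ) : I ^ m • RI I M k = RI I M (m + k) := by
  unfold RI
  rw [← Submodule.mul_smul, ← pow_add]

theorem pow_smul_comap_le (I' : Ideal A) (hI : I = Ideal.span {x} ⊔ I') (m k : ℕ) :
    I ^ (m + 1) • (RI I M k).comap (LinearMap.lsmul A M x) ≤
      RI I M (m + k) ⊔ I' ^ (m + 1) • (RI I M k).comap (LinearMap.lsmul A M x) := by
  have h1 : I ^ (m + 1) ≤ Ideal.span {x} * I ^ m ⊔ I' ^ (m + 1) := by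
    rw [hI]; exact pow_succ_le x I' m
  refine le_trans (Submodule.smul_mono_left h1) ?_
  rw [Submodule.sup_smul]
  apply sup_le_sup_right
  rw [mul_comm, Submodule.mul_smul]
  refine le_trans (Submodule.smul_mono le_rfl (span_smul_comap_le I x k)) ?_
  rw [RI_add]

/-- Artin–Rees for the colon modules. -/
theorem exists_comap_le [IsNoetherianRing A] [Module.Finite A M] :
    ∃ k, ∀ m, (RI I M (m + 1 + k)).comap (LinearMap.lsmul A M x) ≤
      LinearMap.ker (LinearMap.lsmul A M x) ⊔
        I ^ (m + 1) • (RI I M k).comap (LinearMap.lsmul A M x) := by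
  obtain ⟨k, hk⟩ := Ideal.exists_pow_inf_eq_pow_smul I (LinearMap.range (LinearMap.lsmul A M x))
  refine ⟨k, fun m z hz => ?_⟩
  set f := LinearMap.lsmul A M x with hf
  have h1 : f z ∈ I ^ (m + 1 + k) • (⊤ : Submodule A M) ⊓ LinearMap.range f :=
    ⟨hz, LinearMap.mem_range_self f z⟩
  rw [hk (m + 1 + k) (by omega), Nat.add_sub_cancel] at h1
  have h2 : I ^ k • (⊤ : Submodule A M) ⊓ LinearMap.range f = ((RI I M k).comap f).map f := by
    rw [Submodule.map_comap_eq, inf_comm]
    rfl
  rw [h2, ← Submodule.map_smul''] at h1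
  obtain ⟨w, hw, hwz⟩ := h1
  have h3 : z - w ∈ LinearMap.ker f := by
    rw [LinearMap.mem_ker, map_sub, hwz, sub_self]
  have : z = (z - w) + w := by abel
  rw [this]
  exact Submodule.add_mem_sup h3 hw

/-- counting generators. -/
theorem gen_bound {s : ℕ} (y : Fin s → A) (m : ℕ) (P C : Submodule A M) (g : ℕ) (c : Fin g → M)
    (hc : Submodule.span A (Set.range c) = C) (J : Ideal A)
    (hJ : ∀ a ∈ J, ∀ β ∈ Mn s m, ∀ j, a • (mon y β • c j) ∈ P) :
    rl P (P ⊔ Ideal.span (Set.range y) ^ m • C) ≤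
      ((Nat.multichoose s m * g : ℕ) : ℕ∞) * Module.length A (A ⧸ J) := by
  classical
  have h := rl_le_card (ι := ↥(Mn s m) × Fin g) (fun p => mon y p.1.1 • c p.2) P
    (P ⊔ Ideal.span (Set.range y) ^ m • C) J le_sup_left (by
      apply sup_le_sup_left
      rw [pow_eq_span_mon, ← hc, Submodule.span_smul_span]
      apply Submodule.span_mono
      rintro _ ⟨r, ⟨β, hβ, rfl⟩, _, ⟨j, rfl⟩, rfl⟩
      exact ⟨(⟨β, hβ⟩, j), rfl⟩) (by
      rintro a ha ⟨⟨β, hβ⟩, j⟩
      exact hJ a ha β hβ j)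
  rw [Fintype.card_prod, Fintype.card_coe, card_Mn, Fintype.card_fin] at h
  exact h

end Upper

section Delta

theorem length_quot_annihilator_ne_top (E : Type*) [AddCommGroup E] [Module A E] [Module.Finite A E]
    (h : Module.length A E ≠ ⊤) : Module.length A (A ⧸ Module.annihilator A E) ≠ ⊤ := by
  obtain ⟨g, e, he⟩ := Submodule.fg_iff_exists_fin_generating_family.1
    (Module.Finite.fg_top (R := A) (M := E))
  let φ : A →ₗ[A] (Fin g → E) := LinearMap.pi (fun i => LinearMap.toSpanSingleton A E (e i))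
  have hker : LinearMap.ker φ = Module.annihilator A E := by
    ext a
    rw [LinearMap.mem_ker, ← Submodule.annihilator_top, ← he, Submodule.mem_annihilator_span]
    constructor
    · intro h0
      rintro ⟨_, i, rfl⟩
      exact congrFun h0 i
    · intro h0
      funext i
      exact h0 ⟨e i, i, rfl⟩
  have h1 : Module.length A (A ⧸ LinearMap.ker φ) ≤ Module.length A (Fin g → E) := by
    rw [(LinearMap.quotKerEquivRange φ).length_eq]
    exact Module.length_le_of_injective (LinearMap.range φ).subtype (Submodule.subtype_injective _)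
  rw [hker, Module.length_pi] at h1
  refine ne_top_of_le_ne_top ?_ h1
  simp only [ENat.card_eq_coe_fintype_card, Fintype.card_fin]
  exact WithTop.mul_ne_top (ENat.coe_ne_top g) h

variable (I : Ideal A) (x : A)

/-- upper bound for the correction term. -/
theorem delta_le [IsNoetherianRing A] [Module.Finite A M] {s : ℕ} (y : Fin s → A)
    (hI : I = Ideal.span {x} ⊔ Ideal.span (Set.range y)) (hfin : ∀ n, LI I M n ≠ ⊤) :
    ∃ (k K₀ : ℕ), ∀ m, rl (RI I M (m + k)) ((RI I M (m + 1 + k)).comap (LinearMap.lsmul A M x)) ≤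
      LI I (LinearMap.ker (LinearMap.lsmul A M x)) (m + k) +
        ((K₀ * Nat.multichoose s (m + 1) : ℕ) : ℕ∞) := by
  obtain ⟨k, hk⟩ := exists_comap_le (M := M) I x
  set f := LinearMap.lsmul A M x with hf
  set C := (RI I M k).comap f with hC
  set N := LinearMap.ker f with hN
  obtain ⟨g, c, hc⟩ := Submodule.fg_iff_exists_fin_generating_family.1 (IsNoetherian.noetherian C)
  set J := Module.annihilator A (M ⧸ RI I M k) with hJ
  have hJfin : Module.length A (A ⧸ J) ≠ ⊤ := by
    apply length_quot_annihilator_ne_top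
    have := hfin k
    rw [LI_eq] at this
    exact this
  have hJmem : ∀ a ∈ J, ∀ z : M, a • z ∈ RI I M k := by
    intro a ha z
    have h0 := Module.mem_annihilator.1 ha (Submodule.Quotient.mk z)
    rw [← Submodule.Quotient.mk_smul, Submodule.Quotient.mk_eq_zero] at h0
    exact h0
  refine ⟨k, g * (Module.length A (A ⧸ J)).toNat, fun m => ?_⟩
  set I' := Ideal.span (Set.range y) with hI'
  set L := RI I M (m + k) ⊔ I' ^ (m + 1) • C with hL
  have hI'I : I' ≤ I := by rw [hI]; exact le_sup_right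
  have hxI : x ∈ I := by rw [hI]; exact Ideal.mem_sup_left (Ideal.mem_span_singleton_self x)
  have hCL : (RI I M (m + 1 + k)).comap f ≤ N ⊔ L :=
    (hk m).trans (sup_le_sup_left (pow_smul_comap_le I x I' hI m k) N)
  have hRC : RI I M (m + k) ≤ (RI I M (m + 1 + k)).comap f := by
    have := RI_le_comap I x hxI (M := M) (m + k)
    rwa [show m + k + 1 = m + 1 + k by omega] at this
  have h1 : rl (RI I M (m + k)) ((RI I M (m + 1 + k)).comap f) ≤ rl (RI I M (m + k)) (N ⊔ L) :=
    rl_le_of_le_right hRC hCL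
  have h2 : rl (RI I M (m + k)) (N ⊔ L) = rl (RI I M (m + k)) L + rl L (N ⊔ L) :=
    rl_add le_sup_left le_sup_right
  have h3 : rl L (N ⊔ L) ≤ LI I N (m + k) := by
    rw [sup_comm, rl_sup_self]
    exact (rl_mono_left le_sup_left).trans (rl_ker_le_LI I (m + k) N)
  have h4 : rl (RI I M (m + k)) L ≤
      ((Nat.multichoose s (m + 1) * g : ℕ) : ℕ∞) * Module.length A (A ⧸ J) := by
    apply gen_bound y (m + 1) (RI I M (m + k)) C g c hc J
    intro a ha β hβ j
    rw [smul_comm]
    have h5 : mon y β ∈ I ^ (m + 1) := by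
      have := mon_mem_pow y β
      rw [mem_Mn.1 hβ] at this
      exact Ideal.pow_right_mono hI'I (m + 1) this
    have h6 : mon y β • a • c j ∈ RI I M (m + 1 + k) := by
      rw [← RI_add]
      exact Submodule.smul_mem_smul h5 (hJmem a ha (c j))
    exact RI_anti I (by omega) h6
  rw [h2] at h1
  refine h1.trans ?_
  rw [add_comm]
  refine add_le_add h3 (h4.trans (le_of_eq ?_))
  push_cast
  rw [ENat.natCast_toNat hJfin]
  ring

end Delta

section Main

open Filter Topology

variable (I : Ideal A) (x : A)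

theorem LI_quot_le (N : Submodule A M) (n : ℕ) : LI I (M ⧸ N) n ≤ LI I M n := by
  rw [LI_of_surjective I N.mkQ N.mkQ_surjective]
  exact rl_le_of_le_left le_sup_left le_top

/-- the recursion for Samuel multiplicities. -/
theorem tendsto_rec [IsNoetherianRing A] [Module.Finite A M] {s : ℕ} (y : Fin s → A)
    (hI : I = Ideal.span {x} ⊔ Ideal.span (Set.range y)) (hM : ∀ n, LI I M n ≠ ⊤)
    (hN : ∀ n, LI I (LinearMap.ker (LinearMap.lsmul A M x)) n ≠ ⊤) (e₁ e₂ : ℝ)
    (h₁ : Tendsto (fun n : ℕ => (s.factorial : ℝ) *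
      ((LI I (M ⧸ LinearMap.range (LinearMap.lsmul A M x)) n).toNat : ℝ) / (n : ℝ) ^ s) atTop
      (𝓝 e₁))
    (h₂ : Tendsto (fun n : ℕ => (s.factorial : ℝ) *
      ((LI I (LinearMap.ker (LinearMap.lsmul A M x)) n).toNat : ℝ) / (n : ℝ) ^ s) atTop (𝓝 e₂)) :
    Tendsto (fun n : ℕ => ((s + 1).factorial : ℝ) * ((LI I M n).toNat : ℝ) / (n : ℝ) ^ (s + 1))
      atTop (𝓝 (e₁ - e₂)) := by
  set f := LinearMap.lsmul A M x with hf
  have hxI : x ∈ I := by rw [hI]; exact Ideal.mem_sup_left (Ideal.mem_span_singleton_self x)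
  have hQ : ∀ n, LI I (M ⧸ LinearMap.range f) n ≠ ⊤ := fun n =>
    ne_top_of_le_ne_top (hM n) (LI_quot_le I _ n)
  have hΔ : ∀ n, rl (RI I M n) ((RI I M (n + 1)).comap f) ≠ ⊤ := fun n =>
    ne_top_of_le_ne_top (hM n) (rl_le_of_le_right (RI_le_comap I x hxI n) le_top)
  obtain ⟨k', hk'⟩ := le_delta (M := M) I x hxI
  obtain ⟨k, K₀, hk⟩ := delta_le (M := M) I x y hI hM
  apply Groth.Agent.Lib.Helper2.SamuelRecA.analytic s (fun n => (LI I M n).toNat)
    (fun n => (LI I (M ⧸ LinearMap.range f) n).toNat)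
    (fun n => (LI I (LinearMap.ker f) n).toNat)
    (fun n => (rl (RI I M n) ((RI I M (n + 1)).comap f)).toNat) k' k K₀ e₁ e₂ _ _ _ h₁ h₂
  · intro n
    have h := LI_step (M := M) I x hxI n
    rw [← ENat.natCast_toNat (hM n), ← ENat.natCast_toNat (hQ (n + 1)),
      ← ENat.natCast_toNat (hM (n + 1)), ← ENat.natCast_toNat (hΔ n)] at h
    exact_mod_cast h
  · intro n
    exact ENat.toNat_le_toNat (hk' n) (hΔ _)
  · intro m
    have h := hk m
    rw [show m + 1 + k = m + k + 1 by omega] at h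
    have h2 := ENat.toNat_le_toNat h (by
      exact WithTop.add_ne_top.2 ⟨hN _, ENat.coe_ne_top _⟩)
    rw [ENat.toNat_add (hN _) (ENat.coe_ne_top _), ENat.toNat_coe] at h2
    exact h2

end Main

end Groth.Agent.Lib.Helper2.SamuelRec
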