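import Mathlib
import Groth.Agent.Lib.Helper2.KosChi2
import Groth.Agent.Lib.Helper2.SamuelRec
import Groth.Agent.Lib.Helper2.ChiLocal2

/-!
# Serre's theorem: Samuel multiplicity = Koszul Euler characteristic
-/

set_option autoImplicit false
set_option linter.style.haveILetI false
universe u v

open Filter Topology

namespace Groth.Agent.Lib.Helper2.KosChi3

open Groth.Agent.Lib.Helper2.KosChi2 Groth.Agent.Lib.Helper2.SamuelRec
  Groth.Agent.Lib.Helper2.SamuelI Groth.Agent.Lib.Helper2.RelLength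

section Sop

variable {A : Type u} [CommRing A] [IsNoetherianRing A] [IsLocalRing A]

/-- `M/IM` is supported at the closed point. -/
def Sop (I : Ideal A) (M : Type v) [AddCommGroup M] [Module A M] : Prop :=
  ∀ q ∈ Module.support A M, I ≤ q.asIdeal → q.asIdeal = IsLocalRing.maximalIdeal A

variable {M : Type v} [AddCommGroup M] [Module A M]

theorem sop_of_isFiniteLength [Module.Finite A M] (I : Ideal A)
    (h : IsFiniteLength A (M ⧸ (I • ⊤ : Submodule A M))) : Sop I M := by
  intro q hq hIq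
  apply Groth.Agent.Lib.Helper2.ChiLocal.eq_maximalIdeal_of_mem_support
    (M ⧸ (I • ⊤ : Submodule A M)) (Module.length_ne_top_iff.2 h) q
  rw [Module.support_quotient]
  exact ⟨hq, hIq⟩

theorem Sop.isFiniteLength [Module.Finite A M] {I : Ideal A} (h : Sop I M) (J : Ideal A)
    (n : ℕ) (hJ : I ^ n ≤ J) : IsFiniteLength A (M ⧸ (J • ⊤ : Submodule A M)) := by
  apply Groth.Agent.Lib.Helper2.ChiLocal2.isFiniteLength_of_support_subset
  intro q hq
  rw [Module.support_quotient] at hq
  have hq2 : J ≤ q.asIdeal := hq.2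
  exact h q hq.1 (Ideal.IsPrime.le_of_pow_le (hJ.trans hq2))

theorem Sop.mono {I J : Ideal A} (h : Sop I M) (hIJ : I ≤ J) : Sop J M :=
  fun q hq hJq => h q hq (hIJ.trans hJq)

theorem Sop.ker {I' : Ideal A} {x : A} (h : Sop (Ideal.span {x} ⊔ I') M) :
    Sop I' (LinearMap.ker (LinearMap.lsmul A M x)) := by
  intro q hq hIq
  apply h q (Module.support_subset_of_injective _ (Submodule.subtype_injective _) hq)
  apply sup_le _ hIq
  rw [Ideal.span_singleton_le_iff_mem]
  apply Module.annihilator_le_of_mem_support hq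
  rw [Module.mem_annihilator]
  intro z
  apply Subtype.ext
  exact z.2

theorem Sop.quot {I' : Ideal A} {x : A} (h : Sop (Ideal.span {x} ⊔ I') M) :
    Sop I' (M ⧸ LinearMap.range (LinearMap.lsmul A M x)) := by
  intro q hq hIq
  apply h q (Module.support_subset_of_surjective _ (Submodule.mkQ_surjective _) hq)
  apply sup_le _ hIq
  rw [Ideal.span_singleton_le_iff_mem]
  apply Module.annihilator_le_of_mem_support hq
  rw [Module.mem_annihilator]
  intro z
  obtain ⟨z, rfl⟩ := Submodule.Quotient.mk_surjective _ z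
  rw [← Submodule.Quotient.mk_smul, Submodule.Quotient.mk_eq_zero]
  exact ⟨z, rfl⟩

theorem Sop.LI_ne_top [Module.Finite A M] {I : Ideal A} (h : Sop I M) (n : ℕ) :
    LI I M n ≠ ⊤ := by
  rw [LI_eq, Module.length_ne_top_iff]
  exact h.isFiniteLength (I ^ n) n le_rfl

end Sop

section Kill

variable {A : Type u} [CommRing A] {Q : Type v} [AddCommGroup Q] [Module A Q]

theorem span_smul_eq_bot (x : A) (hx : ∀ z : Q, x • z = 0) (P : Submodule A Q) :
    Ideal.span {x} • P = ⊥ := by
  rw [eq_bot_iff, Submodule.smul_le]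
  intro a ha z _
  obtain ⟨b, rfl⟩ := Ideal.mem_span_singleton'.1 ha
  rw [mul_smul, hx, smul_zero]
  exact Submodule.zero_mem _

theorem pow_smul_top_eq_of_kill (x : A) (I' : Ideal A) (hx : ∀ z : Q, x • z = 0) (n : ℕ) :
    (Ideal.span {x} ⊔ I') ^ n • (⊤ : Submodule A Q) = I' ^ n • (⊤ : Submodule A Q) := by
  apply le_antisymm
  · cases n with
    | zero => simp
    | succ m =>
      refine le_trans (Submodule.smul_mono_left (pow_succ_le x I' m)) ?_
      rw [Submodule.sup_smul, Submodule.mul_smul, span_smul_eq_bot x hx, bot_sup_eq]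
  · exact Submodule.smul_mono_left (Ideal.pow_right_mono le_sup_right n)

theorem LI_eq_of_kill (x : A) (I' : Ideal A) (hx : ∀ z : Q, x • z = 0) (n : ℕ) :
    LI (Ideal.span {x} ⊔ I') Q n = LI I' Q n := by
  unfold LI RI
  rw [pow_smul_top_eq_of_kill x I' hx]

end Kill

section Serre

variable {A : Type u} [CommRing A] [IsNoetherianRing A] [IsLocalRing A]

theorem setOf_mem_cons (x : A) (l : List A) : {a | a ∈ x :: l} = insert x {a | a ∈ l} := by
  ext a
  simp [List.mem_cons]

/-- Serre's theorem, in the form: for a list `l` and a finite module `M` with `M/(l)M` of finite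
length, the Koszul homology has finite length and
`r! ℓ(M/(l)^n M)/n^r → χ(l; M)`. -/
theorem serre : ∀ (l : List A) (M : Type u) [AddCommGroup M] [Module A M] [Module.Finite A M],
    Sop (Ideal.span {a | a ∈ l}) M →
    KNice l M ∧ Tendsto (fun n : ℕ => (l.length.factorial : ℝ) *
      ((Module.length A (M ⧸ (Ideal.span {a | a ∈ l} ^ n • (⊤ : Submodule A M)))).toNat : ℝ) /
        (n : ℝ) ^ l.length) atTop (𝓝 ((chiK l M : ℤ) : ℝ)) := by
  intro l
  induction l with
  | nil =>
    intro M _ _ _ h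
    have hbot : Ideal.span {a : A | a ∈ ([] : List A)} = ⊥ := by simp
    rw [hbot] at h ⊢
    have hfl : IsFiniteLength A (M ⧸ ((⊥ : Ideal A) • ⊤ : Submodule A M)) :=
      h.isFiniteLength ⊥ 1 (by rw [pow_one])
    have hM : Module.length A M ≠ ⊤ := by
      have e : (M ⧸ ((⊥ : Ideal A) • ⊤ : Submodule A M)) ≃ₗ[A] M :=
        Submodule.quotEquivOfEqBot _ (Submodule.bot_smul _)
      rw [← e.length_eq, Module.length_ne_top_iff]
      exact hfl
    refine ⟨kNice_nil hM, ?_⟩
    rw [chiK_nil]
    apply tendsto_const_nhds.congr'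
    filter_upwards [eventually_ge_atTop 1] with n hn
    have h0 : (⊥ : Ideal A) ^ n = ⊥ := by
      rw [← Ideal.zero_eq_bot, zero_pow (by omega)]
    have e : (M ⧸ ((⊥ : Ideal A) ^ n • ⊤ : Submodule A M)) ≃ₗ[A] M :=
      Submodule.quotEquivOfEqBot _ (by rw [h0, Submodule.bot_smul])
    rw [e.length_eq]
    simp
  | cons x l ih =>
    intro M _ _ _ h
    haveI : IsNoetherian A M := isNoetherian_of_isNoetherianRing_of_finite A M
    set I' := Ideal.span {a | a ∈ l} with hI'
    have hI : Ideal.span {a | a ∈ x :: l} = Ideal.span {x} ⊔ I' := by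
      rw [setOf_mem_cons, Ideal.span_insert]
    rw [hI] at h ⊢
    set f := LinearMap.lsmul A M x with hf
    obtain ⟨nN, tN⟩ := ih (LinearMap.ker f) h.ker
    obtain ⟨nQ, tQ⟩ := ih (M ⧸ LinearMap.range f) h.quot
    obtain ⟨nM, cM⟩ := chiK_cons x l M nN nQ
    refine ⟨nM, ?_⟩
    have hkillQ : ∀ z : M ⧸ LinearMap.range f, x • z = 0 := by
      intro z
      obtain ⟨z, rfl⟩ := Submodule.Quotient.mk_surjective _ z
      rw [← Submodule.Quotient.mk_smul, Submodule.Quotient.mk_eq_zero]
      exact ⟨z, rfl⟩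
    have hkillN : ∀ z : LinearMap.ker f, x • z = 0 := by
      intro z
      apply Subtype.ext
      exact z.2
    have hrange : Ideal.span {x} ⊔ I' = Ideal.span {x} ⊔ Ideal.span (Set.range l.get) := by
      rw [Set.range_list_get]
    have hLQ : ∀ n, LI (Ideal.span {x} ⊔ I') (M ⧸ LinearMap.range f) n =
        Module.length A ((M ⧸ LinearMap.range f) ⧸
          (I' ^ n • ⊤ : Submodule A (M ⧸ LinearMap.range f))) := by
      intro n
      rw [LI_eq_of_kill x I' hkillQ, LI_eq]
    have hLN : ∀ n, LI (Ideal.span {x} ⊔ I') (LinearMap.ker f) n =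
        Module.length A ((LinearMap.ker f) ⧸
          (I' ^ n • ⊤ : Submodule A (LinearMap.ker f))) := by
      intro n
      rw [LI_eq_of_kill x I' hkillN, LI_eq]
    have key := tendsto_rec (M := M) (Ideal.span {x} ⊔ I') x l.get hrange
      (fun n => h.LI_ne_top n) (fun n => (h.ker.mono le_sup_right).LI_ne_top n)
      ((chiK l (M ⧸ LinearMap.range f) : ℤ) : ℝ) ((chiK l (LinearMap.ker f) : ℤ) : ℝ)
      (by
        refine tQ.congr ?_
        intro n
        rw [hLQ])
      (by
        refine tN.congr ?_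
        intro n
        rw [hLN])
    rw [cM]
    push_cast
    simp_rw [LI_eq] at key
    rw [List.length_cons]
    exact key

end Serre

section Fn

variable {A : Type u} [CommRing A] [IsNoetherianRing A] [IsLocalRing A]

theorem setOf_mem_ofFn {d : ℕ} (x : Fin d → A) : {a | a ∈ List.ofFn x} = Set.range x := by
  ext a
  simp [List.mem_ofFn]

/-- Serre's theorem for a family `x : Fin d → A`. -/
theorem serre_fn (d : ℕ) (x : Fin d → A) (M : Type u) [AddCommGroup M] [Module A M]
    [Module.Finite A M] (h : Sop (Ideal.span (Set.range x)) M) :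
    KNice (List.ofFn x) M ∧ Tendsto (fun n : ℕ => (d.factorial : ℝ) *
      ((Module.length A (M ⧸ (Ideal.span (Set.range x) ^ n • (⊤ : Submodule A M)))).toNat : ℝ) /
        (n : ℝ) ^ d) atTop
      (𝓝 ((∑ᶠ i : ℤ, ((i.negOnePow : ℤˣ) : ℤ) * ((Module.length A ((DRing.tensorCx
        (Koszul.koszul A (List.ofFn x)) (ModuleCat.of A M)).homology i)).toNat : ℤ) : ℤ) : ℝ)) := by
  have h' : Sop (Ideal.span {a | a ∈ List.ofFn x}) M := by rwa [setOf_mem_ofFn]
  obtain ⟨h1, h2⟩ := serre (List.ofFn x) M h'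
  refine ⟨h1, ?_⟩
  rw [setOf_mem_ofFn, List.length_ofFn, chiK_eq] at h2
  exact h2

end Fn

end Groth.Agent.Lib.Helper2.KosChi3
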