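import Mathlib
import Groth.Agent.Lib.Helper2.KosChi2

/-!
# Length inequalities for Koszul homology (half-exactness)
-/

set_option autoImplicit false
set_option linter.style.haveILetI false
universe u v

open CategoryTheory CategoryTheory.Limits MonoidalCategory Pretriangulated DerivedCategory
open CochainComplex

namespace Groth.Agent.Lib.Helper2.KosLen

open Groth.Agent.Lib.Helper2.KosChi1 Groth.Agent.Lib.Helper2.KosChi2

attribute [local instance] HasDerivedCategory.standard

section Der

variable {A : Type u} [CommRing A]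

theorem length_le_of_exact {X Y Z : Type*} [AddCommGroup X] [Module A X] [AddCommGroup Y]
    [Module A Y] [AddCommGroup Z] [Module A Z] (f : X →ₗ[A] Y) (g : Y →ₗ[A] Z)
    (h : Function.Exact f g) : Module.length A Y ≤ Module.length A X + Module.length A Z := by
  rw [length_ker_add_range g, LinearMap.exact_iff.1 h]
  exact add_le_add (Module.length_le_of_surjective _ f.surjective_rangeRestrict)
    (Module.length_le_of_injective _ (Submodule.subtype_injective _))

/-- half-exactness of cohomology lengths on distinguished triangles. -/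
theorem tri_le (T : Triangle (DerivedCategory (ModuleCat.{u} A))) (hT : T ∈ distTriang _) (n : ℤ) :
    Module.length A (Hn n T.obj₂) ≤ Module.length A (Hn n T.obj₁) + Module.length A (Hn n T.obj₃) := by
  have e2 := HomologySequence.exact₂ T hT n
  rw [ShortComplex.ShortExact.moduleCat_exact_iff_function_exact] at e2
  exact length_le_of_exact _ _ e2

/-- length of the `n`-th homology of a complex. -/
noncomputable def hC (C : CochainComplex (ModuleCat.{u} A) ℤ) (n : ℤ) : ℕ∞ :=
  Module.length A (C.homology n)

theorem hC_eq (C : CochainComplex (ModuleCat.{u} A) ℤ) (n : ℤ) :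
    hC C n = Module.length A (Hn n (Q.obj C)) := (length_HnQ C n).symm

theorem hC_of_iso {C D : CochainComplex (ModuleCat.{u} A) ℤ} (e : C ≅ D) (n : ℤ) :
    hC C n = hC D n := by
  rw [hC_eq, hC_eq]
  exact Hn_length_of_iso (Q.mapIso e) n

theorem hC_ses (S : ShortComplex (CochainComplex (ModuleCat.{u} A) ℤ)) (hS : S.ShortExact) (n : ℤ) :
    hC S.X₂ n ≤ hC S.X₁ n + hC S.X₃ n := by
  rw [hC_eq, hC_eq, hC_eq]
  exact tri_le _ (triangleOfSES_distinguished hS) n

theorem hC_cone {X₁ X₂ X₃ X₄ X₅ : CochainComplex (ModuleCat.{u} A) ℤ}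
    (i : X₁ ⟶ X₂) (p : X₂ ⟶ X₃) (j : X₃ ⟶ X₄) (q : X₄ ⟶ X₅) (w₁ : i ≫ p = 0) (w₂ : j ≫ q = 0)
    (h₁ : (ShortComplex.mk i p w₁).ShortExact) (h₂ : (ShortComplex.mk j q w₂).ShortExact)
    (φ : X₂ ⟶ X₄) (hφ : p ≫ j = φ) (n : ℤ) :
    hC (mappingCone φ) n ≤ hC X₁ (n + 1) + hC X₅ n := by
  have hT₁ := rot_of_distTriang _ (triangleOfSES_distinguished h₁)
  have hT₂ := triangleOfSES_distinguished h₂
  have hT₃ := mappingCone_triangle_distinguished φ
  have comm : (Q.map p : Q.obj X₂ ⟶ Q.obj X₃) ≫ Q.map j = Q.map φ := by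
    rw [← Functor.map_comp, hφ]
  have oct := Triangulated.someOctahedron comm hT₁ hT₂ hT₃
  have h := tri_le _ oct.mem n
  simp only [Triangle.mk_obj₁, Triangle.mk_obj₂, Triangle.mk_obj₃] at h
  rw [hC_eq, hC_eq, hC_eq, ← Hn_shift_length (Q.obj X₁) n (n + 1) rfl]
  exact h

end Der

section Modules

variable {A : Type u} [CommRing A]

/-- length of the `n`-th Koszul homology of `l` with coefficients in `M`. -/
noncomputable def hK (l : List A) (M : Type u) [AddCommGroup M] [Module A M] (n : ℤ) : ℕ∞ :=
  hC (KM l M) n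

theorem hK_eq (l : List A) (M : Type u) [AddCommGroup M] [Module A M] (n : ℤ) :
    hK l M n = Module.length A ((DRing.tensorCx (Koszul.koszul A l)
      (ModuleCat.of A M)).homology n) := rfl

variable {M : Type u} [AddCommGroup M] [Module A M] {N : Type u} [AddCommGroup N] [Module A N]

theorem hK_congr (l : List A) (e : M ≃ₗ[A] N) (n : ℤ) : hK l M n = hK l N n :=
  hC_of_iso (KMIso l e) n

theorem hK_nil (n : ℤ) : hK ([] : List A) M n = if n = 0 then Module.length A M else 0 := by
  unfold hK
  rw [hC_of_iso (nilIso (ModuleCat.of A M))]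
  exact length_single_homology _ n

theorem hK_ses (l : List A) {M' M'' : Type u} [AddCommGroup M'] [Module A M']
    [AddCommGroup M''] [Module A M''] (f : M' →ₗ[A] M) (g : M →ₗ[A] M'')
    (hf : Function.Injective f) (hg : Function.Surjective g) (hfg : Function.Exact f g) (n : ℤ) :
    hK l M n ≤ hK l M' n + hK l M'' n := by
  let S : ShortComplex (ModuleCat.{u} A) :=
    ShortComplex.mk (ModuleCat.ofHom f) (ModuleCat.ofHom g) (by
      ext m
      exact hfg.apply_apply_eq_zero m)
  have hS : S.ShortExact := ModuleCat.shortComplex_shortExact S hfg hf hg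
  exact hC_ses _ (G_shortExact (Koszul.koszul A l) (flat_koszul l) S hS) n

theorem hK_cons (x : A) (l : List A) (M : Type u) [AddCommGroup M] [Module A M] (n : ℤ) :
    hK (x :: l) M n ≤ hK l (LinearMap.ker (LinearMap.lsmul A M x)) (n + 1) +
      hK l (M ⧸ LinearMap.range (LinearMap.lsmul A M x)) n := by
  set f : M →ₗ[A] M := LinearMap.lsmul A M x with hf
  let S₁ : ShortComplex (ModuleCat.{u} A) :=
    ShortComplex.mk (ModuleCat.ofHom (LinearMap.ker f).subtype) (ModuleCat.ofHom f.rangeRestrict) (by
      ext m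
      exact m.2)
  have hS₁ : S₁.ShortExact := by
    refine ModuleCat.shortComplex_shortExact S₁ ?_ (Submodule.subtype_injective _)
      f.surjective_rangeRestrict
    rw [LinearMap.exact_iff]
    show LinearMap.ker f.rangeRestrict = LinearMap.range (LinearMap.ker f).subtype
    rw [LinearMap.ker_rangeRestrict, Submodule.range_subtype]
  let S₂ : ShortComplex (ModuleCat.{u} A) :=
    ShortComplex.mk (ModuleCat.ofHom (LinearMap.range f).subtype)
      (ModuleCat.ofHom (LinearMap.range f).mkQ) (by
      ext m
      simp)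
  have hS₂ : S₂.ShortExact := by
    refine ModuleCat.shortComplex_shortExact S₂ ?_ (Submodule.subtype_injective _)
      (Submodule.mkQ_surjective _)
    rw [LinearMap.exact_iff]
    show LinearMap.ker (LinearMap.range f).mkQ = LinearMap.range (LinearMap.range f).subtype
    rw [Submodule.ker_mkQ, Submodule.range_subtype]
  set P := Koszul.koszul A l with hP
  have h₁ := G_shortExact P (flat_koszul l) S₁ hS₁
  have h₂ := G_shortExact P (flat_koszul l) S₂ hS₂
  have hcomp : S₁.g ≫ S₂.f = x • 𝟙 (ModuleCat.of A M) := by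
    ext m
    rfl
  have hφ : (G P).map S₁.g ≫ (G P).map S₂.f = x • 𝟙 (KM l M) := by
    rw [← Functor.map_comp, hcomp, G_map_smul]
    rfl
  have key := hC_cone ((G P).map S₁.f) ((G P).map S₁.g) ((G P).map S₂.f) ((G P).map S₂.g)
    (S₁.map (G P)).zero (S₂.map (G P)).zero h₁ h₂ (x • 𝟙 (KM l M)) hφ n
  have e : KM (x :: l) M ≅ mappingCone (x • 𝟙 (KM l M)) := coneIso P x (ModuleCat.of A M)
  unfold hK
  rw [hC_of_iso e]
  exact key

theorem hK_of_subsingleton (l : List A) : ∀ (N : Type u) [AddCommGroup N] [Module A N]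
    [Subsingleton N] (n : ℤ), hK l N n = 0 := by
  induction l with
  | nil =>
    intro N _ _ _ n
    rw [hK_nil]
    split_ifs
    · exact Module.length_eq_zero
    · rfl
  | cons x l ih =>
    intro N _ _ _ n
    have h := hK_cons x l N n
    rw [ih, ih, add_zero] at h
    exact le_antisymm h zero_le

theorem hK_eq_zero_of_pos (l : List A) : ∀ (M : Type u) [AddCommGroup M] [Module A M] (n : ℤ),
    0 < n → hK l M n = 0 := by
  induction l with
  | nil =>
    intro M _ _ n hn
    rw [hK_nil, if_neg (by omega)]
  | cons x l ih =>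
    intro M _ _ n hn
    have h := hK_cons x l M n
    rw [ih _ _ (by omega), ih _ _ hn, add_zero] at h
    exact le_antisymm h zero_le

theorem hK_eq_zero_of_lt (l : List A) : ∀ (M : Type u) [AddCommGroup M] [Module A M] (n : ℤ),
    n < -(l.length : ℤ) → hK l M n = 0 := by
  induction l with
  | nil =>
    intro M _ _ n hn
    rw [hK_nil, if_neg]
    simp at hn
    omega
  | cons x l ih =>
    intro M _ _ n hn
    have h := hK_cons x l M n
    rw [List.length_cons] at hn
    push_cast at hn
    rw [ih _ _ (by omega), ih _ _ (by omega), add_zero] at h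
    exact le_antisymm h zero_le

end Modules

end Groth.Agent.Lib.Helper2.KosLen
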