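import Mathlib
import Groth.Agent.Lib.Helper2.KosLen
import Groth.Agent.Lib.Helper2.KosChi3

/-!
# Filtration of `M / x^n M` and stabilisation of `M[x^n]`
-/

set_option autoImplicit false
set_option linter.style.haveILetI false
universe u v

namespace Groth.Agent.Lib.Helper2.KosLen2

open Groth.Agent.Lib.Helper2.KosLen Groth.Agent.Lib.Helper2.KosChi3

section Filt

variable {A : Type u} [CommRing A] (x : A) (M : Type u) [AddCommGroup M] [Module A M]

/-- `xM + M[x^j]`. -/
def Pj (j : ℕ) : Submodule A M :=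
  LinearMap.range (LinearMap.lsmul A M x) ⊔ LinearMap.ker (LinearMap.lsmul A M (x ^ j))

/-- `M[x^j]`. -/
def Tj (j : ℕ) : Submodule A M := LinearMap.ker (LinearMap.lsmul A M (x ^ j))

/-- `x^j M`. -/
def Rj (j : ℕ) : Submodule A M := LinearMap.range (LinearMap.lsmul A M (x ^ j))

variable {M}

theorem mem_Tj {j : ℕ} {m : M} : m ∈ Tj x M j ↔ x ^ j • m = 0 := by
  unfold Tj
  rw [LinearMap.mem_ker, LinearMap.lsmul_apply]

theorem mem_Rj {j : ℕ} {m : M} : m ∈ Rj x M j ↔ ∃ m', x ^ j • m' = m := by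
  unfold Rj
  rw [LinearMap.mem_range]
  rfl

theorem Tj_mono : Monotone (Tj x M) := by
  intro i j hij m hm
  rw [mem_Tj] at hm ⊢
  obtain ⟨t, rfl⟩ := Nat.exists_eq_add_of_le hij
  rw [pow_add, mul_comm, mul_smul, hm, smul_zero]

theorem Rj_anti {i j : ℕ} (hij : i ≤ j) : Rj x M j ≤ Rj x M i := by
  intro m hm
  rw [mem_Rj] at hm ⊢
  obtain ⟨m', rfl⟩ := hm
  obtain ⟨t, rfl⟩ := Nat.exists_eq_add_of_le hij
  exact ⟨x ^ t • m', by rw [pow_add, mul_smul]⟩

theorem Pj_mono : Monotone (Pj x M) := by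
  intro i j hij
  unfold Pj
  exact sup_le_sup_left (Tj_mono x hij) _

variable (M)

/-- the map `M/(xM + M[x^j]) → M/x^(j+1)M` induced by `x^j`. -/
noncomputable def psi (j : ℕ) : (M ⧸ Pj x M j) →ₗ[A] (M ⧸ Rj x M (j + 1)) :=
  Submodule.liftQ _ ((Rj x M (j + 1)).mkQ ∘ₗ LinearMap.lsmul A M (x ^ j)) (by
    unfold Pj
    apply sup_le
    · rintro _ ⟨m, rfl⟩
      rw [LinearMap.mem_ker, LinearMap.comp_apply, Submodule.mkQ_apply,
        Submodule.Quotient.mk_eq_zero, mem_Rj]
      exact ⟨m, by rw [LinearMap.lsmul_apply, LinearMap.lsmul_apply, pow_succ, mul_smul]⟩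
    · intro m hm
      rw [LinearMap.mem_ker] at hm
      rw [LinearMap.mem_ker, LinearMap.comp_apply, hm, map_zero])

/-- the projection `M/x^(j+1)M → M/x^jM`. -/
noncomputable def pi (j : ℕ) : (M ⧸ Rj x M (j + 1)) →ₗ[A] (M ⧸ Rj x M j) :=
  Submodule.factor (Rj_anti x (Nat.le_succ j))

theorem psi_injective (j : ℕ) : Function.Injective (psi x M j) := by
  rw [← LinearMap.ker_eq_bot, LinearMap.ker_eq_bot']
  intro y hy
  obtain ⟨m, rfl⟩ := Submodule.Quotient.mk_surjective _ y
  unfold psi at hy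
  rw [Submodule.liftQ_apply, LinearMap.comp_apply, Submodule.mkQ_apply,
    Submodule.Quotient.mk_eq_zero, mem_Rj] at hy
  obtain ⟨m', hm'⟩ := hy
  rw [Submodule.Quotient.mk_eq_zero]
  unfold Pj
  have h1 : m = x • m' + (m - x • m') := by abel
  rw [h1]
  apply Submodule.add_mem_sup
  · exact ⟨m', rfl⟩
  · rw [LinearMap.mem_ker, LinearMap.lsmul_apply]
    rw [smul_sub, ← mul_smul, ← pow_succ, hm', LinearMap.lsmul_apply, sub_self]

theorem pi_surjective (j : ℕ) : Function.Surjective (pi x M j) := by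
  intro y
  obtain ⟨m, rfl⟩ := Submodule.Quotient.mk_surjective _ y
  exact ⟨Submodule.Quotient.mk m, rfl⟩

theorem psi_pi_exact (j : ℕ) : Function.Exact (psi x M j) (pi x M j) := by
  intro y
  obtain ⟨m, rfl⟩ := Submodule.Quotient.mk_surjective _ y
  constructor
  · intro h
    have h' : m ∈ Rj x M j := by
      rw [← Submodule.Quotient.mk_eq_zero]
      exact h
    obtain ⟨m', rfl⟩ := (mem_Rj x).1 h'
    exact ⟨Submodule.Quotient.mk m', rfl⟩
  · rintro ⟨z, hz⟩
    obtain ⟨m', rfl⟩ := Submodule.Quotient.mk_surjective _ z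
    rw [← hz]
    unfold psi pi
    rw [Submodule.liftQ_apply, LinearMap.comp_apply, Submodule.mkQ_apply]
    change (Submodule.Quotient.mk (x ^ j • m') : M ⧸ Rj x M j) = 0
    rw [Submodule.Quotient.mk_eq_zero, mem_Rj]
    exact ⟨m', rfl⟩

/-- the filtration bound. -/
theorem hK_quot_pow_le (L : List A) (i : ℤ) (n : ℕ) :
    hK L (M ⧸ Rj x M n) i ≤ ∑ j ∈ Finset.range n, hK L (M ⧸ Pj x M j) i := by
  induction n with
  | zero =>
    haveI : Subsingleton (M ⧸ Rj x M 0) := by
      rw [Submodule.Quotient.subsingleton_iff, eq_top_iff]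
      intro m _
      rw [mem_Rj]
      exact ⟨m, by simp⟩
    rw [hK_of_subsingleton]
    exact zero_le
  | succ n ih =>
    have h := hK_ses L (psi x M n) (pi x M n) (psi_injective x M n) (pi_surjective x M n)
      (psi_pi_exact x M n) i
    rw [Finset.sum_range_succ]
    exact h.trans ((add_comm _ _).le.trans (add_le_add ih le_rfl))

end Filt

end Groth.Agent.Lib.Helper2.KosLen2
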