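import Mathlib
import Groth.Agent.Lib.Helper2.KosLen2

/-!
# The bound `ℓ H_i(x^n; M) ≤ c n^(k-i)`
-/

set_option autoImplicit false
set_option linter.style.haveILetI false
universe u v

namespace Groth.Agent.Lib.Helper2.KosLen3

open Groth.Agent.Lib.Helper2.KosLen Groth.Agent.Lib.Helper2.KosLen2
  Groth.Agent.Lib.Helper2.KosChi3

section Stab

variable {A : Type u} [CommRing A] (x : A) (M : Type u) [AddCommGroup M] [Module A M]
  [IsNoetherian A M]

theorem Tj_stab : ∃ j₀, ∀ j, j₀ ≤ j → Tj x M j = Tj x M j₀ := by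
  obtain ⟨n, hn⟩ := monotone_stabilizes_iff_noetherian.2 (inferInstance : IsNoetherian A M)
    ⟨Tj x M, Tj_mono x⟩
  exact ⟨n, fun j hj => (hn j hj).symm⟩

theorem Pj_stab : ∃ j₀, ∀ j, j₀ ≤ j → Pj x M j = Pj x M j₀ := by
  obtain ⟨n, hn⟩ := monotone_stabilizes_iff_noetherian.2 (inferInstance : IsNoetherian A M)
    ⟨Pj x M, Pj_mono x⟩
  exact ⟨n, fun j hj => (hn j hj).symm⟩

end Stab

section SopL

variable {A : Type u} [CommRing A] [IsNoetherianRing A] [IsLocalRing A]
  {M : Type u} [AddCommGroup M] [Module A M]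

theorem Sop.pow_head {x : A} {I' : Ideal A} (h : Sop (Ideal.span {x} ⊔ I') M) (j : ℕ) :
    Sop (Ideal.span {x ^ j} ⊔ I') M := by
  intro q hq hle
  apply h q hq
  apply sup_le _ (le_sup_right.trans hle)
  rw [Ideal.span_singleton_le_iff_mem]
  apply q.2.mem_of_pow_mem j
  exact hle (Ideal.mem_sup_left (Ideal.mem_span_singleton_self _))

theorem sop_Tj {x : A} {I' : Ideal A} (h : Sop (Ideal.span {x} ⊔ I') M) (j : ℕ) :
    Sop I' (Tj x M j) :=
  (Sop.pow_head h j).ker

theorem sop_quot_of_le {x : A} {I' : Ideal A} (h : Sop (Ideal.span {x} ⊔ I') M)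
    (P : Submodule A M) (hP : LinearMap.range (LinearMap.lsmul A M x) ≤ P) :
    Sop I' (M ⧸ P) := by
  intro q hq hIq
  apply h q (Module.support_subset_of_surjective _ (Submodule.mkQ_surjective _) hq)
  apply sup_le _ hIq
  rw [Ideal.span_singleton_le_iff_mem]
  apply Module.annihilator_le_of_mem_support hq
  rw [Module.mem_annihilator]
  intro z
  obtain ⟨z, rfl⟩ := Submodule.Quotient.mk_surjective _ z
  rw [← Submodule.Quotient.mk_smul, Submodule.Quotient.mk_eq_zero]
  exact hP ⟨z, rfl⟩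

theorem sop_Pj {x : A} {I' : Ideal A} (h : Sop (Ideal.span {x} ⊔ I') M) (j : ℕ) :
    Sop I' (M ⧸ Pj x M j) :=
  sop_quot_of_le h _ le_sup_left

end SopL

section Bound

variable {A : Type u} [CommRing A] [IsNoetherianRing A] [IsLocalRing A]

theorem hK_ne_top (l : List A) (M : Type u) [AddCommGroup M] [Module A M] [Module.Finite A M]
    (h : Sop (Ideal.span {a | a ∈ l}) M) (n : ℤ) : hK l M n ≠ ⊤ :=
  ((Groth.Agent.Lib.Helper2.KosChi2.kNice_iff l M).1 (serre l M h).1).1 n

/-- the bound `ℓ H_i(l^n; M) ≤ c n^(k-i)`. -/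
theorem bound156 : ∀ (l : List A) (M : Type u) [AddCommGroup M] [Module A M] [Module.Finite A M],
    Sop (Ideal.span {a | a ∈ l}) M → ∀ i : ℕ, i ≤ l.length →
    ∃ c : ℕ, ∀ n : ℕ, 0 < n →
      hK (l.map (· ^ n)) M (-(i : ℤ)) ≤ ((c * n ^ (l.length - i) : ℕ) : ℕ∞) := by
  intro l
  induction l with
  | nil =>
    intro M _ _ _ h i hi
    have hi0 : i = 0 := by simpa using hi
    subst hi0
    have hfin := hK_ne_top [] M h 0
    refine ⟨(hK ([] : List A) M 0).toNat, fun n _ => ?_⟩
    simp only [List.map_nil, Nat.cast_zero, neg_zero, List.length_nil, Nat.sub_zero, pow_zero,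
      mul_one]
    rw [ENat.natCast_toNat hfin]
  | cons x l ih =>
    intro M _ _ _ h i hi
    haveI : IsNoetherian A M := isNoetherian_of_isNoetherianRing_of_finite A M
    set I' := Ideal.span {a | a ∈ l} with hI'
    have hI : Ideal.span {a | a ∈ x :: l} = Ideal.span {x} ⊔ I' := by
      rw [setOf_mem_cons, Ideal.span_insert]
    rw [hI] at h
    set k := l.length with hk
    rw [List.length_cons] at hi ⊢
    -- term 1
    have term1 : ∃ c₁ : ℕ, ∀ n : ℕ, 0 < n →
        hK (l.map (· ^ n)) (Tj x M n) (-(i : ℤ) + 1) ≤ ((c₁ * n ^ (k + 1 - i) : ℕ) : ℕ∞) := by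
      cases i with
      | zero =>
        refine ⟨0, fun n _ => ?_⟩
        rw [hK_eq_zero_of_pos _ _ _ (by simp)]
        exact zero_le
      | succ i' =>
        obtain ⟨j₀, hj₀⟩ := Tj_stab x M
        have hc : ∀ j : ℕ, ∃ c : ℕ, ∀ n : ℕ, 0 < n →
            hK (l.map (· ^ n)) (Tj x M j) (-(i' : ℤ)) ≤ ((c * n ^ (k - i') : ℕ) : ℕ∞) :=
          fun j => ih (Tj x M j) (sop_Tj h j) i' (by omega)
        choose cj hcj using hc
        refine ⟨∑ j ∈ Finset.range (j₀ + 1), cj j, fun n hn => ?_⟩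
        have hidx : (-((i' + 1 : ℕ) : ℤ) + 1) = -(i' : ℤ) := by push_cast; ring
        rw [hidx, show k + 1 - (i' + 1) = k - i' by omega]
        have hTeq : Tj x M n = Tj x M (min n j₀) := by
          rcases le_total n j₀ with hle | hle
          · rw [min_eq_left hle]
          · rw [min_eq_right hle, hj₀ n hle]
        rw [hK_congr _ (LinearEquiv.ofEq _ _ hTeq)]
        refine (hcj (min n j₀) n hn).trans ?_
        have hle : cj (min n j₀) ≤ ∑ j ∈ Finset.range (j₀ + 1), cj j :=
          Finset.single_le_sum (f := cj) (fun _ _ => Nat.zero_le _)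
            (Finset.mem_range.2 (by omega))
        exact_mod_cast Nat.mul_le_mul_right _ hle
    -- term 2
    have term2 : ∃ c₂ : ℕ, ∀ n : ℕ, 0 < n →
        hK (l.map (· ^ n)) (M ⧸ Rj x M n) (-(i : ℤ)) ≤ ((c₂ * n ^ (k + 1 - i) : ℕ) : ℕ∞) := by
      by_cases hik : i = k + 1
      · refine ⟨0, fun n _ => ?_⟩
        rw [hK_eq_zero_of_lt _ _ _ (by rw [List.length_map, hik]; push_cast; omega)]
        exact zero_le
      · have hik' : i ≤ k := by omega
        obtain ⟨j₀, hj₀⟩ := Pj_stab x M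
        have hc : ∀ j : ℕ, ∃ c : ℕ, ∀ n : ℕ, 0 < n →
            hK (l.map (· ^ n)) (M ⧸ Pj x M j) (-(i : ℤ)) ≤ ((c * n ^ (k - i) : ℕ) : ℕ∞) :=
          fun j => ih (M ⧸ Pj x M j) (sop_Pj h j) i hik'
        choose cj hcj using hc
        refine ⟨∑ j ∈ Finset.range (j₀ + 1), cj j, fun n hn => ?_⟩
        set C := ∑ j ∈ Finset.range (j₀ + 1), cj j with hC
        refine (hK_quot_pow_le x M (l.map (· ^ n)) (-(i : ℤ)) n).trans ?_
        have hterm : ∀ j ∈ Finset.range n,
            hK (l.map (· ^ n)) (M ⧸ Pj x M j) (-(i : ℤ)) ≤ ((C * n ^ (k - i) : ℕ) : ℕ∞) := by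
          intro j _
          have hPeq : Pj x M j = Pj x M (min j j₀) := by
            rcases le_total j j₀ with hle | hle
            · rw [min_eq_left hle]
            · rw [min_eq_right hle, hj₀ j hle]
          rw [hK_congr _ (Submodule.quotEquivOfEq _ _ hPeq)]
          refine (hcj (min j j₀) n hn).trans ?_
          have hle : cj (min j j₀) ≤ C :=
            Finset.single_le_sum (f := cj) (fun _ _ => Nat.zero_le _)
              (Finset.mem_range.2 (by omega))
          exact_mod_cast Nat.mul_le_mul_right _ hle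
        refine (Finset.sum_le_sum hterm).trans ?_
        rw [Finset.sum_const, Finset.card_range, show k + 1 - i = (k - i) + 1 by omega, pow_succ]
        rw [nsmul_eq_mul]
        exact_mod_cast le_of_eq (by ring)
    obtain ⟨c₁, h1⟩ := term1
    obtain ⟨c₂, h2⟩ := term2
    refine ⟨c₁ + c₂, fun n hn => ?_⟩
    rw [List.map_cons]
    refine (hK_cons (x ^ n) (l.map (· ^ n)) M (-(i : ℤ))).trans ?_
    refine (add_le_add (h1 n hn) (h2 n hn)).trans ?_
    exact_mod_cast le_of_eq (by ring)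

end Bound

end Groth.Agent.Lib.Helper2.KosLen3
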