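import Mathlib
import Groth.Agent.Lib.Helper2.KosLen3

/-!
# The bound `ℓ H^i(x^n; M) ≤ c n^(dim M)`
-/

set_option autoImplicit false
set_option linter.style.haveILetI false
universe u v

namespace Groth.Agent.Lib.Helper2.KosLen4

open Groth.Agent.Lib.Helper2.KosLen Groth.Agent.Lib.Helper2.KosLen2
  Groth.Agent.Lib.Helper2.KosLen3 Groth.Agent.Lib.Helper2.KosChi3

section Order

theorem le_of_succ_le_succ (y : WithBot ℕ∞) (d : ℕ)
    (h : y + 1 ≤ ((d + 1 : ℕ) : WithBot ℕ∞)) : y ≤ (d : WithBot ℕ∞) := by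
  induction y using WithBot.recBotCoe with
  | bot => exact bot_le
  | coe e =>
    induction e using ENat.recTopCoe with
    | top =>
      exfalso
      have h1 : (((⊤ : ℕ∞) + 1 : ℕ∞) : WithBot ℕ∞) ≤ (((d + 1 : ℕ) : ℕ∞) : WithBot ℕ∞) := by
        exact_mod_cast h
      rw [WithBot.coe_le_coe, top_add] at h1
      exact absurd h1 (by simp)
    | coe n =>
      have h1 : ((((n + 1 : ℕ) : ℕ∞)) : WithBot ℕ∞) ≤ (((d + 1 : ℕ) : ℕ∞) : WithBot ℕ∞) := by
        exact_mod_cast h
      rw [WithBot.coe_le_coe, Nat.cast_le] at h1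
      have h2 : n ≤ d := by omega
      exact_mod_cast h2

theorem eq_bot_of_succ_le_zero (y : WithBot ℕ∞) (h : y + 1 ≤ ((0 : ℕ) : WithBot ℕ∞)) : y = ⊥ := by
  induction y using WithBot.recBotCoe with
  | bot => rfl
  | coe e =>
    exfalso
    have h1 : (((e + 1 : ℕ∞)) : WithBot ℕ∞) ≤ (((0 : ℕ) : ℕ∞) : WithBot ℕ∞) := by
      exact_mod_cast h
    rw [WithBot.coe_le_coe] at h1
    simp at h1

end Order

section SopMore

variable {A : Type u} [CommRing A] [IsNoetherianRing A] [IsLocalRing A]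
  {M : Type u} [AddCommGroup M] [Module A M] {N : Type u} [AddCommGroup N] [Module A N]

theorem Sop.of_injective {I : Ideal A} (h : Sop I M) (f : N →ₗ[A] M) (hf : Function.Injective f) :
    Sop I N :=
  fun q hq hIq => h q (Module.support_subset_of_injective f hf hq) hIq

theorem Sop.of_surjective {I : Ideal A} (h : Sop I M) (f : M →ₗ[A] N)
    (hf : Function.Surjective f) : Sop I N :=
  fun q hq hIq => h q (Module.support_subset_of_surjective f hf hq) hIq

end SopMore

section Bound

open Pointwise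

variable {A : Type u} [CommRing A] [IsNoetherianRing A] [IsLocalRing A]

theorem range_lsmul_eq_smul_top (x : A) (D : Type u) [AddCommGroup D] [Module A D] :
    (x • (⊤ : Submodule A D)) = LinearMap.range (LinearMap.lsmul A D x) := by
  ext z
  rw [Submodule.mem_smul_pointwise_iff_exists, LinearMap.mem_range]
  constructor
  · rintro ⟨m, -, rfl⟩
    exact ⟨m, rfl⟩
  · rintro ⟨m, rfl⟩
    exact ⟨m, trivial, rfl⟩

/-- the inductive step. -/
theorem step157 (x : A) (l : List A) (I' : Ideal A)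
    (IH : ∀ (d : ℕ) (M : Type u) [AddCommGroup M] [Module A M] [Module.Finite A M],
      Module.supportDim A M ≤ d → Sop I' M → ∀ i : ℤ, ∃ c : ℕ, ∀ n : ℕ, 0 < n →
        hK (l.map (· ^ n)) M i ≤ ((c * n ^ d : ℕ) : ℕ∞)) :
    ∀ (d : ℕ) (M : Type u) [AddCommGroup M] [Module A M] [Module.Finite A M],
      Module.supportDim A M ≤ d → Sop (Ideal.span {x} ⊔ I') M → ∀ i : ℤ, ∃ c : ℕ, ∀ n : ℕ, 0 < n →
        hK (x ^ n :: l.map (· ^ n)) M i ≤ ((c * n ^ d : ℕ) : ℕ∞) := by
  intro d M _ _ hM
  induction hM using IsNoetherianRing.induction_on_isQuotientEquivQuotientPrime A with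
  | subsingleton N =>
    intro _ _ i
    exact ⟨0, fun n _ => by rw [hK_of_subsingleton]; exact zero_le⟩
  | quotient N p e =>
    intro hdim hS i
    have hdimD : Module.supportDim A (A ⧸ p.asIdeal) ≤ d := by
      rw [← Module.supportDim_eq_of_equiv e]; exact hdim
    have hSD : Sop (Ideal.span {x} ⊔ I') (A ⧸ p.asIdeal) :=
      Sop.of_surjective hS e.toLinearMap e.surjective
    suffices hsuff : ∃ c : ℕ, ∀ n : ℕ, 0 < n →
        hK (x ^ n :: l.map (· ^ n)) (A ⧸ p.asIdeal) i ≤ ((c * n ^ d : ℕ) : ℕ∞) by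
      obtain ⟨c, hc⟩ := hsuff
      exact ⟨c, fun n hn => by rw [hK_congr _ e]; exact hc n hn⟩
    by_cases hxp : x ∈ p.asIdeal
    · -- `x` kills `A/p`
      have hkill : ∀ (n : ℕ), 0 < n → ∀ z : A ⧸ p.asIdeal, x ^ n • z = 0 := by
        intro n hn z
        obtain ⟨a, rfl⟩ := Submodule.Quotient.mk_surjective _ z
        rw [← Submodule.Quotient.mk_smul, Submodule.Quotient.mk_eq_zero, smul_eq_mul]
        exact Ideal.mul_mem_right _ _ (Ideal.pow_mem_of_mem _ hxp n hn)
      have hSD' : Sop I' (A ⧸ p.asIdeal) := by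
        intro q hq hIq
        apply hSD q hq
        apply sup_le _ hIq
        rw [Ideal.span_singleton_le_iff_mem]
        apply Module.annihilator_le_of_mem_support hq
        rw [Module.mem_annihilator]
        intro z
        have := hkill 1 one_pos z
        rwa [pow_one] at this
      obtain ⟨c₁, h1⟩ := IH d (A ⧸ p.asIdeal) hdimD hSD' (i + 1)
      obtain ⟨c₂, h2⟩ := IH d (A ⧸ p.asIdeal) hdimD hSD' i
      refine ⟨c₁ + c₂, fun n hn => ?_⟩
      have hker : LinearMap.ker (LinearMap.lsmul A (A ⧸ p.asIdeal) (x ^ n)) = ⊤ := by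
        rw [eq_top_iff]
        intro z _
        rw [LinearMap.mem_ker, LinearMap.lsmul_apply]
        exact hkill n hn z
      have hrange : LinearMap.range (LinearMap.lsmul A (A ⧸ p.asIdeal) (x ^ n)) = ⊥ := by
        rw [eq_bot_iff]
        rintro _ ⟨z, rfl⟩
        rw [LinearMap.lsmul_apply, hkill n hn z]
        exact Submodule.zero_mem _
      have h := hK_cons (x ^ n) (l.map (· ^ n)) (A ⧸ p.asIdeal) i
      rw [hK_congr _ ((LinearEquiv.ofEq _ _ hker).trans Submodule.topEquiv),
        hK_congr _ (Submodule.quotEquivOfEqBot _ hrange)] at h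
      refine h.trans ((add_le_add (h1 n hn) (h2 n hn)).trans ?_)
      exact_mod_cast le_of_eq (by ring)
    · -- `x` is a nonzerodivisor on `A/p`
      have hreg : ∀ (n : ℕ) (z : A ⧸ p.asIdeal), x ^ n • z = 0 → z = 0 := by
        intro n z hz
        obtain ⟨a, rfl⟩ := Submodule.Quotient.mk_surjective _ z
        rw [← Submodule.Quotient.mk_smul, Submodule.Quotient.mk_eq_zero, smul_eq_mul] at hz
        rw [Submodule.Quotient.mk_eq_zero]
        rcases p.2.mem_or_mem hz with h | h
        · exact absurd (p.2.mem_of_pow_mem n h) hxp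
        · exact h
      have hT : ∀ n, Tj x (A ⧸ p.asIdeal) n = ⊥ := by
        intro n
        rw [eq_bot_iff]
        intro z hz
        rw [mem_Tj] at hz
        rw [Submodule.mem_bot]
        exact hreg n z hz
      have hP : ∀ j, Pj x (A ⧸ p.asIdeal) j =
          LinearMap.range (LinearMap.lsmul A (A ⧸ p.asIdeal) x) := by
        intro j
        have := hT j
        unfold Tj at this
        unfold Pj
        rw [this, sup_bot_eq]
      have hS₁ : Sop I' ((A ⧸ p.asIdeal) ⧸ LinearMap.range (LinearMap.lsmul A (A ⧸ p.asIdeal) x)) :=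
        sop_quot_of_le hSD _ le_rfl
      have hdim₁ : Module.supportDim A
          ((A ⧸ p.asIdeal) ⧸ LinearMap.range (LinearMap.lsmul A (A ⧸ p.asIdeal) x)) + 1 ≤
          Module.supportDim A (A ⧸ p.asIdeal) := by
        have hn : ∀ q ∈ (Module.annihilator A (A ⧸ p.asIdeal)).minimalPrimes, x ∉ q := by
          intro q hq
          rw [Ideal.annihilator_quotient, Ideal.minimalPrimes_eq_subsingleton_self] at hq
          rw [Set.mem_singleton_iff.1 hq]
          exact hxp
        have h0 := Module.supportDim_quotSMulTop_succ_le_of_notMem_minimalPrimes hn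
        have e1 : QuotSMulTop x (A ⧸ p.asIdeal) ≃ₗ[A]
            ((A ⧸ p.asIdeal) ⧸ LinearMap.range (LinearMap.lsmul A (A ⧸ p.asIdeal) x)) :=
          Submodule.quotEquivOfEq _ _ (range_lsmul_eq_smul_top x _)
        rw [← Module.supportDim_eq_of_equiv e1]
        exact h0
      -- the reduction to `D/xD`
      have hred : ∀ (c₁ : ℕ) (e : ℕ), (∀ n : ℕ, 0 < n → hK (l.map (· ^ n))
          ((A ⧸ p.asIdeal) ⧸ LinearMap.range (LinearMap.lsmul A (A ⧸ p.asIdeal) x)) i ≤
            ((c₁ * n ^ e : ℕ) : ℕ∞)) → ∀ n : ℕ, 0 < n →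
          hK (x ^ n :: l.map (· ^ n)) (A ⧸ p.asIdeal) i ≤ ((c₁ * n ^ (e + 1) : ℕ) : ℕ∞) := by
        intro c₁ e hc n hn
        have h := hK_cons (x ^ n) (l.map (· ^ n)) (A ⧸ p.asIdeal) i
        have hker : LinearMap.ker (LinearMap.lsmul A (A ⧸ p.asIdeal) (x ^ n)) = ⊥ := hT n
        rw [hK_congr _ (LinearEquiv.ofEq _ _ hker),
          hK_of_subsingleton (l.map (· ^ n)) (↥(⊥ : Submodule A (A ⧸ p.asIdeal))) (i + 1),
          zero_add] at h
        refine h.trans ?_
        refine (hK_quot_pow_le x (A ⧸ p.asIdeal) (l.map (· ^ n)) i n).trans ?_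
        have hterm : ∀ j ∈ Finset.range n,
            hK (l.map (· ^ n)) ((A ⧸ p.asIdeal) ⧸ Pj x (A ⧸ p.asIdeal) j) i ≤
              ((c₁ * n ^ e : ℕ) : ℕ∞) := by
          intro j _
          rw [hK_congr _ (Submodule.quotEquivOfEq _ _ (hP j))]
          exact hc n hn
        refine (Finset.sum_le_sum hterm).trans ?_
        rw [Finset.sum_const, Finset.card_range, nsmul_eq_mul, pow_succ]
        exact_mod_cast le_of_eq (by ring)
      cases d with
      | zero =>
        have hbot := eq_bot_of_succ_le_zero _ (hdim₁.trans hdimD)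
        haveI : Subsingleton
            ((A ⧸ p.asIdeal) ⧸ LinearMap.range (LinearMap.lsmul A (A ⧸ p.asIdeal) x)) :=
          (Module.supportDim_eq_bot_iff_subsingleton A _).1 hbot
        refine ⟨0, fun n hn => ?_⟩
        have := hred 0 0 (fun n _ => by rw [hK_of_subsingleton]; exact zero_le) n hn
        refine this.trans ?_
        simp
      | succ d' =>
        have hdim' := le_of_succ_le_succ _ d' (hdim₁.trans hdimD)
        obtain ⟨c₁, hc₁⟩ := IH d' _ hdim' hS₁ i
        exact ⟨c₁, hred c₁ d' hc₁⟩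
  | exact N₁ N₂ N₃ f g hf hg hfg h1 h3 =>
    intro hdim hS i
    obtain ⟨c₁, hc₁⟩ := h1 ((Module.supportDim_le_of_injective f hf).trans hdim)
      (Sop.of_injective hS f hf) i
    obtain ⟨c₃, hc₃⟩ := h3 ((Module.supportDim_le_of_surjective g hg).trans hdim)
      (Sop.of_surjective hS g hg) i
    refine ⟨c₁ + c₃, fun n hn => ?_⟩
    refine (hK_ses _ f g hf hg hfg i).trans ((add_le_add (hc₁ n hn) (hc₃ n hn)).trans ?_)
    exact_mod_cast le_of_eq (by ring)

/-- the bound `ℓ H^i(l^n; M) ≤ c n^(dim M)`. -/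
theorem bound157 : ∀ (l : List A) (d : ℕ) (M : Type u) [AddCommGroup M] [Module A M]
    [Module.Finite A M], Module.supportDim A M ≤ d → Sop (Ideal.span {a | a ∈ l}) M →
    ∀ i : ℤ, ∃ c : ℕ, ∀ n : ℕ, 0 < n → hK (l.map (· ^ n)) M i ≤ ((c * n ^ d : ℕ) : ℕ∞) := by
  intro l
  induction l with
  | nil =>
    intro d M _ _ _ _ h i
    have hfin := hK_ne_top [] M h 0
    refine ⟨(hK ([] : List A) M 0).toNat, fun n hn => ?_⟩
    have h1 : hK ([] : List A) M i ≤ hK ([] : List A) M 0 := by
      rw [hK_nil, hK_nil, if_pos rfl]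
      split_ifs
      · exact le_rfl
      · exact zero_le
    rw [List.map_nil]
    refine h1.trans ?_
    have h2 : (hK ([] : List A) M 0).toNat ≤ (hK ([] : List A) M 0).toNat * n ^ d :=
      Nat.le_mul_of_pos_right _ (by positivity)
    calc hK ([] : List A) M 0 = (((hK ([] : List A) M 0).toNat : ℕ) : ℕ∞) :=
          (ENat.natCast_toNat hfin).symm
      _ ≤ _ := by exact_mod_cast h2
  | cons x l ih =>
    intro d M _ _ _ hdim h i
    have hI : Ideal.span {a | a ∈ x :: l} = Ideal.span {x} ⊔ Ideal.span {a | a ∈ l} := by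
      rw [setOf_mem_cons, Ideal.span_insert]
    rw [hI] at h
    simp only [List.map_cons]
    exact step157 x l _ (fun d M _ _ _ => ih d M) d M hdim h i

end Bound

end Groth.Agent.Lib.Helper2.KosLen4
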