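import Mathlib
import Groth.Agent.Lib.Helper2.KosLen4

/-!
# Koszul homology: isomorphism-level recursion, `H⁰`, vanishing for regular sequences
-/

set_option autoImplicit false
set_option linter.style.haveILetI false
universe u v

open CategoryTheory CategoryTheory.Limits MonoidalCategory Pretriangulated DerivedCategory
open CochainComplex

namespace Groth.Agent.Lib.Helper2.KosTor1

open Groth.Agent.Lib.Helper2.KosChi1 Groth.Agent.Lib.Helper2.KosChi2
  Groth.Agent.Lib.Helper2.KosLen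

attribute [local instance] HasDerivedCategory.standard

section Der

variable {A : Type u} [CommRing A]

/-- in a distinguished triangle with `Hⁿ(X₁) = 0 = Hⁿ⁺¹(X₁)`, `Hⁿ(X₂) ≅ Hⁿ(X₃)`. -/
theorem tri_iso (T : Triangle (DerivedCategory (ModuleCat.{u} A))) (hT : T ∈ distTriang _) (n : ℤ)
    (h1 : Module.length A (Hn n T.obj₁) = 0) (h2 : Module.length A (Hn (n + 1) T.obj₁) = 0) :
    Nonempty (Hn n T.obj₂ ≃ₗ[A] Hn n T.obj₃) := by
  have e2 := HomologySequence.exact₂ T hT n
  have e3 := HomologySequence.exact₃ T hT n (n + 1) rfl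
  rw [ShortComplex.ShortExact.moduleCat_exact_iff_function_exact] at e2 e3
  rw [Module.length_eq_zero_iff] at h1 h2
  refine ⟨LinearEquiv.ofBijective ((homologyFunctor (ModuleCat.{u} A) n).map T.mor₂).hom ⟨?_, ?_⟩⟩
  · intro a b hab
    have h0 : ((homologyFunctor (ModuleCat.{u} A) n).map T.mor₂).hom (a - b) = 0 := by
      rw [map_sub, hab, sub_self]
    obtain ⟨c, hc⟩ := (e2 (a - b)).1 h0
    have hc0 : c = 0 := Subsingleton.elim _ _
    rw [hc0, map_zero] at hc
    exact sub_eq_zero.1 hc.symm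
  · intro y
    exact (e3 y).1 (Subsingleton.elim _ _)

theorem cone_iso {X₁ X₂ X₃ X₄ X₅ : CochainComplex (ModuleCat.{u} A) ℤ}
    (i : X₁ ⟶ X₂) (p : X₂ ⟶ X₃) (j : X₃ ⟶ X₄) (q : X₄ ⟶ X₅) (w₁ : i ≫ p = 0) (w₂ : j ≫ q = 0)
    (h₁ : (ShortComplex.mk i p w₁).ShortExact) (h₂ : (ShortComplex.mk j q w₂).ShortExact)
    (φ : X₂ ⟶ X₄) (hφ : p ≫ j = φ) (n : ℤ) (z1 : hC X₁ (n + 1) = 0) (z2 : hC X₁ (n + 1 + 1) = 0) :
    Nonempty ((mappingCone φ).homology n ≃ₗ[A] X₅.homology n) := by
  have hT₁ := rot_of_distTriang _ (triangleOfSES_distinguished h₁)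
  have hT₂ := triangleOfSES_distinguished h₂
  have hT₃ := mappingCone_triangle_distinguished φ
  have comm : (Q.map p : Q.obj X₂ ⟶ Q.obj X₃) ≫ Q.map j = Q.map φ := by
    rw [← Functor.map_comp, hφ]
  have oct := Triangulated.someOctahedron comm hT₁ hT₂ hT₃
  rw [hC_eq] at z1 z2
  have a1 : Module.length A (Hn n ((Q.obj X₁)⟦(1 : ℤ)⟧)) = 0 := by
    rw [Hn_shift_length (Q.obj X₁) n (n + 1) rfl]; exact z1
  have a2 : Module.length A (Hn (n + 1) ((Q.obj X₁)⟦(1 : ℤ)⟧)) = 0 := by
    rw [Hn_shift_length (Q.obj X₁) (n + 1) (n + 1 + 1) rfl]; exact z2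
  obtain ⟨e⟩ := tri_iso _ oct.mem n a1 a2
  simp only [Triangle.mk_obj₁, Triangle.mk_obj₂, Triangle.mk_obj₃] at e
  exact ⟨(HnQIso _ n).toLinearEquiv.symm ≪≫ₗ e ≪≫ₗ (HnQIso _ n).toLinearEquiv⟩

end Der

section Modules

open Pointwise

variable {A : Type u} [CommRing A]

theorem H_cons (x : A) (l : List A) (M : Type u) [AddCommGroup M] [Module A M] (n : ℤ)
    (z1 : hK l (LinearMap.ker (LinearMap.lsmul A M x)) (n + 1) = 0)
    (z2 : hK l (LinearMap.ker (LinearMap.lsmul A M x)) (n + 1 + 1) = 0) :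
    Nonempty ((KM (x :: l) M).homology n ≃ₗ[A]
      (KM l (M ⧸ LinearMap.range (LinearMap.lsmul A M x))).homology n) := by
  set f : M →ₗ[A] M := LinearMap.lsmul A M x with hf
  let S₁ : ShortComplex (ModuleCat.{u} A) :=
    ShortComplex.mk (ModuleCat.ofHom (LinearMap.ker f).subtype) (ModuleCat.ofHom f.rangeRestrict) (by
      ext m
      exact m.2)
  have hS₁ : S₁.ShortExact := by
    refine ModuleCat.shortComplex_shortExact S₁ ?_ (Submodule.subtype_injective _)
      f.surjective_rangeRestrict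
    rw [LinearMap.exact_iff]
    show LinearMap.ker f.rangeRestrict = LinearMap.range (LinearMap.ker f).subtype
    rw [LinearMap.ker_rangeRestrict, Submodule.range_subtype]
  let S₂ : ShortComplex (ModuleCat.{u} A) :=
    ShortComplex.mk (ModuleCat.ofHom (LinearMap.range f).subtype)
      (ModuleCat.ofHom (LinearMap.range f).mkQ) (by
      ext m
      simp)
  have hS₂ : S₂.ShortExact := by
    refine ModuleCat.shortComplex_shortExact S₂ ?_ (Submodule.subtype_injective _)
      (Submodule.mkQ_surjective _)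
    rw [LinearMap.exact_iff]
    show LinearMap.ker (LinearMap.range f).mkQ = LinearMap.range (LinearMap.range f).subtype
    rw [Submodule.ker_mkQ, Submodule.range_subtype]
  set P := Koszul.koszul A l with hP
  have h₁ := G_shortExact P (flat_koszul l) S₁ hS₁
  have h₂ := G_shortExact P (flat_koszul l) S₂ hS₂
  have hcomp : S₁.g ≫ S₂.f = x • 𝟙 (ModuleCat.of A M) := by
    ext m
    rfl
  have hφ : (G P).map S₁.g ≫ (G P).map S₂.f = x • 𝟙 (KM l M) := by
    rw [← Functor.map_comp, hcomp, G_map_smul]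
    rfl
  obtain ⟨key⟩ := cone_iso ((G P).map S₁.f) ((G P).map S₁.g) ((G P).map S₂.f) ((G P).map S₂.g)
    (S₁.map (G P)).zero (S₂.map (G P)).zero h₁ h₂ (x • 𝟙 (KM l M)) hφ n z1 z2
  have e : KM (x :: l) M ≅ mappingCone (x • 𝟙 (KM l M)) := coneIso P x (ModuleCat.of A M)
  exact ⟨((HomologicalComplex.homologyFunctor _ _ n).mapIso e).toLinearEquiv ≪≫ₗ key⟩

theorem H_congr (l : List A) {M N : Type u} [AddCommGroup M] [Module A M] [AddCommGroup N]
    [Module A N] (e : M ≃ₗ[A] N) (n : ℤ) :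
    Nonempty ((KM l M).homology n ≃ₗ[A] (KM l N).homology n) :=
  ⟨((HomologicalComplex.homologyFunctor _ _ n).mapIso (KMIso l e)).toLinearEquiv⟩

theorem H_nil (M : Type u) [AddCommGroup M] [Module A M] :
    Nonempty ((KM ([] : List A) M).homology 0 ≃ₗ[A] M) :=
  ⟨((HomologicalComplex.homologyFunctor _ _ 0).mapIso (nilIso (ModuleCat.of A M))).toLinearEquiv
    ≪≫ₗ (HomologicalComplex.singleObjHomologySelfIso (ComplexShape.up ℤ) 0
      (ModuleCat.of A M)).toLinearEquiv⟩

theorem range_lsmul (x : A) (D : Type u) [AddCommGroup D] [Module A D] :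
    (x • (⊤ : Submodule A D)) = LinearMap.range (LinearMap.lsmul A D x) := by
  ext z
  rw [Submodule.mem_smul_pointwise_iff_exists, LinearMap.mem_range]
  constructor
  · rintro ⟨m, -, rfl⟩
    exact ⟨m, rfl⟩
  · rintro ⟨m, rfl⟩
    exact ⟨m, trivial, rfl⟩

theorem span_cons (x : A) (l : List A) :
    Ideal.span {a | a ∈ x :: l} = Ideal.span {x} ⊔ Ideal.span {a | a ∈ l} := by
  rw [← Ideal.span_union]
  congr 1
  ext a
  simp

/-- the third isomorphism theorem in the form needed. -/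
theorem quot_quot (x : A) (I : Ideal A) (M : Type u) [AddCommGroup M] [Module A M] :
    Nonempty (((M ⧸ LinearMap.range (LinearMap.lsmul A M x)) ⧸
      (I • ⊤ : Submodule A (M ⧸ LinearMap.range (LinearMap.lsmul A M x)))) ≃ₗ[A]
      (M ⧸ ((Ideal.span {x} ⊔ I) • ⊤ : Submodule A M))) := by
  set S : Submodule A M := LinearMap.range (LinearMap.lsmul A M x) with hS
  set T : Submodule A M := ((Ideal.span {x} ⊔ I) • ⊤ : Submodule A M) with hT
  have hSx : S = (Ideal.span {x} • ⊤ : Submodule A M) := by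
    rw [hS, ← range_lsmul, Submodule.ideal_span_singleton_smul]
  have hST : S ≤ T := by
    rw [hSx, hT]
    exact Submodule.smul_mono_left le_sup_left
  have hmap : T.map S.mkQ = (I • ⊤ : Submodule A (M ⧸ S)) := by
    rw [hT, Submodule.sup_smul, Submodule.map_sup, ← hSx]
    have h1 : S.map S.mkQ = ⊥ := Submodule.mkQ_map_self S
    rw [h1, bot_sup_eq, Submodule.map_smul'', Submodule.map_top, Submodule.range_mkQ]
  rw [← hmap]
  exact ⟨Submodule.quotientQuotientEquivQuotient S T hST⟩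

/-- `H⁰` of the Koszul complex with coefficients in `M` is `M/(l)M`. -/
theorem H_zero (l : List A) : ∀ (M : Type u) [AddCommGroup M] [Module A M],
    Nonempty ((KM l M).homology 0 ≃ₗ[A]
      (M ⧸ (Ideal.span {a | a ∈ l} • ⊤ : Submodule A M))) := by
  induction l with
  | nil =>
    intro M _ _
    obtain ⟨e⟩ := H_nil (A := A) M
    have hbot : (Ideal.span {a | a ∈ ([] : List A)} • ⊤ : Submodule A M) = ⊥ := by
      have : {a : A | a ∈ ([] : List A)} = ∅ := by ext; simp
      rw [this, Ideal.span_empty, Submodule.bot_smul]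
    rw [hbot]
    exact ⟨e ≪≫ₗ (Submodule.quotEquivOfEqBot ⊥ rfl).symm⟩
  | cons x l ih =>
    intro M _ _
    obtain ⟨e1⟩ := H_cons x l M 0 (hK_eq_zero_of_pos l _ _ (by norm_num))
      (hK_eq_zero_of_pos l _ _ (by norm_num))
    obtain ⟨e2⟩ := ih (M ⧸ LinearMap.range (LinearMap.lsmul A M x))
    obtain ⟨e3⟩ := quot_quot x (Ideal.span {a | a ∈ l}) M
    rw [span_cons]
    exact ⟨e1 ≪≫ₗ e2 ≪≫ₗ e3⟩

/-- Koszul homology of a weakly regular sequence vanishes in nonzero degrees. -/
theorem hK_eq_zero_of_isWeaklyRegular (l : List A) :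
    ∀ (M : Type u) [AddCommGroup M] [Module A M] (_ : RingTheory.Sequence.IsWeaklyRegular M l)
      (n : ℤ), n ≠ 0 → hK l M n = 0 := by
  induction l with
  | nil =>
    intro M _ _ _ n hn
    rw [hK_nil, if_neg hn]
  | cons x l ih =>
    intro M _ _ hreg n hn
    rw [RingTheory.Sequence.isWeaklyRegular_cons_iff] at hreg
    obtain ⟨hx, hl⟩ := hreg
    have h := hK_cons x l M n
    have hker : Subsingleton (LinearMap.ker (LinearMap.lsmul A M x)) := by
      have : LinearMap.ker (LinearMap.lsmul A M x) = ⊥ := by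
        rw [LinearMap.ker_eq_bot]
        exact hx
      rw [this]
      infer_instance
    rw [hK_of_subsingleton l (LinearMap.ker (LinearMap.lsmul A M x)), zero_add] at h
    have e : (M ⧸ LinearMap.range (LinearMap.lsmul A M x)) ≃ₗ[A] QuotSMulTop x M :=
      Submodule.quotEquivOfEq _ _ (range_lsmul x M).symm
    rw [hK_congr l e, ih _ hl n hn] at h
    exact le_antisymm h zero_le

end Modules

end Groth.Agent.Lib.Helper2.KosTor1
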