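import Mathlib
import Groth.Agent.Lib.Helper2.KosTor1
import Groth.Agent.Lib.Helper21.TorLES
import Groth.Agent.Lib.Helper21.ExactRes

/-!
# The Koszul complex of a regular sequence as a projective resolution; `Tor` as Koszul homology
-/

set_option autoImplicit false
set_option linter.style.haveILetI false
universe u v

open CategoryTheory CategoryTheory.Limits MonoidalCategory
open CochainComplex

namespace Groth.Agent.Lib.Helper2.KosTor2

open Groth.Agent.Lib.Helper2.KosChi1 Groth.Agent.Lib.Helper2.KosChi2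
  Groth.Agent.Lib.Helper2.KosLen Groth.Agent.Lib.Helper2.KosTor1
open Groth.Agent.Lib.Helper21.ExactRes Groth.Agent.Lib.Helper21.TorLES

variable {A : Type u} [CommRing A]

/-- `P ⊗ A ≅ P`. -/
noncomputable def unitIso (P : CochainComplex (ModuleCat.{u} A) ℤ) :
    DRing.tensorCx P (ModuleCat.of A A) ≅ P :=
  ((NatIso.mapHomologicalComplex (rightUnitorNatIso (ModuleCat.{u} A)) (ComplexShape.up ℤ)).app P)
    ≪≫ (Functor.mapHomologicalComplexIdIso (ModuleCat.{u} A) (ComplexShape.up ℤ)).app P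

/-- the Koszul complex vanishes in positive degrees. -/
theorem isZero_koszul_X (l : List A) : ∀ n : ℤ, 0 < n → IsZero ((Koszul.koszul A l).X n) := by
  induction l with
  | nil =>
    intro n hn
    exact HomologicalComplex.isZero_single_obj_X (ComplexShape.up ℤ) 0 (ModuleCat.of A A) n
      (by omega)
  | cons f l ih =>
    intro n hn
    have e1 : (Koszul.koszul A (f :: l)).X n ≅
        (Koszul.koszul A l).X (n + 1) ⊞ (Koszul.koszul A l).X n :=
      HomologicalComplex.homotopyCofiber.XIsoBiprod (f • 𝟙 (Koszul.koszul A l)) n (n + 1) rfl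
    refine IsZero.of_iso ?_ e1
    have h1 := ih (n + 1) (by omega)
    have h2 := ih n hn
    exact (biprod_isZero_iff _ _).2 ⟨h1, h2⟩

section Res

variable (K : CochainComplex (ModuleCat.{u} A) ℤ)

/-- exact data from a cochain complex which is projective, exact in negative degrees. -/
noncomputable def exactData (hproj : ∀ n, Projective (K.X n))
    (hex : ∀ n : ℤ, n < 0 → K.ExactAt n) : ExactData (K.opcycles (-((0 : ℕ) : ℤ))) where
  X i := K.X (-(i : ℤ))
  proj i := hproj _
  d i := K.d (-((i + 1 : ℕ) : ℤ)) (-(i : ℤ))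
  ε := K.pOpcycles (-((0 : ℕ) : ℤ))
  epi := inferInstance
  w0 := K.d_pOpcycles _ _
  ex0 := by
    apply ShortComplex.exact_of_g_is_cokernel
    exact K.opcyclesIsCokernel (-((0 + 1 : ℕ) : ℤ)) (-((0 : ℕ) : ℤ)) (by simp)
  w i := K.d_comp_d _ _ _
  ex i := by
    have h := hex (-((i + 1 : ℕ) : ℤ)) (by push_cast; omega)
    rw [K.exactAt_iff' (-((i + 1 + 1 : ℕ) : ℤ)) (-((i + 1 : ℕ) : ℤ)) (-(i : ℤ))
      (by simp; ring) (by simp)] at h
    exact h

/-- the comparison of short complexes. -/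
noncomputable def scIso (hproj : ∀ n, Projective (K.X n))
    (hex : ∀ n : ℤ, n < 0 → K.ExactAt n) (M : ModuleCat.{u} A) (n : ℕ) :
    (((tensorRight M).mapHomologicalComplex (ComplexShape.down ℕ)).obj
      (exactData K hproj hex).complex).sc' (n + 1 + 1) (n + 1) n ≅
    (DRing.tensorCx K M).sc' (-((n + 1 + 1 : ℕ) : ℤ)) (-((n + 1 : ℕ) : ℤ)) (-(n : ℤ)) :=
  ShortComplex.isoMk (Iso.refl _) (Iso.refl _) (Iso.refl _)
    (by
      simp [DRing.tensorCx, ExactData.complex_d, exactData]
      exact (Category.id_comp _).trans (Category.comp_id _).symm)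
    (by
      simp [DRing.tensorCx, ExactData.complex_d, exactData]
      exact (Category.id_comp _).trans (Category.comp_id _).symm)

/-- for `n ≥ 1`, `H_n(E ⊗ M) ≅ H^{-n}(K ⊗ M)`. -/
noncomputable def homologyIso (hproj : ∀ n, Projective (K.X n))
    (hex : ∀ n : ℤ, n < 0 → K.ExactAt n) (M : ModuleCat.{u} A) (n : ℕ) :
    (((tensorRight M).mapHomologicalComplex (ComplexShape.down ℕ)).obj
      (exactData K hproj hex).complex).homology (n + 1) ≅
    (DRing.tensorCx K M).homology (-((n + 1 : ℕ) : ℤ)) :=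
  HomologicalComplex.homologyIsoSc' _ (n + 1 + 1) (n + 1) n (by simp) (by simp) ≪≫
    ShortComplex.homologyMapIso (scIso K hproj hex M n) ≪≫
    (HomologicalComplex.homologyIsoSc' (DRing.tensorCx K M) (-((n + 1 + 1 : ℕ) : ℤ))
      (-((n + 1 : ℕ) : ℤ)) (-(n : ℤ)) (by simp; ring) (by simp)).symm

end Res

section Main

variable (l : List A)

theorem exactAt_koszul (hreg : RingTheory.Sequence.IsWeaklyRegular A l) (n : ℤ) (hn : n < 0) :
    (Koszul.koszul A l).ExactAt n := by
  rw [HomologicalComplex.exactAt_iff_isZero_homology]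
  have h := hK_eq_zero_of_isWeaklyRegular l A hreg n (by omega)
  rw [hK_eq, Module.length_eq_zero_iff] at h
  have e := (HomologicalComplex.homologyFunctor _ _ n).mapIso (unitIso (Koszul.koszul A l))
  have hz : IsZero ((KM l A).homology n) := by
    haveI := h
    exact ModuleCat.isZero_of_subsingleton _
  exact IsZero.of_iso hz e.symm

theorem projective_koszul' (n : ℤ) : Projective ((Koszul.koszul A l).X n) := by
  have := projective_koszul l n
  exact (IsProjective.iff_projective ((Koszul.koszul A l).X n)).1 this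

/-- the exact data attached to a regular sequence. -/
noncomputable def kosData (hreg : RingTheory.Sequence.IsWeaklyRegular A l) :
    ExactData ((Koszul.koszul A l).opcycles (-((0 : ℕ) : ℤ))) :=
  exactData (Koszul.koszul A l) (projective_koszul' l) (exactAt_koszul l hreg)

/-- the module resolved by the Koszul complex is `A/(l)`. -/
theorem opcycles_iso :
    Nonempty ((Koszul.koszul A l).opcycles (-((0 : ℕ) : ℤ)) ≅
      ModuleCat.of A (A ⧸ Ideal.span {a | a ∈ l})) := by
  set K := Koszul.koszul A l with hK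
  have h00 : (-((0 : ℕ) : ℤ)) = (0 : ℤ) := by norm_num
  have e0 : K.opcycles (-((0 : ℕ) : ℤ)) ≅ K.opcycles 0 := eqToIso (by rw [h00])
  have hd : K.d 0 1 = 0 := (isZero_koszul_X l 1 (by norm_num)).eq_of_tgt _ _
  have e1 : K.homology 0 ≅ K.opcycles 0 := K.isoHomologyι 0 1 (by simp) hd
  have e2 : (KM l A).homology 0 ≅ K.homology 0 :=
    (HomologicalComplex.homologyFunctor _ _ 0).mapIso (unitIso K)
  obtain ⟨e3⟩ := H_zero l A
  have e4 : (A ⧸ (Ideal.span {a | a ∈ l} • ⊤ : Submodule A A)) ≃ₗ[A]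
      (A ⧸ Ideal.span {a | a ∈ l}) :=
    Submodule.quotEquivOfEq _ _ (by rw [smul_eq_mul, Ideal.mul_top])
  exact ⟨e0 ≪≫ e1.symm ≪≫ e2.symm ≪≫ (e3 ≪≫ₗ e4).toModuleIso⟩

/-- `Tor_n(A/(l), M)` is the `(-n)`-th Koszul cohomology of `M` when `l` is a regular sequence. -/
theorem tor_koszul (hreg : RingTheory.Sequence.IsWeaklyRegular A l) (M : Type u) [AddCommGroup M]
    [Module A M] (n : ℕ) :
    Nonempty (DRing.Tor A n (A ⧸ Ideal.span {a | a ∈ l}) M ≃ₗ[A]
      (KM l M).homology (-(n : ℤ))) := by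
  obtain ⟨eZ⟩ := opcycles_iso l
  cases n with
  | zero =>
    rw [show (-((0 : ℕ) : ℤ)) = 0 by simp]
    have e1 : DRing.Tor A 0 (A ⧸ Ideal.span {a | a ∈ l}) M ≃ₗ[A]
        TensorProduct A (A ⧸ Ideal.span {a | a ∈ l}) M :=
      ((Functor.leftDerivedZeroIsoSelf (tensorLeft (ModuleCat.of A
        (A ⧸ Ideal.span {a | a ∈ l})))).app (ModuleCat.of A M)).toLinearEquiv
    have e2 := TensorProduct.quotTensorEquivQuotSMul M (Ideal.span {a | a ∈ l})
    obtain ⟨e3⟩ := H_zero l M
    exact ⟨e1 ≪≫ₗ e2 ≪≫ₗ e3.symm⟩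
  | succ m =>
    have e1 : ((Tor (ModuleCat.{u} A) (m + 1)).obj (ModuleCat.of A
        (A ⧸ Ideal.span {a | a ∈ l}))).obj (ModuleCat.of A M) ≅
        ((Tor (ModuleCat.{u} A) (m + 1)).obj ((Koszul.koszul A l).opcycles
          (-((0 : ℕ) : ℤ)))).obj (ModuleCat.of A M) :=
      ((Tor (ModuleCat.{u} A) (m + 1)).mapIso eZ.symm).app (ModuleCat.of A M)
    obtain ⟨e2⟩ := tor_iso_homology_left (m + 1) _ (ModuleCat.of A M) (kosData l hreg).toRes
    have e3 := homologyIso (Koszul.koszul A l) (projective_koszul' l) (exactAt_koszul l hreg)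
      (ModuleCat.of A M) m
    exact ⟨(e1 ≪≫ e2 ≪≫ e3).toLinearEquiv⟩

end Main

end Groth.Agent.Lib.Helper2.KosTor2
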