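import Mathlib
import Groth.Agent.Lib.Helper2.FullCech2

/-!
# Mapping cones of complexes of modules, elementwise; termwise exactness is preserved
-/

set_option autoImplicit false
universe u

open CategoryTheory CategoryTheory.Limits CochainComplex HomComplex DerCA

namespace Groth.Agent.Lib.Helper2.KosReg1

open Groth.Agent.Lib.Helper2.FullCech2

variable {R : Type u} [CommRing R]

section Elem

variable {K L : DRing.Cx R} (φ : K ⟶ L)

/-- first projection of the cone. -/
noncomputable def cfst (n q : ℤ) (h : n + 1 = q) : (mappingCone φ).X n →ₗ[R] K.X q :=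
  ((mappingCone.fst φ).1.v n q h).hom

/-- second projection of the cone. -/
noncomputable def csnd (n : ℤ) : (mappingCone φ).X n →ₗ[R] L.X n :=
  ((mappingCone.snd φ).v n n (add_zero n)).hom

/-- first inclusion into the cone. -/
noncomputable def cinl (n q : ℤ) (h : n + 1 = q) : K.X q →ₗ[R] (mappingCone φ).X n :=
  ((mappingCone.inl φ).v q n (by omega)).hom

/-- second inclusion into the cone. -/
noncomputable def cinr (n : ℤ) : L.X n →ₗ[R] (mappingCone φ).X n :=
  ((mappingCone.inr φ).f n).hom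

theorem cfst_cinl (n q : ℤ) (h : n + 1 = q) (a : K.X q) : cfst φ n q h (cinl φ n q h a) = a := by
  have := congrArg (fun g => g.hom a) (mappingCone.inl_v_fst_v φ q n (by omega))
  exact this

theorem csnd_cinl (n q : ℤ) (h : n + 1 = q) (a : K.X q) : csnd φ n (cinl φ n q h a) = 0 := by
  have := congrArg (fun g => g.hom a) (mappingCone.inl_v_snd_v φ q n (by omega))
  exact this

theorem cfst_cinr (n q : ℤ) (h : n + 1 = q) (b : L.X n) : cfst φ n q h (cinr φ n b) = 0 := by
  have := congrArg (fun g => g.hom b) (mappingCone.inr_f_fst_v φ n q h)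
  exact this

theorem csnd_cinr (n : ℤ) (b : L.X n) : csnd φ n (cinr φ n b) = b := by
  have := congrArg (fun g => g.hom b) (mappingCone.inr_f_snd_v φ n)
  exact this

theorem cdecomp (n q : ℤ) (h : n + 1 = q) (x : (mappingCone φ).X n) :
    x = cinl φ n q h (cfst φ n q h x) + cinr φ n (csnd φ n x) := by
  have := congrArg (fun g => g.hom x) (mappingCone.id_X φ n q h)
  exact this.symm

/-- the cone is termwise a product. -/
noncomputable def coneEquiv (n q : ℤ) (h : n + 1 = q) :
    (mappingCone φ).X n ≃ₗ[R] K.X q × L.X n where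
  toFun x := (cfst φ n q h x, csnd φ n x)
  invFun p := cinl φ n q h p.1 + cinr φ n p.2
  map_add' x y := by rw [map_add, map_add]; rfl
  map_smul' r x := by rw [map_smul, map_smul]; rfl
  left_inv x := (cdecomp φ n q h x).symm
  right_inv p := by
    ext
    · change cfst φ n q h (cinl φ n q h p.1 + cinr φ n p.2) = p.1
      rw [map_add, cfst_cinl, cfst_cinr, add_zero]
    · change csnd φ n (cinl φ n q h p.1 + cinr φ n p.2) = p.2
      rw [map_add, csnd_cinl, csnd_cinr, zero_add]

end Elem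

section Map

variable {K₁ L₁ K₂ L₂ : DRing.Cx R} (φ₁ : K₁ ⟶ L₁) (φ₂ : K₂ ⟶ L₂) (a : K₁ ⟶ K₂) (b : L₁ ⟶ L₂)
  (comm : φ₁ ≫ b = a ≫ φ₂)

theorem map_cinl (n q : ℤ) (h : n + 1 = q) (x : K₁.X q) :
    ((mappingCone.map φ₁ φ₂ a b comm).f n).hom (cinl φ₁ n q h x) =
      cinl φ₂ n q h ((a.f q).hom x) := by
  have h1 : (mappingCone.inl φ₁).v q n (by omega) ≫ (mappingCone.map φ₁ φ₂ a b comm).f n =
      a.f q ≫ (mappingCone.inl φ₂).v q n (by omega) := by
    simp [mappingCone.map]
  have := congrArg (fun g => g.hom x) h1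
  exact this

theorem map_cinr (n : ℤ) (y : L₁.X n) :
    ((mappingCone.map φ₁ φ₂ a b comm).f n).hom (cinr φ₁ n y) = cinr φ₂ n ((b.f n).hom y) := by
  have h1 : (mappingCone.inr φ₁).f n ≫ (mappingCone.map φ₁ φ₂ a b comm).f n =
      b.f n ≫ (mappingCone.inr φ₂).f n := by
    simp [mappingCone.map]
  have := congrArg (fun g => g.hom y) h1
  exact this

theorem cfst_map (n q : ℤ) (h : n + 1 = q) (z : (mappingCone φ₁).X n) :
    cfst φ₂ n q h (((mappingCone.map φ₁ φ₂ a b comm).f n).hom z) =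
      (a.f q).hom (cfst φ₁ n q h z) := by
  conv_lhs => rw [cdecomp φ₁ n q h z]
  rw [map_add, map_cinl, map_cinr, map_add, cfst_cinl, cfst_cinr, add_zero]

theorem csnd_map (n : ℤ) (z : (mappingCone φ₁).X n) :
    csnd φ₂ n (((mappingCone.map φ₁ φ₂ a b comm).f n).hom z) =
      (b.f n).hom (csnd φ₁ n z) := by
  conv_lhs => rw [cdecomp φ₁ n (n + 1) rfl z]
  rw [map_add, map_cinl, map_cinr, map_add, csnd_cinl, csnd_cinr, zero_add]

end Map

section TSECone

variable {K' K K'' L' L L'' : DRing.Cx R} (φ' : K' ⟶ L') (φ : K ⟶ L) (φ'' : K'' ⟶ L'')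
  (a : K' ⟶ K) (b : K ⟶ K'') (c : L' ⟶ L) (d : L ⟶ L'')
  (comm₁ : φ' ≫ c = a ≫ φ) (comm₂ : φ ≫ d = b ≫ φ'')

theorem TSE.cone (h : TSE a b) (h' : TSE c d) :
    TSE (mappingCone.map φ' φ a c comm₁) (mappingCone.map φ φ'' b d comm₂) := by
  refine ⟨fun n => ?_, fun n => ?_, fun n => ?_⟩
  · rw [injective_iff_map_eq_zero]
    intro z hz
    have h1 := cfst_map φ' φ a c comm₁ n (n + 1) rfl z
    have h2 := csnd_map φ' φ a c comm₁ n z
    rw [hz, map_zero] at h1 h2
    have e1 : cfst φ' n (n + 1) rfl z = 0 := h.inj (n + 1) (by rw [← h1, map_zero])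
    have e2 : csnd φ' n z = 0 := h'.inj n (by rw [← h2, map_zero])
    rw [cdecomp φ' n (n + 1) rfl z, e1, e2, map_zero, map_zero, add_zero]
  · intro z
    constructor
    · intro hz
      have h1 := cfst_map φ φ'' b d comm₂ n (n + 1) rfl z
      have h2 := csnd_map φ φ'' b d comm₂ n z
      rw [hz, map_zero] at h1 h2
      obtain ⟨x, hx⟩ := (h.ex (n + 1) _).1 h1.symm
      obtain ⟨y, hy⟩ := (h'.ex n _).1 h2.symm
      refine ⟨cinl φ' n (n + 1) rfl x + cinr φ' n y, ?_⟩
      rw [map_add, map_cinl, map_cinr, hx, hy]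
      exact (cdecomp φ n (n + 1) rfl z).symm
    · rintro ⟨w, rfl⟩
      rw [cdecomp φ' n (n + 1) rfl w]
      rw [map_add, map_cinl, map_cinr, map_add, map_cinl, map_cinr]
      have e1 : (b.f (n + 1)).hom ((a.f (n + 1)).hom (cfst φ' n (n + 1) rfl w)) = 0 :=
        (h.ex (n + 1)).apply_apply_eq_zero _
      have e2 : (d.f n).hom ((c.f n).hom (csnd φ' n w)) = 0 :=
        (h'.ex n).apply_apply_eq_zero _
      rw [e1, e2, map_zero, map_zero, add_zero]
  · intro z
    obtain ⟨x, hx⟩ := h.surj (n + 1) (cfst φ'' n (n + 1) rfl z)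
    obtain ⟨y, hy⟩ := h'.surj n (csnd φ'' n z)
    refine ⟨cinl φ n (n + 1) rfl x + cinr φ n y, ?_⟩
    rw [map_add, map_cinl, map_cinr, hx, hy]
    exact (cdecomp φ'' n (n + 1) rfl z).symm

end TSECone

end Groth.Agent.Lib.Helper2.KosReg1
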