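import Mathlib
import Groth.Agent.Lib.Helper2.KosReg1
import Groth.Agent.Lib.Helper16.Kos3

/-!
# The Koszul step `T f K = cone (f : K ⟶ K)` on complexes of modules: long exact sequence
-/

set_option autoImplicit false
universe u

open CategoryTheory CategoryTheory.Limits CochainComplex HomComplex DerCA

namespace Groth.Agent.Lib.Helper2.KosReg2

open Groth.Agent.Lib.Helper2.FullCech2 Groth.Agent.Lib.Helper2.KosReg1

attribute [local instance] HasDerivedCategory.standard

variable {R : Type u} [CommRing R]

/-- the Koszul step on a complex. -/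
noncomputable abbrev T (f : R) (K : DRing.Cx R) : DRing.Cx R := mappingCone (f • 𝟙 K)

theorem smul_id_comm (f : R) {K L : DRing.Cx R} (a : K ⟶ L) :
    (f • 𝟙 K) ≫ a = a ≫ (f • 𝟙 L) := by
  rw [Linear.smul_comp, Linear.comp_smul, Category.id_comp, Category.comp_id]

/-- functoriality of the Koszul step. -/
noncomputable def Tmap (f : R) {K L : DRing.Cx R} (a : K ⟶ L) : T f K ⟶ T f L :=
  mappingCone.map (f • 𝟙 K) (f • 𝟙 L) a a (smul_id_comm f a)

theorem TSE.T (f : R) {K' K K'' : DRing.Cx R} {a : K' ⟶ K} {b : K ⟶ K''} (h : TSE a b) :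
    TSE (Tmap f a) (Tmap f b) :=
  TSE.cone _ _ _ a b a b _ _ h h

section LES

variable (f : R) (K : DRing.Cx R)

/-- the map induced by the inclusion on cohomology. -/
noncomputable def Tinr (n : ℤ) : K.homology n →ₗ[R] (T f K).homology n :=
  (HomologicalComplex.homologyMap (mappingCone.inr (f • 𝟙 K)) n).hom

/-- the connecting map. -/
noncomputable def Tdel (n m : ℤ) (h : n + 1 = m) : (T f K).homology n →ₗ[R] K.homology m :=
  (CochainComplex.homologyδOfTriangle (mappingCone.triangle (f • 𝟙 K)) n m h).hom

theorem homologyMap_apply (n : ℤ) (z : K.homology n) :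
    (HomologicalComplex.homologyMap (f • 𝟙 K) n).hom z = f • z := by
  rw [Groth.Agent.Lib.Helper16.Kos.homologyMap_smul_id]
  rfl

theorem exact2 (n : ℤ) :
    Function.Exact (fun z : K.homology n => f • z) (Tinr f K n) := by
  have hT : DerivedCategory.Q.mapTriangle.obj (mappingCone.triangle (f • 𝟙 K)) ∈ distTriang _ :=
    DerivedCategory.mappingCone_triangle_distinguished (f • 𝟙 K)
  have h2 := CochainComplex.homologyMap_exact₂_of_distTriang _ hT n
  rw [ShortComplex.ShortExact.moduleCat_exact_iff_function_exact] at h2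
  intro z
  have := h2 z
  constructor
  · intro hz
    obtain ⟨w, hw⟩ := this.1 hz
    exact ⟨w, (homologyMap_apply f K n w).symm.trans hw⟩
  · rintro ⟨w, rfl⟩
    exact this.2 ⟨w, homologyMap_apply f K n w⟩

theorem exact3 (n m : ℤ) (h : n + 1 = m) :
    Function.Exact (Tinr f K n) (Tdel f K n m h) := by
  have hT : DerivedCategory.Q.mapTriangle.obj (mappingCone.triangle (f • 𝟙 K)) ∈ distTriang _ :=
    DerivedCategory.mappingCone_triangle_distinguished (f • 𝟙 K)
  have h3 := CochainComplex.homologyMap_exact₃_of_distTriang _ hT n m h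
  rw [ShortComplex.ShortExact.moduleCat_exact_iff_function_exact] at h3
  exact h3

theorem exact1 (n m : ℤ) (h : n + 1 = m) :
    Function.Exact (Tdel f K n m h) (fun z : K.homology m => f • z) := by
  have hT : DerivedCategory.Q.mapTriangle.obj (mappingCone.triangle (f • 𝟙 K)) ∈ distTriang _ :=
    DerivedCategory.mappingCone_triangle_distinguished (f • 𝟙 K)
  have h1 := CochainComplex.homologyMap_exact₁_of_distTriang _ hT n m h
  rw [ShortComplex.ShortExact.moduleCat_exact_iff_function_exact] at h1
  intro z
  have := h1 z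
  constructor
  · intro hz
    exact this.1 ((homologyMap_apply f K m z).trans hz)
  · intro hz
    exact (homologyMap_apply f K m z).symm.trans (this.2 hz)

end LES

end Groth.Agent.Lib.Helper2.KosReg2
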