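import Groth.Agent.Lib.Helper2.FlatCrit
import Mathlib.RingTheory.TensorProduct.Finite

/-!
Helper library (helper2): local criterion of flatness, elementary (Tor-free) proof.
-/

set_option autoImplicit false

namespace Groth.Agent.Lib.Helper2.LocalCrit

open TensorProduct

section Finite

variable {R S : Type*} [CommRing R] [CommRing S] [Algebra R S]
  {M : Type*} [AddCommGroup M] [Module R M] [Module S M] [IsScalarTower R S M]
  (J : Type*) [AddCommGroup J] [Module R J]

lemma finite_tensor_left [Module.Finite S M] [Module.Finite R J] :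
    Module.Finite S (M ⊗[R] J) :=
  Module.Finite.equiv (AlgebraTensorModule.cancelBaseChange R S S M J)

end Finite

section BC

variable {R A : Type*} [CommRing R] [CommRing A] [Algebra R A]
  {M : Type*} [AddCommGroup M] [Module R M] [Module.Flat A (A ⊗[R] M)]

/-- naturality of `cancelBaseChange` in the first variable -/
lemma cancel_nat {Q' Q : Type*} [AddCommGroup Q'] [Module R Q'] [Module A Q']
    [IsScalarTower R A Q'] [AddCommGroup Q] [Module R Q] [Module A Q] [IsScalarTower R A Q]
    (j : Q' →ₗ[A] Q) (x : Q' ⊗[A] (A ⊗[R] M)) :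
    AlgebraTensorModule.cancelBaseChange R A A Q M (j.rTensor (A ⊗[R] M) x) =
      (j.restrictScalars R).rTensor M (AlgebraTensorModule.cancelBaseChange R A A Q' M x) := by
  induction x with
  | zero => simp
  | add x y hx hy => rw [map_add, map_add, hx, hy, map_add, map_add]
  | tmul q y =>
    induction y with
    | zero => simp
    | add y z hy hz =>
      rw [tmul_add, map_add, map_add, hy, hz, map_add, map_add]
    | tmul a m =>
      rw [LinearMap.rTensor_tmul, AlgebraTensorModule.cancelBaseChange_tmul,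
        AlgebraTensorModule.cancelBaseChange_tmul, LinearMap.rTensor_tmul]
      simp

/-- If `A ⊗ M` is flat over `A`, then for every injective `A`-linear map `j : Q' → Q` the
`R`-linear map `j ⊗ M` is injective. -/
lemma rTensor_injective_of_flat_baseChange {Q' Q : Type*} [AddCommGroup Q'] [Module R Q']
    [Module A Q'] [IsScalarTower R A Q'] [AddCommGroup Q] [Module R Q] [Module A Q]
    [IsScalarTower R A Q] (j : Q' →ₗ[A] Q) (hj : Function.Injective j) :
    Function.Injective ((j.restrictScalars R).rTensor M) := by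
  have h1 : Function.Injective (j.rTensor (A ⊗[R] M)) :=
    Module.Flat.rTensor_preserves_injective_linearMap j hj
  intro a b hab
  obtain ⟨a', rfl⟩ := (AlgebraTensorModule.cancelBaseChange R A A Q' M).surjective a
  obtain ⟨b', rfl⟩ := (AlgebraTensorModule.cancelBaseChange R A A Q' M).surjective b
  rw [← cancel_nat, ← cancel_nat] at hab
  rw [h1 ((AlgebraTensorModule.cancelBaseChange R A A Q M).injective hab)]

lemma lTensor_injective_of_flat_baseChange {Q' Q : Type*} [AddCommGroup Q'] [Module R Q']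
    [Module A Q'] [IsScalarTower R A Q'] [AddCommGroup Q] [Module R Q] [Module A Q]
    [IsScalarTower R A Q] (j : Q' →ₗ[A] Q) (hj : Function.Injective j) :
    Function.Injective ((j.restrictScalars R).lTensor M) :=
  (LinearMap.lTensor_inj_iff_rTensor_inj _ _).mpr (rTensor_injective_of_flat_baseChange j hj)

end BC

section Cyc

variable {R : Type*} [CommRing R] {M : Type*} [AddCommGroup M] [Module R M]

/-- Adding one generator `g` to an ideal `A`: if `M ⊗ (A : g) → M` is injective then
`M ⊗ A → M ⊗ (A + (g))` is injective. -/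
lemma cyc (A 𝔠 : Ideal R) (g : R) (h𝔠 : ∀ r, r ∈ 𝔠 ↔ r * g ∈ A)
    (hinj : Function.Injective (𝔠.subtype.lTensor M)) :
    Function.Injective
      ((Submodule.inclusion (le_sup_left : A ≤ A ⊔ Ideal.span {g})).lTensor M) := by
  classical
  -- α : 𝔠 → A × R, c ↦ (c g, c)
  let α₁ : 𝔠 →ₗ[R] A := LinearMap.codRestrict A
    ((LinearMap.toSpanSingleton R R g).comp 𝔠.subtype) (fun c => by
      show (c : R) • g ∈ A
      rw [smul_eq_mul]
      exact (h𝔠 c).mp c.2)
  let α : 𝔠 →ₗ[R] A × R := α₁.prod 𝔠.subtype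
  -- β : A × R → A + (g), (a, r) ↦ a - r g
  let β₀ : A × R →ₗ[R] R :=
    A.subtype.comp (LinearMap.fst R A R) - (LinearMap.toSpanSingleton R R g).comp (LinearMap.snd R A R)
  have hβ₀ : ∀ y : A × R, β₀ y = (y.1 : R) - y.2 * g := fun y => rfl
  let β : A × R →ₗ[R] ↥(A ⊔ Ideal.span {g}) := LinearMap.codRestrict _ β₀ (fun y => by
    rw [hβ₀]
    exact sub_mem (Submodule.mem_sup_left y.1.2)
      (Submodule.mem_sup_right (Ideal.mem_span_singleton'.mpr ⟨y.2, rfl⟩)))
  have hβ : ∀ y : A × R, ((β y : ↥(A ⊔ Ideal.span {g})) : R) = (y.1 : R) - y.2 * g := fun y => rfl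
  have hα : ∀ c : 𝔠, α c = (⟨(c : R) * g, (h𝔠 c).mp c.2⟩, (c : R)) := fun c => rfl
  have hsurj : Function.Surjective β := by
    rintro ⟨b, hb⟩
    obtain ⟨a, ha, y, hy, rfl⟩ := Submodule.mem_sup.mp hb
    obtain ⟨r, rfl⟩ := Ideal.mem_span_singleton'.mp hy
    refine ⟨(⟨a, ha⟩, -r), ?_⟩
    apply Subtype.ext
    rw [hβ]
    simp
  have hexact : Function.Exact α β := by
    intro y
    constructor
    · intro hy
      have h0 : (y.1 : R) - y.2 * g = 0 := by
        rw [← hβ, hy]; rfl
      have hmem : y.2 ∈ 𝔠 := by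
        rw [h𝔠]
        have : y.2 * g = (y.1 : R) := (sub_eq_zero.mp h0).symm
        rw [this]
        exact y.1.2
      refine ⟨⟨y.2, hmem⟩, ?_⟩
      rw [hα]
      refine Prod.ext (Subtype.ext ?_) rfl
      exact (sub_eq_zero.mp h0).symm
    · rintro ⟨c, rfl⟩
      apply Subtype.ext
      rw [hβ, hα]
      simp
  have hex : Function.Exact (α.lTensor M) (β.lTensor M) := lTensor_exact M hexact hsurj
  have hincl : Submodule.inclusion (le_sup_left : A ≤ A ⊔ Ideal.span {g}) =
      β.comp (LinearMap.inl R A R) := by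
    ext a
    show (a : R) = _
    rw [LinearMap.comp_apply, hβ]
    simp
  have hsnd : (LinearMap.snd R A R).comp α = 𝔠.subtype := by
    ext c; rfl
  rw [injective_iff_map_eq_zero]
  intro x hx
  rw [hincl, LinearMap.lTensor_comp, LinearMap.comp_apply] at hx
  obtain ⟨t, ht⟩ := (hex _).mp hx
  have h1 : 𝔠.subtype.lTensor M t = 0 := by
    rw [← hsnd, LinearMap.lTensor_comp, LinearMap.comp_apply, ht, ← LinearMap.comp_apply,
      ← LinearMap.lTensor_comp]
    have : (LinearMap.snd R A R).comp (LinearMap.inl R A R) = 0 := by ext; simp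
    rw [this, LinearMap.lTensor_zero, LinearMap.zero_apply]
  have h2 : t = 0 := hinj (by rw [h1, map_zero])
  rw [h2, map_zero] at ht
  have h3 : x = ((LinearMap.fst R A R).comp (LinearMap.inl R A R)).lTensor M x := by
    have : (LinearMap.fst R A R).comp (LinearMap.inl R A R) = LinearMap.id := by ext; simp
    rw [this, LinearMap.lTensor_id, LinearMap.id_apply]
  rw [h3, LinearMap.lTensor_comp, LinearMap.comp_apply, ← ht, map_zero]

end Cyc

section Down

variable {R : Type*} [CommRing R] {M : Type*} [AddCommGroup M] [Module R M] (I : Ideal R)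

lemma down (hE1 : ∀ 𝔠 : Ideal R, I ≤ 𝔠 → Function.Injective (𝔠.subtype.lTensor M)) :
    ∀ (s : Finset R) (J : Ideal R), (∀ g ∈ s, ∀ a ∈ I, a * g ∈ J) →
      Function.Injective ((J ⊔ Ideal.span (s : Set R)).subtype.lTensor M) →
      Function.Injective (J.subtype.lTensor M) := by
  classical
  intro s
  induction s using Finset.induction_on with
  | empty =>
    intro J _ h
    have heq : J ⊔ Ideal.span ((∅ : Finset R) : Set R) = J := by simp
    exact (congrArg (fun K : Ideal R => Function.Injective (K.subtype.lTensor M)) heq).mp h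
  | insert g s hg ih =>
    intro J hJ h
    have heq : J ⊔ Ideal.span ((insert g s : Finset R) : Set R) =
        (J ⊔ Ideal.span {g}) ⊔ Ideal.span (s : Set R) := by
      rw [Finset.coe_insert, Ideal.span_insert, sup_assoc]
    have h' := (congrArg (fun K : Ideal R => Function.Injective (K.subtype.lTensor M)) heq).mp h
    have h1 : Function.Injective ((J ⊔ Ideal.span {g}).subtype.lTensor M) := by
      refine ih (J ⊔ Ideal.span {g}) ?_ h'
      intro g' hg' a ha
      exact Submodule.mem_sup_left (hJ g' (Finset.mem_insert_of_mem hg') a ha)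
    let 𝔠 : Ideal R := Submodule.comap (LinearMap.mulRight R g) J
    have h𝔠 : ∀ r, r ∈ 𝔠 ↔ r * g ∈ J := fun r => Iff.rfl
    have hI𝔠 : I ≤ 𝔠 := fun a ha => (h𝔠 a).mpr (hJ g (Finset.mem_insert_self g s) a ha)
    have h2 := cyc (M := M) J 𝔠 g h𝔠 (hE1 𝔠 hI𝔠)
    have hcomp : J.subtype = (J ⊔ Ideal.span {g}).subtype.comp
        (Submodule.inclusion (le_sup_left : J ≤ J ⊔ Ideal.span {g})) := by
      ext; rfl
    rw [hcomp, LinearMap.lTensor_comp, LinearMap.coe_comp]
    exact h1.comp h2

/-- `E_n` from `E_1`: if `M ⊗ 𝔠 → M` is injective for all ideals `𝔠 ⊇ I`, then also for all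
ideals containing a power of `I` (when the powers of `I` are finitely generated). -/
lemma injective_of_pow_le [IsNoetherianRing R]
    (hE1 : ∀ 𝔠 : Ideal R, I ≤ 𝔠 → Function.Injective (𝔠.subtype.lTensor M)) :
    ∀ (n : ℕ), 0 < n → ∀ J : Ideal R, I ^ n ≤ J → Function.Injective (J.subtype.lTensor M) := by
  intro n hn
  induction n, hn using Nat.le_induction with
  | base =>
    intro J hJ
    rw [pow_one] at hJ
    exact hE1 J hJ
  | succ n hn ih =>
    intro J hJ
    obtain ⟨s, hs⟩ := (isNoetherianRing_iff_ideal_fg R).mp inferInstance (I ^ n)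
    refine down I hE1 s J ?_ ?_
    · intro g hg a ha
      apply hJ
      rw [pow_succ']
      exact Ideal.mul_mem_mul ha (hs ▸ Ideal.subset_span hg)
    · rw [hs]
      exact ih (J ⊔ I ^ n) le_sup_right

end Down

section E1

variable {R : Type*} [CommRing R] {M : Type*} [AddCommGroup M] [Module R M] (I : Ideal R)

/-- `E_1`: from `M ⊗ I ↪ M` and flatness of `M/IM` over `R/I`, get `M ⊗ 𝔠 ↪ M` for all `𝔠 ⊇ I`. -/
lemma injective_of_le [Module.Flat (R ⧸ I) ((R ⧸ I) ⊗[R] M)]
    (ha : Function.Injective (I.subtype.lTensor M)) :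
    ∀ 𝔠 : Ideal R, I ≤ 𝔠 → Function.Injective (𝔠.subtype.lTensor M) := by
  intro 𝔠 hI𝔠
  let 𝔮 : Ideal (R ⧸ I) := 𝔠.map (Ideal.Quotient.mk I)
  let ψ : 𝔠 →ₗ[R] 𝔮 :=
    { toFun := fun c => ⟨Ideal.Quotient.mk I c, Ideal.mem_map_of_mem _ c.2⟩
      map_add' := fun a b => Subtype.ext (by simp)
      map_smul' := fun r a => Subtype.ext (by simp [Algebra.smul_def]) }
  have hψ : ∀ c : 𝔠, ((ψ c : 𝔮) : R ⧸ I) = Ideal.Quotient.mk I c := fun c => rfl
  have hψsurj : Function.Surjective ψ := by
    rintro ⟨y, hy⟩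
    obtain ⟨c, hc, rfl⟩ := (Ideal.mem_map_iff_of_surjective (Ideal.Quotient.mk I)
      Ideal.Quotient.mk_surjective).mp hy
    exact ⟨⟨c, hc⟩, rfl⟩
  let ι : I →ₗ[R] 𝔠 := Submodule.inclusion hI𝔠
  have hexact : Function.Exact ι ψ := by
    intro c
    constructor
    · intro hc
      have h0 : Ideal.Quotient.mk I (c : R) = 0 := by rw [← hψ, hc]; rfl
      exact ⟨⟨c, Ideal.Quotient.eq_zero_iff_mem.mp h0⟩, rfl⟩
    · rintro ⟨a, rfl⟩
      apply Subtype.ext
      rw [hψ]
      exact Ideal.Quotient.eq_zero_iff_mem.mpr a.2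
  have hex : Function.Exact (ι.lTensor M) (ψ.lTensor M) := lTensor_exact M hexact hψsurj
  let q : R →ₗ[R] R ⧸ I := (Ideal.Quotient.mkₐ R I).toLinearMap
  have hj : Function.Injective ((𝔮.subtype.restrictScalars R).lTensor M) :=
    lTensor_injective_of_flat_baseChange (A := R ⧸ I) 𝔮.subtype 𝔮.injective_subtype
  have hcomm : (𝔮.subtype.restrictScalars R).comp ψ = q.comp 𝔠.subtype := by
    ext c; rfl
  rw [injective_iff_map_eq_zero]
  intro x hx
  have h1 : ψ.lTensor M x = 0 := by
    apply hj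
    rw [map_zero, ← LinearMap.comp_apply, ← LinearMap.lTensor_comp, hcomm, LinearMap.lTensor_comp,
      LinearMap.comp_apply, hx, map_zero]
  obtain ⟨y, rfl⟩ := (hex x).mp h1
  have h2 : I.subtype.lTensor M y = 0 := by
    have : I.subtype = 𝔠.subtype.comp ι := by ext; rfl
    rw [this, LinearMap.lTensor_comp, LinearMap.comp_apply, hx]
  rw [ha (by rw [h2, map_zero] : I.subtype.lTensor M y = I.subtype.lTensor M 0), map_zero]

end E1

section Quot

variable {R : Type*} [CommRing R] {M : Type*} [AddCommGroup M] [Module R M] (𝔞 : Ideal R)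

/-- If `M ⊗ J ↪ M` for all ideals `J ⊇ 𝔞`, then `M ⊗ Q' ↪ M ⊗ R/𝔞` for all submodules `Q'` of
`R/𝔞`. -/
lemma injective_submodule_quotient
    (hE : ∀ J : Ideal R, 𝔞 ≤ J → Function.Injective (J.subtype.lTensor M))
    (Q' : Submodule R (R ⧸ 𝔞)) : Function.Injective (Q'.subtype.lTensor M) := by
  let q : R →ₗ[R] R ⧸ 𝔞 := Submodule.mkQ 𝔞
  let J : Ideal R := Q'.comap q
  have h𝔞J : 𝔞 ≤ J := by
    intro a ha
    show q a ∈ Q'
    have : q a = 0 := (Submodule.Quotient.mk_eq_zero 𝔞).mpr ha
    rw [this]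
    exact zero_mem _
  let ψ : J →ₗ[R] Q' := q.restrict (fun x hx => hx)
  have hψsurj : Function.Surjective ψ := by
    rintro ⟨y, hy⟩
    obtain ⟨r, rfl⟩ := Submodule.mkQ_surjective 𝔞 y
    exact ⟨⟨r, hy⟩, rfl⟩
  let ι : 𝔞 →ₗ[R] J := Submodule.inclusion h𝔞J
  have hψι : ψ.comp ι = 0 := by
    ext a
    show q a = 0
    exact (Submodule.Quotient.mk_eq_zero 𝔞).mpr a.2
  have hrow : Function.Exact (𝔞.subtype.lTensor M) (q.lTensor M) :=
    lTensor_exact M (LinearMap.exact_subtype_mkQ 𝔞) (Submodule.mkQ_surjective 𝔞)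
  have hcomm : Q'.subtype.comp ψ = q.comp J.subtype := by
    ext c; rfl
  rw [injective_iff_map_eq_zero]
  intro z hz
  obtain ⟨y, rfl⟩ := LinearMap.lTensor_surjective M hψsurj z
  have h1 : q.lTensor M (J.subtype.lTensor M y) = 0 := by
    rw [← LinearMap.comp_apply, ← LinearMap.lTensor_comp, ← hcomm, LinearMap.lTensor_comp,
      LinearMap.comp_apply, hz]
  obtain ⟨w, hw⟩ := (hrow _).mp h1
  have h2 : J.subtype.lTensor M (ι.lTensor M w) = J.subtype.lTensor M y := by
    rw [← hw, ← LinearMap.comp_apply, ← LinearMap.lTensor_comp]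
    rfl
  have h3 : ι.lTensor M w = y := hE J h𝔞J h2
  rw [← h3, ← LinearMap.comp_apply, ← LinearMap.lTensor_comp, hψι, LinearMap.lTensor_zero,
    LinearMap.zero_apply]

end Quot

section GoalB

lemma lTensor_subtype_mem_smul_top {R : Type*} [CommRing R] {M J' : Type*} [AddCommGroup M]
    [Module R M] [AddCommGroup J'] [Module R J'] (𝔟 : Ideal R) (K : Submodule R J')
    (hK : K ≤ 𝔟 • (⊤ : Submodule R J')) (y : M ⊗[R] K) :
    K.subtype.lTensor M y ∈ 𝔟 • (⊤ : Submodule R (M ⊗[R] J')) := by
  induction y with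
  | zero => rw [map_zero]; exact zero_mem _
  | add a b ha hb => rw [map_add]; exact add_mem ha hb
  | tmul m κ =>
    rw [LinearMap.lTensor_tmul, Submodule.subtype_apply]
    have hκ : (κ : J') ∈ 𝔟 • (⊤ : Submodule R J') := hK κ.2
    refine Submodule.smul_induction_on (p := fun z => m ⊗ₜ[R] z ∈ 𝔟 • (⊤ : Submodule R (M ⊗[R] J')))
      hκ ?_ ?_
    · intro r hr j _
      rw [TensorProduct.tmul_smul]
      exact Submodule.smul_mem_smul hr Submodule.mem_top
    · intro a b ha hb
      rw [TensorProduct.tmul_add]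
      exact add_mem ha hb

universe u

variable {R S : Type u} [CommRing R] [CommRing S] [Algebra R S] [IsNoetherianRing R]
  [IsNoetherianRing S] {M : Type u} [AddCommGroup M] [Module R M] [Module S M]
  [IsScalarTower R S M] [Module.Finite S M] (I : Ideal R)

/-- Goal B: flatness from flatness modulo all powers of `I`, when `I S` lies in the Jacobson
radical of `S` and `M` is finite over `S`. -/
theorem flat_of_forall_quotient_pow (hJ : I.map (algebraMap R S) ≤ Ideal.jacobson ⊥)
    (hF : ∀ n : ℕ, 0 < n → ∀ Q' : Submodule R (R ⧸ I ^ n),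
      Function.Injective (Q'.subtype.lTensor M)) : Module.Flat R M := by
  rw [Module.Flat.iff_lTensor_injective]
  intro J hJfg
  rw [injective_iff_map_eq_zero]
  intro x hx
  have hfin : Module.Finite R J := Module.Finite.iff_fg.mpr hJfg
  have hfinS : Module.Finite S (M ⊗[R] J) := finite_tensor_left (S := S) (M := M) J
  obtain ⟨k, hk⟩ := Ideal.exists_pow_inf_eq_pow_smul I (J : Submodule R R)
  have key : ∀ n : ℕ, x ∈ (⊥ ⊔ I ^ n) • (⊤ : Submodule R (M ⊗[R] J)) := by
    intro n
    rw [bot_sup_eq]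
    rcases Nat.eq_zero_or_pos n with rfl | hn
    · rw [pow_zero, Ideal.one_eq_top, Submodule.top_smul]
      exact Submodule.mem_top
    have hN : 0 < n + k := Nat.add_pos_left hn k
    let q : R →ₗ[R] R ⧸ I ^ (n + k) := Submodule.mkQ (I ^ (n + k))
    let φ : J →ₗ[R] R ⧸ I ^ (n + k) := q.comp J.subtype
    let φ' : J →ₗ[R] LinearMap.range φ := φ.rangeRestrict
    have hφ' : (LinearMap.range φ).subtype.comp φ' = φ := by ext; rfl
    have h1 : φ'.lTensor M x = 0 := by
      apply hF (n + k) hN (LinearMap.range φ)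
      rw [map_zero, ← LinearMap.comp_apply, ← LinearMap.lTensor_comp, hφ']
      show (q.comp J.subtype).lTensor M x = 0
      rw [LinearMap.lTensor_comp, LinearMap.comp_apply, hx, map_zero]
    have hex : Function.Exact ((LinearMap.ker φ').subtype.lTensor M) (φ'.lTensor M) :=
      lTensor_exact M (LinearMap.exact_subtype_ker_map φ') (LinearMap.surjective_rangeRestrict φ)
    obtain ⟨y, rfl⟩ := (hex x).mp h1
    apply lTensor_subtype_mem_smul_top
    intro κ hκ
    rw [Submodule.mem_smul_top_iff]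
    have hκ0 : φ κ = 0 := by
      have h2 : φ' κ = 0 := LinearMap.mem_ker.mp hκ
      have h3 : ((φ' κ : LinearMap.range φ) : R ⧸ I ^ (n + k)) = 0 := by rw [h2]; rfl
      exact h3
    have hκI : (κ : R) ∈ I ^ (n + k) := (Submodule.Quotient.mk_eq_zero _).mp hκ0
    have hmem : (κ : R) ∈ I ^ (n + k) • (⊤ : Submodule R R) ⊓ (J : Submodule R R) := by
      refine ⟨?_, κ.2⟩
      rw [smul_eq_mul, Ideal.mul_top]
      exact hκI
    rw [hk (n + k) (Nat.le_add_left k n), Nat.add_sub_cancel] at hmem
    exact Submodule.smul_mono le_rfl inf_le_right hmem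
  have := FlatCrit.mem_smul_top_of_forall_mem_sup_pow (S := S) I ⊥ hJ key
  rw [Submodule.bot_smul] at this
  exact this

/-- Local criterion of flatness (variant with an ideal `I`). -/
theorem flat_of_injective_of_flat_quotient (hJ : I.map (algebraMap R S) ≤ Ideal.jacobson ⊥)
    (ha : Function.Injective (I.subtype.lTensor M))
    [Module.Flat (R ⧸ I) ((R ⧸ I) ⊗[R] M)] : Module.Flat R M :=
  flat_of_forall_quotient_pow (S := S) I hJ fun n hn Q' =>
    injective_submodule_quotient (I ^ n) (injective_of_pow_le I (injective_of_le I ha) n hn) Q'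

end GoalB

end Groth.Agent.Lib.Helper2.LocalCrit
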