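import Groth.Agent.Lib.Helper4.Snapper3
import Groth.Agent.Lib.Helper17.GV6
import Groth.Prelude.Def_FGA
import Mathlib
set_option backward.isDefEq.respectTransparency.types false
set_option autoImplicit false
set_option linter.style.haveILetI false

/-!
# Intersection numbers `FGA.intNum` through `K'_0(X)` (helper2)

For `X` proper over a field `k` with `dim X ≤ d`, invertible `M_1, …, M_r` and coherent `F`:
`FGA.intNum k X d M F = χ (Π_i (1 - [M_i ⊗ -]) [F])`, where `χ : K'_0(X) → ℤ` is the Euler characteristic.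
Each factor `1 - [M_i ⊗ -]` lowers the filtration of `K'_0(X)` by dimension of support (helper4 / helper6).
-/

universe u
open CategoryTheory CategoryTheory.Limits AlgebraicGeometry Opposite TopologicalSpace

namespace Groth.Agent.Lib.Helper2.IntNum1
open Groth.Agent.Lib.Helper6.K0Filt Groth.Agent.Lib.Helper6.K0Len Groth.Agent.Lib.Helper6.K0Op
  Groth.Agent.Lib.Helper6.K0Tensor Groth.Agent.Lib.Helper4.Snapper

section alg

/-- negative binomial expansion: if `t (1 - u) = 1` and `u^{r+1}` kills `c`, then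
`t^m c = Σ_{i ≤ r} C(m+i-1, i) u^i c`. -/
theorem pow_smul_eq_sum {R G : Type*} [Ring R] [AddCommGroup G] [Module R G] (t u : R)
    (h1 : t * (1 - u) = 1) (c : G) (r : ℕ) (hc : u ^ (r + 1) • c = 0) (m : ℕ) :
    t ^ m • c = ∑ i ∈ Finset.range (r + 1), ((m + i - 1).choose i : ℤ) • (u ^ i • c) := by
  induction m with
  | zero =>
    rw [pow_zero, one_smul, Finset.sum_range_succ']
    have : ∀ i ∈ Finset.range r, ((0 + (i + 1) - 1).choose (i + 1) : ℤ) • (u ^ (i + 1) • c) = 0 := by
      intro i _
      have : (0 + (i + 1) - 1).choose (i + 1) = 0 := by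
        have : 0 + (i + 1) - 1 = i := by omega
        rw [this, Nat.choose_succ_self]
      rw [this]; simp
    rw [Finset.sum_eq_zero this]
    simp
  | succ m ih =>
    have key : (1 - u) • (∑ i ∈ Finset.range (r + 1), ((m + 1 + i - 1).choose i : ℤ) • (u ^ i • c)) =
        ∑ i ∈ Finset.range (r + 1), ((m + i - 1).choose i : ℤ) • (u ^ i • c) := by
      rw [sub_smul, one_smul, Finset.smul_sum]
      have h2 : ∀ i ∈ Finset.range (r + 1), u • (((m + 1 + i - 1).choose i : ℤ) • (u ^ i • c)) =
          ((m + 1 + i - 1).choose i : ℤ) • (u ^ (i + 1) • c) := by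
        intro i _
        rw [smul_comm, ← mul_smul, ← pow_succ']
      rw [Finset.sum_congr rfl h2]
      rw [Finset.sum_range_succ' (fun i => ((m + 1 + i - 1).choose i : ℤ) • (u ^ i • c)),
        Finset.sum_range_succ (fun i => ((m + 1 + i - 1).choose i : ℤ) • (u ^ (i + 1) • c)), hc,
        Finset.sum_range_succ' (fun i => ((m + i - 1).choose i : ℤ) • (u ^ i • c))]
      simp only [smul_zero, add_zero, Nat.choose_zero_right, Nat.cast_one, one_smul, pow_zero]
      rw [add_sub_right_comm, ← Finset.sum_sub_distrib]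
      congr 1
      apply Finset.sum_congr rfl
      intro i _
      rw [← sub_smul]
      congr 1
      have e1 : m + 1 + (i + 1) - 1 = (m + i) + 1 := by omega
      have e2 : m + 1 + i - 1 = m + i := by omega
      have e3 : m + (i + 1) - 1 = m + i := by omega
      rw [e1, e2, e3, Nat.choose_succ_succ]
      push_cast
      ring
    rw [pow_succ', mul_smul, ih, ← key, ← mul_smul, h1, one_smul]

end alg

variable {X : Scheme.{u}}

/-- `Π_i (1 - [M_i ⊗ -])` as an endomorphism of `K'_0(X)`. -/
noncomputable def Psi {r : ℕ} (M : _root_.Fin r → X.Modules) : AddMonoid.End (K0 X) :=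
  ((List.finRange r).map (fun i => 1 - Top (M i))).prod

theorem Psi_cons {r : ℕ} (A : X.Modules) (M : _root_.Fin r → X.Modules) :
    Psi (Fin.cons A M : _root_.Fin (r + 1) → X.Modules) = (1 - Top A) * Psi M := by
  unfold Psi
  rw [List.finRange_succ, List.map_cons, List.prod_cons, List.map_map]
  rfl

theorem Psi_const (r : ℕ) (A : X.Modules) :
    Psi (fun _ : _root_.Fin r => A) = (1 - Top A) ^ r := by
  unfold Psi
  rw [List.map_const', List.prod_replicate, List.length_finRange]

theorem pow_sub_Top_mem_Hlt [IsNoetherian X] (A : X.Modules) (hA : PicF.IsInvertible A) (n : ℕ) :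
    ∀ (r : ℕ) (c : K0 X), c ∈ Hlt X (n + r) → ((1 - Top A) ^ r) c ∈ Hlt X n := by
  intro r
  induction r with
  | zero => intro c hc; simpa using hc
  | succ r ih =>
    intro c hc
    rw [pow_succ]
    exact ih _ (sub_Top_mem_Hlt A hA (n + r) c hc)

theorem Psi_mem_Hlt [IsNoetherian X] : ∀ {r : ℕ} (M : _root_.Fin r → X.Modules)
    (_ : ∀ i, PicF.IsInvertible (M i)) (n : ℕ) (c : K0 X), c ∈ Hlt X (n + r) → Psi M c ∈ Hlt X n := by
  intro r
  induction r with
  | zero =>
    intro M _ n c hc
    unfold Psi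
    simpa using hc
  | succ r ih =>
    intro M hM n c hc
    rw [← Fin.cons_self_tail M, Psi_cons]
    have h1 : Psi (Fin.tail M) c ∈ Hlt X (n + 1) := by
      apply ih (Fin.tail M) (fun i => hM i.succ) (n + 1) c
      have : n + 1 + r = n + (r + 1) := by omega
      rw [this]; exact hc
    exact sub_Top_mem_Hlt (M 0) (hM 0) n _ h1

theorem cls_mem_Hlt_of_lt (F : X.Modules) (hF : Coh.IsCoh F) (r : ℕ)
    (hr : topologicalKrullDim (CohB1.support F) < r) : cls F ∈ Hlt X r := by
  unfold Hlt
  apply AddSubgroup.subset_closure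
  exact ⟨F, hF, hr, rfl⟩

theorem eq_zero_of_mem_Hlt_zero (c : K0 X) (hc : c ∈ Hlt X 0) : c = 0 := by
  rw [Hlt_zero, AddSubgroup.mem_bot] at hc
  exact hc

section chi

variable (k : Type u) [Field k] (X : Scheme.{u}) [X.Over (Spec (CommRingCat.of k))]
  [IsProper (X ↘ Spec (CommRingCat.of k))]

include k in
theorem isNoetherian : IsNoetherian X := by
  haveI : IsLocallyNoetherian X := Groth.Agent.Lib.Helper8.EulerK.isLocallyNoetherian k X
  haveI : CompactSpace X := QuasiCompact.compactSpace_of_compactSpace (X ↘ Spec (CommRingCat.of k))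
  exact { }

/-- the Euler characteristic as an additive map on `K'_0(X)` -/
noncomputable def chi : K0 X →+ ℤ :=
  Groth.Agent.Lib.Helper8.K0Add.Φ (Curv2.euler k X) (Groth.Agent.Lib.Helper8.EulerK.euler_add k X)

theorem chi_cls (M : X.Modules) (hM : Coh.IsCoh M) : chi k X (cls M) = Curv2.euler k X M :=
  Groth.Agent.Lib.Helper8.K0Add.Φ_cls _ _ _ hM

theorem eulerCharLE_eq_euler (d : ℕ) (hd : topologicalKrullDim X ≤ d) (F : X.Modules) :
    FGA.eulerCharLE k X F d = Curv2.euler k X F := by
  haveI : IsNoetherian X := isNoetherian k X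
  haveI : NoetherianSpace ↑X.toTopCat := inferInstanceAs (NoetherianSpace X)
  rw [Groth.Agent.Lib.Helper8.EulerK.euler_eq_sum k X F (d + 1) (fun p hp =>
    Groth.Agent.Lib.Helper17.GV.grothendieck_vanishing (X := X.toTopCat) d hd (Coh.toAb F) p (by omega))]
  rfl

theorem eulerCharLE_eq_chi (d : ℕ) (hd : topologicalKrullDim X ≤ d) (F : X.Modules) (hF : Coh.IsCoh F) :
    FGA.eulerCharLE k X F d = chi k X (cls F) := by
  rw [eulerCharLE_eq_euler k X d hd F, chi_cls k X F hF]

/-- the intersection number as the Euler characteristic of `Π_i (1 - [M_i ⊗ -]) [F]`. -/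
theorem intNum_eq (d : ℕ) (hd : topologicalKrullDim X ≤ d) {r : ℕ} (M : _root_.Fin r → X.Modules)
    (hM : ∀ i, PicF.IsInvertible (M i)) (F : X.Modules) (hF : Coh.IsCoh F) :
    FGA.intNum k X d M F = chi k X (Psi M (cls F)) := by
  unfold FGA.intNum
  have hterm : ∀ I : Finset (_root_.Fin r),
      (-1 : ℤ) ^ I.card * FGA.eulerCharLE k X (CohB1.tensorMod (FGA.tensorList ((I.sort (· ≤ ·)).map M)) F) d =
      chi k X ((((-1 : ℤ) ^ I.card) • ((I.sort (· ≤ ·)).map (fun i => Top (M i))).prod) (cls F)) := by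
    intro I
    have hl : ∀ N ∈ (I.sort (· ≤ ·)).map M, PicF.IsInvertible N := by
      intro N hN
      obtain ⟨i, -, rfl⟩ := List.mem_map.1 hN
      exact hM i
    have hcoh : Coh.IsCoh (CohB1.tensorMod (FGA.tensorList ((I.sort (· ≤ ·)).map M)) F) :=
      isCoh_tensorMod _ _ (isCoh_of_isInvertible _ (isInvertible_tensorList _ hl)) hF
    rw [eulerCharLE_eq_chi k X d hd _ hcoh, cls_tensorList_tensor _ hl F hF, List.map_map]
    change _ = chi k X (((-1 : ℤ) ^ I.card) • (((I.sort (· ≤ ·)).map (fun i => Top (M i))).prod (cls F)))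
    rw [map_zsmul, smul_eq_mul]
    rfl
  rw [Finset.sum_congr rfl (fun I _ => hterm I), ← map_sum]
  congr 1
  have h2 := sum_powerset_sort_prod (fun i : _root_.Fin r => Top (M i)) Finset.univ
  rw [Finset.powerset_univ, Fin.sort_univ] at h2
  unfold Psi
  rw [← h2]
  exact (AddMonoidHom.finsetSum_apply _ _ _).symm

end chi

end Groth.Agent.Lib.Helper2.IntNum1
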