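import Groth.Agent.Lib.Helper2.CechNat2
import Groth.Agent.Lib.Helper17.AffineVanish
import Groth.Agent.Lib.Helper17.HCompare
import Groth.Prelude.Def_CohB1

/-!
# Čech cohomology of an affine cover computes cohomology, naturally (hence linearly) (helper2)

A natural version of S0013: the isomorphisms `Ȟ^p(𝒰, M) ≃ H^p(X, M)` can be chosen compatibly with all
morphisms of the underlying abelian sheaves; in particular they are linear over the global functions.
-/

set_option autoImplicit false
universe u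

open CategoryTheory CategoryTheory.Limits Opposite TopologicalSpace AlgebraicGeometry Abelian

namespace Groth.Agent.Lib.Helper2.CechNat3

open Groth.Agent.Lib.Helper17.AffineVanish Groth.Agent.Lib.Helper17.HCompare
  Groth.Agent.Lib.Helper2.CechNat2

/-- the comparison `H^n(X, F) ≃ H^n(⊤, F)` is natural. -/
theorem topHEquiv_symm_naturality {X : TopCat.{u}} {F F' : CohTop.Ab X} (g : F ⟶ F') (n : ℕ)
    (y : CohTop.HU F n ⊤) :
    (topHEquiv F' n).symm (y.comp (Ext.mk₀ g) (add_zero n)) =
      Sheaf.H.map g n ((topHEquiv F n).symm y) := by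
  change (Ext.mk₀ (zzIso (Opens.grothendieckTopology X) isTerminalTop).hom).comp
      (y.comp (Ext.mk₀ g) (add_zero n)) (zero_add n) =
    ((Ext.mk₀ (zzIso (Opens.grothendieckTopology X) isTerminalTop).hom).comp y (zero_add n)).comp
      (Ext.mk₀ g) (add_zero n)
  rw [Ext.comp_assoc_of_third_deg_zero]

variable (X : Scheme.{u}) {ι : Type u} (U : ι → X.Opens)

/-- **natural (hence linear) form of "Čech cohomology of an affine cover computes cohomology"**. -/
theorem exists_natural_equiv (hcov : ⨆ i, U i = ⊤)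
    (hU : ∀ s : Finset ι, s.Nonempty → IsAffineOpen (⨅ i ∈ s, U i)) (p : ℕ) :
    ∃ e : ∀ M : X.Modules, M.IsQuasicoherent → (↑(CohB1.cechH U M p) ≃+ Coh.HH X M p),
      ∀ (M M' : X.Modules) (hM : M.IsQuasicoherent) (hM' : M'.IsQuasicoherent)
        (g : Coh.toAb M ⟶ Coh.toAb M') (x : ↑(CohB1.cechH U M p)),
        e M' hM' (cechMap (X := X.toTopCat) U g p x) = Sheaf.H.map g p (e M hM x) := by
  classical
  have hAc : ∀ M : X.Modules, M.IsQuasicoherent → Acyc' (X := X.toTopCat) U (Coh.toAb M) := by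
    intro M hM p a q
    haveI := hM
    refine subsingleton_HU_of_isAffineOpen M ?_ q
    have h1 := hU (Finset.univ.image a) (Finset.univ_nonempty.image a)
    have h2 : (⨅ i ∈ Finset.univ.image a, U i) = ⨅ k, U (a k) := by
      rw [Finset.iInf_finset_image]
      simp
    rwa [h2] at h1
  obtain ⟨e₀, he₀⟩ := CechNat2.exists_natural_equiv (X := X.toTopCat) U p
  have hcov' : iSup U = ⊤ := hcov
  -- transport along `iSup U = ⊤`
  have key : ∃ e : ∀ F : CohTop.Ab X.toTopCat, Acyc' (X := X.toTopCat) U F →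
      (CohTop.cechH F.obj U p ≃+ CohTop.HU F p ⊤),
      ∀ (F F' : CohTop.Ab X.toTopCat) (hF : Acyc' (X := X.toTopCat) U F)
        (hF' : Acyc' (X := X.toTopCat) U F') (g : F ⟶ F') (x : CohTop.cechH F.obj U p),
        e F' hF' (cechMap (X := X.toTopCat) U g p x) = (e F hF x).comp (Ext.mk₀ g) (add_zero p) := by
    rw [← hcov']
    exact ⟨e₀, he₀⟩
  obtain ⟨e₁, he₁⟩ := key
  refine ⟨fun M hM => (e₁ (Coh.toAb M) (hAc M hM)).trans
    (topHEquiv (X := X.toTopCat) (Coh.toAb M) p).symm, fun M M' hM hM' g x => ?_⟩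
  change (topHEquiv (X := X.toTopCat) (Coh.toAb M') p).symm
      (e₁ (Coh.toAb M') (hAc M' hM') (cechMap (X := X.toTopCat) U g p x)) =
    Sheaf.H.map g p ((topHEquiv (X := X.toTopCat) (Coh.toAb M) p).symm
      (e₁ (Coh.toAb M) (hAc M hM) x))
  rw [he₁ _ _ (hAc M hM) (hAc M' hM') g x, topHEquiv_symm_naturality]

end Groth.Agent.Lib.Helper2.CechNat3
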