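import Mathlib

/-!
# Computing the homology of a complex of abelian groups elementwise (helper2)

If `θ : L.X j ⟶ T` kills the boundaries, is onto when restricted to the cycles and its kernel on the
cycles consists of boundaries, then it induces an isomorphism `L.homology j ≅ T`, and this isomorphism
is natural in the obvious sense.
-/

set_option autoImplicit false
universe u
open CategoryTheory CategoryTheory.Limits

namespace Groth.Agent.Lib.Helper2.HomologyElem

variable {ι : Type*} {c : ComplexShape ι} (L : HomologicalComplex AddCommGrpCat.{u} c)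
  (i j k : ι) (hi : c.prev j = i) (hk : c.next j = k)
  {T : AddCommGrpCat.{u}} (θ : L.X j ⟶ T)

/-- the map induced on homology by a map killing the boundaries. -/
noncomputable def desc (h : L.d i j ≫ θ = 0) : L.homology j ⟶ T :=
  (L.homologyIsCokernel i j hi).desc (CokernelCofork.ofπ (L.iCycles j ≫ θ)
    (by rw [← Category.assoc, HomologicalComplex.toCycles_i, h]))

@[reassoc]
lemma π_desc (h : L.d i j ≫ θ = 0) :
    L.homologyπ j ≫ desc L i j hi θ h = L.iCycles j ≫ θ :=
  Cofork.IsColimit.π_desc (L.homologyIsCokernel i j hi)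

lemma π_desc_apply (h : L.d i j ≫ θ = 0) (z : L.cycles j) :
    desc L i j hi θ h (L.homologyπ j z) = θ (L.iCycles j z) :=
  congrArg (fun φ => φ.hom z) (π_desc L i j hi θ h)

include hk in
lemma exists_cycle (x : L.X j) (hx : L.d j k x = 0) : ∃ z : L.cycles j, L.iCycles j z = x := by
  have hex : (ShortComplex.mk (L.iCycles j) (L.d j k) (L.iCycles_d j k)).Exact :=
    ShortComplex.exact_of_f_is_kernel _ (L.cyclesIsKernel j k hk)
  rw [ShortComplex.ab_exact_iff] at hex
  exact hex x hx

lemma iCycles_injective : Function.Injective (L.iCycles j) :=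
  (AddCommGrpCat.mono_iff_injective _).1 inferInstance

lemma homologyπ_surjective : Function.Surjective (L.homologyπ j) :=
  (AddCommGrpCat.epi_iff_surjective _).1 inferInstance

include hk in
theorem bijective_desc (h : L.d i j ≫ θ = 0)
    (hsurj : ∀ t : T, ∃ x : L.X j, L.d j k x = 0 ∧ θ x = t)
    (hinj : ∀ x : L.X j, L.d j k x = 0 → θ x = 0 → ∃ y : L.X i, L.d i j y = x) :
    Function.Bijective (desc L i j hi θ h) := by
  constructor
  · rw [injective_iff_map_eq_zero]
    intro a ha
    obtain ⟨z, rfl⟩ := homologyπ_surjective L j a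
    rw [π_desc_apply] at ha
    have hd : L.d j k (L.iCycles j z) = 0 :=
      congrArg (fun φ => φ.hom z) (L.iCycles_d j k)
    obtain ⟨y, hy⟩ := hinj _ hd ha
    have hz : z = L.toCycles i j y := by
      apply iCycles_injective L j
      rw [← hy]
      exact (congrArg (fun φ => φ.hom y) (L.toCycles_i i j)).symm
    rw [hz]
    exact congrArg (fun φ => φ.hom y) (L.toCycles_comp_homologyπ i j)
  · intro t
    obtain ⟨x, hx, rfl⟩ := hsurj t
    obtain ⟨z, rfl⟩ := exists_cycle L j k hk x hx
    exact ⟨L.homologyπ j z, π_desc_apply L i j hi θ h z⟩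

/-- naturality of `desc`. -/
theorem desc_naturality {L' : HomologicalComplex AddCommGrpCat.{u} c} {T' : AddCommGrpCat.{u}}
    (θ' : L'.X j ⟶ T') (h : L.d i j ≫ θ = 0) (h' : L'.d i j ≫ θ' = 0)
    (φ : L ⟶ L') (σ : T ⟶ T') (hφ : φ.f j ≫ θ' = θ ≫ σ) :
    HomologicalComplex.homologyMap φ j ≫ desc L' i j hi θ' h' = desc L i j hi θ h ≫ σ := by
  rw [← cancel_epi (L.homologyπ j), HomologicalComplex.homologyπ_naturality_assoc,
    π_desc, π_desc_assoc, HomologicalComplex.cyclesMap_i_assoc, hφ]

end Groth.Agent.Lib.Helper2.HomologyElem
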