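import Mathlib

/-!
# The structure morphism `Proj 𝒜 ⟶ Spec 𝒜₀` on the standard affine opens (helper2)
-/

set_option autoImplicit false
universe u
open CategoryTheory AlgebraicGeometry Opposite TopologicalSpace HomogeneousLocalization

noncomputable section

namespace Groth.Agent.Lib.Helper2.ProjCoh6

variable {σ : Type*} {A : Type u} [CommRing A] [SetLike σ A] [AddSubgroupClass σ A]
  (𝒜 : ℕ → σ) [GradedRing 𝒜]

/-- the pullback of functions along `Proj 𝒜 ⟶ Spec 𝒜₀`, restricted to `D₊(f)`, is `c ↦ c / 1`. -/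
theorem toSpecZero_appTop_res {f : A} {m : ℕ} (f_deg : f ∈ 𝒜 m) (hm : 0 < m) :
    (Proj.toSpecZero 𝒜).appTop ≫
        (Proj 𝒜).presheaf.map (homOfLE (le_top : Proj.basicOpen 𝒜 f ≤ ⊤)).op =
      (Scheme.ΓSpecIso (.of (𝒜 0))).hom ≫
        CommRingCat.ofHom (fromZeroRingHom 𝒜 (Submonoid.powers f)) ≫ Proj.awayToSection 𝒜 f := by
  have h1 := congrArg Scheme.Hom.appTop (Proj.awayι_toSpecZero 𝒜 f f_deg hm)
  rw [Scheme.Hom.comp_appTop, Proj.awayι, Scheme.Hom.comp_appTop] at h1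
  have h2 : (Proj.basicOpenIsoSpec 𝒜 f f_deg hm).inv.appTop ≫
      (Proj.basicOpenIsoSpec 𝒜 f f_deg hm).hom.appTop = 𝟙 _ := by
    rw [← Scheme.Hom.comp_appTop, Iso.hom_inv_id]
    rfl
  have h3 := congrArg (fun φ => φ ≫ (Proj.basicOpenIsoSpec 𝒜 f f_deg hm).hom.appTop) h1
  simp only [Category.assoc, h2, Category.comp_id] at h3
  have h4 : (Proj.basicOpenIsoSpec 𝒜 f f_deg hm).hom.appTop = _ :=
    Proj.basicOpenToSpec_app_top 𝒜 f
  rw [h4, ← Category.assoc ((Spec.map _).appTop), Scheme.ΓSpecIso_naturality] at h3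
  have h5 := congrArg (fun φ => φ ≫ (Proj.basicOpen 𝒜 f).topIso.hom) h3
  simp only [Category.assoc, Iso.inv_hom_id, Category.comp_id] at h5
  rw [← h5]
  congr 1

end Groth.Agent.Lib.Helper2.ProjCoh6
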