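import Groth.Agent.Lib.Helper2.ProjCoh4
import Groth.Agent.Lib.Helper2.ProjCoh6
import Groth.Agent.Lib.Helper28.TwistQC

/-!
# The action of the base ring on the sections of `O(d)` over the standard opens (helper2)
-/

set_option autoImplicit false
universe u
open CategoryTheory CategoryTheory.Limits AlgebraicGeometry Opposite TopologicalSpace
  HomogeneousLocalization

noncomputable section

namespace Groth.Agent.Lib.Helper2.ProjCoh8

open Groth.Agent.Lib.Helper28 Groth.Agent.Lib.Helper2.ProjCoh2 Groth.Agent.Lib.Helper2.ProjCoh3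
  Groth.Agent.Lib.Helper2.ProjCoh4 Groth.Agent.Lib.Helper17.CechElem

section General

variable {R A : Type u} [CommRing R] [CommRing A] [Algebra R A] (𝒜 : ℕ → Submodule R A)
  [GradedAlgebra 𝒜]

/-- the global function attached to an element of degree zero. -/
def rho (c : 𝒜 0) : Γ(Proj 𝒜, ⊤) :=
  (Proj.toSpecZero 𝒜).appTop.hom ((Scheme.ΓSpecIso (.of (𝒜 0))).inv.hom c)

theorem res_rho {f : A} {m : ℕ} (f_deg : f ∈ 𝒜 m) (hm : 0 < m) (c : 𝒜 0) :
    QCohLoc.resO (le_top : Proj.basicOpen 𝒜 f ≤ ⊤) (rho 𝒜 c) =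
      (Proj.awayToSection 𝒜 f).hom (fromZeroRingHom 𝒜 (Submonoid.powers f) c) := by
  have h := ProjCoh6.toSpecZero_appTop_res 𝒜 f_deg hm
  have h2 := congrArg (fun φ => φ.hom ((Scheme.ΓSpecIso (.of (𝒜 0))).inv.hom c)) h
  simp only [CommRingCat.hom_comp, RingHom.comp_apply] at h2
  rw [← RingHom.comp_apply (Scheme.ΓSpecIso (.of (𝒜 0))).hom.hom, ← CommRingCat.hom_comp,
    Iso.inv_hom_id] at h2
  exact h2

/-- the value of the global function attached to `c` at a point is `c / 1`. -/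
theorem val_valO_rho {f : A} {m : ℕ} (f_deg : f ∈ 𝒜 m) (hm : 0 < m) (c : 𝒜 0)
    (V : (Proj 𝒜).Opens) (y : V) (hy : y.1 ∈ Proj.basicOpen 𝒜 f) :
    (GrTildeQC.valO 𝒜 (QCohLoc.resO (le_top : V ≤ ⊤) (rho 𝒜 c)) y).val =
      Localization.mk (c : A) 1 := by
  have h1 : GrTildeQC.valO 𝒜 (QCohLoc.resO (le_top : V ≤ ⊤) (rho 𝒜 c)) y =
      GrTildeQC.valO 𝒜 (QCohLoc.resO (le_top : Proj.basicOpen 𝒜 f ≤ ⊤) (rho 𝒜 c)) ⟨y.1, hy⟩ := rfl
  rw [h1, res_rho 𝒜 f_deg hm c]
  rfl

end General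

section ProjSpace

variable (n : ℕ) (R : Type u) [CommRing R]

/-- the structure map of the global functions of projective space. -/
theorem toGlobal_eq (r : R) :
    Coh.toGlobal (CohB1.ProjSpace.toSpec n R) r = rho (gr n R) (algebraMap R (gr n R 0) r) := by
  have h := Scheme.ΓSpecIso_inv_naturality (CommRingCat.ofHom (algebraMap R (gr n R 0)))
  have h2 := congrArg (fun φ => φ.hom r) h
  simp only [CommRingCat.hom_comp, RingHom.comp_apply] at h2
  unfold Coh.toGlobal CohB1.ProjSpace.toSpec rho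
  rw [Scheme.Hom.comp_appTop]
  change (Proj.toSpecZero (gr n R)).appTop.hom
    ((Spec.map (CommRingCat.ofHom (algebraMap R (gr n R 0)))).appTop.hom
      ((Scheme.ΓSpecIso (.of R)).inv.hom r)) = _
  rw [← h2]
  rfl

variable {n R}
variable {d : ℤ}

/-- the action of a scalar on a section of `O(d)`. -/
abbrev smulSec (r : R) {U : (Proj (gr n R)).Opens} (t : Γ(Twist.twist (gr n R) d, U)) :
    Γ(Twist.twist (gr n R) d, U) :=
  (Coh.smulAb (X := CohB1.ProjSpace n R) (Twist.twistProjSpace n R d)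
    (Coh.toGlobal (CohB1.ProjSpace.toSpec n R) r)).hom.app (op U) t

theorem smulSec_eq (r : R) {U : (Proj (gr n R)).Opens} (t : Γ(Twist.twist (gr n R) d, U)) :
    smulSec r t = (QCohLoc.resO (le_top : U ≤ ⊤) (rho (gr n R) (algebraMap R (gr n R 0) r))) • t := by
  change @HSMul.hSMul ((Proj (gr n R)).ringCatSheaf.obj.obj (op U))
    ((Twist.twist (gr n R) d).val.obj (op U)) ((Twist.twist (gr n R) d).val.obj (op U)) _
    (Coh.resTop (Proj (gr n R)) (op U) (Coh.toGlobal (CohB1.ProjSpace.toSpec n R) r)) t = _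
  rw [toGlobal_eq]
  rfl

theorem isRep_smulSec (c₀ : Fin (n + 1) →₀ ℕ) (hc₀ : 0 < Finsupp.degree c₀)
    {U : (Proj (gr n R)).Opens} (hU : U ≤ Proj.basicOpen (gr n R) (mon c₀))
    {t : Γ(Twist.twist (gr n R) d, U)} {c : Fin (n + 1) →₀ ℕ} {m : PA n R} (ht : IsRep d t c m)
    (r : R) : IsRep d (smulSec r t) c (MvPolynomial.C r * m) := by
  obtain ⟨i, hm, hi, hc, hval⟩ := ht
  refine ⟨i, ?_, hi, hc, fun x => ?_⟩
  · have h0 : (MvPolynomial.C r : PA n R) ∈ gr n R 0 :=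
      (MvPolynomial.mem_homogeneousSubmodule _ _).2 (MvPolynomial.isHomogeneous_C _ r)
    have := SetLike.mul_mem_graded h0 hm
    rwa [zero_add] at this
  · rw [smulSec_eq, TwistQC.val_smul,
      val_valO_rho (gr n R) (mon_mem c₀) hc₀ _ U x (hU x.2), hval x, Localization.mk_mul, one_mul]
    rfl

theorem Psi_smulSec (c₀ : Fin (n + 1) →₀ ℕ) (hc₀ : 0 < Finsupp.degree c₀)
    {U : (Proj (gr n R)).Opens} (hU : U = Proj.basicOpen (gr n R) (mon c₀))
    (t : Γ(Twist.twist (gr n R) d, U)) (r : R) :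
    Psi (smulSec r t) = r • Psi t := by
  obtain ⟨k, m, ht⟩ := exists_isRep' c₀ hc₀ hU t
  rw [Psi_eq c₀ hc₀ hU ht, Psi_eq c₀ hc₀ hU (isRep_smulSec c₀ hc₀ hU.le ht r)]
  have h1 : (MvPolynomial.C r : PA n R) = MvPolynomial.monomial 0 r := rfl
  rw [frac, frac, map_mul, h1, φ_monomial, map_zero, Algebra.smul_def, mul_assoc]
  rfl

theorem psi_smulSec {q : ℕ} (x : Fin (q + 1) → Idx.{u} n)
    (s : (PO R d).obj (op (W (cov n R) x))) (r : R) :
    psi R d x (smulSec r s) = r • psi R d x s := by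
  ext e
  rw [psi_apply, Psi_smulSec (cx x) (degree_cx_pos x) (W_eq R x) s r]
  rfl

end ProjSpace

end Groth.Agent.Lib.Helper2.ProjCoh8
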