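import Groth.Agent.Lib.Helper2.ProjCoh5
import Groth.Agent.Lib.Helper2.ProjCoh8
import Groth.Agent.Lib.Helper2.CechNat3
import Groth.Agent.Lib.Helper2.HomologyElem

/-!
# From an elementwise computation of the Čech complex to a linear isomorphism on cohomology (helper2)
-/

set_option autoImplicit false
universe u
open CategoryTheory CategoryTheory.Limits AlgebraicGeometry Opposite TopologicalSpace

noncomputable section

namespace Groth.Agent.Lib.Helper2.ProjCoh9

open Groth.Agent.Lib.Helper28 Groth.Agent.Lib.Helper2.ProjCoh2 Groth.Agent.Lib.Helper2.ProjCoh3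
  Groth.Agent.Lib.Helper2.ProjCoh4 Groth.Agent.Lib.Helper2.ProjCoh5 Groth.Agent.Lib.Helper2.ProjCoh8
  Groth.Agent.Lib.Helper17.CechElem Groth.Agent.Lib.Helper2.CechNat2

variable (n : ℕ) (R : Type u) [CommRing R] (d : ℤ)

/-- the scalar endomorphisms of the abelian sheaf underlying `O(d)`. -/
abbrev gR (r : R) : Coh.toAb (Twist.twistProjSpace n R d) ⟶ Coh.toAb (Twist.twistProjSpace n R d) :=
  Coh.smulAb (X := CohB1.ProjSpace n R) (Twist.twistProjSpace n R d)
    (Coh.toGlobal (CohB1.ProjSpace.toSpec n R) r)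

/-- the Čech complex of the standard cover. -/
abbrev L : CochainComplex AddCommGrpCat.{u} ℕ := K (cov n R) (PO R d)

/-- the scalar endomorphisms of the Čech complex. -/
abbrev φR (r : R) : L n R d ⟶ L n R d := (cechComplexFunctor (cov n R)).map (gR n R d r).hom

theorem comp_φR (r : R) (p : ℕ) (α : (L n R d).X p) (x : Fin (p + 1) → Idx.{u} n) :
    comp (cov n R) (PO R d) (((φR n R d r).f p).hom α) x =
      smulSec r (comp (cov n R) (PO R d) α x) :=
  Groth.Agent.Lib.Helper2.FullCech3.comp_map (cov n R) p (gR n R d r).hom α x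

/-- **assembly**: an elementwise computation of the Čech cohomology of the standard cover, compatible
with the scalars, gives a linear isomorphism on cohomology. -/
theorem nonempty_linearEquiv (p i k : ℕ) (hi : (ComplexShape.up ℕ).prev p = i)
    (hk : (ComplexShape.up ℕ).next p = k) (D : ℕ)
    (θ₀ : (L n R d).X p →+ MvPolynomial.homogeneousSubmodule (Fin (n + 1)) R D)
    (hθr : ∀ (r : R) (α : (L n R d).X p), θ₀ (((φR n R d r).f p).hom α) = r • θ₀ α)
    (ha : ∀ y : (L n R d).X i, θ₀ (((L n R d).d i p).hom y) = 0)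
    (hb : ∀ t, ∃ α : (L n R d).X p, ((L n R d).d p k).hom α = 0 ∧ θ₀ α = t)
    (hc : ∀ α : (L n R d).X p, ((L n R d).d p k).hom α = 0 → θ₀ α = 0 →
      ∃ y : (L n R d).X i, ((L n R d).d i p).hom y = α) :
    Nonempty (Coh.HH (CohB1.ProjSpace n R) (Twist.twistProjSpace n R d) p ≃ₗ[R]
      MvPolynomial.homogeneousSubmodule (Fin (n + 1)) R D) := by
  classical
  let T : AddCommGrpCat.{u} := AddCommGrpCat.of (MvPolynomial.homogeneousSubmodule (Fin (n + 1)) R D)
  let θ : (L n R d).X p ⟶ T := AddCommGrpCat.ofHom θ₀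
  have h : (L n R d).d i p ≫ θ = 0 :=
    AddCommGrpCat.hom_ext (AddMonoidHom.ext fun y => ha y)
  have hbij := HomologyElem.bijective_desc (L n R d) i p k hi hk θ h hb hc
  let eH : ((L n R d).homology p : AddCommGrpCat.{u}) ≃+
      MvPolynomial.homogeneousSubmodule (Fin (n + 1)) R D :=
    AddEquiv.ofBijective (HomologyElem.desc (L n R d) i p hi θ h).hom hbij
  have heH : ∀ (r : R) (x : ((L n R d).homology p : AddCommGrpCat.{u})),
      eH ((HomologicalComplex.homologyMap (φR n R d r) p).hom x) = r • eH x := by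
    intro r x
    let σ : T ⟶ T := AddCommGrpCat.ofHom
      (DistribSMul.toAddMonoidHom (MvPolynomial.homogeneousSubmodule (Fin (n + 1)) R D) r)
    have h1 := HomologyElem.desc_naturality (L n R d) i p hi θ θ h h (φR n R d r) σ
      (AddCommGrpCat.hom_ext (AddMonoidHom.ext fun α => hθr r α))
    exact congrArg (fun f => f.hom x) h1
  obtain ⟨eC, heC⟩ := CechNat3.exists_natural_equiv (CohB1.ProjSpace n R) (cov n R) (iSup_cov n R)
    (isAffineOpen_iInf n R) p
  have hQ : (Twist.twistProjSpace n R d).IsQuasicoherent := isQCoh_twist n R d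
  let e : Coh.HH (CohB1.ProjSpace n R) (Twist.twistProjSpace n R d) p ≃+
      MvPolynomial.homogeneousSubmodule (Fin (n + 1)) R D :=
    (eC (Twist.twistProjSpace n R d) hQ).symm.trans eH
  refine ⟨e.toLinearEquiv (fun r y => ?_)⟩
  obtain ⟨x, rfl⟩ := (eC (Twist.twistProjSpace n R d) hQ).surjective y
  have h2 : r • (eC (Twist.twistProjSpace n R d) hQ) x =
      Sheaf.H.map (gR n R d r) p ((eC (Twist.twistProjSpace n R d) hQ) x) := rfl
  rw [h2, ← heC _ _ hQ hQ (gR n R d r) x]
  change eH ((eC (Twist.twistProjSpace n R d) hQ).symm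
    ((eC (Twist.twistProjSpace n R d) hQ) _)) = r • eH ((eC (Twist.twistProjSpace n R d) hQ).symm
    ((eC (Twist.twistProjSpace n R d) hQ) x))
  rw [AddEquiv.symm_apply_apply, AddEquiv.symm_apply_apply]
  exact heH r x

end Groth.Agent.Lib.Helper2.ProjCoh9
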