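import Groth.Agent.Lib.Helper2.ProjCoh7
import Groth.Agent.Lib.Helper2.ProjCoh9

/-!
# `H^0(P^n, O(d))` and `H^n(P^n, O(-n-1-k))` as modules of homogeneous polynomials (helper2)
-/

set_option autoImplicit false
universe u
open CategoryTheory CategoryTheory.Limits AlgebraicGeometry Opposite TopologicalSpace

noncomputable section

namespace Groth.Agent.Lib.Helper2.ProjCoh10

open Groth.Agent.Lib.Helper28 Groth.Agent.Lib.Helper2.ProjCoh2 Groth.Agent.Lib.Helper2.ProjCoh3
  Groth.Agent.Lib.Helper2.ProjCoh4 Groth.Agent.Lib.Helper2.ProjCoh5 Groth.Agent.Lib.Helper2.ProjCoh8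
  Groth.Agent.Lib.Helper2.ProjCoh9 Groth.Agent.Lib.Helper17.CechElem

variable {n : ℕ} {R : Type u} [CommRing R]

section Pull

variable (ν : (Fin (n + 1) →₀ ℕ) → (Fin (n + 1) →₀ ℤ)) (hν : Function.Injective ν)

/-- pulling back the coefficients along a map of exponents. -/
def pull : ((Fin (n + 1) →₀ ℤ) →₀ R) →ₗ[R] MvPolynomial (Fin (n + 1)) R :=
  (AddMonoidAlgebra.coeffLinearEquiv R).symm.toLinearMap ∘ₗ Finsupp.lcomapDomain ν hν

theorem coeff_pull (b : (Fin (n + 1) →₀ ℤ) →₀ R) (m : Fin (n + 1) →₀ ℕ) :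
    MvPolynomial.coeff m (pull ν hν b) = b (ν m) := rfl

theorem isHomogeneous_pull {d : ℤ} {D : ℕ}
    (hdeg : ∀ m, Finsupp.degree (ν m) = d → Finsupp.degree m = D)
    (b : (Fin (n + 1) →₀ ℤ) →₀ R) (hb : ∀ e, b e ≠ 0 → Finsupp.degree e = d) :
    (pull ν hν b).IsHomogeneous D := by
  intro m hm
  rw [coeff_pull] at hm
  have h1 := hdeg m (hb _ hm)
  rw [← h1, Finsupp.degree_eq_weight_one]
  rfl

/-- pushing forward the coefficients of a polynomial. -/
def push (t : MvPolynomial (Fin (n + 1)) R) : (Fin (n + 1) →₀ ℤ) →₀ R :=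
  Finsupp.mapDomain ν (AddMonoidAlgebra.coeff t)

include hν in
theorem push_apply (t : MvPolynomial (Fin (n + 1)) R) (m : Fin (n + 1) →₀ ℕ) :
    push ν t (ν m) = MvPolynomial.coeff m t :=
  Finsupp.mapDomain_apply hν _ m

theorem pull_push (t : MvPolynomial (Fin (n + 1)) R) : pull ν hν (push ν t) = t := by
  ext m
  rw [coeff_pull, push_apply ν hν]

include hν in
theorem exists_of_push_ne_zero (t : MvPolynomial (Fin (n + 1)) R) (e : Fin (n + 1) →₀ ℤ)
    (h : push ν t e ≠ 0) : ∃ m, ν m = e ∧ MvPolynomial.coeff m t ≠ 0 := by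
  by_cases he : e ∈ Set.range ν
  · obtain ⟨m, rfl⟩ := he
    exact ⟨m, rfl, by rwa [push_apply ν hν] at h⟩
  · exact absurd (Finsupp.mapDomain_of_notMem_range _ _ he) h

end Pull

section Theta

variable (ν : (Fin (n + 1) →₀ ℕ) → (Fin (n + 1) →₀ ℤ)) (hν : Function.Injective ν)
  {d : ℤ} {D : ℕ} (hdeg : ∀ m, Finsupp.degree (ν m) = d → Finsupp.degree m = D)
  {p : ℕ} (x₀ : Fin (p + 1) → Idx.{u} n)

/-- the map from cochains to homogeneous polynomials: the coefficients of the component at `x₀`. -/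
def theta : (L n R d).X p →+ MvPolynomial.homogeneousSubmodule (Fin (n + 1)) R D :=
  AddMonoidHom.mk' (fun α => ⟨pull ν hν (psi R d x₀ (comp (cov n R) (PO R d) α x₀)),
    isHomogeneous_pull ν hν hdeg _ (fun e he => ((grading R d).mem x₀ _ e he).1)⟩)
    (fun α β => Subtype.ext (by
      change pull ν hν (psi R d x₀ (comp (cov n R) (PO R d) (α + β) x₀)) =
        pull ν hν (psi R d x₀ (comp (cov n R) (PO R d) α x₀)) +
        pull ν hν (psi R d x₀ (comp (cov n R) (PO R d) β x₀))
      rw [Groth.Agent.Lib.Helper2.FullCech3.comp_add, map_add, map_add]))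

theorem coe_theta (α : (L n R d).X p) :
    ((theta ν hν hdeg x₀ α : MvPolynomial.homogeneousSubmodule (Fin (n + 1)) R D) :
      MvPolynomial (Fin (n + 1)) R) = pull ν hν (psi R d x₀ (comp (cov n R) (PO R d) α x₀)) := rfl

theorem theta_smul (r : R) (α : (L n R d).X p) :
    theta ν hν hdeg x₀ (((φR n R d r).f p).hom α) = r • theta ν hν hdeg x₀ α := by
  apply Subtype.ext
  rw [coe_theta, comp_φR, psi_smulSec, map_smul]
  rfl

theorem theta_eq_zero_iff (α : (L n R d).X p) :
    theta ν hν hdeg x₀ α = 0 ↔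
      ∀ m, psi R d x₀ (comp (cov n R) (PO R d) α x₀) (ν m) = 0 := by
  constructor
  · intro h m
    have h1 := congrArg (fun t : MvPolynomial.homogeneousSubmodule (Fin (n + 1)) R D =>
      MvPolynomial.coeff m (t : MvPolynomial (Fin (n + 1)) R)) h
    exact h1
  · intro h
    apply Subtype.ext
    rw [coe_theta]
    ext m
    rw [coeff_pull, h m]
    rfl

theorem theta_eq_of_psi_eq (t : MvPolynomial.homogeneousSubmodule (Fin (n + 1)) R D)
    (α : (L n R d).X p)
    (h : psi R d x₀ (comp (cov n R) (PO R d) α x₀) = push ν (t : MvPolynomial (Fin (n + 1)) R)) :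
    theta ν hν hdeg x₀ α = t := by
  apply Subtype.ext
  rw [coe_theta, h, pull_push]

end Theta

section Zero

variable (n) (R) (D : ℕ)

theorem degree_castExp_eq (m : Fin (n + 1) →₀ ℕ)
    (h : Finsupp.degree (castExp (Fin (n + 1)) m) = (D : ℤ)) : Finsupp.degree m = D := by
  rw [degree_castExp] at h
  exact_mod_cast h

/-- **`H^0(P^n_R, O(D))` is the module of homogeneous polynomials of degree `D`**. -/
theorem nonempty_linearEquiv_zero :
    Nonempty (Coh.HH (CohB1.ProjSpace n R) (Twist.twistProjSpace n R (D : ℤ)) 0 ≃ₗ[R]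
      MvPolynomial.homogeneousSubmodule (Fin (n + 1)) R D) := by
  classical
  let x₀ : Fin (0 + 1) → Idx.{u} n := fun _ => ULift.up 0
  let ν : (Fin (n + 1) →₀ ℕ) → (Fin (n + 1) →₀ ℤ) := castExp (Fin (n + 1))
  have hν : Function.Injective ν := castExp_injective
  have hdeg : ∀ m, Finsupp.degree (ν m) = (D : ℤ) → Finsupp.degree m = D :=
    degree_castExp_eq n D
  refine nonempty_linearEquiv n R (D : ℤ) 0 0 1 (by simp) (by simp) D (theta ν hν hdeg x₀)
    (theta_smul ν hν hdeg x₀) ?_ ?_ ?_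
  · intro y
    have h0 : (L n R (D : ℤ)).d 0 0 = 0 := (L n R (D : ℤ)).shape 0 0 (by simp)
    rw [h0]
    exact map_zero _
  · intro t
    obtain ⟨α, hα, hαb⟩ := ProjCoh7.exists_cocycle_zero (grading R (D : ℤ))
      (push ν (t : MvPolynomial (Fin (n + 1)) R)) (fun e he i => by
        obtain ⟨m, rfl, hm⟩ := exists_of_push_ne_zero ν hν _ e he
        have hdm : Finsupp.degree m = D := by
          by_contra hcon
          exact hm (t.2.coeff_eq_zero hcon)
        refine ⟨by rw [← hdm]; exact degree_castExp m, fun j hj => ?_⟩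
        exfalso
        have : (0 : ℤ) ≤ castExp (Fin (n + 1)) m j := by
          rw [castExp_apply]
          exact Int.natCast_nonneg _
        exact absurd hj (not_lt.mpr this))
    exact ⟨α, hα, theta_eq_of_psi_eq ν hν hdeg x₀ t α (hαb x₀)⟩
  · intro α hα hθ
    have h0 : α = 0 := by
      refine ProjCoh7.eq_zero_of_cocycle_zero (grading R (D : ℤ)) x₀ α hα (fun e he => ?_)
      have hnn : ∀ j, 0 ≤ e j := by
        intro j
        by_contra hj
        push Not at hj
        have hall : ∀ j' : Fin (n + 1), j' = j := by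
          intro j'
          have := (he (ULift.up j')).2 j hj
          rw [Set.mem_singleton_iff] at this
          exact (congrArg ULift.down this).symm
        have hd := (he (ULift.up j)).1
        rw [Finsupp.degree_eq_sum, Finset.sum_eq_single j (fun j' _ hne => absurd (hall j') hne)
          (fun h => absurd (Finset.mem_univ j) h)] at hd
        have : (0 : ℤ) ≤ (D : ℤ) := Int.natCast_nonneg _
        omega
      have h1 := (theta_eq_zero_iff ν hν hdeg x₀ α).1 hθ (toNatExp e)
      have h2 : ν (toNatExp e) = e := castExp_toNatExp e hnn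
      rw [h2] at h1
      exact h1
    refine ⟨0, ?_⟩
    rw [map_zero, h0]

end Zero

section Top

variable (n) (R) (k : ℕ)

/-- the exponent `-m - 1`. -/
def negExp (m : Fin (n + 1) →₀ ℕ) : Fin (n + 1) →₀ ℤ :=
  Finsupp.equivFunOnFinite.symm (fun j => -(m j : ℤ) - 1)

@[simp] theorem negExp_apply (m : Fin (n + 1) →₀ ℕ) (j : Fin (n + 1)) :
    negExp n m j = -(m j : ℤ) - 1 := rfl

theorem negExp_injective : Function.Injective (negExp n) := by
  intro m m' h
  ext j
  have := DFunLike.congr_fun h j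
  simp only [negExp_apply] at this
  omega

theorem negExp_neg (m : Fin (n + 1) →₀ ℕ) (j : Fin (n + 1)) : negExp n m j < 0 := by
  rw [negExp_apply]
  have : (0 : ℤ) ≤ (m j : ℤ) := Int.natCast_nonneg _
  omega

theorem degree_negExp (m : Fin (n + 1) →₀ ℕ) :
    Finsupp.degree (negExp n m) = -((Finsupp.degree m : ℕ) : ℤ) - ((n : ℤ) + 1) := by
  rw [Finsupp.degree_eq_sum, Finsupp.degree_eq_sum]
  simp only [negExp_apply, Finset.sum_sub_distrib, Finset.sum_neg_distrib, Finset.sum_const,
    Finset.card_univ, Fintype.card_fin, nsmul_eq_mul, mul_one]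
  push_cast
  ring

theorem degree_negExp_eq (m : Fin (n + 1) →₀ ℕ)
    (h : Finsupp.degree (negExp n m) = -((n : ℤ) + 1 + k)) : Finsupp.degree m = k := by
  rw [degree_negExp] at h
  have : ((Finsupp.degree m : ℕ) : ℤ) = (k : ℤ) := by linarith
  exact_mod_cast this

theorem exists_negExp_eq (e : Fin (n + 1) →₀ ℤ) (he : ∀ j, e j < 0) : ∃ m, negExp n m = e := by
  refine ⟨Finsupp.equivFunOnFinite.symm (fun j => (-(e j) - 1).toNat), ?_⟩
  ext j
  have := he j
  simp only [negExp_apply, Finsupp.equivFunOnFinite_symm_apply_apply]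
  rw [Int.toNat_of_nonneg (by omega)]
  ring

theorem eq_univ_of_okI {d : ℤ} (e : Fin (n + 1) →₀ ℤ) (he : ∀ j, e j < 0) (S : Set (Idx.{u} n))
    (hS : OkI d S e) : S = Set.univ := by
  apply Set.eq_univ_of_forall
  intro i
  exact hS.2 i.down (he i.down)

/-- **`H^n(P^n_R, O(-n-1-k))` is the module of homogeneous polynomials of degree `k`**. -/
theorem nonempty_linearEquiv_top :
    Nonempty (Coh.HH (CohB1.ProjSpace n R) (Twist.twistProjSpace n R (-((n : ℤ) + 1 + k))) n ≃ₗ[R]
      MvPolynomial.homogeneousSubmodule (Fin (n + 1)) R k) := by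
  classical
  let ν : (Fin (n + 1) →₀ ℕ) → (Fin (n + 1) →₀ ℤ) := negExp n
  have hν : Function.Injective ν := negExp_injective n
  have hdeg : ∀ m, Finsupp.degree (ν m) = -((n : ℤ) + 1 + k) → Finsupp.degree m = k :=
    degree_negExp_eq n k
  have hpush : ∀ (t : MvPolynomial.homogeneousSubmodule (Fin (n + 1)) R k) (e : Fin (n + 1) →₀ ℤ),
      push ν (t : MvPolynomial (Fin (n + 1)) R) e ≠ 0 →
        Finsupp.degree e = -((n : ℤ) + 1 + k) ∧ ∀ j, e j < 0 := by
    intro t e he
    obtain ⟨m, rfl, hm⟩ := exists_of_push_ne_zero ν hν _ e he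
    have hdm : Finsupp.degree m = k := by
      by_contra hcon
      exact hm (t.2.coeff_eq_zero hcon)
    refine ⟨?_, negExp_neg n m⟩
    change Finsupp.degree (negExp n m) = _
    rw [degree_negExp, hdm]
    ring
  cases n with
  | zero =>
    haveI : Subsingleton (Fin (0 + 1)) := inferInstanceAs (Subsingleton (Fin 1))
    let x₀ : Fin (0 + 1) → Idx.{u} 0 := fun _ => ULift.up 0
    refine nonempty_linearEquiv 0 R _ 0 0 1 (by simp) (by simp) k (theta ν hν hdeg x₀)
      (theta_smul ν hν hdeg x₀) ?_ ?_ ?_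
    · intro y
      have h0 : (L 0 R (-(((0 : ℕ) : ℤ) + 1 + k))).d 0 0 = 0 :=
        (L 0 R (-(((0 : ℕ) : ℤ) + 1 + k))).shape 0 0 (by simp)
      rw [h0]
      exact map_zero _
    · intro t
      obtain ⟨α, hα, hαb⟩ := ProjCoh7.exists_cocycle_zero (grading R (-(((0 : ℕ) : ℤ) + 1 + k)))
        (push ν (t : MvPolynomial (Fin (0 + 1)) R)) (fun e he i => by
          obtain ⟨h1, h2⟩ := hpush t e he
          refine ⟨h1, fun j _ => ?_⟩
          rw [Set.mem_singleton_iff]
          apply ULift.ext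
          exact Subsingleton.elim _ _)
      exact ⟨α, hα, theta_eq_of_psi_eq ν hν hdeg x₀ t α (hαb x₀)⟩
    · intro α hα hθ
      have h0 : α = 0 := by
        refine ProjCoh7.eq_zero_of_cocycle_zero (grading R (-(((0 : ℕ) : ℤ) + 1 + k))) x₀ α hα
          (fun e he => ?_)
        have hneg : ∀ j, e j < 0 := by
          intro j
          have hd := (he (ULift.up 0)).1
          rw [Finsupp.degree_eq_sum, Fin.sum_univ_one] at hd
          have hj : j = 0 := Subsingleton.elim _ _
          rw [hj, hd]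
          have : (0 : ℤ) ≤ (k : ℤ) := Int.natCast_nonneg _
          push_cast
          omega
        obtain ⟨m, hm⟩ := exists_negExp_eq 0 e hneg
        have h1 := (theta_eq_zero_iff ν hν hdeg x₀ α).1 hθ m
        have h2 : ν m = e := hm
        rw [h2] at h1
        exact h1
      refine ⟨0, ?_⟩
      rw [map_zero, h0]
  | succ p =>
    let ε : Idx.{u} (p + 1) ≃ Fin (p + 1 + 1) := Equiv.ulift
    let x₀ : Fin (p + 1 + 1) → Idx.{u} (p + 1) := ProjCoh7.x₀ ε
    let bad : (Fin (p + 1 + 1) →₀ ℤ) → Prop := fun e =>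
      Finsupp.degree e = -(((p + 1 : ℕ) : ℤ) + 1 + k) ∧ ∀ j, e j < 0
    refine nonempty_linearEquiv (p + 1) R _ (p + 1) p (p + 1 + 1) (by simp) (by simp) k
      (theta ν hν hdeg x₀) (theta_smul ν hν hdeg x₀) ?_ ?_ ?_
    · intro y
      rw [theta_eq_zero_iff]
      intro m
      exact ProjCoh7.psi_d_top_eq_zero ε (grading R (-(((p + 1 : ℕ) : ℤ) + 1 + k))) (ν m)
        (fun S hS => eq_univ_of_okI (p + 1) (ν m) (negExp_neg (p + 1) m) S hS) y x₀
    · intro t
      obtain ⟨α, hα, hαb⟩ := ProjCoh7.exists_cocycle_top ε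
        (grading R (-(((p + 1 : ℕ) : ℤ) + 1 + k)))
        (push ν (t : MvPolynomial (Fin (p + 1 + 1)) R)) (fun e he =>
          ⟨(hpush t e he).1, fun j _ => Set.mem_univ _⟩)
      exact ⟨α, hα, theta_eq_of_psi_eq ν hν hdeg x₀ t α hαb⟩
    · intro α hα hθ
      refine ProjCoh7.exists_boundary_top ε (grading R (-(((p + 1 : ℕ) : ℤ) + 1 + k))) bad
        ?_ ?_ α hα ?_
      · intro e he
        by_cases hd : Finsupp.degree e = -(((p + 1 : ℕ) : ℤ) + 1 + k)
        · have hex : ∃ j, 0 ≤ e j := by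
            by_contra hcon
            push Not at hcon
            exact he ⟨hd, hcon⟩
          obtain ⟨j, hj⟩ := hex
          refine ⟨ULift.up j, fun S hS => ⟨hS.1, fun j' hj' => ?_⟩⟩
          rcases hS.2 j' hj' with h1 | h1
          · exfalso
            have h2 : j' = j := congrArg ULift.down h1
            rw [h2] at hj'
            omega
          · exact h1
        · exact ⟨ULift.up 0, fun S hS => absurd hS.1 hd⟩
      · intro e he S hS
        exact eq_univ_of_okI (p + 1) e he.2 S hS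
      · intro e he
        obtain ⟨m, hm⟩ := exists_negExp_eq (p + 1) e he.2
        have h1 := (theta_eq_zero_iff ν hν hdeg x₀ α).1 hθ m
        have h2 : ν m = e := hm
        rw [h2] at h1
        exact h1

end Top

end Groth.Agent.Lib.Helper2.ProjCoh10
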