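import Groth.Agent.Lib.Helper2.HLesLin
import Groth.Agent.Lib.Helper2.ProjCoh10

/-!
# Finiteness of cohomology: general lemmas (helper2)

Iso invariance, finite biproducts, zero objects; finiteness of the cohomology of `O(d)` on `P^n_R`.
-/

set_option backward.isDefEq.respectTransparency.types false
set_option autoImplicit false
universe u
open CategoryTheory CategoryTheory.Limits AlgebraicGeometry Opposite TopologicalSpace Abelian

noncomputable section

namespace Groth.Agent.Lib.Helper2.SerreFin1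

section General

attribute [local instance] Abelian.hasFiniteBiproducts

variable {X : Scheme.{u}}

theorem H_map_zero {F G : CohTop.Ab X.toTopCat} (p : ℕ) (y : Sheaf.H F p) :
    Sheaf.H.map (0 : F ⟶ G) p y = 0 := by
  rw [Sheaf.H.map_apply, Ext.mk₀_zero, Ext.comp_zero]

theorem H_map_sum {F G : CohTop.Ab X.toTopCat} {ι : Type*} (s : Finset ι) (g : ι → (F ⟶ G)) (p : ℕ)
    (y : Sheaf.H F p) :
    Sheaf.H.map (∑ a ∈ s, g a) p y = ∑ a ∈ s, Sheaf.H.map (g a) p y := by
  classical
  induction s using Finset.induction_on with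
  | empty => simp [H_map_zero]
  | insert a s ha ih =>
    rw [Finset.sum_insert ha, Finset.sum_insert ha, Sheaf.H.map_add_apply, ih]

variable (A : Type u) [CommRing A] [X.Over (Spec (CommRingCat.of A))]

theorem HHlin_comp_apply {F G K : X.Modules} (φ : F ⟶ G) (ψ : G ⟶ K) (p : ℕ)
    (y : Coh.HH X F p) :
    Canon.HHlin A ψ p (Canon.HHlin A φ p y) = Canon.HHlin A (φ ≫ ψ) p y := by
  change Sheaf.H.map ((SheafOfModules.toSheaf X.ringCatSheaf).map ψ) p
    (Sheaf.H.map ((SheafOfModules.toSheaf X.ringCatSheaf).map φ) p y) =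
    Sheaf.H.map ((SheafOfModules.toSheaf X.ringCatSheaf).map (φ ≫ ψ)) p y
  rw [← Sheaf.H.map_comp_apply]
  rfl

theorem HHlin_id_apply {F : X.Modules} (p : ℕ) (y : Coh.HH X F p) :
    Canon.HHlin A (𝟙 F) p y = y := by
  exact Sheaf.H.map_id_apply (F := Coh.toAb F) y

theorem HHlin_sum_apply {F G : X.Modules} {ι : Type*} (s : Finset ι)
    (g : ι → (F ⟶ G)) (p : ℕ) (y : Coh.HH X F p) :
    Canon.HHlin A (∑ a ∈ s, g a) p y = ∑ a ∈ s, Canon.HHlin A (g a) p y := by
  have h1 : (SheafOfModules.toSheaf X.ringCatSheaf).map (∑ a ∈ s, g a) =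
      ∑ a ∈ s, (SheafOfModules.toSheaf X.ringCatSheaf).map (g a) :=
    Functor.map_sum (SheafOfModules.toSheaf.{u} X.ringCatSheaf) g s
  change Sheaf.H.map ((SheafOfModules.toSheaf X.ringCatSheaf).map (∑ a ∈ s, g a)) p y =
    ∑ a ∈ s, Sheaf.H.map ((SheafOfModules.toSheaf X.ringCatSheaf).map (g a)) p y
  rw [h1, H_map_sum]

/-- finiteness of cohomology is invariant under isomorphisms. -/
theorem finite_of_iso {F G : X.Modules} (e : F ≅ G) (p : ℕ)
    (h : Module.Finite A (Coh.HH X F p)) : Module.Finite A (Coh.HH X G p) := by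
  refine Module.Finite.of_surjective (Canon.HHlin A e.hom p) (fun y => ?_)
  refine ⟨Canon.HHlin A e.inv p y, ?_⟩
  rw [HHlin_comp_apply, e.inv_hom_id, HHlin_id_apply]

/-- finiteness of the cohomology of a finite biproduct. -/
theorem finite_biproduct {k : ℕ} (E : Fin k → X.Modules) (p : ℕ)
    (h : ∀ a, Module.Finite A (Coh.HH X (E a) p)) : Module.Finite A (Coh.HH X (⨁ E) p) := by
  let Φ : (∀ a, Coh.HH X (E a) p) →ₗ[A] Coh.HH X (⨁ E) p :=
    ∑ a, (Canon.HHlin A (biproduct.ι E a) p).comp (LinearMap.proj a)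
  refine Module.Finite.of_surjective Φ (fun y => ?_)
  refine ⟨fun a => Canon.HHlin A (biproduct.π E a) p y, ?_⟩
  have h1 : Φ (fun a => Canon.HHlin A (biproduct.π E a) p y) =
      ∑ a, Canon.HHlin A (biproduct.ι E a) p (Canon.HHlin A (biproduct.π E a) p y) := by
    simp [Φ, LinearMap.sum_apply]
  rw [h1]
  simp only [HHlin_comp_apply]
  rw [← HHlin_sum_apply, biproduct.total, HHlin_id_apply]

/-- finiteness of the cohomology of a finite coproduct. -/
theorem finite_sigma {k : ℕ} (E : Fin k → X.Modules) (p : ℕ)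
    (h : ∀ a, Module.Finite A (Coh.HH X (E a) p)) : Module.Finite A (Coh.HH X (∐ E) p) :=
  finite_of_iso A (biproduct.isoCoproduct E) p (finite_biproduct A E p h)

end General

section Twist

open Groth.Agent.Lib.Helper2.ProjCoh5 Groth.Agent.Lib.Helper2.ProjCoh10 MvPolynomial

variable (n : ℕ) (R : Type u) [CommRing R]

theorem finite_homogeneousSubmodule (D : ℕ) :
    Module.Finite R (homogeneousSubmodule (Fin (n + 1)) R D) := by
  classical
  rw [homogeneousSubmodule_eq_finsupp_supported]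
  have hfin : Finite {d : Fin (n + 1) →₀ ℕ | d.degree = D} := by
    have h1 : {d : Fin (n + 1) →₀ ℕ | d.degree = D} =
        ((Finset.univ : Finset (Fin (n + 1))).finsuppAntidiag D : Set (Fin (n + 1) →₀ ℕ)) := by
      ext m
      simp [Finset.mem_finsuppAntidiag, Finsupp.degree_eq_sum]
    rw [h1]
    exact Finset.finite_toSet _
  exact Module.Finite.equiv (AddMonoidAlgebra.supportedEquivFinsupp (R := R) (S := R)
    {d : Fin (n + 1) →₀ ℕ | d.degree = D}).symm

/-- **the cohomology of `O(d)` on `P^n_R` is finite over `R`**. -/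
theorem finite_HH_twist (d : ℤ) (i : ℕ) :
    Module.Finite R (Coh.HH (CohB1.ProjSpace n R) (Twist.twistProjSpace n R d) i) := by
  by_cases h0 : i = 0 ∧ 0 ≤ d
  · obtain ⟨rfl, hd⟩ := h0
    obtain ⟨D, rfl⟩ := Int.eq_ofNat_of_zero_le hd
    obtain ⟨e⟩ := nonempty_linearEquiv_zero n R D
    have := finite_homogeneousSubmodule n R D
    exact Module.Finite.equiv e.symm
  · by_cases hn : i = n ∧ d ≤ -((n : ℤ) + 1)
    · obtain ⟨rfl, hd⟩ := hn
      obtain ⟨k, rfl⟩ : ∃ k : ℕ, d = -((i : ℤ) + 1 + k) :=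
        ⟨(-d - i - 1).toNat, by rw [Int.toNat_of_nonneg (by omega)]; ring⟩
      obtain ⟨e⟩ := nonempty_linearEquiv_top i R k
      have := finite_homogeneousSubmodule i R k
      exact Module.Finite.equiv e.symm
    · haveI : Subsingleton (Coh.HH (CohB1.ProjSpace n R) (Twist.twistProjSpace n R d) i) :=
        subsingleton_HH n R d i h0 hn
      exact Module.Finite.of_finite

end Twist

end Groth.Agent.Lib.Helper2.SerreFin1
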