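import Groth.Agent.Lib.Helper2.Bridge2
import Groth.Prelude.Def_Canon

/-!
# Linear form of the comparison `H^p(Y, f_* M) ≃ H^p(X, M)` for affine morphisms (helper2)
-/

universe u
open CategoryTheory Limits AlgebraicGeometry Opposite TopologicalSpace Abelian

namespace Groth.Agent.Lib.Helper2.Bridge3

open Groth.Agent.Lib.Helper2.Bridge2

section

variable {X Y : Scheme.{u}} (f : X ⟶ Y) (M : X.Modules)

lemma res_app (r : Coh.Γtop Y) (U : (Opens ↥Y)ᵒᵖ) :
    (f.app U.unop).hom (Coh.resTop Y U r) =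
      Coh.resTop X (op ((Opens.map f.base).obj (unop U))) (f.appTop.hom r) := by
  have := f.naturality (homOfLE (le_top (a := U.unop))).op
  have h2 := congrArg (fun φ => φ.hom r) this
  exact h2

/-- multiplication by a global function of `Y` on `f_* M` is the direct image of the multiplication
by its pullback -/
lemma smulAb_push (r : Coh.Γtop Y) :
    Coh.smulAb ((Scheme.Modules.pushforward f).obj M) r =
      (Coh.pushAb f).map (Coh.smulAb M (f.appTop.hom r)) := by
  ext U m
  rw [Coh.smulAb_app]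
  change _ = (Coh.smulAb M (f.appTop.hom r)).hom.app (op ((Opens.map f.base).obj U.unop)) m
  rw [Coh.smulAb_app, ← res_app]
  rfl

end

variable (A : Type u) [CommRing A] {X Y : Scheme.{u}} [X.Over (Spec (CommRingCat.of A))]
  [Y.Over (Spec (CommRingCat.of A))] (f : X ⟶ Y)

lemma toGlobal_comp (hf : f ≫ (Y ↘ Spec (CommRingCat.of A)) = X ↘ Spec (CommRingCat.of A)) (a : A) :
    Coh.toGlobal (X ↘ Spec (CommRingCat.of A)) a =
      f.appTop.hom (Coh.toGlobal (Y ↘ Spec (CommRingCat.of A)) a) := by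
  unfold Coh.toGlobal
  rw [← hf]
  simp
  rfl

/-- **natural linear comparison for affine morphisms** -/
theorem exists_natural_linearEquiv [IsAffineHom f]
    (hf : f ≫ (Y ↘ Spec (CommRingCat.of A)) = X ↘ Spec (CommRingCat.of A)) (p : ℕ) :
    ∃ e : ∀ M : X.Modules, M.IsQuasicoherent →
        (Coh.HH Y ((Scheme.Modules.pushforward f).obj M) p ≃ₗ[A] Coh.HH X M p),
      ∀ (M M' : X.Modules) (hM : M.IsQuasicoherent) (hM' : M'.IsQuasicoherent)
        (φ : M ⟶ M') (y : Coh.HH Y ((Scheme.Modules.pushforward f).obj M) p),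
        e M' hM' (Canon.HHlin A ((Scheme.Modules.pushforward f).map φ) p y) =
          Canon.HHlin A φ p (e M hM y) := by
  obtain ⟨e, he⟩ := exists_natural_equiv f p
  refine ⟨fun M hM => { (e M hM) with map_smul' := fun a y => ?_ }, fun M M' hM hM' φ y => ?_⟩
  · change e M hM (Sheaf.H.map (Coh.smulAb _ (Coh.toGlobal (Y ↘ Spec (CommRingCat.of A)) a)) p y) =
      Sheaf.H.map (Coh.smulAb M (Coh.toGlobal (X ↘ Spec (CommRingCat.of A)) a)) p (e M hM y)
    rw [smulAb_push, toGlobal_comp A f hf]
    exact he M M hM hM _ y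
  · exact he M M' hM hM' ((SheafOfModules.toSheaf X.ringCatSheaf).map φ) y

end Groth.Agent.Lib.Helper2.Bridge3
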