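import Groth.Agent.Lib.Helper2.HomExt
import Groth.Agent.Lib.Helper28.TwistGen
import Groth.Agent.Lib.Helper17.Serre
import Mathlib

/-!
# Factoring a power of `g` through a free module (helper2)

`exists_factorization`: on a quasi-compact quasi-separated scheme `X`, for a quasi-coherent module
`F` with a finite framed cover which is free of rank `r` over `X_g`, there are morphisms
`a_j : O_X ⟶ F`, `b_j : F ⟶ O_X` (`j < r`) with `∑ a_j ∘ b_j = g^N`.
-/

set_option autoImplicit false
universe u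
open CategoryTheory CategoryTheory.Limits AlgebraicGeometry Opposite TopologicalSpace

namespace Groth.Agent.Lib.Helper2.HomExt

open Groth.Agent.Lib.Helper28 Groth.Agent.Lib.Helper28.QCohLoc Groth.Agent.Lib.Helper17.Frame

variable {X : Scheme.{u}} (F : X.Modules)

/-- multiplication by a global function, as an endomorphism of a module -/
noncomputable def smulHom (s : Γ(X, ⊤)) : F ⟶ F :=
  (⟨fun _ => True, fun _ _ _ _ => trivial, fun x => ⟨⊤, trivial, trivial⟩,
    fun V _ x => (gOn s V • x : Γ(F, V)),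
    fun V _ x y => smul_add _ x y,
    fun V _ a x => smul_comm _ a x,
    fun V _ V' h x => by rw [res_smul, gOn_res]⟩ : LocalHomData F F).hom

theorem smulHom_app (s : Γ(X, ⊤)) (V : X.Opens) (x : Γ(F, V)) :
    (smulHom F s).app V x = (gOn s V • x : Γ(F, V)) :=
  LocalHomData.hom_app _ V trivial x

variable {F}

/-- the `j`-th coefficient with respect to a frame over `O`, as a sectionwise morphism to `O_X` -/
noncomputable def coefLocHom {O : X.Opens} {r : ℕ} {γ : Fin r → Γ(F, O)} (hγ : IsFrame F O γ)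
    (j : Fin r) : LocHom F (Coh.structureModule X) O where
  φ V hV x := hγ.coef hV x j
  add V hV x y := hγ.coef_add hV x y j
  smul V hV a x := hγ.coef_smul_left hV a x j
  nat V hV V' h x := hγ.coef_res hV h x j

theorem sum_app {κ : Type*} (s : Finset κ) {M N : X.Modules} (f : κ → (M ⟶ N)) (V : X.Opens)
    (x : Γ(M, V)) : (∑ k ∈ s, f k).app V x = ∑ k ∈ s, (f k).app V x := by
  classical
  induction s using Finset.induction_on with
  | empty => simp only [Finset.sum_empty]; rfl
  | insert a s ha ih =>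
    rw [Finset.sum_insert ha, Finset.sum_insert ha, ← ih]
    rfl

theorem gOn_pow (g : Γ(X, ⊤)) (n : ℕ) (V : X.Opens) : gOn (g ^ n) V = (gOn g V) ^ n :=
  resO_pow _ _ _

/-- a section of the structure module, as a function -/
def toFn {W : X.Opens} (c : Γ(Coh.structureModule X, W)) : Γ(X, W) := c

theorem sum_comp_ofSection_app {r : ℕ} (b : Fin r → (F ⟶ Coh.structureModule X))
    (s : Fin r → Γ(F, ⊤)) (V : X.Opens) (x : Γ(F, V)) :
    (∑ j, b j ≫ TwistGen.ofSection F (s j)).app V x =
      (∑ j, toFn ((b j).app V x) • res F (le_top : V ≤ ⊤) (s j) : Γ(F, V)) := by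
  rw [sum_app]
  refine Finset.sum_congr rfl fun j _ => ?_
  rw [Scheme.Modules.Hom.comp_app, ConcreteCategory.comp_apply]
  exact TwistGen.ofSection_app F (s j) V (toFn ((b j).app V x))

/-- **factorisation of a power of `g` through a free module** -/
theorem exists_factorization [CompactSpace X] [QuasiSeparatedSpace X] [F.IsQuasicoherent]
    (C : FramedCover F) (g : Γ(X, ⊤)) {r : ℕ} (γ : Fin r → Γ(F, X.basicOpen g))
    (hγ : IsFrame F (X.basicOpen g) γ) :
    ∃ (N : ℕ) (a : Fin r → (Coh.structureModule X ⟶ F)) (b : Fin r → (F ⟶ Coh.structureModule X)),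
      ∀ (V : X.Opens) (x : Γ(F, V)),
        (∑ j, (a j).app V ((b j).app V x) : Γ(F, V)) = ((gOn g V) ^ N • x : Γ(F, V)) := by
  classical
  -- global sections `t_j` extending `g^k γ_j`
  have hc : IsCompact ((⊤ : X.Opens) : Set X) := by
    rw [Opens.coe_top]; exact isCompact_univ
  have st : ∃ k : ℕ, ∀ j : Fin r, ∃ t : Γ(F, ⊤),
      res F (X.basicOpen_le g) t =
        ((resO (X.basicOpen_le g) g) ^ k • γ j : Γ(F, X.basicOpen g)) := by
    refine exists_uniform _ ?_ ?_
    · rintro j n m hnm ⟨t, ht⟩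
      refine ⟨(g ^ (m - n) • t : Γ(F, ⊤)), ?_⟩
      rw [res_smul, ht, resO_pow, ← mul_smul, ← pow_add, tsub_add_cancel_of_le hnm]
    · intro j
      obtain ⟨n, t, ht⟩ := exists_pow_smul_eq_res_of_qcqs F hc
        (IsQuasiSeparated.of_quasiSeparatedSpace _) g (γ j)
      exact ⟨n, t, ht⟩
  obtain ⟨k, hk⟩ := st
  choose t ht using hk
  have ht' : ∀ (j : Fin r) (V : X.Opens) (hV : V ≤ X.basicOpen g),
      res F (le_top : V ≤ ⊤) (t j) = ((gOn g V) ^ k • res F hV (γ j) : Γ(F, V)) := by
    intro j V hV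
    rw [← res_res F (X.basicOpen_le g) hV, ht j, res_smul, resO_pow, resO_resO]
  -- the morphisms `b_j`
  have sb : ∀ j : Fin r, ∃ (k' : ℕ) (b : F ⟶ Coh.structureModule X),
      ∀ (V : X.Opens) (hV : V ≤ X.basicOpen g) (x : Γ(F, V)),
        b.app V x = ((gOn g V) ^ k' • (coefLocHom hγ j).φ V hV x : Γ(Coh.structureModule X, V)) :=
    fun j => exists_hom_extension C g (coefLocHom hγ j)
  choose k' b hb using sb
  let K := Finset.univ.sup k'
  have hK : ∀ j, k' j ≤ K := fun j => Finset.le_sup (Finset.mem_univ j)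
  let s : Fin r → Γ(F, ⊤) := fun j => (g ^ (K - k' j) • t j : Γ(F, ⊤))
  let Φ₁ : F ⟶ F := ∑ j, b j ≫ TwistGen.ofSection F (s j)
  -- `Φ₁` is multiplication by `g^(K+k)` over `X_g`
  have hΦ : ∀ (V : X.Opens), V ≤ X.basicOpen g → ∀ x : Γ(F, V),
      Φ₁.app V x = (smulHom F (g ^ (K + k))).app V x := by
    intro V hV x
    rw [smulHom_app, sum_comp_ofSection_app]
    have h1 : ∀ j, (toFn ((b j).app V x) • res F (le_top : V ≤ ⊤) (s j) : Γ(F, V)) =
        ((gOn g V) ^ (K + k) • (hγ.coef hV x j • res F hV (γ j)) : Γ(F, V)) := by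
      intro j
      have h2 : toFn ((b j).app V x) = (gOn g V) ^ (k' j) * hγ.coef hV x j := by
        rw [hb j V hV x]; rfl
      simp only [s]
      rw [h2, res_smul, resO_pow, ht' j V hV, ← mul_smul, ← mul_smul, ← mul_smul]
      congr 1
      have h3 : K + k = k' j + (K - k' j) + k := by have := hK j; omega
      rw [h3, pow_add, pow_add]
      change _ = _ * _ * _ * _
      ring
    simp only [h1]
    rw [← Finset.smul_sum, hγ.coef_sum, gOn_pow]
  obtain ⟨m, hm⟩ := exists_pow_smul_eq_of_eq_on_basicOpen C g Φ₁ (smulHom F (g ^ (K + k))) hΦ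
  refine ⟨m + (K + k), fun j => TwistGen.ofSection F ((g ^ m • s j : Γ(F, ⊤))), b, fun V x => ?_⟩
  have h4 : ∀ j, (TwistGen.ofSection F ((g ^ m • s j : Γ(F, ⊤)))).app V ((b j).app V x) =
      ((gOn g V) ^ m • (toFn ((b j).app V x) • res F (le_top : V ≤ ⊤) (s j)) : Γ(F, V)) := by
    intro j
    rw [show (TwistGen.ofSection F ((g ^ m • s j : Γ(F, ⊤)))).app V ((b j).app V x) =
      (toFn ((b j).app V x) • res F (le_top : V ≤ ⊤) ((g ^ m • s j : Γ(F, ⊤))) : Γ(F, V)) from
      TwistGen.ofSection_app F _ V (toFn ((b j).app V x)), res_smul, resO_pow, smul_comm]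
  simp only [h4]
  rw [← Finset.smul_sum, ← sum_comp_ofSection_app, hm V x, smulHom_app, ← mul_smul, gOn_pow,
    ← pow_add]

end Groth.Agent.Lib.Helper2.HomExt
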