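import Mathlib

/-!
# Edge maps on Ext groups along an exact functor (helper2)

`A`, `B` abelian categories with `Ext`, `Φ : A ⥤ B` exact, objects `ZA`, `ZB`, `o : ZB ⟶ Φ ZA`.
For `α : Φ M ⟶ N` the edge map `Ext ZA M p → Ext ZB N p`, `x ↦ o ∘ Φ(x) ∘ α`.
Naturality, compatibility with connecting maps, and the dimension-shifting step.
-/

universe w w' v v' u u'

open CategoryTheory Limits Abelian

namespace Groth.Agent.Lib.Helper2.ExtEdge

variable {A : Type u} [Category.{v} A] [Abelian A] [HasExt.{w} A]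
  {B : Type u'} [Category.{v'} B] [Abelian B] [HasExt.{w'} B]
  (Φ : A ⥤ B) [Φ.Additive] [PreservesFiniteLimits Φ] [PreservesFiniteColimits Φ]
  {ZA : A} {ZB : B} (o : ZB ⟶ Φ.obj ZA)

/-- the edge map -/
noncomputable def edge {M : A} {N : B} (α : Φ.obj M ⟶ N) (p : ℕ) (x : Ext ZA M p) : Ext ZB N p :=
  (Ext.mk₀ o).comp ((x.mapExactFunctor Φ).comp (Ext.mk₀ α) (add_zero p)) (zero_add p)

lemma edge_add {M : A} {N : B} (α : Φ.obj M ⟶ N) (p : ℕ) (x y : Ext ZA M p) :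
    edge Φ o α p (x + y) = edge Φ o α p x + edge Φ o α p y := by
  simp [edge, Ext.mapExactFunctor_add, Ext.add_comp, Ext.comp_add]

lemma edge_zero {M : A} {N : B} (α : Φ.obj M ⟶ N) (p : ℕ) :
    edge Φ o α p (0 : Ext ZA M p) = 0 := by
  simp [edge]

/-- naturality of the edge map -/
lemma edge_naturality {M M' : A} {N N' : B} (α : Φ.obj M ⟶ N) (α' : Φ.obj M' ⟶ N')
    (m : M ⟶ M') (n : N ⟶ N') (h : Φ.map m ≫ α' = α ≫ n) (p : ℕ) (x : Ext ZA M p) :
    edge Φ o α' p (x.comp (Ext.mk₀ m) (add_zero p)) =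
      (edge Φ o α p x).comp (Ext.mk₀ n) (add_zero p) := by
  simp only [edge]
  rw [Ext.mapExactFunctor_comp, Ext.mapExactFunctor_mk₀]
  rw [Ext.comp_assoc_of_third_deg_zero, Ext.mk₀_comp_mk₀, h, ← Ext.mk₀_comp_mk₀]
  rw [Ext.comp_assoc_of_third_deg_zero, Ext.comp_assoc_of_third_deg_zero]

lemma comp_aux {K M₁ M₃ N₁ N₃ : B} (e : Ext M₃ M₁ 1) (e' : Ext N₃ N₁ 1) (t₁ : M₁ ⟶ N₁)
    (t₃ : M₃ ⟶ N₃)
    (h : e.comp (Ext.mk₀ t₁) (add_zero 1) = (Ext.mk₀ t₃).comp e' (zero_add 1))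
    (o' : Ext ZB K 0) (p : ℕ) (y : Ext K M₃ p) :
    o'.comp ((y.comp e rfl).comp (Ext.mk₀ t₁) (add_zero (p + 1))) (zero_add (p + 1)) =
      (o'.comp (y.comp (Ext.mk₀ t₃) (add_zero p)) (zero_add p)).comp e' rfl := by
  rw [Ext.comp_assoc_of_third_deg_zero, h]
  rw [Ext.comp_assoc (a₁ := 0) (a₂ := p) (a₃ := 1) _ _ _ (zero_add p) rfl (by lia)]
  congr 1
  rw [Ext.comp_assoc (a₁ := p) (a₂ := 0) (a₃ := 1) _ _ _ (add_zero p) (zero_add 1) (by lia)]

/-- compatibility of the edge map with connecting homomorphisms -/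
lemma edge_extClass {S : ShortComplex A} (hS : S.ShortExact) {T : ShortComplex B}
    (hT : T.ShortExact) (φ : S.map Φ ⟶ T) (p : ℕ) (x : Ext ZA S.X₃ p) :
    edge Φ o φ.τ₁ (p + 1) (x.comp hS.extClass rfl) =
      (edge Φ o φ.τ₃ p x).comp hT.extClass rfl := by
  simp only [edge]
  rw [Ext.mapExactFunctor_comp, Ext.mapExactFunctor_extClass]
  exact comp_aux _ _ _ _
    (ShortComplex.ShortExact.extClass_naturality (hS.map_of_exact Φ) hT φ) _ p _

/-- the dimension shifting step -/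
theorem bijective_succ {S : ShortComplex A} (hS : S.ShortExact) {T : ShortComplex B}
    (hT : T.ShortExact) (φ : S.map Φ ⟶ T) (p : ℕ)
    (h₃ : Function.Bijective (edge Φ o φ.τ₃ p (ZA := ZA)))
    (h₂ : Function.Surjective (edge Φ o φ.τ₂ p (ZA := ZA)))
    (hA : ∀ x : Ext ZA S.X₂ (p + 1), x = 0) (hB : ∀ x : Ext ZB T.X₂ (p + 1), x = 0) :
    Function.Bijective (edge Φ o φ.τ₁ (p + 1) (ZA := ZA)) := by
  constructor
  · intro x x' hxx'
    -- reduce to kernel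
    have hsub : edge Φ o φ.τ₁ (p + 1) (x - x') = 0 := by
      have : x = (x - x') + x' := by abel
      have h1 := edge_add Φ o φ.τ₁ (p + 1) (x - x') x'
      rw [← this, hxx'] at h1
      exact (add_eq_right.1 h1.symm)
    suffices hker : ∀ z : Ext ZA S.X₁ (p + 1), edge Φ o φ.τ₁ (p + 1) z = 0 → z = 0 by
      exact sub_eq_zero.1 (hker _ hsub)
    intro z hz
    obtain ⟨w, hw⟩ := Ext.covariant_sequence_exact₁ ZA hS z (hA _) rfl
    subst hw
    rw [edge_extClass Φ o hS hT φ p w] at hz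
    obtain ⟨v, hv⟩ := Ext.covariant_sequence_exact₃ ZB hT _ rfl hz
    obtain ⟨v', rfl⟩ := h₂ v
    have hnat := edge_naturality Φ o φ.τ₂ φ.τ₃ S.g T.g φ.comm₂₃.symm p v'
    rw [hv] at hnat
    have hw : w = v'.comp (Ext.mk₀ S.g) (add_zero p) := (h₃.1 hnat).symm
    rw [hw, Ext.comp_assoc_of_second_deg_zero, hS.comp_extClass, Ext.comp_zero]
  · intro y
    obtain ⟨z, hz⟩ := Ext.covariant_sequence_exact₁ ZB hT y (hB _) rfl
    obtain ⟨x, rfl⟩ := h₃.2 z
    exact ⟨x.comp hS.extClass rfl, (edge_extClass Φ o hS hT φ p x).trans hz⟩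

end Groth.Agent.Lib.Helper2.ExtEdge
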