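import Mathlib
import Groth.Prelude.Def_CohPull
import Groth.Agent.Lib.Helper2.ExtEdge

/-!
# The edge map `H^p(Y, f_* G) → H^p(X, G)` as an abstract Ext edge map (helper2)
-/

universe u

open CategoryTheory Limits Abelian AlgebraicGeometry Opposite TopologicalSpace

namespace Groth.Agent.Lib.Helper2.PushEdge1

variable {X Y : Scheme.{u}} (f : X ⟶ Y)

/-- naturality of `theta` -/
lemma theta_naturality {M M' : Y.Modules} (ψ : M ⟶ M') :
    (CohPull.inv f.base).map ((SheafOfModules.toSheaf Y.ringCatSheaf).map ψ) ≫ CohPull.theta f M' =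
      CohPull.theta f M ≫
        (SheafOfModules.toSheaf X.ringCatSheaf).map ((Scheme.Modules.pullback f).map ψ) := by
  unfold CohPull.theta
  rw [← Adjunction.homEquiv_naturality_left_symm, ← Adjunction.homEquiv_naturality_right_symm]
  congr 1
  have h := (Scheme.Modules.pullbackPushforwardAdjunction f).unit.naturality ψ
  have h' : (SheafOfModules.toSheaf Y.ringCatSheaf).map
        (ψ ≫ (Scheme.Modules.pullbackPushforwardAdjunction f).unit.app M') =
      (SheafOfModules.toSheaf Y.ringCatSheaf).map
        ((Scheme.Modules.pullbackPushforwardAdjunction f).unit.app M ≫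
          (Scheme.Modules.pushforward f).map ((Scheme.Modules.pullback f).map ψ)) :=
    congrArg (fun t => (SheafOfModules.toSheaf Y.ringCatSheaf).map t) h
  rw [Functor.map_comp, Functor.map_comp] at h'
  exact h'

/-- the counit at the level of abelian sheaves -/
noncomputable def a (G : X.Modules) :
    (CohPull.inv f.base).obj (Coh.toAb ((Scheme.Modules.pushforward f).obj G)) ⟶ Coh.toAb G :=
  CohPull.theta f ((Scheme.Modules.pushforward f).obj G) ≫
    (SheafOfModules.toSheaf X.ringCatSheaf).map
      ((Scheme.Modules.pullbackPushforwardAdjunction f).counit.app G)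

lemma a_naturality {G G' : X.Modules} (φ : G ⟶ G') :
    (CohPull.inv f.base).map
        ((SheafOfModules.toSheaf Y.ringCatSheaf).map ((Scheme.Modules.pushforward f).map φ)) ≫
      a f G' = a f G ≫ (SheafOfModules.toSheaf X.ringCatSheaf).map φ := by
  unfold a
  rw [← Category.assoc, theta_naturality, Category.assoc, Category.assoc, ← Functor.map_comp,
    ← Functor.map_comp]
  congr 2
  exact (Scheme.Modules.pullbackPushforwardAdjunction f).counit.naturality φ

/-- `pushEdge` is an abstract edge map -/
lemma pushEdge_eq (G : X.Modules) (p : ℕ)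
    (x : Coh.HH Y ((Scheme.Modules.pushforward f).obj G) p) :
    CohPull.pushEdge f G p x =
      ExtEdge.edge (CohPull.inv f.base) (CohPull.oneTo f.base) (a f G) p x := by
  simp only [CohPull.pushEdge, CohPull.pullMod, CohPull.pullAb, CohPull.mapH,
    AddMonoidHom.coe_comp, Function.comp_apply, Sheaf.H.map_apply, ExtEdge.edge, a,
    Functor.mapExtAddHom_apply]
  rw [← Ext.mk₀_comp_mk₀]
  simp only [Ext.bilinearComp_apply_apply, Ext.comp_assoc_of_third_deg_zero]

end Groth.Agent.Lib.Helper2.PushEdge1
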