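import Mathlib
import Groth.Prelude.Def_CohPull
import Groth.Agent.Lib.Helper2.PushEdge1

/-!
# The edge map `H^0(Y, f_* G) → H^0(X, G)` is bijective (helper2)
-/

universe u

open CategoryTheory Limits Abelian AlgebraicGeometry Opposite TopologicalSpace

namespace Groth.Agent.Lib.Helper2.PushEdge2

variable {X Y : Scheme.{u}} (f : X ⟶ Y)

lemma equiv₀_pushEdge (G : X.Modules)
    (s : Coh.HH Y ((Scheme.Modules.pushforward f).obj G) 0) :
    Sheaf.H.equiv₀ (Coh.toAb G) isTerminalTop (CohPull.pushEdge f G 0 s) =
      Sheaf.H.equiv₀ (Coh.toAb ((Scheme.Modules.pushforward f).obj G)) isTerminalTop s := by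
  simp only [CohPull.pushEdge, AddMonoidHom.coe_comp, Function.comp_apply]
  rw [← Sheaf.H.equiv₀_naturality]
  have hp := CohPull.equiv₀_pullMod f ((Scheme.Modules.pushforward f).obj G) s
  refine (congrArg (fun t => (ConcreteCategory.hom
      (((SheafOfModules.toSheaf X.ringCatSheaf).map
        ((Scheme.Modules.pullbackPushforwardAdjunction f).counit.app G)).hom.app (op ⊤))) t)
    hp).trans ?_
  have h := (Scheme.Modules.pullbackPushforwardAdjunction f).right_triangle_components G
  have h' := congrArg (fun t => Scheme.Modules.Hom.app t ⊤) h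
  simp only [Scheme.Modules.Hom.comp_app, Scheme.Modules.Hom.id_app] at h'
  have h'' := ConcreteCategory.congr_hom h' (Sheaf.H.equiv₀
    (Coh.toAb ((Scheme.Modules.pushforward f).obj G)) isTerminalTop s)
  rw [ConcreteCategory.comp_apply, ConcreteCategory.id_apply] at h''
  exact h''

theorem pushEdge_zero_bijective (G : X.Modules) :
    Function.Bijective (CohPull.pushEdge f G 0) := by
  have h : (CohPull.pushEdge f G 0 : _ → _) =
      (Sheaf.H.equiv₀ (Coh.toAb G) isTerminalTop).symm ∘
        (Sheaf.H.equiv₀ (Coh.toAb ((Scheme.Modules.pushforward f).obj G)) isTerminalTop) := by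
    funext s
    apply (Sheaf.H.equiv₀ (Coh.toAb G) isTerminalTop).injective
    rw [equiv₀_pushEdge]
    simp
  rw [h]
  exact (Sheaf.H.equiv₀ (Coh.toAb G) isTerminalTop).symm.bijective.comp
    (Sheaf.H.equiv₀ (Coh.toAb ((Scheme.Modules.pushforward f).obj G)) isTerminalTop).bijective

end Groth.Agent.Lib.Helper2.PushEdge2
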