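import Mathlib
import Groth.Prelude.Def_CohPull
import Groth.Agent.Lib.Helper6.SectOnEpi
import Groth.Agent.Lib.Helper6.SheafCoh
import Groth.Agent.Lib.Helper6.ModAbPush
import Groth.Agent.Lib.Helper6.ModAbCoh

/-!
# Vanishing of cohomology of (direct images of) injective modules (helper2)
-/

universe u

open CategoryTheory Limits Abelian AlgebraicGeometry Opposite TopologicalSpace

namespace Groth.Agent.Lib.Helper2.PushEdge3

open Groth.Agent.Lib.Helper6

/-- totally acyclic abelian sheaves on a space are flasque -/
theorem isFlasque_of_totallyAcyclic {T : TopCat.{u}} (F : CohTop.Ab T)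
    (hF : CohCx.IsTotallyAcyclic F) : TopCat.Sheaf.IsFlasque F where
  epi {U V} i := by
    rw [AddCommGrpCat.epi_iff_surjective]
    intro t
    let R : Sieve U.unop :=
      { arrows := fun W _ => W ≤ V.unop
        downward_closed := fun {W W'} _ h g => le_trans (leOfHom g) h }
    let φ : R.functor ⟶ F.obj ⋙ forget AddCommGrpCat.{u} :=
      { app := fun W => TypeCat.ofHom (fun x => F.obj.map (homOfLE x.2).op t)
        naturality := fun W W' g => by
          ext x
          change F.obj.map (homOfLE _).op t = F.obj.map g (F.obj.map (homOfLE _).op t)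
          rw [← ConcreteCategory.comp_apply, ← F.obj.map_comp]
          rfl }
    obtain ⟨m, hm⟩ := SectOnEpi.exists_extension _ hF R φ
    refine ⟨m, ?_⟩
    have h := hm V.unop i.unop (le_refl _)
    refine h.trans ?_
    change F.obj.map (homOfLE _).op t = t
    have : (homOfLE (le_refl V.unop)).op = 𝟙 V := rfl
    rw [this, F.obj.map_id]
    rfl

variable {X Y : Scheme.{u}}

/-- injective modules have no higher cohomology -/
theorem eq_zero_of_injective (I : X.Modules) [Injective I] (p : ℕ)
    (x : Coh.HH X I (p + 1)) : x = 0 :=
  (ModAbCoh.subsingleton_H (ModAbPush.totallyAcyclic_of_injective X I inferInstance) p).elim _ _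

/-- injective modules are flasque -/
theorem isFlasque_of_injective (I : X.Modules) [Injective I] :
    TopCat.Sheaf.IsFlasque (Coh.toAb I) :=
  isFlasque_of_totallyAcyclic _ (ModAbPush.totallyAcyclic_of_injective X I inferInstance)

/-- direct images of injective modules have no higher cohomology -/
theorem eq_zero_push_of_injective (f : X ⟶ Y) (I : X.Modules) [Injective I] (p : ℕ)
    (x : Coh.HH Y ((Scheme.Modules.pushforward f).obj I) (p + 1)) : x = 0 := by
  have h1 := isFlasque_of_injective I
  have h2 : TopCat.Sheaf.IsFlasque (Coh.toAb ((Scheme.Modules.pushforward f).obj I)) :=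
    @TopCat.Sheaf.IsFlasque.pushforward_isFlasque _ _ _ _ (Coh.toAb I) h1 f.base
  exact @SheafCoh.flasque_H_eq_zero _ _ h2 p x

end Groth.Agent.Lib.Helper2.PushEdge3
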