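import Mathlib
import Groth.Prelude.Def_CohPull
import Groth.Agent.Lib.Helper2.PushEdge1
import Groth.Agent.Lib.Helper2.PushEdge2
import Groth.Agent.Lib.Helper2.PushEdge3
import Groth.Agent.Lib.Helper6.RDShift
import Groth.Agent.Lib.Helper6.GrothSS

/-!
# The edge map `H^p(Y, f_* G) → H^p(X, G)` is bijective when `R^q f_* G = 0` for `q > 0` (helper2)
-/

universe v v' u u'

open CategoryTheory Limits Abelian AlgebraicGeometry Opposite TopologicalSpace

namespace Groth.Agent.Lib.Helper2.PushEdge4

open Groth.Agent.Lib.Helper6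

section Abstract

variable {A : Type u} {B : Type u'} [Category.{v} A] [Category.{v'} B] [Abelian A] [Abelian B]
  [EnoughInjectives A] (F : A ⥤ B) [F.Additive] [PreservesFiniteLimits F]

/-- a left exact functor is exact on a short exact sequence whose kernel has no `R^1` -/
lemma shortExact_map_of_isZero {S : ShortComplex A} (hS : S.ShortExact)
    (h : IsZero ((F.rightDerived 1).obj S.X₁)) : (S.map F).ShortExact := by
  obtain ⟨δ, w₀, w₁, w₂, e₀, e₁, e₂⟩ := RDShift.rightDerived_les F hS 0
  have hepi : Epi ((F.rightDerived 0).map S.g) :=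
    e₁.epi_f (h.eq_of_tgt _ _)
  have hnat := (Functor.rightDerivedZeroIsoSelf F).hom.naturality S.g
  have hepi' : Epi (F.map S.g) := by
    have : F.map S.g = (Functor.rightDerivedZeroIsoSelf F).inv.app S.X₂ ≫
        (F.rightDerived 0).map S.g ≫ (Functor.rightDerivedZeroIsoSelf F).hom.app S.X₃ := by
      rw [hnat, Iso.inv_hom_id_app_assoc]
    rw [this]
    infer_instance
  haveI := hS.mono_f
  exact
    { exact := hS.exact.map_of_mono_of_preservesKernel F hS.mono_f inferInstance
      mono_f := inferInstanceAs (Mono (F.map S.f))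
      epi_g := hepi' }

/-- the cokernel of an embedding into an acyclic object is acyclic if the source is -/
lemma isZero_rightDerived_X₃ {S : ShortComplex A} (hS : S.ShortExact)
    (h₁ : ∀ q : ℕ, 0 < q → IsZero ((F.rightDerived q).obj S.X₁))
    (h₂ : ∀ q : ℕ, 0 < q → IsZero ((F.rightDerived q).obj S.X₂)) (q : ℕ) (hq : 0 < q) :
    IsZero ((F.rightDerived q).obj S.X₃) := by
  obtain ⟨δ, w₀, w₁, w₂, e₀, e₁, e₂⟩ := RDShift.rightDerived_les F hS q
  exact e₁.isZero_of_both_zeros ((h₂ q hq).eq_of_src _ _) ((h₁ (q + 1) (by lia)).eq_of_tgt _ _)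

end Abstract

variable {X Y : Scheme.{u}} (f : X ⟶ Y)

instance : PreservesFiniteLimits (Scheme.Modules.pushforward f) :=
  (Scheme.Modules.pullbackPushforwardAdjunction f).rightAdjoint_preservesLimits.{0, 0}.preservesFiniteLimits

theorem pushEdge_bijective [HasInjectiveResolutions X.Modules] (p : ℕ) :
    ∀ (G : X.Modules), (∀ q : ℕ, 0 < q → IsZero ((Coh.Rpush f q).obj G)) →
      Function.Bijective (CohPull.pushEdge f G p) := by
  haveI : EnoughInjectives X.Modules := GrothSS.enoughInjectives_of_hasInjectiveResolutions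
  induction p with
  | zero => exact fun G _ => PushEdge2.pushEdge_zero_bijective f G
  | succ p ih =>
    intro G hG
    let S₀ : ShortComplex X.Modules :=
      ShortComplex.mk (Injective.ι G) (cokernel.π (Injective.ι G)) (cokernel.condition _)
    have hS₀ : S₀.ShortExact :=
      { exact := ShortComplex.exact_cokernel _
        mono_f := inferInstanceAs (Mono (Injective.ι G))
        epi_g := inferInstanceAs (Epi (cokernel.π (Injective.ι G))) }
    haveI hI : Injective S₀.X₂ := inferInstanceAs (Injective (Injective.under G))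
    have hI' : ∀ q : ℕ, 0 < q → IsZero ((Coh.Rpush f q).obj S₀.X₂) := by
      intro q hq
      obtain ⟨q', rfl⟩ : ∃ q', q = q' + 1 := ⟨q - 1, by lia⟩
      exact Functor.isZero_rightDerived_obj_injective_succ _ q' _
    have hQ : ∀ q : ℕ, 0 < q → IsZero ((Coh.Rpush f q).obj S₀.X₃) :=
      isZero_rightDerived_X₃ (Scheme.Modules.pushforward f) hS₀ hG hI'
    have hpush : (S₀.map (Scheme.Modules.pushforward f)).ShortExact :=
      shortExact_map_of_isZero (Scheme.Modules.pushforward f) hS₀ (hG 1 Nat.one_pos)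
    have hSY := hpush.map_of_exact (ModAbPush.tS Y)
    have hSX := hS₀.map_of_exact (ModAbPush.tS X)
    let φ : ((S₀.map (Scheme.Modules.pushforward f)).map (ModAbPush.tS Y)).map
        (CohPull.inv f.base) ⟶ S₀.map (ModAbPush.tS X) :=
      { τ₁ := PushEdge1.a f S₀.X₁
        τ₂ := PushEdge1.a f S₀.X₂
        τ₃ := PushEdge1.a f S₀.X₃
        comm₁₂ := (PushEdge1.a_naturality f S₀.f).symm
        comm₂₃ := (PushEdge1.a_naturality f S₀.g).symm }
    have h₃ : Function.Bijective (CohPull.pushEdge f S₀.X₃ p) := ih S₀.X₃ hQ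
    have h₂ : Function.Bijective (CohPull.pushEdge f S₀.X₂ p) := ih S₀.X₂ hI'
    have e : ∀ (G' : X.Modules) (k : ℕ), (CohPull.pushEdge f G' k : _ → _) =
        ExtEdge.edge (CohPull.inv f.base) (CohPull.oneTo f.base) (PushEdge1.a f G') k :=
      fun G' k => funext (PushEdge1.pushEdge_eq f G' k)
    rw [e] at h₃ h₂
    have key := ExtEdge.bijective_succ (CohPull.inv f.base) (CohPull.oneTo f.base) hSY hSX φ p
      h₃ h₂.2 (fun x => PushEdge3.eq_zero_push_of_injective f S₀.X₂ p x)
      (fun x => PushEdge3.eq_zero_of_injective S₀.X₂ p x)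
    rw [e]
    exact key

end Groth.Agent.Lib.Helper2.PushEdge4
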