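import Groth.Agent.Lib.Helper2.HLes
import Groth.Agent.Lib.Helper17.Serre
import Groth.Prelude.Def_Canon

/-!
# The long exact cohomology sequence of `O_X`-modules is linear over the base ring (helper2)

For `X` over `Spec A` and a short exact sequence of `O_X`-modules, the maps of the long exact
cohomology sequence (including the connecting maps) are `A`-linear; consequently finiteness over a
Noetherian `A` propagates along the sequence.
-/

set_option backward.isDefEq.respectTransparency.types false
set_option autoImplicit false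
universe u
open CategoryTheory CategoryTheory.Limits AlgebraicGeometry Opposite TopologicalSpace Abelian

noncomputable section

namespace Groth.Agent.Lib.Helper2.HLesLin

open Groth.Agent.Lib.Helper2.HLes

variable {X : Scheme.{u}} (S : ShortComplex (SheafOfModules.{u} X.ringCatSheaf)) (hS : S.ShortExact)

/-- the underlying short complex of abelian sheaves. -/
abbrev Sab : ShortComplex (CohTop.Ab X.toTopCat) := S.map (SheafOfModules.toSheaf.{u} X.ringCatSheaf)

include hS in
theorem shortExact_Sab : (Sab S).ShortExact :=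
  Groth.Agent.Lib.Helper17.Serre.shortExact_map_toSheaf' S hS

/-- multiplication by a global function, as an endomorphism of the short complex of abelian sheaves. -/
def smulHom (r : Coh.Γtop X) : Sab S ⟶ Sab S where
  τ₁ := Coh.smulAb S.X₁ r
  τ₂ := Coh.smulAb S.X₂ r
  τ₃ := Coh.smulAb S.X₃ r
  comm₁₂ := (Canon.toSheaf_map_comp_smulAb S.f r).symm
  comm₂₃ := (Canon.toSheaf_map_comp_smulAb S.g r).symm

/-- the connecting map commutes with multiplication by global functions. -/
theorem δ_smul (r : Coh.Γtop X) (p : ℕ) (x : Coh.HH X S.X₃ p) :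
    δ (shortExact_Sab S hS) p (r • x) =
      HSMul.hSMul (α := Coh.Γtop X) (β := Coh.HH X S.X₁ (p + 1)) r
        (δ (shortExact_Sab S hS) p x) := by
  have hnat := ShortComplex.ShortExact.extClass_naturality (shortExact_Sab S hS)
    (shortExact_Sab S hS) (smulHom S r)
  change ((x.comp (Ext.mk₀ (Coh.smulAb S.X₃ r)) (add_zero p)).comp
      (shortExact_Sab S hS).extClass rfl) =
    ((x.comp (shortExact_Sab S hS).extClass rfl).comp (Ext.mk₀ (Coh.smulAb S.X₁ r))
      (add_zero (p + 1)))
  rw [Ext.comp_assoc_of_second_deg_zero, Ext.comp_assoc_of_third_deg_zero]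
  congr 1
  exact hnat.symm

variable (A : Type u) [CommRing A] [X.Over (Spec (CommRingCat.of A))]

/-- the connecting map as an `A`-linear map. -/
def δLin (p : ℕ) : Coh.HH X S.X₃ p →ₗ[A] Coh.HH X S.X₁ (p + 1) where
  toFun := δ (shortExact_Sab S hS) p
  map_add' := map_add _
  map_smul' a x := δ_smul S hS (Coh.toGlobal (X ↘ Spec (CommRingCat.of A)) a) p x

include hS in
theorem range_eq_ker₂ (p : ℕ) :
    LinearMap.range (Canon.HHlin A S.f p) = LinearMap.ker (Canon.HHlin A S.g p) := by
  ext x
  constructor
  · rintro ⟨y, rfl⟩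
    rw [LinearMap.mem_ker]
    change Sheaf.H.map ((SheafOfModules.toSheaf X.ringCatSheaf).map S.g) p
      (Sheaf.H.map ((SheafOfModules.toSheaf X.ringCatSheaf).map S.f) p y) = 0
    rw [← Sheaf.H.map_comp_apply, ← Functor.map_comp, S.zero, Functor.map_zero]
    change ((Sheaf.functorH _ p).map (0 : Coh.toAb S.X₁ ⟶ Coh.toAb S.X₃)).hom y = 0
    rw [Functor.map_zero]
    rfl
  · intro hx
    rw [LinearMap.mem_ker] at hx
    obtain ⟨y, hy⟩ := exact₂ (shortExact_Sab S hS) p x hx
    exact ⟨y, hy⟩

theorem range_eq_ker₃ (p : ℕ) :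
    LinearMap.range (Canon.HHlin A S.g p) = LinearMap.ker (δLin S hS A p) := by
  ext x
  constructor
  · rintro ⟨y, rfl⟩
    rw [LinearMap.mem_ker]
    exact δ_map_g (shortExact_Sab S hS) p y
  · intro hx
    rw [LinearMap.mem_ker] at hx
    obtain ⟨y, hy⟩ := exact₃ (shortExact_Sab S hS) p x hx
    exact ⟨y, hy⟩

variable [IsNoetherianRing A]

include hS in
/-- finiteness of the middle term. -/
theorem finite₂ (p : ℕ) (h₁ : Module.Finite A (Coh.HH X S.X₁ p))
    (h₃ : Module.Finite A (Coh.HH X S.X₃ p)) : Module.Finite A (Coh.HH X S.X₂ p) := by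
  have : IsNoetherian A (Coh.HH X S.X₁ p) := isNoetherian_of_isNoetherianRing_of_finite A _
  have : IsNoetherian A (Coh.HH X S.X₃ p) := isNoetherian_of_isNoetherianRing_of_finite A _
  have := isNoetherian_of_range_eq_ker (Canon.HHlin A S.f p) (Canon.HHlin A S.g p)
    (range_eq_ker₂ S hS A p)
  infer_instance

include hS in
/-- finiteness of the third term. -/
theorem finite₃ (p : ℕ) (h₂ : Module.Finite A (Coh.HH X S.X₂ p))
    (h₁ : Module.Finite A (Coh.HH X S.X₁ (p + 1))) : Module.Finite A (Coh.HH X S.X₃ p) := by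
  have : IsNoetherian A (Coh.HH X S.X₂ p) := isNoetherian_of_isNoetherianRing_of_finite A _
  have : IsNoetherian A (Coh.HH X S.X₁ (p + 1)) := isNoetherian_of_isNoetherianRing_of_finite A _
  have := isNoetherian_of_range_eq_ker (Canon.HHlin A S.g p) (δLin S hS A p)
    (range_eq_ker₃ S hS A p)
  infer_instance

end Groth.Agent.Lib.Helper2.HLesLin
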