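import Mathlib.Algebra.Homology.DerivedCategory.Ext.Linear
import Mathlib.Algebra.Homology.DerivedCategory.Ext.ExactSequences
import Mathlib.LinearAlgebra.Dual.Lemmas
import Mathlib.LinearAlgebra.Quotient.Basic
import Mathlib.LinearAlgebra.Isomorphisms

/-!
# Dimension shifting for `Ext(-, Y)` in a linear abelian category; linear algebra of duals (helper2)
-/

set_option autoImplicit false
universe w t v u
open CategoryTheory CategoryTheory.Limits Abelian

noncomputable section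

namespace Groth.Agent.Lib.Helper2.DualE1

section LinAlg

variable {k : Type*} [CommRing k]

/-- comparison of cokernels. -/
theorem nonempty_linearEquiv_of_coker {A₁ B₁ C₁ A₂ B₂ C₂ : Type*}
    [AddCommGroup A₁] [Module k A₁] [AddCommGroup B₁] [Module k B₁] [AddCommGroup C₁] [Module k C₁]
    [AddCommGroup A₂] [Module k A₂] [AddCommGroup B₂] [Module k B₂] [AddCommGroup C₂] [Module k C₂]
    (f₁ : A₁ →ₗ[k] B₁) (g₁ : B₁ →ₗ[k] C₁) (h₁ : LinearMap.ker g₁ = LinearMap.range f₁)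
    (s₁ : Function.Surjective g₁)
    (f₂ : A₂ →ₗ[k] B₂) (g₂ : B₂ →ₗ[k] C₂) (h₂ : LinearMap.ker g₂ = LinearMap.range f₂)
    (s₂ : Function.Surjective g₂)
    (α : A₁ ≃ₗ[k] A₂) (β : B₁ ≃ₗ[k] B₂) (comm : ∀ a, β (f₁ a) = f₂ (α a)) :
    Nonempty (C₁ ≃ₗ[k] C₂) := by
  have hmap : (LinearMap.ker g₁).map (β : B₁ →ₗ[k] B₂) = LinearMap.ker g₂ := by
    rw [h₁, h₂]
    ext y
    constructor
    · rintro ⟨x, ⟨a, rfl⟩, rfl⟩
      exact ⟨α a, (comm a).symm⟩
    · rintro ⟨a, rfl⟩
      refine ⟨f₁ (α.symm a), ⟨_, rfl⟩, ?_⟩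
      change β (f₁ (α.symm a)) = _
      rw [comm, LinearEquiv.apply_symm_apply]
  exact ⟨(LinearMap.quotKerEquivOfSurjective g₁ s₁).symm ≪≫ₗ
    Submodule.Quotient.equiv _ _ β hmap ≪≫ₗ LinearMap.quotKerEquivOfSurjective g₂ s₂⟩

end LinAlg

section Field

variable {k : Type*} [Field k] {V₁ V₂ V₃ : Type*} [AddCommGroup V₁] [Module k V₁]
  [AddCommGroup V₂] [Module k V₂] [AddCommGroup V₃] [Module k V₃]

/-- the dual of an exact sequence is exact. -/
theorem ker_dualMap_eq_range_dualMap (f : V₁ →ₗ[k] V₂) (g : V₂ →ₗ[k] V₃)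
    (h : LinearMap.range f = LinearMap.ker g) :
    LinearMap.ker f.dualMap = LinearMap.range g.dualMap := by
  rw [LinearMap.ker_dualMap_eq_dualAnnihilator_range, LinearMap.range_dualMap_eq_dualAnnihilator_ker, h]

theorem dualMap_bijective (f : V₁ →ₗ[k] V₂) (h : Function.Bijective f) :
    Function.Bijective f.dualMap :=
  (LinearEquiv.ofBijective f h).dualMap.bijective

end Field

section Ext

variable {k : Type t} [CommRing k] {C : Type u} [Category.{v} C] [Abelian C] [Linear k C]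
  [HasExt.{w} C] {S : ShortComplex C} (hS : S.ShortExact) (Y : C)

variable (k S) in
/-- restriction along `S.f`. -/
abbrev fStar (i : ℕ) : Ext S.X₂ Y i →ₗ[k] Ext S.X₁ Y i :=
  (Ext.mk₀ S.f).precompOfLinear k Y (zero_add i)

variable (k) in
/-- the connecting map. -/
abbrev δE (i j : ℕ) (h : 1 + i = j) : Ext S.X₁ Y i →ₗ[k] Ext S.X₃ Y j :=
  hS.extClass.precompOfLinear k Y h

theorem δE_surjective (i j : ℕ) (h : 1 + i = j) (h₂ : Subsingleton (Ext S.X₂ Y j)) :
    Function.Surjective (δE k hS Y i j h) := by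
  intro x
  obtain ⟨y, hy⟩ := Ext.contravariant_sequence_exact₃ hS Y x (Subsingleton.elim _ _) h
  exact ⟨y, hy⟩

theorem ker_δE (i j : ℕ) (h : 1 + i = j) :
    LinearMap.ker (δE k hS Y i j h) = LinearMap.range (fStar k S Y i) := by
  ext x
  constructor
  · intro hx
    rw [LinearMap.mem_ker] at hx
    obtain ⟨y, hy⟩ := Ext.contravariant_sequence_exact₁ hS Y x h hx
    exact ⟨y, hy⟩
  · rintro ⟨y, rfl⟩
    rw [LinearMap.mem_ker]
    change hS.extClass.comp ((Ext.mk₀ S.f).comp y (zero_add i)) h = 0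
    rw [ShortComplex.ShortExact.extClass_comp_assoc]

theorem δE_bijective (i j : ℕ) (h : 1 + i = j) (h₁ : Subsingleton (Ext S.X₂ Y i))
    (h₂ : Subsingleton (Ext S.X₂ Y j)) : Function.Bijective (δE k hS Y i j h) := by
  refine ⟨?_, δE_surjective hS Y i j h h₂⟩
  rw [← LinearMap.ker_eq_bot, ker_δE, LinearMap.range_eq_bot]
  exact Subsingleton.elim _ _

end Ext

end Groth.Agent.Lib.Helper2.DualE1
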