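import Groth.Agent.Lib.Helper2.HLesLin
import Groth.Agent.Lib.Helper2.SerreFin1
import Groth.Agent.Lib.Helper2.DualE1
import Groth.Prelude.Def_KLin

/-!
# The linear long exact cohomology sequence, continued; the duality map is linear (helper2)
-/

set_option backward.isDefEq.respectTransparency.types false
set_option autoImplicit false
universe u
open CategoryTheory CategoryTheory.Limits AlgebraicGeometry Opposite TopologicalSpace Abelian

noncomputable section

namespace Groth.Agent.Lib.Helper2.DualE2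

open Groth.Agent.Lib.Helper2.HLes Groth.Agent.Lib.Helper2.HLesLin Groth.Agent.Lib.Helper2.SerreFin1

section Top

variable {X : TopCat.{u}} {S : ShortComplex (CohTop.Ab X)} (hS : S.ShortExact)

lemma map_f_δ (p : ℕ) (x : CohTop.H S.X₃ p) : Sheaf.H.map S.f (p + 1) (δ hS p x) = 0 := by
  rw [Sheaf.H.map_apply, δ_apply, Ext.comp_assoc_of_third_deg_zero,
    ShortComplex.ShortExact.extClass_comp, Ext.comp_zero]

end Top

section LES

variable {X : Scheme.{u}} (S : ShortComplex (SheafOfModules.{u} X.ringCatSheaf)) (hS : S.ShortExact)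
  (A : Type u) [CommRing A] [X.Over (Spec (CommRingCat.of A))]

/-- the connecting map with a free target index. -/
def δL (p p' : ℕ) (h : p + 1 = p') : Coh.HH X S.X₃ p →ₗ[A] Coh.HH X S.X₁ p' := by
  subst h
  exact δLin S hS A p

theorem range_δLin (p : ℕ) :
    LinearMap.range (δLin S hS A p) = LinearMap.ker (Canon.HHlin A S.f (p + 1)) := by
  ext x
  constructor
  · rintro ⟨y, rfl⟩
    rw [LinearMap.mem_ker]
    exact map_f_δ (shortExact_Sab S hS) p y
  · intro hx
    rw [LinearMap.mem_ker] at hx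
    obtain ⟨y, hy⟩ := exact₁ (shortExact_Sab S hS) p x hx
    exact ⟨y, hy⟩

theorem range_δL (p p' : ℕ) (h : p + 1 = p') :
    LinearMap.range (δL S hS A p p' h) = LinearMap.ker (Canon.HHlin A S.f p') := by
  subst h
  exact range_δLin S hS A p

theorem ker_δL (p p' : ℕ) (h : p + 1 = p') :
    LinearMap.ker (δL S hS A p p' h) = LinearMap.range (Canon.HHlin A S.g p) := by
  subst h
  exact (range_eq_ker₃ S hS A p).symm

theorem δL_injective (p p' : ℕ) (h : p + 1 = p') (h₂ : Subsingleton (Coh.HH X S.X₂ p)) :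
    Function.Injective (δL S hS A p p' h) := by
  rw [← LinearMap.ker_eq_bot, ker_δL, LinearMap.range_eq_bot]
  exact Subsingleton.elim _ _

theorem δL_bijective (p p' : ℕ) (h : p + 1 = p') (h₂ : Subsingleton (Coh.HH X S.X₂ p))
    (h₂' : Subsingleton (Coh.HH X S.X₂ p')) :
    Function.Bijective (δL S hS A p p' h) := by
  refine ⟨δL_injective S hS A p p' h h₂, ?_⟩
  rw [← LinearMap.range_eq_top, range_δL, LinearMap.ker_eq_top]
  exact Subsingleton.elim _ _

include hS in
theorem HHlin_f_injective_zero : Function.Injective (Canon.HHlin A S.f 0) := by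
  have : Mono ((SheafOfModules.toSheaf X.ringCatSheaf).map S.f) := (shortExact_Sab S hS).mono_f
  intro x y hxy
  apply Ext.postcomp_mk₀_injective_of_mono (CohTop.const X.toTopCat (ULift.{u} ℤ))
    ((SheafOfModules.toSheaf X.ringCatSheaf).map S.f)
  exact hxy

end LES

section Sigma

attribute [local instance] Abelian.hasFiniteBiproducts

variable (A : Type u) [CommRing A] {X : Scheme.{u}} [X.Over (Spec (CommRingCat.of A))]

include A in
theorem subsingleton_HH_of_iso {F G : X.Modules} (e : F ≅ G) (p : ℕ)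
    (h : Subsingleton (Coh.HH X F p)) : Subsingleton (Coh.HH X G p) := by
  refine ⟨fun a b => ?_⟩
  have key : ∀ y : Coh.HH X G p, y = 0 := by
    intro y
    have h1 : Canon.HHlin A e.hom p (Canon.HHlin A e.inv p y) = y := by
      rw [HHlin_comp_apply, e.inv_hom_id, HHlin_id_apply]
    rw [← h1, Subsingleton.elim (Canon.HHlin A e.inv p y) 0, map_zero]
  rw [key a, key b]

include A in
theorem subsingleton_HH_biproduct {k : ℕ} (E : Fin k → X.Modules) (p : ℕ)
    (h : ∀ a, Subsingleton (Coh.HH X (E a) p)) : Subsingleton (Coh.HH X (⨁ E) p) := by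
  refine ⟨fun a b => ?_⟩
  have key : ∀ y : Coh.HH X (⨁ E) p, y = 0 := by
    intro y
    have h1 : Canon.HHlin A (𝟙 (⨁ E)) p y = y := HHlin_id_apply A p y
    rw [← h1, ← biproduct.total, HHlin_sum_apply]
    refine Finset.sum_eq_zero (fun a _ => ?_)
    rw [← HHlin_comp_apply, Subsingleton.elim (Canon.HHlin A (biproduct.π E a) p y) 0, map_zero]
  rw [key a, key b]

include A in
theorem subsingleton_HH_sigma {k : ℕ} (E : Fin k → X.Modules) (p : ℕ)
    (h : ∀ a, Subsingleton (Coh.HH X (E a) p)) : Subsingleton (Coh.HH X (∐ E) p) :=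
  subsingleton_HH_of_iso A (biproduct.isoCoproduct E) p (subsingleton_HH_biproduct A E p h)

end Sigma

section ExtSigma

attribute [local instance] Abelian.hasFiniteBiproducts

variable {C : Type*} [Category C] [Abelian C] [HasExt.{u} C]

theorem subsingleton_ext_sigma {k : ℕ} (E : Fin k → C) (Y : C) (i : ℕ)
    (h : ∀ a, Subsingleton (Ext (E a) Y i)) : Subsingleton (Ext (∐ E) Y i) := by
  have h1 : Subsingleton (Ext (⨁ E) Y i) :=
    (Ext.biproductAddEquiv (biproduct.isBilimit E) Y i).toEquiv.subsingleton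
  refine ⟨fun a b => ?_⟩
  have key : ∀ y : Ext (∐ E) Y i, y = 0 := by
    intro y
    have h2 : (Ext.mk₀ (biproduct.isoCoproduct E).inv).comp
        ((Ext.mk₀ (biproduct.isoCoproduct E).hom).comp y (zero_add i)) (zero_add i) = y := by
      rw [← Ext.comp_assoc_of_second_deg_zero, Ext.mk₀_comp_mk₀, Iso.inv_hom_id, Ext.mk₀_id_comp]
    rw [← h2, Subsingleton.elim ((Ext.mk₀ (biproduct.isoCoproduct E).hom).comp y (zero_add i)) 0,
      Ext.comp_zero]
  rw [key a, key b]

end ExtSigma

section Theta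

variable (A : Type u) [CommRing A] (X : Scheme.{u}) [X.Over (Spec (CommRingCat.of A))]

theorem HHlin_add_apply {F G : X.Modules} (φ φ' : F ⟶ G) (p : ℕ) (y : Coh.HH X F p) :
    Canon.HHlin A (φ + φ') p y = Canon.HHlin A φ p y + Canon.HHlin A φ' p y := by
  have h1 : (SheafOfModules.toSheaf X.ringCatSheaf).map (φ + φ') =
      (SheafOfModules.toSheaf X.ringCatSheaf).map φ +
        (SheafOfModules.toSheaf X.ringCatSheaf).map φ' :=
    Functor.map_add (F := SheafOfModules.toSheaf.{u} X.ringCatSheaf)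
  change Sheaf.H.map ((SheafOfModules.toSheaf X.ringCatSheaf).map (φ + φ')) p y =
    Sheaf.H.map ((SheafOfModules.toSheaf X.ringCatSheaf).map φ) p y +
      Sheaf.H.map ((SheafOfModules.toSheaf X.ringCatSheaf).map φ') p y
  rw [h1, Sheaf.H.map_add_apply]

theorem HHlin_smul_apply {F G : X.Modules} (a : A) (φ : F ⟶ G) (p : ℕ) (y : Coh.HH X F p) :
    Canon.HHlin A (a • φ) p y = a • Canon.HHlin A φ p y := by
  rw [KLin.smul_def, ← HHlin_comp_apply, ← LinearMap.map_smul]
  rfl

/-- the duality map, as a linear map. -/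
def dualityLin (r : ℕ) (ω : X.Modules) (tr : Coh.HH X ω r →ₗ[A] A) (F : X.Modules) :
    (F ⟶ ω) →ₗ[A] Module.Dual A (Coh.HH X F r) where
  toFun := Canon.dualityMap A X r ω tr F
  map_add' φ φ' := by
    ext y
    change tr (Canon.HHlin A (φ + φ') r y) = tr (Canon.HHlin A φ r y) + tr (Canon.HHlin A φ' r y)
    rw [HHlin_add_apply, map_add]
  map_smul' a φ := by
    ext y
    change tr (Canon.HHlin A (a • φ) r y) = a • tr (Canon.HHlin A φ r y)
    rw [HHlin_smul_apply, map_smul]

theorem dualityLin_apply (r : ℕ) (ω : X.Modules) (tr : Coh.HH X ω r →ₗ[A] A) (F : X.Modules)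
    (φ : F ⟶ ω) (y : Coh.HH X F r) :
    dualityLin A X r ω tr F φ y = tr (Canon.HHlin A φ r y) := rfl

theorem dualityLin_comp (r : ℕ) (ω : X.Modules) (tr : Coh.HH X ω r →ₗ[A] A) {F G : X.Modules}
    (ι : F ⟶ G) (φ : G ⟶ ω) :
    dualityLin A X r ω tr F (ι ≫ φ) = (Canon.HHlin A ι r).dualMap (dualityLin A X r ω tr G φ) := by
  ext y
  change tr (Canon.HHlin A (ι ≫ φ) r y) = tr (Canon.HHlin A φ r (Canon.HHlin A ι r y))
  rw [HHlin_comp_apply]

end Theta

end Groth.Agent.Lib.Helper2.DualE2
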