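import Groth.Agent.Lib.Helper2.DualE3
import Groth.Agent.Lib.Helper17.TensorQC

/-!
# Serre vanishing on `P^n_R` (helper2)

For `R` Noetherian and `F` coherent on `P^n_R`: `H^p(F(d)) = 0` for all `p > 0` and `d ≫ 0`.
-/

set_option backward.isDefEq.respectTransparency.types false
set_option autoImplicit false
universe u
open CategoryTheory CategoryTheory.Limits AlgebraicGeometry Opposite TopologicalSpace Abelian

noncomputable section

namespace Groth.Agent.Lib.Helper2.SerreVan

open Groth.Agent.Lib.Helper2.ProjCoh3 Groth.Agent.Lib.Helper2.ProjCoh4 Groth.Agent.Lib.Helper2.ProjCoh5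
  Groth.Agent.Lib.Helper2.SerreFin2 Groth.Agent.Lib.Helper2.HLesLin Groth.Agent.Lib.Helper2.HLes
  Groth.Agent.Lib.Helper2.DualE2 Groth.Agent.Lib.Helper2.TwEq2 Groth.Agent.Lib.Helper1.ModFlat

variable (n : ℕ) (R : Type u) [CommRing R]

/-- the twisting functor `F ↦ F(d) = F ⊗ O(d)`. -/
abbrev Tw (d : ℤ) : (CohB1.ProjSpace n R).Modules ⥤ (CohB1.ProjSpace n R).Modules :=
  tens (OO n R) (Twist.twistProjSpace n R d)

theorem Tw_obj (d : ℤ) (F : (CohB1.ProjSpace n R).Modules) :
    (Tw n R d).obj F = CohB1.tensorMod F (Twist.twistProjSpace n R d) := rfl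

instance isEquivalence_Tw (d : ℤ) : (Tw n R d).IsEquivalence :=
  @Functor.isEquivalence_of_iso _ _ _ _ _ _ (tensLIso (OO n R) (Twist.twistProjSpace n R d))
    (isEquivalence_tensL_twist n R d)

instance (d : ℤ) : (Tw n R d).Additive := inferInstanceAs (tens (OO n R) _).Additive

/-- `O(a)(d) ≅ O(a + d)`. -/
theorem nonempty_Tw_twist_iso (a d : ℤ) :
    Nonempty ((Tw n R d).obj (Twist.twistProjSpace n R a) ≅ Twist.twistProjSpace n R (a + d)) :=
  nonempty_tensor_twist_iso n R a d

theorem isCoh_Tw (d : ℤ) (F : (CohB1.ProjSpace n R).Modules) (hF : Coh.IsCoh F) :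
    Coh.IsCoh ((Tw n R d).obj F) := by
  have hO := isCoh_twist n R d
  haveI : F.IsQuasicoherent := hF.1
  haveI : SheafOfModules.IsFiniteType.{u} (R := (CohB1.ProjSpace n R).ringCatSheaf) F := hF.2
  haveI : (Twist.twistProjSpace n R d).IsQuasicoherent := hO.1
  haveI : SheafOfModules.IsFiniteType.{u} (R := (CohB1.ProjSpace n R).ringCatSheaf)
    (Twist.twistProjSpace n R d) := hO.2
  exact ⟨Groth.Agent.Lib.Helper17.TensorQC.isQuasicoherent_tensorMod F _,
    Groth.Agent.Lib.Helper17.TensorQC.isFiniteType_tensorMod F _⟩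

/-- the twist of a sum of twists. -/
theorem nonempty_Tw_sigma_iso (r : ℕ) (a d : ℤ) :
    Nonempty ((Tw n R d).obj (∐ fun _ : Fin r => Twist.twistProjSpace n R a) ≅
      ∐ fun _ : Fin r => Twist.twistProjSpace n R (a + d)) := by
  obtain ⟨e⟩ := nonempty_Tw_twist_iso n R a d
  exact ⟨PreservesCoproduct.iso (Tw n R d) (fun _ : Fin r => Twist.twistProjSpace n R a) ≪≫
    Sigma.mapIso (fun _ => e)⟩

/-- the twist of a short exact sequence is short exact. -/
theorem shortExact_map_Tw (d : ℤ) (S : ShortComplex (CohB1.ProjSpace n R).Modules)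
    (hS : S.ShortExact) : (S.map (Tw n R d)).ShortExact :=
  hS.map_of_exact (Tw n R d)

variable [IsNoetherianRing R]

theorem serre_vanishing_aux (t : ℕ) : ∀ (F : (CohB1.ProjSpace n R).Modules), Coh.IsCoh F →
    ∃ d₀ : ℤ, ∀ d : ℤ, d₀ ≤ d → ∀ p : ℕ, 0 < p → n + 1 ≤ p + t →
      Subsingleton (Coh.HH (CohB1.ProjSpace n R)
        (CohB1.tensorMod F (Twist.twistProjSpace n R d)) p) := by
  induction t with
  | zero =>
    intro F hF
    refine ⟨0, fun d _ p _ hp => ?_⟩
    haveI : Coh.IsQCoh (CohB1.tensorMod F (Twist.twistProjSpace n R d)) := (isCoh_Tw n R d F hF).1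
    exact Groth.Agent.S0022.result n R _ p (by omega)
  | succ t ih =>
    intro F hF
    obtain ⟨r, q, hq, π, hπ, hE, hK⟩ :=
      Groth.Agent.Lib.Helper2.DualE3.exists_presentation_neg R n F hF
    obtain ⟨d₁, hd₁⟩ := ih (kernel π) hK
    refine ⟨max (q : ℤ) d₁, fun d hd p hp hpt => ?_⟩
    let S : ShortComplex (CohB1.ProjSpace n R).Modules :=
      ShortComplex.mk (kernel.ι π) π (kernel.condition π)
    have hS : S.ShortExact :=
      { exact := ShortComplex.exact_kernel π
        mono_f := inferInstanceAs (Mono (kernel.ι π))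
        epi_g := inferInstanceAs (Epi π) }
    let ST : ShortComplex (CohB1.ProjSpace n R).Modules := S.map (Tw n R d)
    have hST : ST.ShortExact := shortExact_map_Tw n R d S hS
    have h1 : Subsingleton (Coh.HH (CohB1.ProjSpace n R) ST.X₁ (p + 1)) :=
      hd₁ d (le_trans (le_max_right _ _) hd) (p + 1) (by omega) (by omega)
    have h2 : Subsingleton (Coh.HH (CohB1.ProjSpace n R) ST.X₂ p) := by
      obtain ⟨e⟩ := nonempty_Tw_sigma_iso n R r (-(q : ℤ)) d
      refine subsingleton_HH_of_iso R e.symm p ?_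
      refine subsingleton_HH_sigma R _ p (fun _ => ?_)
      have hqd : (q : ℤ) ≤ d := le_trans (le_max_left _ _) hd
      exact subsingleton_HH n R (-(q : ℤ) + d) p (fun h0 => by omega) (fun hn => by omega)
    exact subsingleton_X₃ (shortExact_Sab ST hST) p h2 h1

/-- **Serre vanishing on `P^n_R`**. -/
theorem serre_vanishing (F : (CohB1.ProjSpace n R).Modules) (hF : Coh.IsCoh F) :
    ∃ d₀ : ℤ, ∀ d : ℤ, d₀ ≤ d → ∀ p : ℕ, 0 < p →
      Subsingleton (Coh.HH (CohB1.ProjSpace n R)
        (CohB1.tensorMod F (Twist.twistProjSpace n R d)) p) := by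
  obtain ⟨d₀, h⟩ := serre_vanishing_aux n R (n + 1) F hF
  exact ⟨d₀, fun d hd p hp => h d hd p hp (by omega)⟩

end Groth.Agent.Lib.Helper2.SerreVan
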