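import Mathlib
import Groth.Agent.Lib.Helper6.RDShift
import Groth.Agent.Lib.Helper6.DeltaCompare

/-!
# Abstract lemmas on right derived functors (helper2)

* `nonempty_precomp_iso`: `R^n(Ψ ⋙ F) M ≅ R^n F (Ψ M)` for `Ψ` exact sending injectives to `F`-acyclics.
* `nonempty_postcomp_iso`: `R^n(F ⋙ G) M ≅ G (R^n F M)` for `G` exact.
* `mem_of_five`: weak Serre closure in a five term exact sequence.
-/

universe v v' v'' u u' u''

open CategoryTheory Limits

namespace Groth.Agent.Lib.Helper2.RpushQC1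

open Groth.Agent.Lib.Helper6 Groth.Agent.Lib.Helper6.DeltaCompare

section Comp

variable {𝒜' : Type u''} [Category.{v''} 𝒜'] [Abelian 𝒜']
  {𝒜 : Type u} [Category.{v} 𝒜] [Abelian 𝒜] {ℬ : Type u'} [Category.{v'} ℬ] [Abelian ℬ]

/-- the standard embedding into an injective -/
noncomputable def stdSC [EnoughInjectives 𝒜] (G : 𝒜) : ShortComplex 𝒜 :=
  ShortComplex.mk (Injective.ι G) (cokernel.π (Injective.ι G)) (cokernel.condition _)

lemma stdSC_shortExact [EnoughInjectives 𝒜] (G : 𝒜) : (stdSC G).ShortExact :=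
  { exact := ShortComplex.exact_cokernel _
    mono_f := inferInstanceAs (Mono (Injective.ι G))
    epi_g := inferInstanceAs (Epi (cokernel.π (Injective.ι G))) }

instance [EnoughInjectives 𝒜] (G : 𝒜) : Injective (stdSC G).X₂ :=
  inferInstanceAs (Injective (Injective.under G))

/-- `R^n(Ψ ⋙ F) M ≅ R^n F (Ψ M)` -/
theorem nonempty_precomp_iso [EnoughInjectives 𝒜'] [EnoughInjectives 𝒜]
    (Ψ : 𝒜' ⥤ 𝒜) [Ψ.Additive] [PreservesFiniteLimits Ψ] [PreservesFiniteColimits Ψ]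
    (F : 𝒜 ⥤ ℬ) [F.Additive] [PreservesFiniteLimits F]
    (hacyc : ∀ I : 𝒜', Injective I → ∀ k : ℕ, IsZero ((F.rightDerived (k + 1)).obj (Ψ.obj I)))
    (n : ℕ) (M : 𝒜') :
    Nonempty (((Ψ ⋙ F).rightDerived n).obj M ≅ (F.rightDerived n).obj (Ψ.obj M)) := by
  let θ : (Ψ ⋙ F).rightDerived 0 ≅ Ψ ⋙ F.rightDerived 0 :=
    Functor.rightDerivedZeroIsoSelf (Ψ ⋙ F) ≪≫
      Functor.isoWhiskerLeft Ψ (Functor.rightDerivedZeroIsoSelf F).symm
  exact delta_compare (fun n => (Ψ ⋙ F).rightDerived n) (fun n => Ψ ⋙ F.rightDerived n) θ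
    (fun _ => True)
    (fun G _ => by
      refine ⟨_, _, (stdSC G).f, (stdSC G).g, trivial, ?_, ?_⟩
      · exact RDShift.hasShift_rightDerived (Ψ ⋙ F) (stdSC G) (stdSC_shortExact G)
          (fun n => Functor.isZero_rightDerived_obj_injective_succ _ n _)
      · exact RDShift.hasShift_comp_rightDerived F Ψ (stdSC G)
          ((stdSC_shortExact G).map_of_exact Ψ) (fun n => hacyc _ inferInstance n))
    n M trivial

/-- `R^n(F ⋙ G) M ≅ G (R^n F M)` -/
theorem nonempty_postcomp_iso [EnoughInjectives 𝒜]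
    (F : 𝒜 ⥤ ℬ) [F.Additive] [PreservesFiniteLimits F]
    {𝒞 : Type u''} [Category.{v''} 𝒞] [Abelian 𝒞]
    (G : ℬ ⥤ 𝒞) [G.Additive] [PreservesFiniteLimits G] [PreservesFiniteColimits G]
    (n : ℕ) (M : 𝒜) :
    Nonempty (((F ⋙ G).rightDerived n).obj M ≅ G.obj ((F.rightDerived n).obj M)) := by
  let θ : (F ⋙ G).rightDerived 0 ≅ F.rightDerived 0 ⋙ G :=
    Functor.rightDerivedZeroIsoSelf (F ⋙ G) ≪≫
      Functor.isoWhiskerRight (Functor.rightDerivedZeroIsoSelf F).symm G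
  exact delta_compare (fun n => (F ⋙ G).rightDerived n) (fun n => F.rightDerived n ⋙ G) θ
    (fun _ => True)
    (fun X _ => by
      refine ⟨_, _, (stdSC X).f, (stdSC X).g, trivial, ?_, ?_⟩
      · exact RDShift.hasShift_rightDerived (F ⋙ G) (stdSC X) (stdSC_shortExact X)
          (fun n => Functor.isZero_rightDerived_obj_injective_succ _ n _)
      · exact RDShift.HasShift.comp_exact
          (RDShift.hasShift_rightDerived F (stdSC X) (stdSC_shortExact X)
            (fun n => Functor.isZero_rightDerived_obj_injective_succ _ n _)) G)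
    n M trivial

end Comp

section Five

variable {ℬ : Type u} [Category.{v} ℬ] [Abelian ℬ] (P : ℬ → Prop)
  (hiso : ∀ {X Y : ℬ}, (X ≅ Y) → P X → P Y)
  (hker : ∀ {X Y : ℬ} (f : X ⟶ Y), P X → P Y → P (kernel f))
  (hcoker : ∀ {X Y : ℬ} (f : X ⟶ Y), P X → P Y → P (cokernel f))
  (hext : ∀ (S : ShortComplex ℬ), S.ShortExact → P S.X₁ → P S.X₃ → P S.X₂)

include hker hcoker hext in
/-- weak Serre closure in a five term exact sequence `X₁ → X₂ → Y → X₃ → X₄` -/
theorem mem_of_five {X₁ X₂ Y X₃ X₄ : ℬ} (a : X₁ ⟶ X₂) (b : X₂ ⟶ Y) (c : Y ⟶ X₃) (d : X₃ ⟶ X₄)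
    (w₁ : a ≫ b = 0) (w₂ : b ≫ c = 0) (w₃ : c ≫ d = 0)
    (e₁ : (ShortComplex.mk a b w₁).Exact) (e₂ : (ShortComplex.mk b c w₂).Exact)
    (e₃ : (ShortComplex.mk c d w₃).Exact)
    (h₁ : P X₁) (h₂ : P X₂) (h₃ : P X₃) (h₄ : P X₄) : P Y := by
  have hQ : P (cokernel a) := hcoker a h₁ h₂
  have hK : P (kernel d) := hker d h₃ h₄
  let b' : cokernel a ⟶ Y := cokernel.desc a b w₁
  let c' : Y ⟶ kernel d := kernel.lift d c w₃
  haveI hb' : Mono b' := (ShortComplex.exact_iff_mono_cokernel_desc _).1 e₁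
  haveI hc' : Epi c' := (ShortComplex.exact_iff_epi_kernel_lift _).1 e₃
  have w' : b' ≫ c' = 0 := by
    rw [← cancel_epi (cokernel.π a), ← cancel_mono (kernel.ι d)]
    simp [b', c', w₂]
  have w'' : b' ≫ c = 0 := by
    rw [← cancel_epi (cokernel.π a)]
    simp [b', w₂]
  -- exactness in the middle
  have ex1 : (ShortComplex.mk b' c w'').Exact := by
    let φ : ShortComplex.mk b c w₂ ⟶ ShortComplex.mk b' c w'' :=
      { τ₁ := cokernel.π a
        τ₂ := 𝟙 _
        τ₃ := 𝟙 _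
        comm₁₂ := by simp [b']
        comm₂₃ := by simp }
    haveI : Epi φ.τ₁ := inferInstanceAs (Epi (cokernel.π a))
    haveI : IsIso φ.τ₂ := inferInstanceAs (IsIso (𝟙 _))
    haveI : Mono φ.τ₃ := inferInstanceAs (Mono (𝟙 _))
    exact (ShortComplex.exact_iff_of_epi_of_isIso_of_mono φ).1 e₂
  have ex2 : (ShortComplex.mk b' c' w').Exact := by
    let φ : ShortComplex.mk b' c' w' ⟶ ShortComplex.mk b' c w'' :=
      { τ₁ := 𝟙 _
        τ₂ := 𝟙 _
        τ₃ := kernel.ι d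
        comm₁₂ := by simp
        comm₂₃ := by simp [c'] }
    haveI : Epi φ.τ₁ := inferInstanceAs (Epi (𝟙 _))
    haveI : IsIso φ.τ₂ := inferInstanceAs (IsIso (𝟙 _))
    haveI : Mono φ.τ₃ := inferInstanceAs (Mono (kernel.ι d))
    exact (ShortComplex.exact_iff_of_epi_of_isIso_of_mono φ).2 ex1
  exact hext (ShortComplex.mk b' c' w') { exact := ex2 } hQ hK

end Five

end Groth.Agent.Lib.Helper2.RpushQC1
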