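import Mathlib
import Groth.Prelude.Def_DCoh4
import Groth.Agent.Lib.Helper16.TA2
import Groth.Agent.Lib.Helper8.KillB
import Groth.Agent.Lib.Helper8.GGKill
import Groth.Agent.Lib.Helper8.InvInverse
import Groth.Agent.Lib.Helper8.CurveRR
import Groth.Agent.Lib.Helper6.K0Inv
import Groth.Agent.Lib.Helper6.K0Op
import Groth.Agent.Lib.Helper28.AmpleIso

/-!
# Helper2 — TensEq: tensoring with an invertible module is an equivalence of categories; consequences
(splitting criterion via `H¹(L' ⊗ M) = 0`, `Hom(L, E) ≠ 0 ↔ H⁰(L' ⊗ E) ≠ 0`).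
-/

set_option autoImplicit false
set_option backward.isDefEq.respectTransparency.types false
universe u
open CategoryTheory CategoryTheory.Limits AlgebraicGeometry MonoidalCategory

namespace Groth.Agent.Lib.Helper2.TensEq

open Groth.Agent.Lib.Helper16.Stk Groth.Agent.Lib.Helper16.TA Groth.Agent.Lib.Helper8.KillB
  Groth.Agent.Lib.Helper8.KillA

variable {X : Scheme.{u}}

/-- tensoring with `A` on the left -/
noncomputable abbrev T (A : X.Modules) : X.Modules ⥤ X.Modules := DCoh.tensorBi.obj A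

/-- `B ⊗ (A ⊗ E) ≅ (B ⊗ A) ⊗ E`, natural in `E`. -/
noncomputable def compIso (B A : X.Modules) : T A ⋙ T B ≅ T ((T B).obj A) :=
  NatIso.ofComponents (fun E => (assocIso B A E).symm) (by
    intro E E' h
    have h3 := assocIso_nat₃ B A h
    change (T B).map ((T A).map h) ≫ (assocIso B A E').inv =
      (assocIso B A E).inv ≫ (T ((T B).obj A)).map h
    rw [Iso.comp_inv_eq, Category.assoc, h3, Iso.inv_hom_id_assoc])

/-- if `B ⊗ A ≅ O` then `B ⊗ (A ⊗ -) ≅ id`. -/
noncomputable def unitIsoOf (A B : X.Modules) (e : (T B).obj A ≅ Coh.structureModule X) :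
    T A ⋙ T B ≅ 𝟭 X.Modules :=
  compIso B A ≪≫ (DCoh.tensorBi (X := X)).mapIso e ≪≫ lam

/-- tensoring with `L` is an equivalence when `L` has a two-sided tensor inverse. -/
noncomputable def equivOf (L L' : X.Modules) (e : (T L').obj L ≅ Coh.structureModule X)
    (e' : (T L).obj L' ≅ Coh.structureModule X) : X.Modules ≌ X.Modules :=
  CategoryTheory.Equivalence.mk (T L) (T L') (unitIsoOf L L' e).symm (unitIsoOf L' L e')

theorem isEquivalence_T (L L' : X.Modules) (e : (T L').obj L ≅ Coh.structureModule X)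
    (e' : (T L).obj L' ≅ Coh.structureModule X) : (T L).IsEquivalence :=
  (equivOf L L' e e').isEquivalence_functor

theorem isEquivalence_of_isInverseOf {L L' : X.Modules} (h : ClSub.IsInverseOf L' L) :
    (T L').IsEquivalence ∧ (T L).IsEquivalence := by
  obtain ⟨e⟩ := h
  have e' : CohB1.tensorMod L L' ≅ Coh.structureModule X :=
    Groth.Agent.Lib.Helper6.K0Inv.braidIso L L' ≪≫ e
  exact ⟨isEquivalence_T L' L e' e, isEquivalence_T L L' e e'⟩

/-- an inverse of an invertible module is invertible -/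
theorem isInvertible_of_isInverseOf {L L' : X.Modules} (hL : PicF.IsInvertible L)
    (h : ClSub.IsInverseOf L' L) : PicF.IsInvertible L' := by
  obtain ⟨-, hEq⟩ := isEquivalence_of_isInverseOf h
  haveI := hEq
  obtain ⟨e⟩ := h
  have e' : (T L).obj L' ≅ Coh.structureModule X :=
    Groth.Agent.Lib.Helper6.K0Inv.braidIso L L' ≪≫ e
  obtain ⟨d⟩ := Groth.Agent.Lib.Helper8.InvInverse.nonempty_dual_tensor_iso hL
  have d' : (T L).obj (Groth.Agent.Lib.Helper28.HomMod.dual L) ≅ Coh.structureModule X :=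
    Groth.Agent.Lib.Helper6.K0Inv.braidIso L _ ≪≫ d
  have i : Groth.Agent.Lib.Helper28.HomMod.dual L ≅ L' := (T L).preimageIso (d' ≪≫ e'.symm)
  exact Groth.Agent.Lib.Helper28.AmpleIso.isInvertible_of_iso i
    (Groth.Agent.Lib.Helper28.HomMod.isInvertible_dual hL)

/-- **splitting criterion**: a short exact sequence `0 → M → E → L → 0` with `L` invertible splits as soon as
`H¹(L⁻¹ ⊗ M) = 0`. -/
theorem isSplitEpi_of_H1 (S : ShortComplex X.Modules) (hS : S.ShortExact)
    (hL : PicF.IsInvertible S.X₃) (L' : X.Modules) (hL' : ClSub.IsInverseOf L' S.X₃)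
    (h1 : Subsingleton (Coh.HH X (CohB1.tensorMod L' S.X₁) 1)) : IsSplitEpi S.g := by
  obtain ⟨hEq, -⟩ := isEquivalence_of_isInverseOf hL'
  haveI := hEq
  have hinv := isInvertible_of_isInverseOf hL hL'
  have hflat : FlatMod.IsFlat L' :=
    Groth.Agent.Lib.Helper6.K0Op.isFlat_of_isFinLocFreeOfRank L'
      (Groth.Agent.Lib.Helper6.K0Op.isFinLocFreeOfRank_one_of_isInvertible L' hinv)
  have hS' := Groth.Agent.Lib.Helper6.K0Op.shortExact_tensor_of_flat L' hflat S hS
  obtain ⟨e⟩ := hL'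
  obtain ⟨t, ht⟩ := Groth.Agent.Lib.Helper8.GGKill.exists_lift_section (S.map (T L')) hS' h1 e.inv
  have hsplit : IsSplitEpi ((T L').map S.g) :=
    IsSplitEpi.mk' ⟨e.hom ≫ t, by
      rw [Category.assoc]
      exact (congrArg (fun z => e.hom ≫ z) ht).trans e.hom_inv_id⟩
  exact (Functor.isSplitEpi_iff (T L') S.g).1 hsplit

/-- `Hom(L, E) ≠ 0 ↔ H⁰(L⁻¹ ⊗ E) ≠ 0`. -/
theorem exists_hom_ne_zero_iff {L L' : X.Modules} (hL' : ClSub.IsInverseOf L' L) (E : X.Modules) :
    (∃ φ : L ⟶ E, φ ≠ 0) ↔ Nontrivial (Coh.HH X (CohB1.tensorMod L' E) 0) := by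
  obtain ⟨hEq, -⟩ := isEquivalence_of_isInverseOf hL'
  haveI := hEq
  obtain ⟨e0⟩ := hL'
  have e : (T L').obj L ≅ Coh.structureModule X := e0
  constructor
  · rintro ⟨φ, hφ⟩
    have h1 : e.inv ≫ (T L').map φ ≠ 0 := by
      intro h0
      apply hφ
      apply (T L').map_injective
      rw [Functor.map_zero]
      have h2 : e.hom ≫ e.inv ≫ (T L').map φ = e.hom ≫ 0 := congrArg (fun z => e.hom ≫ z) h0
      rw [Iso.hom_inv_id_assoc, comp_zero] at h2
      exact h2
    refine ⟨⟨HHmap (e.inv ≫ (T L').map φ) 0 (unitH X), 0, fun h0 => h1 ?_⟩⟩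
    apply Groth.Agent.Lib.Helper8.GGKill.hom_eq_of_HHmap_unitH_eq
    rw [h0]
    exact (HHmap_zero_unitH _).symm
  · intro hN
    obtain ⟨s, hs⟩ := Groth.Agent.Lib.Helper8.CurveRR.exists_section_ne_zero
      (CohB1.tensorMod L' E) hN
    have s' : Coh.structureModule X ⟶ (T L').obj E := s
    obtain ⟨φ, hφ⟩ := (T L').map_surjective (e.hom ≫ (show Coh.structureModule X ⟶ (T L').obj E from s))
    refine ⟨φ, fun h0 => hs ?_⟩
    rw [h0, Functor.map_zero] at hφ
    have h2 : e.inv ≫ e.hom ≫ (show Coh.structureModule X ⟶ (T L').obj E from s) = e.inv ≫ 0 :=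
      congrArg (fun z => e.inv ≫ z) hφ.symm
    rw [Iso.inv_hom_id_assoc, comp_zero] at h2
    exact h2

end Groth.Agent.Lib.Helper2.TensEq
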