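import Groth.Agent.Lib.Helper2.IntNum3
import Groth.Agent.Lib.Helper4.Snapper13
import Mathlib
set_option backward.isDefEq.respectTransparency.types false
set_option autoImplicit false
set_option linter.style.haveILetI false

/-!
# Intersection numbers, IV: operator algebra on `K'_0` and restriction to closed subschemes (helper2)
-/

universe u
open CategoryTheory CategoryTheory.Limits AlgebraicGeometry Opposite TopologicalSpace

namespace Groth.Agent.Lib.Helper2.IntNum4
open Groth.Agent.Lib.Helper6.K0Filt Groth.Agent.Lib.Helper6.K0Len Groth.Agent.Lib.Helper6.K0Op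
  Groth.Agent.Lib.Helper6.K0Tensor Groth.Agent.Lib.Helper4.Snapper Groth.Agent.Lib.Helper2.IntNum1
  Groth.Agent.Lib.Helper2.IntNum2

variable {X : Scheme.{u}}

theorem commute_Top_Psi (A : X.Modules) (hA : PicF.IsInvertible A) {r : ℕ} (M : _root_.Fin r → X.Modules)
    (hM : ∀ i, PicF.IsInvertible (M i)) : Commute (Top A) (Psi M) := by
  unfold Psi
  apply Commute.list_prod_right
  intro x hx
  obtain ⟨i, -, rfl⟩ := List.mem_map.1 hx
  exact (Commute.one_right _).sub_right (Top_comm _ _ hA (hM i))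

theorem commute_sub_Top_Psi (A : X.Modules) (hA : PicF.IsInvertible A) {r : ℕ} (M : _root_.Fin r → X.Modules)
    (hM : ∀ i, PicF.IsInvertible (M i)) : Commute (1 - Top A) (Psi M) :=
  (Commute.one_left _).sub_left (commute_Top_Psi A hA M hM)

theorem Top_apply_of_mem_Hlt_one [IsNoetherian X] (A : X.Modules) (hA : PicF.IsInvertible A) (c : K0 X)
    (hc : c ∈ Hlt X 1) : Top A c = c := by
  have h := eq_zero_of_mem_Hlt_zero _ (sub_Top_mem_Hlt A hA 0 c hc)
  have : (1 - Top A) c = c - Top A c := rfl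
  rw [this, sub_eq_zero] at h
  exact h.symm

theorem Top_pow_apply_of_mem_Hlt_one [IsNoetherian X] (A : X.Modules) (hA : PicF.IsInvertible A) (j : ℕ)
    (c : K0 X) (hc : c ∈ Hlt X 1) : (Top A ^ j) c = c := by
  induction j with
  | zero => simp
  | succ j ih =>
    rw [pow_succ]
    change (Top A ^ j) (Top A c) = c
    rw [Top_apply_of_mem_Hlt_one A hA c hc, ih]

/-- `Π_i(1 - [M_i]) ([L]^m c) = Π_i (1 - [M_i]) c` for `c` of dimension `≤ r`. -/
theorem Psi_Top_pow [IsNoetherian X] (A : X.Modules) (hA : PicF.IsInvertible A) {r : ℕ}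
    (M : _root_.Fin r → X.Modules) (hM : ∀ i, PicF.IsInvertible (M i)) (m : ℕ) (c : K0 X)
    (hc : c ∈ Hlt X (r + 1)) : Psi M ((Top A ^ m) c) = Psi M c := by
  have hcomm : Commute (Top A ^ m) (Psi M) := (commute_Top_Psi A hA M hM).pow_left m
  have : Psi M ((Top A ^ m) c) = (Top A ^ m) (Psi M c) := by
    change (Psi M * Top A ^ m) c = (Top A ^ m * Psi M) c
    rw [hcomm.eq]
  rw [this]
  apply Top_pow_apply_of_mem_Hlt_one A hA
  apply Psi_mem_Hlt M hM 1 c
  rw [add_comm]; exact hc

/-- `Π_{i ≥ 1}(1 - [M_i]) (([L_0]^m - 1) c) = m · Π_{i ≥ 0} (1 - [M_i]) c` for `c` of dimension `≤ r + 1`, where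
`L_0` is inverse to `M_0`. -/
theorem Psi_Top_pow_sub_one [IsNoetherian X] (L0 M0 : X.Modules) (hL0 : PicF.IsInvertible L0)
    (hM0 : PicF.IsInvertible M0) (h1 : Top L0 * Top M0 = 1) {r : ℕ}
    (M : _root_.Fin r → X.Modules) (hM : ∀ i, PicF.IsInvertible (M i)) (m : ℕ) (c : K0 X)
    (hc : c ∈ Hlt X (r + 2)) :
    Psi M ((Top L0 ^ m - 1) c) = m • Psi (Fin.cons M0 M : _root_.Fin (r + 1) → X.Modules) c := by
  have hmem : Psi (Fin.cons M0 M : _root_.Fin (r + 1) → X.Modules) c ∈ Hlt X 1 := by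
    apply Psi_mem_Hlt _ _ 1 c
    · rw [add_comm]; exact hc
    · intro i
      refine Fin.cases ?_ (fun j => ?_) i
      · simpa using hM0
      · simpa using hM j
  induction m with
  | zero => simp
  | succ m ih =>
    have e1 : (Top L0 ^ (m + 1) - 1 : AddMonoid.End (K0 X)) =
        (Top L0 ^ m - 1) + Top L0 ^ (m + 1) * (1 - Top M0) := by
      rw [mul_sub, mul_one, pow_succ, mul_assoc, h1, mul_one]
      abel
    rw [e1]
    change Psi M ((Top L0 ^ m - 1) c + (Top L0 ^ (m + 1)) ((1 - Top M0) c)) = _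
    rw [map_add, ih, succ_nsmul]
    congr 1
    have hcomm : Commute (Psi M) (Top L0 ^ (m + 1)) := ((commute_Top_Psi L0 hL0 M hM).pow_left (m + 1)).symm
    have e2 : Psi M ((Top L0 ^ (m + 1)) ((1 - Top M0) c)) =
        (Top L0 ^ (m + 1)) (Psi (Fin.cons M0 M : _root_.Fin (r + 1) → X.Modules) c) := by
      rw [Psi_cons]
      change (Psi M * Top L0 ^ (m + 1)) ((1 - Top M0) c) = (Top L0 ^ (m + 1)) (((1 - Top M0) * Psi M) c)
      rw [hcomm.eq, (commute_sub_Top_Psi M0 hM0 M hM).eq]
      rfl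
    rw [e2, Top_pow_apply_of_mem_Hlt_one L0 hL0 _ _ hmem]

theorem End_sum_apply {ι : Type*} (s : Finset ι) (f : ι → AddMonoid.End (K0 X)) (c : K0 X) :
    (∑ i ∈ s, f i) c = ∑ i ∈ s, f i c :=
  AddMonoidHom.finsetSum_apply _ _ _

/-- `Π_i (1 - [M_i])` as an alternating sum over subsets -/
theorem Psi_eq_sum {r : ℕ} (M : _root_.Fin r → X.Modules) :
    Psi M = ∑ I : Finset (_root_.Fin r), ((-1 : ℤ) ^ I.card) • ((I.sort (· ≤ ·)).map (fun i => Top (M i))).prod := by
  have h2 := sum_powerset_sort_prod (fun i : _root_.Fin r => Top (M i)) Finset.univ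
  rw [Finset.powerset_univ, Fin.sort_univ] at h2
  unfold Psi
  rw [← h2]

theorem list_prod_eq_W {r : ℕ} (M : _root_.Fin r → X.Modules) (hM : ∀ i, PicF.IsInvertible (M i))
    (l : List (_root_.Fin r)) :
    (l.map (fun i => Top (M i))).prod = W l.length (fun j => M (l.get j)) (fun _ => 1) := by
  rw [← prod_eq_W l.length (fun j => M (l.get j)) (fun j => hM _) (fun _ => 1)]
  conv_lhs => rw [← List.map_get_finRange l, List.map_map]
  simp only [pow_one]
  rfl

section restr
variable (k : Type u) [Field k] [X.Over (Spec (CommRingCat.of k))]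
  [IsProper (X ↘ Spec (CommRingCat.of k))]

theorem chi_list_quotMod_eq (I : X.IdealSheafData) {r : ℕ} (M : _root_.Fin r → X.Modules)
    (hM : ∀ i, PicF.IsInvertible (M i)) (l : List (_root_.Fin r)) :
    letI : I.subscheme.Over (Spec (CommRingCat.of k)) := ⟨I.subschemeι ≫ (X ↘ (Spec (CommRingCat.of k)))⟩
    haveI : IsProper (I.subscheme ↘ (Spec (CommRingCat.of k))) :=
      inferInstanceAs (IsProper (I.subschemeι ≫ (X ↘ (Spec (CommRingCat.of k)))))
    chi k X ((l.map (fun i => Top (M i))).prod (cls (ClSub.quotMod I))) =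
      chi k I.subscheme ((l.map (fun i => Top ((Scheme.Modules.pullback I.subschemeι).obj (M i)))).prod
        (cls (Coh.structureModule I.subscheme))) := by
  letI : I.subscheme.Over (Spec (CommRingCat.of k)) := ⟨I.subschemeι ≫ (X ↘ (Spec (CommRingCat.of k)))⟩
  haveI : IsProper (I.subscheme ↘ (Spec (CommRingCat.of k))) :=
    inferInstanceAs (IsProper (I.subschemeι ≫ (X ↘ (Spec (CommRingCat.of k)))))
  have hM' : ∀ i, PicF.IsInvertible ((Scheme.Modules.pullback I.subschemeι).obj (M i)) := fun i =>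
    Groth.Agent.Lib.Helper28.PullbackInv.isInvertible_pullback I.subschemeι (hM i)
  have hQ : Coh.IsCoh (ClSub.quotMod I) := Groth.Agent.Lib.Helper6.DevRed.isCoh_quotMod I
  have hO : Coh.IsCoh (Coh.structureModule I.subscheme) := Groth.Agent.Lib.Helper6.DevRed.isCoh_structureModule
  rw [list_prod_eq_W M hM l,
    list_prod_eq_W (fun i => (Scheme.Modules.pullback I.subschemeι).obj (M i)) hM' l,
    ← cls_tensorPows _ hQ l.length _ (fun j => hM _) _,
    ← cls_tensorPows _ hO l.length _ (fun j => hM' _) _,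
    chi_cls k X _ (isCoh_tensorPows _ hQ l.length _ (fun j => hM _) _),
    chi_cls k I.subscheme _ (isCoh_tensorPows _ hO l.length _ (fun j => hM' _) _)]
  exact (euler_subscheme_tensorPows k I l.length (fun j => M (l.get j)) (fun j => hM _) (fun _ => 1)).symm

/-- intersection numbers of `O_X / I` on `X` are intersection numbers of the structure sheaf of the closed
subscheme -/
theorem chi_Psi_quotMod_eq (I : X.IdealSheafData) {r : ℕ} (M : _root_.Fin r → X.Modules)
    (hM : ∀ i, PicF.IsInvertible (M i)) :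
    letI : I.subscheme.Over (Spec (CommRingCat.of k)) := ⟨I.subschemeι ≫ (X ↘ (Spec (CommRingCat.of k)))⟩
    haveI : IsProper (I.subscheme ↘ (Spec (CommRingCat.of k))) :=
      inferInstanceAs (IsProper (I.subschemeι ≫ (X ↘ (Spec (CommRingCat.of k)))))
    chi k X (Psi M (cls (ClSub.quotMod I))) =
      chi k I.subscheme (Psi (fun i => (Scheme.Modules.pullback I.subschemeι).obj (M i))
        (cls (Coh.structureModule I.subscheme))) := by
  letI : I.subscheme.Over (Spec (CommRingCat.of k)) := ⟨I.subschemeι ≫ (X ↘ (Spec (CommRingCat.of k)))⟩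
  haveI : IsProper (I.subscheme ↘ (Spec (CommRingCat.of k))) :=
    inferInstanceAs (IsProper (I.subschemeι ≫ (X ↘ (Spec (CommRingCat.of k)))))
  rw [Psi_eq_sum M, Psi_eq_sum (fun i => (Scheme.Modules.pullback I.subschemeι).obj (M i)),
    End_sum_apply, End_sum_apply, map_sum, map_sum]
  apply Finset.sum_congr rfl
  intro J _
  change chi k X (((-1 : ℤ) ^ J.card) • ((J.sort (· ≤ ·)).map (fun i => Top (M i))).prod (cls (ClSub.quotMod I))) =
    chi k I.subscheme (((-1 : ℤ) ^ J.card) • ((J.sort (· ≤ ·)).map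
      (fun i => Top ((Scheme.Modules.pullback I.subschemeι).obj (M i)))).prod (cls (Coh.structureModule I.subscheme)))
  rw [map_zsmul, map_zsmul, chi_list_quotMod_eq k I M hM]

end restr

end Groth.Agent.Lib.Helper2.IntNum4
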