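import Mathlib.RingTheory.Flat.Basic
import Mathlib.RingTheory.Flat.Stability
import Mathlib.RingTheory.TensorProduct.Quotient
import Mathlib.RingTheory.Ideal.Quotient.Operations

/-!
Helper library (helper2): `(R/𝔞) ⊗ S ≃ S/𝔞S` as `R/𝔞`-modules, and transfer of flatness.
-/

set_option autoImplicit false

namespace Groth.Agent.Lib.Helper2.QuotFlat

open TensorProduct

variable {R S : Type*} [CommRing R] [CommRing S] [Algebra R S] (𝔞 : Ideal R)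

/-- `(R/𝔞) ⊗[R] S ≃ S/𝔞S` as `R/𝔞`-modules. -/
noncomputable def tensorQuotEquiv :
    ((R ⧸ 𝔞) ⊗[R] S) ≃ₗ[R ⧸ 𝔞] (S ⧸ 𝔞.map (algebraMap R S)) :=
  ((TensorProduct.comm R (R ⧸ 𝔞) S) ≪≫ₗ
    ((Algebra.TensorProduct.quotIdealMapEquivTensorQuot S 𝔞).symm.toLinearEquiv.restrictScalars
      R)).extendScalarsOfSurjective Ideal.Quotient.mk_surjective

lemma flat_tensor_of_flat_quotient [Module.Flat (R ⧸ 𝔞) (S ⧸ 𝔞.map (algebraMap R S))] :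
    Module.Flat (R ⧸ 𝔞) ((R ⧸ 𝔞) ⊗[R] S) :=
  Module.Flat.of_linearEquiv (tensorQuotEquiv 𝔞)

lemma flat_quotient_of_flat_tensor [Module.Flat (R ⧸ 𝔞) ((R ⧸ 𝔞) ⊗[R] S)] :
    Module.Flat (R ⧸ 𝔞) (S ⧸ 𝔞.map (algebraMap R S)) :=
  Module.Flat.of_linearEquiv (tensorQuotEquiv 𝔞).symm

end Groth.Agent.Lib.Helper2.QuotFlat
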