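import Mathlib

/-!
# Spreading out algebra maps from a local ring to a principal localization (helper2)

`T` an `R`-algebra, `p` a prime of `T`.  Maps `Localization.Away a → Localization.Away t` for
`a ∣ t` and `Localization.Away a → Localization.AtPrime p` for `a ∉ p`; an algebra map from a
finitely presented algebra to `T_p` lifts to some `T_t` (`exists_lift`), two maps from a finite type
algebra agreeing in `T_p` agree in some `T_t` (`exists_eq`), units spread out (`exists_extend`).
-/

set_option autoImplicit false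
universe u

namespace Groth.Agent.Lib.Helper2.SpreadOut

variable {R : Type u} [CommRing R] {T : Type u} [CommRing T] [Algebra R T]

/-- Two algebra maps out of `Localization.Away a` agreeing on `T` are equal. -/
lemma away_algHom_ext {a : T} {P : Type u} [CommRing P] [Algebra R P]
    (j k : Localization.Away a →ₐ[R] P)
    (h : ∀ x : T, j (algebraMap T _ x) = k (algebraMap T _ x)) : j = k := by
  have : (j : Localization.Away a →+* P) = k :=
    IsLocalization.ringHom_ext (Submonoid.powers a) (RingHom.ext h)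
  exact AlgHom.ext fun x => RingHom.congr_fun this x

lemma isUnit_of_dvd {d t : T} (h : d ∣ t) : IsUnit (algebraMap T (Localization.Away t) d) := by
  obtain ⟨c, rfl⟩ := h
  have := IsLocalization.Away.algebraMap_isUnit (S := Localization.Away (d * c)) (d * c)
  rw [map_mul] at this
  exact isUnit_of_mul_isUnit_left this

lemma isUnit_powers_of_dvd {a t : T} (h : a ∣ t) (y : Submonoid.powers a) :
    IsUnit (IsScalarTower.toAlgHom R T (Localization.Away t) y) := by
  obtain ⟨k, hk⟩ := y.2
  change IsUnit (algebraMap T (Localization.Away t) y)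
  rw [← hk]
  change IsUnit (algebraMap T (Localization.Away t) (a ^ k))
  rw [map_pow]
  exact (isUnit_of_dvd h).pow k

/-- the canonical map `T_a → T_t` for `a ∣ t` -/
noncomputable def awayMap {a t : T} (h : a ∣ t) :
    Localization.Away a →ₐ[R] Localization.Away t :=
  IsLocalization.liftAlgHom (M := Submonoid.powers a)
    (f := IsScalarTower.toAlgHom R T (Localization.Away t)) (isUnit_powers_of_dvd h)

@[simp]
lemma awayMap_algebraMap {a t : T} (h : a ∣ t) (x : T) :
    awayMap (R := R) h (algebraMap T _ x) = algebraMap T _ x := by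
  simp [awayMap, IsLocalization.liftAlgHom_apply, IsLocalization.lift_eq]

lemma awayMap_comp {a b c : T} (h1 : a ∣ b) (h2 : b ∣ c) :
    (awayMap (R := R) h2).comp (awayMap h1) = awayMap (h1.trans h2) :=
  away_algHom_ext _ _ (fun x => by simp)

lemma awayMap_awayMap {a b c : T} (h1 : a ∣ b) (h2 : b ∣ c) (x : Localization.Away a) :
    awayMap (R := R) h2 (awayMap (R := R) h1 x) = awayMap (R := R) (h1.trans h2) x := by
  rw [← awayMap_comp (R := R) h1 h2]; rfl

variable (p : Ideal T) [p.IsPrime]

lemma isUnit_powers_atPrime {a : T} (ha : a ∉ p) (y : Submonoid.powers a) :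
    IsUnit (IsScalarTower.toAlgHom R T (Localization.AtPrime p) y) := by
  obtain ⟨k, hk⟩ := y.2
  change IsUnit (algebraMap T (Localization.AtPrime p) y)
  rw [← hk]
  change IsUnit (algebraMap T (Localization.AtPrime p) (a ^ k))
  rw [map_pow]
  exact ((IsLocalization.AtPrime.isUnit_to_map_iff (Localization.AtPrime p) p a).mpr ha).pow k

/-- the canonical map `T_a → T_p` for `a ∉ p` -/
noncomputable def toPrime {a : T} (ha : a ∉ p) :
    Localization.Away a →ₐ[R] Localization.AtPrime p :=
  IsLocalization.liftAlgHom (M := Submonoid.powers a)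
    (f := IsScalarTower.toAlgHom R T (Localization.AtPrime p)) (isUnit_powers_atPrime p ha)

@[simp]
lemma toPrime_algebraMap {a : T} (ha : a ∉ p) (x : T) :
    toPrime (R := R) p ha (algebraMap T _ x) = algebraMap T _ x := by
  simp [toPrime, IsLocalization.liftAlgHom_apply, IsLocalization.lift_eq]

lemma toPrime_comp_awayMap {a t : T} (h : a ∣ t) (ha : a ∉ p) (ht : t ∉ p) :
    (toPrime (R := R) p ht).comp (awayMap h) = toPrime p ha :=
  away_algHom_ext _ _ (fun x => by simp)

lemma toPrime_awayMap {a t : T} (h : a ∣ t) (ha : a ∉ p) (ht : t ∉ p) (x : Localization.Away a) :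
    toPrime (R := R) p ht (awayMap (R := R) h x) = toPrime (R := R) p ha x := by
  rw [← toPrime_comp_awayMap (R := R) p h ha ht]; rfl

lemma exists_awayMap_eq_zero {a : T} (ha : a ∉ p) (w : Localization.Away a)
    (hw : toPrime (R := R) p ha w = 0) :
    ∃ u ∉ p, ∀ (t : T) (h : a ∣ t), u ∣ t → awayMap (R := R) h w = 0 := by
  obtain ⟨c, s, rfl⟩ := IsLocalization.exists_mk'_eq (Submonoid.powers a) w
  have h1 := IsLocalization.mk'_spec (Localization.Away a) c s
  have h2 := congrArg (toPrime (R := R) p ha) h1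
  rw [map_mul, hw, zero_mul, toPrime_algebraMap] at h2
  obtain ⟨u, hu⟩ := (IsLocalization.map_eq_zero_iff p.primeCompl (Localization.AtPrime p) c).mp h2.symm
  refine ⟨u, u.2, fun t h hut => ?_⟩
  have h3 := congrArg (awayMap (R := R) h) h1
  rw [map_mul, awayMap_algebraMap, awayMap_algebraMap] at h3
  have h4 : algebraMap T (Localization.Away t) c = 0 := by
    have : algebraMap T (Localization.Away t) (u : T) * algebraMap T (Localization.Away t) c = 0 := by
      rw [← map_mul, hu, map_zero]
    exact (isUnit_of_dvd hut).mul_right_eq_zero.mp this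
  rw [h4] at h3
  have hs : IsUnit (algebraMap T (Localization.Away t) (s : T)) :=
    isUnit_powers_of_dvd (R := R) h s
  exact hs.mul_left_eq_zero.mp h3

lemma exists_isUnit_awayMap {a : T} (ha : a ∉ p) (w : Localization.Away a)
    (hw : IsUnit (toPrime (R := R) p ha w)) :
    ∃ u ∉ p, ∀ (t : T) (h : a ∣ t), u ∣ t → IsUnit (awayMap (R := R) h w) := by
  obtain ⟨c, s, rfl⟩ := IsLocalization.exists_mk'_eq (Submonoid.powers a) w
  have h1 := IsLocalization.mk'_spec (Localization.Away a) c s
  have h2 := congrArg (toPrime (R := R) p ha) h1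
  rw [map_mul, toPrime_algebraMap, toPrime_algebraMap] at h2
  have hs : IsUnit (algebraMap T (Localization.AtPrime p) (s : T)) :=
    isUnit_powers_atPrime (R := R) p ha s
  have hc : IsUnit (algebraMap T (Localization.AtPrime p) c) := h2 ▸ hw.mul hs
  have hcp : c ∉ p := (IsLocalization.AtPrime.isUnit_to_map_iff (Localization.AtPrime p) p c).mp hc
  refine ⟨c, hcp, fun t h hct => ?_⟩
  have h3 := congrArg (awayMap (R := R) h) h1
  rw [map_mul, awayMap_algebraMap, awayMap_algebraMap] at h3
  have : IsUnit (awayMap (R := R) h (IsLocalization.mk' (Localization.Away a) c s) *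
      algebraMap T (Localization.Away t) (s : T)) := h3 ▸ isUnit_of_dvd hct
  exact isUnit_of_mul_isUnit_left this

/-- An algebra map from a finitely presented algebra to `T_p` lifts to some `T_t`, `t ∉ p`. -/
theorem exists_lift {P : Type u} [CommRing P] [Algebra R P] [Algebra.FinitePresentation R P]
    (φ : P →ₐ[R] Localization.AtPrime p) :
    ∃ (t : T) (ht : t ∉ p) (φt : P →ₐ[R] Localization.Away t),
      (toPrime (R := R) p ht).comp φt = φ := by
  obtain ⟨n, f, hf, hker⟩ := Algebra.FinitePresentation.out (R := R) (A := P)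
  obtain ⟨b, hb⟩ := IsLocalization.exist_integer_multiples_of_finite p.primeCompl
    (fun i : Fin n => φ (f (MvPolynomial.X i)))
  choose a ha using hb
  have hbp : (b : T) ∉ p := b.2
  let z : Fin n → Localization.Away (b : T) := fun i =>
    IsLocalization.mk' _ (a i) (⟨b, 1, pow_one _⟩ : Submonoid.powers (b : T))
  let Φ₀ : MvPolynomial (Fin n) R →ₐ[R] Localization.Away (b : T) := MvPolynomial.aeval z
  have hz : ∀ i, toPrime (R := R) p hbp (z i) = φ (f (MvPolynomial.X i)) := by
    intro i
    have h1 := IsLocalization.mk'_spec (Localization.Away (b : T)) (a i)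
      (⟨b, 1, pow_one _⟩ : Submonoid.powers (b : T))
    have h2 := congrArg (toPrime (R := R) p hbp) h1
    rw [map_mul, toPrime_algebraMap, toPrime_algebraMap, ha i, Algebra.smul_def] at h2
    have hu : IsUnit (algebraMap T (Localization.AtPrime p) b) := IsLocalization.map_units _ b
    apply hu.mul_left_cancel
    rw [← h2, mul_comm]
  have hcomp : ∀ F, toPrime (R := R) p hbp (Φ₀ F) = φ (f F) := by
    intro F
    have : (toPrime (R := R) p hbp).comp Φ₀ = φ.comp f :=
      MvPolynomial.algHom_ext (fun i => by simp [Φ₀, hz])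
    exact DFunLike.congr_fun this F
  obtain ⟨s, hs⟩ := hker
  have hF : ∀ F : MvPolynomial (Fin n) R, ∃ u : T, u ∉ p ∧
      (F ∈ s → ∀ (t : T) (h : (b : T) ∣ t), u ∣ t → awayMap (R := R) h (Φ₀ F) = 0) := by
    intro F
    by_cases hFs : F ∈ s
    · have h0 : toPrime (R := R) p hbp (Φ₀ F) = 0 := by
        rw [hcomp]
        have : F ∈ RingHom.ker f.toRingHom := hs ▸ Ideal.subset_span hFs
        rw [RingHom.mem_ker] at this
        change φ (f.toRingHom F) = 0
        rw [this, map_zero]
      obtain ⟨u, hu, hu'⟩ := exists_awayMap_eq_zero (R := R) p hbp _ h0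
      exact ⟨u, hu, fun _ => hu'⟩
    · exact ⟨1, (Ideal.ne_top_iff_one p).mp (Ideal.IsPrime.ne_top ‹_›), fun h => absurd h hFs⟩
  choose uF huF huF' using hF
  let t : T := b * ∏ F ∈ s, uF F
  have htp : t ∉ p := by
    intro h
    rcases (Ideal.IsPrime.mem_or_mem ‹_› h) with h | h
    · exact hbp h
    · obtain ⟨F, _, hF⟩ := (Ideal.IsPrime.prod_mem_iff).mp h
      exact huF F hF
  have hbt : (b : T) ∣ t := Dvd.intro _ rfl
  let Φ : MvPolynomial (Fin n) R →ₐ[R] Localization.Away t := (awayMap (R := R) hbt).comp Φ₀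
  have hΦker : ∀ F ∈ RingHom.ker f, Φ F = 0 := by
    have : RingHom.ker f.toRingHom ≤ RingHom.ker Φ.toRingHom := by
      rw [← hs, Ideal.span_le]
      intro F hFs
      rw [SetLike.mem_coe, RingHom.mem_ker]
      exact huF' F hFs t hbt (Dvd.dvd.mul_left (Finset.dvd_prod_of_mem _ hFs) _)
    intro F hF
    exact this hF
  let e₀ := Ideal.quotientKerAlgEquivOfSurjective hf
  let φt : P →ₐ[R] Localization.Away t :=
    (Ideal.Quotient.liftₐ (RingHom.ker f) Φ hΦker).comp e₀.symm.toAlgHom
  refine ⟨t, htp, φt, ?_⟩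
  ext x
  obtain ⟨F, rfl⟩ := hf x
  have h1 : e₀.symm (f F) = Ideal.Quotient.mk _ F := by
    rw [AlgEquiv.symm_apply_eq]; rfl
  change toPrime (R := R) p htp ((Ideal.Quotient.liftₐ (RingHom.ker f) Φ hΦker) (e₀.symm (f F))) = _
  rw [h1]
  change toPrime (R := R) p htp (awayMap (R := R) hbt (Φ₀ F)) = φ (f F)
  rw [toPrime_awayMap (R := R) p hbt hbp htp, hcomp]

/-- Two algebra maps from a finite type algebra to `T_a` agreeing in `T_p` agree in some `T_t`. -/
theorem exists_eq {P : Type u} [CommRing P] [Algebra R P] [Algebra.FiniteType R P] {a : T}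
    (ha : a ∉ p) (α β : P →ₐ[R] Localization.Away a)
    (h : (toPrime (R := R) p ha).comp α = (toPrime (R := R) p ha).comp β) :
    ∃ u ∉ p, ∀ (t : T) (hat : a ∣ t), u ∣ t →
      (awayMap (R := R) hat).comp α = (awayMap (R := R) hat).comp β := by
  obtain ⟨s, hs⟩ := Algebra.FiniteType.out (R := R) (A := P)
  have hx : ∀ x : P, ∃ u : T, u ∉ p ∧ ∀ (t : T) (hat : a ∣ t), u ∣ t →
      awayMap (R := R) hat (α x - β x) = 0 := by
    intro x
    have h0 : toPrime (R := R) p ha (α x - β x) = 0 := by
      rw [map_sub, sub_eq_zero]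
      exact DFunLike.congr_fun h x
    exact exists_awayMap_eq_zero (R := R) p ha _ h0
  choose ux hux hux' using hx
  refine ⟨∏ x ∈ s, ux x, ?_, fun t hat hut => ?_⟩
  · intro hmem
    obtain ⟨x, _, hx⟩ := (Ideal.IsPrime.prod_mem_iff).mp hmem
    exact hux x hx
  · apply AlgHom.ext_of_adjoin_eq_top hs
    intro x hx
    have := hux' x t hat ((Finset.dvd_prod_of_mem _ hx).trans hut)
    rw [map_sub, sub_eq_zero] at this
    exact this

/-- If `α g` becomes a unit in `T_p`, then `α` extends to `P_g → T_t` for suitable `t`. -/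
theorem exists_extend {P : Type u} [CommRing P] [Algebra R P] {a : T}
    (ha : a ∉ p) (α : P →ₐ[R] Localization.Away a) (g : P)
    (hg : IsUnit (toPrime (R := R) p ha (α g))) :
    ∃ u ∉ p, ∀ (t : T) (hat : a ∣ t), u ∣ t →
      ∃ α' : Localization.Away g →ₐ[R] Localization.Away t,
        ∀ x : P, α' (algebraMap P _ x) = awayMap (R := R) hat (α x) := by
  obtain ⟨u, hu, hu'⟩ := exists_isUnit_awayMap (R := R) p ha (α g) hg
  refine ⟨u, hu, fun t hat hut => ?_⟩
  have hunit : ∀ y : Submonoid.powers g, IsUnit (((awayMap (R := R) hat).comp α) y) := by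
    intro y
    obtain ⟨k, hk⟩ := y.2
    change IsUnit (awayMap (R := R) hat (α y))
    rw [← hk]
    change IsUnit (awayMap (R := R) hat (α (g ^ k)))
    rw [map_pow, map_pow]
    exact (hu' t hat hut).pow k
  refine ⟨IsLocalization.liftAlgHom (M := Submonoid.powers g)
    (f := (awayMap (R := R) hat).comp α) hunit, fun x => ?_⟩
  simp [IsLocalization.liftAlgHom_apply, IsLocalization.lift_eq]

lemma exists_isUnit_awayMap' {a : T} (ha : a ∉ p) (w : Localization.Away a)
    (hw : IsUnit (toPrime (R := R) p ha w)) :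
    ∃ u ∉ p, (∃ v : Localization.Away a, IsUnit v ∧ algebraMap T _ u = w * v) ∧
      ∀ (t : T) (h : a ∣ t), u ∣ t → IsUnit (awayMap (R := R) h w) := by
  obtain ⟨c, s, rfl⟩ := IsLocalization.exists_mk'_eq (Submonoid.powers a) w
  have h1 := IsLocalization.mk'_spec (Localization.Away a) c s
  have h2 := congrArg (toPrime (R := R) p ha) h1
  rw [map_mul, toPrime_algebraMap, toPrime_algebraMap] at h2
  have hs : IsUnit (algebraMap T (Localization.AtPrime p) (s : T)) :=
    isUnit_powers_atPrime (R := R) p ha s
  have hc : IsUnit (algebraMap T (Localization.AtPrime p) c) := h2 ▸ hw.mul hs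
  have hcp : c ∉ p := (IsLocalization.AtPrime.isUnit_to_map_iff (Localization.AtPrime p) p c).mp hc
  refine ⟨c, hcp, ⟨algebraMap T _ (s : T), IsLocalization.map_units _ s, h1.symm⟩,
    fun t h hct => ?_⟩
  have h3 := congrArg (awayMap (R := R) h) h1
  rw [map_mul, awayMap_algebraMap, awayMap_algebraMap] at h3
  have : IsUnit (awayMap (R := R) h (IsLocalization.mk' (Localization.Away a) c s) *
      algebraMap T (Localization.Away t) (s : T)) := h3 ▸ isUnit_of_dvd hct
  exact isUnit_of_mul_isUnit_left this

/-- version of `exists_extend` remembering that `u` is `α g` up to a unit of `T_a` -/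
theorem exists_extend' {P : Type u} [CommRing P] [Algebra R P] {a : T}
    (ha : a ∉ p) (α : P →ₐ[R] Localization.Away a) (g : P)
    (hg : IsUnit (toPrime (R := R) p ha (α g))) :
    ∃ u ∉ p, (∃ v : Localization.Away a, IsUnit v ∧ algebraMap T _ u = α g * v) ∧
      ∀ (t : T) (hat : a ∣ t), u ∣ t →
      ∃ α' : Localization.Away g →ₐ[R] Localization.Away t,
        ∀ x : P, α' (algebraMap P _ x) = awayMap (R := R) hat (α x) := by
  obtain ⟨u, hu, hv, hu'⟩ := exists_isUnit_awayMap' (R := R) p ha (α g) hg
  refine ⟨u, hu, hv, fun t hat hut => ?_⟩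
  have hunit : ∀ y : Submonoid.powers g, IsUnit (((awayMap (R := R) hat).comp α) y) := by
    intro y
    obtain ⟨k, hk⟩ := y.2
    change IsUnit (awayMap (R := R) hat (α y))
    rw [← hk]
    change IsUnit (awayMap (R := R) hat (α (g ^ k)))
    rw [map_pow, map_pow]
    exact (hu' t hat hut).pow k
  refine ⟨IsLocalization.liftAlgHom (M := Submonoid.powers g)
    (f := (awayMap (R := R) hat).comp α) hunit, fun x => ?_⟩
  simp [IsLocalization.liftAlgHom_apply, IsLocalization.lift_eq]

end Groth.Agent.Lib.Helper2.SpreadOut
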