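import Groth.Agent.Lib.Helper2.LocalCrit
import Mathlib.RingTheory.Flat.FaithfullyFlat.Basic
import Mathlib.RingTheory.TensorProduct.Basic
import Mathlib.RingTheory.Nakayama

/-!
Helper library (helper2): fibrewise criterion of flatness (Stacks 00MP), local Noetherian case.
-/

set_option autoImplicit false

namespace Groth.Agent.Lib.Helper2.FibreCrit

open TensorProduct

section Transfer

variable {R : Type*} [CommRing R] (k : Type*) [CommRing k] [Algebra R k]
  {N M : Type*} [AddCommGroup N] [Module R N] [AddCommGroup M] [Module R M]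
  (V : Type*) [AddCommGroup V] [Module R V] [Module k V] [IsScalarTower R k V]

/-- `V ⊗_R u` is injective iff `V ⊗_k (k ⊗_R u)` is. -/
lemma lTensor_injective_iff (u : N →ₗ[R] M) :
    Function.Injective (u.lTensor V) ↔
      Function.Injective (LinearMap.lTensor V (AlgebraTensorModule.lTensor k k u)) := by
  have hnat := AlgebraTensorModule.lTensor_comp_cancelBaseChange (R := R) (A := k) (B := k)
    (M := V) u
  have hfun : ∀ x, u.lTensor V (AlgebraTensorModule.cancelBaseChange R k k V N x) =
      AlgebraTensorModule.cancelBaseChange R k k V M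
        (LinearMap.lTensor V (AlgebraTensorModule.lTensor k k u) x) := by
    intro x
    exact LinearMap.congr_fun hnat x
  constructor
  · intro h a b hab
    apply (AlgebraTensorModule.cancelBaseChange R k k V N).injective
    apply h
    rw [hfun, hfun, hab]
  · intro h a b hab
    obtain ⟨a', rfl⟩ := (AlgebraTensorModule.cancelBaseChange R k k V N).surjective a
    obtain ⟨b', rfl⟩ := (AlgebraTensorModule.cancelBaseChange R k k V N).surjective b
    rw [hfun, hfun] at hab
    rw [h ((AlgebraTensorModule.cancelBaseChange R k k V M).injective hab)]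

/-- If `V` is faithfully flat over `k` and `V ⊗_R u` is injective then `k ⊗_R u` is injective. -/
lemma lTensor_injective_of_faithfullyFlat [Module.FaithfullyFlat k V] (u : N →ₗ[R] M)
    (h : Function.Injective (u.lTensor V)) : Function.Injective (u.lTensor k) := by
  have h1 := (lTensor_injective_iff k V u).mp h
  exact (Module.FaithfullyFlat.lTensor_injective_iff_injective k V
    (AlgebraTensorModule.lTensor k k u)).mp h1

end Transfer

section TorFibre

variable {R S : Type*} [CommRing R] [CommRing S] [Algebra R S]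
  {M : Type*} [AddCommGroup M] [Module R M] [Module S M] [IsScalarTower R S M]
  [Module.Flat R M] (𝔪 : Ideal R)

/-- If `M` is `R`-flat then `M ⊗_S 𝔪S → M` is injective (`Tor_1^S(S/𝔪S, M) = 0`). -/
theorem lTensor_map_subtype_injective :
    Function.Injective ((𝔪.map (algebraMap R S)).subtype.lTensor M) := by
  set I : Ideal S := 𝔪.map (algebraMap R S) with hI
  let g₀ : 𝔪 →ₗ[R] I :=
    { toFun := fun a => ⟨algebraMap R S a, Ideal.mem_map_of_mem _ a.2⟩
      map_add' := fun a b => Subtype.ext (by simp)
      map_smul' := fun r a => Subtype.ext (by simp [Algebra.smul_def]) }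
  let g : S ⊗[R] 𝔪 →ₗ[S] I := g₀.liftBaseChange S
  have hg : ∀ (s : S) (a : 𝔪), ((g (s ⊗ₜ a) : I) : S) = s * algebraMap R S a := by
    intro s a
    rw [LinearMap.liftBaseChange_tmul]
    rfl
  have hgsurj : Function.Surjective g := by
    rintro ⟨i, hi⟩
    have key : ∀ i ∈ I, ∃ z : S ⊗[R] 𝔪, ((g z : I) : S) = i := by
      intro i hi
      refine Submodule.span_induction ?_ ?_ ?_ ?_ hi
      · rintro _ ⟨a, ha, rfl⟩
        exact ⟨1 ⊗ₜ ⟨a, ha⟩, by rw [hg, one_mul]⟩
      · exact ⟨0, by rw [map_zero]; rfl⟩
      · rintro x y _ _ ⟨zx, hzx⟩ ⟨zy, hzy⟩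
        exact ⟨zx + zy, by rw [map_add, Submodule.coe_add, hzx, hzy]⟩
      · rintro c x _ ⟨zx, hzx⟩
        exact ⟨c • zx, by rw [map_smul, Submodule.coe_smul, hzx]⟩
    obtain ⟨z, hz⟩ := key i hi
    exact ⟨z, Subtype.ext hz⟩
  let f' : S ⊗[R] 𝔪 →ₗ[S] S ⊗[R] R := AlgebraTensorModule.lTensor S S 𝔪.subtype
  let e : S ⊗[R] R ≃ₗ[S] S := AlgebraTensorModule.rid R S S
  have hcomm : I.subtype ∘ₗ g = e.toLinearMap ∘ₗ f' := by
    apply TensorProduct.AlgebraTensorModule.ext
    intro s a
    show ((g (s ⊗ₜ a) : I) : S) = e (f' (s ⊗ₜ a))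
    rw [hg, AlgebraTensorModule.lTensor_tmul, AlgebraTensorModule.rid_tmul, Submodule.subtype_apply,
      Algebra.smul_def, mul_comm]
  have hf' : Function.Injective (LinearMap.lTensor M f') :=
    (lTensor_injective_iff S M 𝔪.subtype).mp
      (Module.Flat.lTensor_preserves_injective_linearMap 𝔪.subtype 𝔪.injective_subtype)
  have he : Function.Injective (LinearMap.lTensor M e.toLinearMap) :=
    (LinearEquiv.lTensor M e).injective
  have hcomp : Function.Injective (LinearMap.lTensor M (I.subtype ∘ₗ g)) := by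
    rw [hcomm, LinearMap.lTensor_comp, LinearMap.coe_comp]
    exact he.comp hf'
  rw [LinearMap.lTensor_comp, LinearMap.coe_comp] at hcomp
  have hgs : Function.Surjective (LinearMap.lTensor M g) := LinearMap.lTensor_surjective M hgsurj
  intro a b hab
  obtain ⟨a', rfl⟩ := hgs a
  obtain ⟨b', rfl⟩ := hgs b
  rw [hcomp hab]

end TorFibre

end Groth.Agent.Lib.Helper2.FibreCrit
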