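import Mathlib

/-!
# Lifting along small extensions (helper2)

Library for the criterion "formally smooth for the `𝔪`-adic topology iff lifts exist along small
extensions" (Stacks 07NJ).  Part 1: reduction to the subalgebra `A' ⊆ A` of elements whose class
mod `J` is in the image of `ψ : S → A/J`; `A'` is local with nilpotent maximal ideal.
-/

set_option autoImplicit false
universe u

namespace Groth.Agent.Lib.Helper2.SmallExt

open IsLocalRing

section L1
variable {R S : Type u} [CommRing R] [CommRing S] [Algebra R S]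
variable {A : Type u} [CommRing A] [Algebra R A] (J : Ideal A) (ψ : S →ₐ[R] A ⧸ J)

/-- the subalgebra of `A` of elements whose class mod `J` is in the image of `ψ` -/
def sub : Subalgebra R A := (ψ.range).comap (Ideal.Quotient.mkₐ R J)

lemma mem_sub {a : A} : a ∈ sub J ψ ↔ ∃ s, ψ s = Ideal.Quotient.mk J a := by
  simp [sub, Subalgebra.mem_comap, AlgHom.mem_range]

/-- the ideal `J ∩ A'` of `A'` -/
def subIdeal : Ideal (sub J ψ) := J.comap (sub J ψ).val

lemma mem_subIdeal {x : sub J ψ} : x ∈ subIdeal J ψ ↔ (x : A) ∈ J := Iff.rfl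

lemma subIdeal_sq (hJ : J ^ 2 = ⊥) : (subIdeal J ψ) ^ 2 = ⊥ := by
  rw [eq_bot_iff]
  intro x hx
  have h1 : (sub J ψ).val x ∈ ((subIdeal J ψ) ^ 2).map (sub J ψ).val := Ideal.mem_map_of_mem _ hx
  rw [Ideal.map_pow] at h1
  have h2 : (sub J ψ).val x ∈ J ^ 2 := Ideal.pow_right_mono Ideal.map_comap_le 2 h1
  rw [hJ, Ideal.mem_bot] at h2
  rw [Ideal.mem_bot]
  exact Subtype.ext h2

/-- the injection `A'/J' → A/J` -/
def quotIncl : (sub J ψ ⧸ subIdeal J ψ) →ₐ[R] A ⧸ J :=
  Ideal.quotientMapₐ J (sub J ψ).val le_rfl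

lemma quotIncl_mk (x : sub J ψ) :
    quotIncl J ψ (Ideal.Quotient.mk _ x) = Ideal.Quotient.mk J (x : A) := rfl

lemma quotIncl_injective : Function.Injective (quotIncl J ψ) := by
  intro x y hxy
  obtain ⟨x, rfl⟩ := Ideal.Quotient.mk_surjective x
  obtain ⟨y, rfl⟩ := Ideal.Quotient.mk_surjective y
  rw [quotIncl_mk, quotIncl_mk, Ideal.Quotient.eq] at hxy
  rw [Ideal.Quotient.eq]
  exact hxy

lemma exists_quotIncl_eq (s : S) : ∃ y, quotIncl J ψ y = ψ s := by
  obtain ⟨a, ha⟩ := Ideal.Quotient.mk_surjective (ψ s)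
  exact ⟨Ideal.Quotient.mk _ ⟨a, (mem_sub J ψ).mpr ⟨s, ha.symm⟩⟩, by rw [quotIncl_mk, ha]⟩

/-- the factorization of `ψ` through `A'/J'` -/
lemma exists_factor : ∃ ψ' : S →ₐ[R] (sub J ψ ⧸ subIdeal J ψ), ∀ s, quotIncl J ψ (ψ' s) = ψ s := by
  choose f hf using exists_quotIncl_eq J ψ
  have hinj := quotIncl_injective J ψ
  exact ⟨{ toFun := f
           map_one' := hinj (by rw [hf, map_one, map_one])
           map_mul' := fun x y => hinj (by rw [hf, map_mul, map_mul, hf, hf])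
           map_zero' := hinj (by rw [hf, map_zero, map_zero])
           map_add' := fun x y => hinj (by rw [hf, map_add, map_add, hf, hf])
           commutes' := fun r => hinj (by rw [hf, AlgHom.commutes, AlgHom.commutes]) }, hf⟩

lemma factor_surjective (ψ' : S →ₐ[R] (sub J ψ ⧸ subIdeal J ψ))
    (h : ∀ s, quotIncl J ψ (ψ' s) = ψ s) : Function.Surjective ψ' := by
  intro y
  obtain ⟨x, rfl⟩ := Ideal.Quotient.mk_surjective y
  obtain ⟨s, hs⟩ := (mem_sub J ψ).mp x.2
  refine ⟨s, quotIncl_injective J ψ ?_⟩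
  rw [h, hs, quotIncl_mk]

/-- a lift of the factorization gives a lift of `ψ` -/
lemma lift_of_lift (ψ' : S →ₐ[R] (sub J ψ ⧸ subIdeal J ψ))
    (h : ∀ s, quotIncl J ψ (ψ' s) = ψ s) (χ' : S →ₐ[R] sub J ψ)
    (hχ' : (Ideal.Quotient.mkₐ R (subIdeal J ψ)).comp χ' = ψ') :
    (Ideal.Quotient.mkₐ R J).comp ((sub J ψ).val.comp χ') = ψ := by
  ext s
  have := congrArg (fun f => quotIncl J ψ (f s)) hχ'
  simp only [AlgHom.comp_apply, Ideal.Quotient.mkₐ_eq_mk] at this
  rw [h, quotIncl_mk] at this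
  exact this

end L1

section L1local
variable {R S : Type u} [CommRing R] [CommRing S] [Algebra R S] [IsLocalRing S]
variable {A : Type u} [CommRing A] [Algebra R A] (J : Ideal A) (ψ : S →ₐ[R] A ⧸ J)

lemma isUnit_of_isUnit_map (hne : J ≠ ⊤) (k : ℕ) (hk : ∀ x ∈ maximalIdeal S ^ k, ψ x = 0)
    {s : S} (h : IsUnit (ψ s)) : IsUnit s := by
  by_contra hs
  have hs' : s ∈ maximalIdeal S := hs
  have h0 : ψ (s ^ k) = 0 := hk _ (Ideal.pow_mem_pow hs' k)
  rw [map_pow] at h0
  have hu : IsUnit (0 : A ⧸ J) := h0 ▸ h.pow k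
  have : Nontrivial (A ⧸ J) := Ideal.Quotient.nontrivial_iff.mpr hne
  exact not_isUnit_zero hu

lemma sub_isUnit_iff (hJ : J ^ 2 = ⊥) (hne : J ≠ ⊤) (k : ℕ)
    (hk : ∀ x ∈ maximalIdeal S ^ k, ψ x = 0) (x : sub J ψ) (s : S)
    (hs : ψ s = Ideal.Quotient.mk J (x : A)) : IsUnit x ↔ IsUnit s := by
  constructor
  · intro hx
    apply isUnit_of_isUnit_map J ψ hne k hk
    rw [hs]
    exact (hx.map (sub J ψ).val).map (Ideal.Quotient.mk J)
  · intro hsu
    obtain ⟨t, ht⟩ := hsu.exists_right_inv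
    obtain ⟨b, hb⟩ := Ideal.Quotient.mk_surjective (ψ t)
    have hbmem : b ∈ sub J ψ := (mem_sub J ψ).mpr ⟨t, hb.symm⟩
    let y : sub J ψ := ⟨b, hbmem⟩
    have hj : (x * y - 1 : sub J ψ) ∈ subIdeal J ψ := by
      rw [mem_subIdeal]
      rw [← Ideal.Quotient.eq_zero_iff_mem]
      simp only [Subalgebra.coe_sub, Subalgebra.coe_mul, Subalgebra.coe_one, map_sub, map_mul,
        map_one]
      change Ideal.Quotient.mk J (x : A) * Ideal.Quotient.mk J b - 1 = 0
      rw [← hs, hb, ← map_mul, ht, map_one, sub_self]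
    have hsq : (x * y - 1) * (x * y - 1) = 0 := by
      have : (x * y - 1) * (x * y - 1) ∈ (subIdeal J ψ) ^ 2 := by
        rw [sq]; exact Ideal.mul_mem_mul hj hj
      rwa [subIdeal_sq J ψ hJ, Ideal.mem_bot] at this
    refine IsUnit.of_mul_eq_one (y * (2 - x * y)) ?_
    linear_combination (-1 : sub J ψ) * hsq

omit [IsLocalRing S] in
lemma sub_nontrivial (hne : J ≠ ⊤) : Nontrivial (sub J ψ) := by
  have : Nontrivial (A ⧸ J) := Ideal.Quotient.nontrivial_iff.mpr hne
  have hA : Nontrivial A := (Ideal.Quotient.mk J).domain_nontrivial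
  exact ⟨⟨0, 1, fun h => zero_ne_one (α := A) (congrArg Subtype.val h)⟩⟩

lemma sub_isLocalRing (hJ : J ^ 2 = ⊥) (hne : J ≠ ⊤) (k : ℕ)
    (hk : ∀ x ∈ maximalIdeal S ^ k, ψ x = 0) : IsLocalRing (sub J ψ) := by
  haveI := sub_nontrivial J ψ hne
  refine IsLocalRing.of_isUnit_or_isUnit_one_sub_self fun x => ?_
  obtain ⟨s, hs⟩ := (mem_sub J ψ).mp x.2
  have hs1 : ψ (1 - s) = Ideal.Quotient.mk J ((1 - x : sub J ψ) : A) := by
    simp [hs]
  rcases IsLocalRing.isUnit_or_isUnit_one_sub_self s with h | h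
  · exact Or.inl ((sub_isUnit_iff J ψ hJ hne k hk x s hs).mpr h)
  · exact Or.inr ((sub_isUnit_iff J ψ hJ hne k hk (1 - x) (1 - s) hs1).mpr h)

lemma sub_mem_maximalIdeal_iff (hJ : J ^ 2 = ⊥) (hne : J ≠ ⊤) (k : ℕ)
    (hk : ∀ x ∈ maximalIdeal S ^ k, ψ x = 0) (x : sub J ψ) (s : S)
    (hs : ψ s = Ideal.Quotient.mk J (x : A)) :
    haveI := sub_isLocalRing J ψ hJ hne k hk
    x ∈ maximalIdeal (sub J ψ) ↔ s ∈ maximalIdeal S := by
  haveI := sub_isLocalRing J ψ hJ hne k hk
  rw [mem_maximalIdeal, mem_maximalIdeal, mem_nonunits_iff, mem_nonunits_iff,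
    sub_isUnit_iff J ψ hJ hne k hk x s hs]

lemma sub_pow_maximalIdeal (hJ : J ^ 2 = ⊥) (hne : J ≠ ⊤) (k : ℕ)
    (hk : ∀ x ∈ maximalIdeal S ^ k, ψ x = 0) :
    haveI := sub_isLocalRing J ψ hJ hne k hk
    ∀ n : ℕ, ∀ x ∈ maximalIdeal (sub J ψ) ^ n,
      ∃ s ∈ maximalIdeal S ^ n, ψ s = Ideal.Quotient.mk J (x : A) := by
  haveI := sub_isLocalRing J ψ hJ hne k hk
  intro n
  induction n with
  | zero =>
    intro x _
    obtain ⟨s, hs⟩ := (mem_sub J ψ).mp x.2
    exact ⟨s, by simp, hs⟩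
  | succ n ih =>
    intro x hx
    rw [pow_succ] at hx
    refine Submodule.mul_induction_on hx ?_ ?_
    · intro y hy z hz
      obtain ⟨s, hs, hsy⟩ := ih y hy
      obtain ⟨t, htz⟩ := (mem_sub J ψ).mp z.2
      have ht : t ∈ maximalIdeal S := (sub_mem_maximalIdeal_iff J ψ hJ hne k hk z t htz).mp hz
      refine ⟨s * t, ?_, ?_⟩
      · rw [pow_succ]; exact Ideal.mul_mem_mul hs ht
      · rw [map_mul, hsy, htz]; simp
    · intro y z hy hz
      obtain ⟨s, hs, hsy⟩ := hy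
      obtain ⟨t, ht, htz⟩ := hz
      exact ⟨s + t, Ideal.add_mem _ hs ht, by rw [map_add, hsy, htz]; simp⟩

lemma sub_maximalIdeal_pow_le (hJ : J ^ 2 = ⊥) (hne : J ≠ ⊤) (k : ℕ)
    (hk : ∀ x ∈ maximalIdeal S ^ k, ψ x = 0) :
    haveI := sub_isLocalRing J ψ hJ hne k hk
    maximalIdeal (sub J ψ) ^ k ≤ subIdeal J ψ := by
  haveI := sub_isLocalRing J ψ hJ hne k hk
  intro x hx
  obtain ⟨s, hs, hsx⟩ := sub_pow_maximalIdeal J ψ hJ hne k hk k x hx
  rw [mem_subIdeal, ← Ideal.Quotient.eq_zero_iff_mem, ← hsx]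
  exact hk s hs

lemma sub_maximalIdeal_pow_eq_bot (hJ : J ^ 2 = ⊥) (hne : J ≠ ⊤) (k : ℕ)
    (hk : ∀ x ∈ maximalIdeal S ^ k, ψ x = 0) :
    haveI := sub_isLocalRing J ψ hJ hne k hk
    maximalIdeal (sub J ψ) ^ (k * 2) = ⊥ := by
  haveI := sub_isLocalRing J ψ hJ hne k hk
  rw [eq_bot_iff, pow_mul, ← subIdeal_sq J ψ hJ]
  exact Ideal.pow_right_mono (sub_maximalIdeal_pow_le J ψ hJ hne k hk) 2

lemma sub_isLocalHom [IsLocalRing R] [IsLocalHom (algebraMap R S)] (hJ : J ^ 2 = ⊥) (hne : J ≠ ⊤)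
    (k : ℕ) (hk : ∀ x ∈ maximalIdeal S ^ k, ψ x = 0) :
    IsLocalHom (algebraMap R (sub J ψ)) := by
  constructor
  intro r hr
  have hs : ψ (algebraMap R S r) = Ideal.Quotient.mk J ((algebraMap R (sub J ψ) r : sub J ψ) : A) := by
    rw [AlgHom.commutes]; rfl
  have := (sub_isUnit_iff J ψ hJ hne k hk _ _ hs).mp hr
  exact IsLocalHom.map_nonunit r this

end L1local

section triv
variable {R S : Type u} [CommRing R] [CommRing S] [Algebra R S]
variable {A : Type u} [CommRing A] [Algebra R A] (J : Ideal A) (ψ : S →ₐ[R] A ⧸ J)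

lemma exists_lift_of_eq_top (hJ : J ^ 2 = ⊥) (h : J = ⊤) :
    ∃ χ : S →ₐ[R] A, (Ideal.Quotient.mkₐ R J).comp χ = ψ := by
  have h1 : (1 : A) ∈ (⊥ : Ideal A) := by
    rw [← hJ, h, Ideal.top_pow]; exact Submodule.mem_top
  have hA : Subsingleton A := subsingleton_of_zero_eq_one ((Ideal.mem_bot.mp h1).symm)
  have hAJ : Subsingleton (A ⧸ J) := by
    refine ⟨fun x y => ?_⟩
    obtain ⟨x, rfl⟩ := Ideal.Quotient.mk_surjective x
    obtain ⟨y, rfl⟩ := Ideal.Quotient.mk_surjective y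
    rw [Subsingleton.elim x y]
  refine ⟨{ toFun := fun _ => 0
            map_one' := Subsingleton.elim _ _
            map_mul' := fun _ _ => Subsingleton.elim _ _
            map_zero' := rfl
            map_add' := fun _ _ => Subsingleton.elim _ _
            commutes' := fun _ => Subsingleton.elim _ _ }, ?_⟩
  ext s
  exact Subsingleton.elim _ _

end triv

section F1
variable {A : Type u} [CommRing A] [IsLocalRing A] {M : Type u} [AddCommGroup M] [Module A M]

/-- For a module killed by the maximal ideal, the evaluation map into the product of copies of the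
residue field indexed by nonzero functionals has an `A`-linear retraction. -/
lemma exists_retraction (hM : ∀ a ∈ maximalIdeal A, ∀ x : M, a • x = 0) :
    ∃ ρ : ({φ : M →ₗ[A] ResidueField A // φ ≠ 0} → ResidueField A) →ₗ[A] M,
      ∀ x : M, ρ (fun φ => φ.1 x) = x := by
  have htors : Module.IsTorsionBySet A M (maximalIdeal A : Set A) := by
    intro x a; exact hM a.1 a.2 x
  letI : Module (ResidueField A) M := show Module (A ⧸ maximalIdeal A) M from htors.module
  haveI : IsScalarTower A (ResidueField A) M := by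
    refine ⟨fun a c x => ?_⟩
    obtain ⟨b, rfl⟩ := IsLocalRing.residue_surjective c
    have h1 : a • (IsLocalRing.residue A b) = IsLocalRing.residue A (a * b) := by
      rw [Algebra.smul_def, map_mul]; rfl
    have h2 : ∀ (c : A) (y : M), (IsLocalRing.residue A c) • y = c • y := fun _ _ => rfl
    rw [h1, h2, h2, mul_smul]
  let Φ := {φ : M →ₗ[A] ResidueField A // φ ≠ 0}
  let ι : M →ₗ[ResidueField A] (Φ → ResidueField A) :=
    { toFun := fun x φ => φ.1 x
      map_add' := fun x y => by funext φ; simp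
      map_smul' := fun c x => by
        funext φ
        obtain ⟨a, rfl⟩ := IsLocalRing.residue_surjective c
        have : (IsLocalRing.residue A a) • x = a • x := rfl
        simp only [this, map_smul, RingHom.id_apply, Pi.smul_apply, smul_eq_mul]
        rw [Algebra.smul_def]; rfl }
  have hker : LinearMap.ker ι = ⊥ := by
    rw [LinearMap.ker_eq_bot']
    intro x hx
    rw [← Module.forall_dual_apply_eq_zero_iff (ResidueField A) x]
    intro f
    by_cases hf : f.restrictScalars A = 0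
    · have := congrArg (fun g => g x) hf
      simpa using this
    · exact congrFun hx ⟨f.restrictScalars A, hf⟩
  obtain ⟨g, hg⟩ := LinearMap.exists_leftInverse_of_injective ι hker
  refine ⟨g.restrictScalars A, fun x => ?_⟩
  exact LinearMap.congr_fun hg x

end F1

/-- lifts exist along small extensions (the hypothesis of the criterion) -/
def SmallLift (R S : Type u) [CommRing R] [CommRing S] [IsLocalRing R] [IsLocalRing S]
    [Algebra R S] : Prop :=
  ∀ (A : Type u) [CommRing A] [IsLocalRing A] [IsArtinianRing A] [Algebra R A]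
    [IsLocalHom (algebraMap R A)] (J : Ideal A), J ^ 2 = ⊥ → Module.length A J = 1 →
    ∀ [IsLocalRing (A ⧸ J)] (ψ : S →ₐ[R] A ⧸ J) [IsLocalHom ψ.toRingHom],
      Function.Bijective (ResidueField.map ψ.toRingHom) →
      ∃ χ : S →ₐ[R] A, (Ideal.Quotient.mkₐ R J).comp χ = ψ

section step
variable {R S : Type u} [CommRing R] [CommRing S] [IsLocalRing R] [IsLocalRing S]
  [Algebra R S] [IsLocalHom (algebraMap R S)] [IsNoetherianRing S]
variable {A : Type u} [CommRing A] [IsLocalRing A] [Algebra R A] [IsLocalHom (algebraMap R A)]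
  (J : Ideal A)

/-- the ideal `ker φ ⊆ J` of `A` -/
noncomputable def kerIdeal (φ : J →ₗ[A] ResidueField A) : Ideal A := Submodule.map J.subtype (LinearMap.ker φ)

lemma kerIdeal_le (φ : J →ₗ[A] ResidueField A) : kerIdeal J φ ≤ J := by
  rintro _ ⟨j, _, rfl⟩
  exact j.2

lemma mem_kerIdeal (φ : J →ₗ[A] ResidueField A) (j : J) : (j : A) ∈ kerIdeal J φ ↔ φ j = 0 := by
  constructor
  · rintro ⟨j', hj', h⟩
    have : j' = j := Subtype.ext h
    rw [← this]; exact hj'
  · intro h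
    exact ⟨j, h, rfl⟩

lemma small_step (hSL : SmallLift R S) (hJ : J ^ 2 = ⊥) (N : ℕ) (hN : maximalIdeal A ^ N = ⊥)
    (ψ : S →ₐ[R] A ⧸ J)
    (hψ : Function.Surjective ψ) (φ : J →ₗ[A] ResidueField A) (hφ : φ ≠ 0) :
    ∃ χ : S →ₐ[R] A ⧸ kerIdeal J φ, ∀ s, Ideal.Quotient.factor (kerIdeal_le J φ) (χ s) = ψ s := by
  have hJne : J ≠ ⊤ := by
    intro h
    have h1 : (1 : A) ∈ (⊥ : Ideal A) := by
      rw [← hJ, h, Ideal.top_pow]; exact Submodule.mem_top
    exact one_ne_zero (Ideal.mem_bot.mp h1)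
  have hJm : J ≤ maximalIdeal A := IsLocalRing.le_maximalIdeal hJne
  set I := kerIdeal J φ with hI
  have hIJ : I ≤ J := kerIdeal_le J φ
  have hIne : I ≠ ⊤ := fun h => hJne (top_le_iff.mp (h ▸ hIJ))
  haveI : Nontrivial (A ⧸ I) := Ideal.Quotient.nontrivial_iff.mpr hIne
  haveI : Nontrivial (A ⧸ J) := Ideal.Quotient.nontrivial_iff.mpr hJne
  haveI : IsLocalRing (A ⧸ I) :=
    IsLocalRing.of_surjective' (Ideal.Quotient.mk I) Ideal.Quotient.mk_surjective
  haveI : IsLocalRing (A ⧸ J) :=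
    IsLocalRing.of_surjective' (Ideal.Quotient.mk J) Ideal.Quotient.mk_surjective
  haveI hloc1 : IsLocalHom (Ideal.Quotient.mk I) :=
    IsLocalHom.of_surjective _ Ideal.Quotient.mk_surjective
  haveI : IsLocalHom (algebraMap R (A ⧸ I)) := by
    constructor
    intro r hr
    have : IsUnit (Ideal.Quotient.mk I (algebraMap R A r)) := hr
    exact IsLocalHom.map_nonunit r (IsLocalHom.map_nonunit (f := Ideal.Quotient.mk I) _ this)
  set JB : Ideal (A ⧸ I) := J.map (Ideal.Quotient.mkₐ R I) with hJB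
  have hJB2 : JB ^ 2 = ⊥ := by
    rw [hJB, ← Ideal.map_pow, hJ, Ideal.map_bot]
  let e := DoubleQuot.quotQuotEquivQuotOfLEₐ R hIJ
  have he : ∀ a : A, e (Ideal.Quotient.mk JB (Ideal.Quotient.mk I a)) = Ideal.Quotient.mk J a :=
    fun a => rfl
  haveI : Nontrivial ((A ⧸ I) ⧸ JB) := e.toRingEquiv.toRingHom.domain_nontrivial
  haveI : IsLocalRing ((A ⧸ I) ⧸ JB) :=
    IsLocalRing.of_surjective' (Ideal.Quotient.mk JB) Ideal.Quotient.mk_surjective
  let ψB : S →ₐ[R] (A ⧸ I) ⧸ JB := (e.symm : (A ⧸ J) →ₐ[R] (A ⧸ I) ⧸ JB).comp ψ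
  have hψB : Function.Surjective ψB := e.symm.surjective.comp hψ
  haveI : IsLocalHom ψB.toRingHom := IsLocalHom.of_surjective _ hψB
  have hbij : Function.Bijective (ResidueField.map ψB.toRingHom) := by
    refine ⟨(ResidueField.map ψB.toRingHom).injective, ?_⟩
    intro y
    obtain ⟨y, rfl⟩ := IsLocalRing.residue_surjective y
    obtain ⟨s, rfl⟩ := hψB y
    exact ⟨IsLocalRing.residue S s, rfl⟩
  -- `A/J` is Artinian
  haveI : IsNoetherianRing (A ⧸ J) := isNoetherianRing_of_surjective S (A ⧸ J) ψ.toRingHom hψ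
  haveI : IsArtinianRing (A ⧸ J) := by
    rw [isArtinianRing_iff_isNilpotent_maximalIdeal]
    refine ⟨N, ?_⟩
    rw [Ideal.zero_eq_bot, eq_bot_iff]
    have h2 : maximalIdeal (A ⧸ J) ≤ (maximalIdeal A).map (Ideal.Quotient.mk J) := by
      intro y hy
      obtain ⟨a, rfl⟩ := Ideal.Quotient.mk_surjective y
      refine Ideal.mem_map_of_mem _ ?_
      rw [mem_maximalIdeal, mem_nonunits_iff]
      intro hu
      exact hy (hu.map _)
    refine (Ideal.pow_right_mono h2 N).trans ?_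
    rw [← Ideal.map_pow, hN, Ideal.map_bot]
  haveI : IsArtinianRing ((A ⧸ I) ⧸ JB) :=
    (e.symm.toRingEquiv.surjective).isArtinianRing (f := e.symm.toRingEquiv.toRingHom)
  -- `JB` is a simple module
  obtain ⟨j0, hj0⟩ : ∃ j0 : J, φ j0 ≠ 0 := by
    by_contra h
    exact hφ (LinearMap.ext fun j => by_contra fun hj => h ⟨j, hj⟩)
  have hmemJB : ∀ y ∈ JB, ∃ j : J, Ideal.Quotient.mk I (j : A) = y := by
    intro y hy
    rw [hJB] at hy
    obtain ⟨a, ha, rfl⟩ := (Ideal.mem_map_iff_of_surjective (Ideal.Quotient.mkₐ R I)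
      (Ideal.Quotient.mkₐ_surjective R I)).mp hy
    exact ⟨⟨a, ha⟩, rfl⟩
  have hmk0 : ∀ j : J, Ideal.Quotient.mk I (j : A) = 0 ↔ φ j = 0 := by
    intro j
    rw [Ideal.Quotient.eq_zero_iff_mem, hI, mem_kerIdeal]
  have hsimple : IsSimpleModule (A ⧸ I) JB := by
    rw [isSimpleModule_iff_toSpanSingleton_surjective]
    constructor
    · refine ⟨⟨⟨Ideal.Quotient.mk I (j0 : A), Ideal.mem_map_of_mem _ j0.2⟩, 0, ?_⟩⟩
      intro h
      have := congrArg Subtype.val h
      exact hj0 ((hmk0 j0).mp this)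
    · intro x hx y
      obtain ⟨j, hj⟩ := hmemJB x.1 x.2
      obtain ⟨j', hj'⟩ := hmemJB y.1 y.2
      have hφj : φ j ≠ 0 := by
        intro h
        apply hx
        apply Subtype.ext
        rw [← hj]
        exact (hmk0 j).mpr h
      obtain ⟨a, ha⟩ := IsLocalRing.residue_surjective (φ j' / φ j)
      refine ⟨Ideal.Quotient.mk I a, ?_⟩
      apply Subtype.ext
      simp only [LinearMap.toSpanSingleton_apply, Submodule.coe_smul, smul_eq_mul]
      rw [← hj, ← hj', ← map_mul, ← sub_eq_zero, ← map_sub]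
      have : a * (j : A) - (j' : A) = ((a • j - j' : J) : A) := by
        simp
      rw [this, hmk0, map_sub, map_smul, Algebra.smul_def]
      change IsLocalRing.residue A a * φ j - φ j' = 0
      rw [ha, div_mul_cancel₀ _ hφj, sub_self]
  have hlen : Module.length (A ⧸ I) JB = 1 := Module.length_eq_one_iff.mpr hsimple
  -- `A/I` is Artinian
  haveI : IsArtinianRing (A ⧸ I) := by
    haveI : IsArtinian (A ⧸ I) JB := by
      have : Module.length (A ⧸ I) JB ≠ ⊤ := by rw [hlen]; simp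
      rw [Module.length_ne_top_iff, isFiniteLength_iff_isNoetherian_isArtinian] at this
      exact this.2
    haveI : IsArtinian (A ⧸ I) ((A ⧸ I) ⧸ JB) :=
      isArtinian_of_surjective_algebraMap (R := (A ⧸ I) ⧸ JB) (S := A ⧸ I)
        Ideal.Quotient.mk_surjective
    exact isArtinian_of_range_eq_ker JB.subtype JB.mkQ (by
      rw [Submodule.range_subtype, Submodule.ker_mkQ])
  obtain ⟨χ, hχ⟩ := hSL (A ⧸ I) JB hJB2 hlen ψB hbij
  refine ⟨χ, fun s => ?_⟩
  have h1 : Ideal.Quotient.mk JB (χ s) = ψB s := by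
    rw [← hχ]; rfl
  obtain ⟨a, ha⟩ := Ideal.Quotient.mk_surjective (χ s)
  rw [← ha, Ideal.Quotient.factor_mk, ← he, ha, h1]
  exact e.apply_symm_apply (ψ s)

/-- the vector space case: `𝔪_A J = 0`, `ψ` surjective -/
lemma vec_case (hSL : SmallLift R S) (hJ : J ^ 2 = ⊥) (N : ℕ) (hN : maximalIdeal A ^ N = ⊥)
    (hmJ : ∀ a ∈ maximalIdeal A, ∀ j ∈ J, a * j = 0) (ψ : S →ₐ[R] A ⧸ J)
    (hψ : Function.Surjective ψ) :
    ∃ χ : S →ₐ[R] A, (Ideal.Quotient.mkₐ R J).comp χ = ψ := by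
  have hM : ∀ a ∈ maximalIdeal A, ∀ x : J, a • x = 0 := fun a ha x =>
    Subtype.ext (by simpa using hmJ a ha x.1 x.2)
  obtain ⟨ρ, hρ⟩ := exists_retraction (A := A) (M := J) hM
  have hJ0 : ∀ x y : J, (x : A) * (y : A) = 0 := by
    intro x y
    have : (x : A) * (y : A) ∈ J ^ 2 := by
      rw [sq]; exact Ideal.mul_mem_mul x.2 y.2
    rwa [hJ, Ideal.mem_bot] at this
  have hstep : ∀ φ : {φ : J →ₗ[A] ResidueField A // φ ≠ 0},
      ∃ χ : S →ₐ[R] A ⧸ kerIdeal J φ.1,
        ∀ s, Ideal.Quotient.factor (kerIdeal_le J φ.1) (χ s) = ψ s :=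
    fun φ => small_step J hSL hJ N hN ψ hψ φ.1 φ.2
  choose χΦ hχΦ using hstep
  have ha : ∀ s, ∃ a : A, Ideal.Quotient.mk J a = ψ s := fun s => Ideal.Quotient.mk_surjective _
  choose a ha using ha
  have hj : ∀ (φ : {φ : J →ₗ[A] ResidueField A // φ ≠ 0}) (s : S),
      ∃ j : J, Ideal.Quotient.mk (kerIdeal J φ.1) (a s + j) = χΦ φ s := by
    intro φ s
    obtain ⟨b, hb⟩ := Ideal.Quotient.mk_surjective (χΦ φ s)
    have h1 : Ideal.Quotient.mk J b = ψ s := by
      rw [← hχΦ φ s, ← hb, Ideal.Quotient.factor_mk]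
    have h2 : b - a s ∈ J := by
      rw [← Ideal.Quotient.eq, h1, ha]
    refine ⟨⟨b - a s, h2⟩, ?_⟩
    rw [← hb]
    congr 1
    simp
  choose jj hjj using hj
  let D : S → ({φ : J →ₗ[A] ResidueField A // φ ≠ 0} → ResidueField A) := fun s φ => φ.1 (jj φ s)
  let χfun : S → A := fun s => a s + (ρ (D s) : A)
  have KL : ∀ (s : S) (b : A) (i : {φ : J →ₗ[A] ResidueField A // φ ≠ 0} → J),
      Ideal.Quotient.mk J b = ψ s →
      (∀ φ, Ideal.Quotient.mk (kerIdeal J φ.1) (b + i φ) = χΦ φ s) →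
      χfun s = b + (ρ (fun φ => φ.1 (i φ)) : A) := by
    intro s b i hb hi
    have h0 : b - a s ∈ J := by rw [← Ideal.Quotient.eq, hb, ha]
    let j0 : J := ⟨b - a s, h0⟩
    have hD : D s = (fun φ => φ.1 (i φ)) + (fun φ => φ.1 j0) := by
      funext φ
      have h1 : ((i φ + j0 - jj φ s : J) : A) ∈ kerIdeal J φ.1 := by
        have : ((i φ + j0 - jj φ s : J) : A) = (b + i φ) - (a s + jj φ s) := by
          simp only [Submodule.coe_sub, Submodule.coe_add, j0]; ring
        rw [this, ← Ideal.Quotient.eq, hi, hjj]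
      rw [mem_kerIdeal, map_sub, map_add, sub_eq_zero] at h1
      simp only [Pi.add_apply, D]
      rw [← h1]
    simp only [χfun]
    rw [hD, map_add, hρ]
    simp only [Submodule.coe_add, j0]
    ring
  have hρ0 : ρ (fun _ => 0) = 0 := map_zero ρ
  have hχmk : ∀ s, Ideal.Quotient.mk J (χfun s) = ψ s := by
    intro s
    simp only [χfun, map_add]
    rw [ha, Ideal.Quotient.eq_zero_iff_mem.mpr (ρ (D s)).2, add_zero]
  have h_one : χfun 1 = 1 := by
    rw [KL 1 1 (fun _ => 0) (by rw [map_one, map_one]) (fun φ => by simp)]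
    simp [hρ0]
  have h_mul : ∀ s t, χfun (s * t) = χfun s * χfun t := by
    intro s t
    rw [KL (s * t) (a s * a t) (fun φ => a s • jj φ t + a t • jj φ s)
      (by rw [map_mul, map_mul, ha, ha]) (fun φ => ?_)]
    · have : (fun φ : {φ : J →ₗ[A] ResidueField A // φ ≠ 0} =>
          φ.1 (a s • jj φ t + a t • jj φ s)) = a s • D t + a t • D s := by
        funext φ
        simp [D]
      rw [this, map_add, map_smul, map_smul]
      simp only [χfun, Submodule.coe_add, Submodule.coe_smul, smul_eq_mul]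
      have := hJ0 (ρ (D s)) (ρ (D t))
      linear_combination (-1 : A) * this
    · rw [map_mul, ← hjj, ← hjj, ← map_mul]
      congr 1
      simp only [Submodule.coe_add, Submodule.coe_smul, smul_eq_mul]
      have := hJ0 (jj φ s) (jj φ t)
      linear_combination (-1 : A) * this
  have h_zero : χfun 0 = 0 := by
    rw [KL 0 0 (fun _ => 0) (by rw [map_zero, map_zero]) (fun φ => by simp)]
    simp [hρ0]
  have h_add : ∀ s t, χfun (s + t) = χfun s + χfun t := by
    intro s t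
    rw [KL (s + t) (a s + a t) (fun φ => jj φ s + jj φ t)
      (by rw [map_add, map_add, ha, ha]) (fun φ => ?_)]
    · have : (fun φ : {φ : J →ₗ[A] ResidueField A // φ ≠ 0} =>
          φ.1 (jj φ s + jj φ t)) = D s + D t := by
        funext φ
        simp [D]
      rw [this, map_add]
      simp only [χfun, Submodule.coe_add]
      ring
    · rw [map_add (χΦ φ), ← hjj, ← hjj, ← map_add]
      congr 1
      simp only [Submodule.coe_add]
      ring
  have h_comm : ∀ r : R, χfun (algebraMap R S r) = algebraMap R A r := by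
    intro r
    rw [KL (algebraMap R S r) (algebraMap R A r) (fun _ => 0)
      (by rw [AlgHom.commutes]; rfl) (fun φ => by simp)]
    simp [hρ0]
  refine ⟨{ toFun := χfun
            map_one' := h_one
            map_mul' := h_mul
            map_zero' := h_zero
            map_add' := h_add
            commutes' := h_comm }, ?_⟩
  ext s
  exact hχmk s

end step

section general
variable {R S : Type u} [CommRing R] [CommRing S] [IsLocalRing R] [IsLocalRing S]
  [Algebra R S] [IsLocalHom (algebraMap R S)] [IsNoetherianRing S]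

/-- the case `𝔪_S J = 0` for an arbitrary test algebra -/
lemma step_one (hSL : SmallLift R S) (A : Type u) [CommRing A] [Algebra R A] (J : Ideal A)
    (hJ : J ^ 2 = ⊥) (ψ : S →ₐ[R] A ⧸ J) (k : ℕ) (hk : ∀ x ∈ maximalIdeal S ^ k, ψ x = 0)
    (hann : ∀ s ∈ maximalIdeal S, ∀ a : A, Ideal.Quotient.mk J a = ψ s → ∀ j ∈ J, a * j = 0) :
    ∃ χ : S →ₐ[R] A, (Ideal.Quotient.mkₐ R J).comp χ = ψ := by
  by_cases hne : J = ⊤
  · exact exists_lift_of_eq_top J ψ hJ hne
  haveI := sub_isLocalRing J ψ hJ hne k hk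
  haveI := sub_isLocalHom (R := R) J ψ hJ hne k hk
  obtain ⟨ψ', hψ'⟩ := exists_factor J ψ
  have hsurj := factor_surjective J ψ ψ' hψ'
  have hmJ : ∀ a ∈ maximalIdeal (sub J ψ), ∀ j ∈ subIdeal J ψ, a * j = 0 := by
    intro a ha j hj
    obtain ⟨s, hs⟩ := (mem_sub J ψ).mp a.2
    have hsm : s ∈ maximalIdeal S := (sub_mem_maximalIdeal_iff J ψ hJ hne k hk a s hs).mp ha
    apply Subtype.ext
    exact hann s hsm (a : A) hs.symm (j : A) hj
  obtain ⟨χ', hχ'⟩ := vec_case (subIdeal J ψ) hSL (subIdeal_sq J ψ hJ) (k * 2)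
    (sub_maximalIdeal_pow_eq_bot J ψ hJ hne k hk) hmJ ψ' hsurj
  exact ⟨(sub J ψ).val.comp χ', lift_of_lift J ψ ψ' hψ' χ' hχ'⟩

lemma step_n (hSL : SmallLift R S) : ∀ (n : ℕ) (A : Type u) [CommRing A] [Algebra R A]
    (J : Ideal A), J ^ 2 = ⊥ → ∀ (ψ : S →ₐ[R] A ⧸ J) (k : ℕ),
    (∀ x ∈ maximalIdeal S ^ k, ψ x = 0) →
    (∀ s ∈ maximalIdeal S ^ n, ∀ a : A, Ideal.Quotient.mk J a = ψ s → ∀ j ∈ J, a * j = 0) →
    ∃ χ : S →ₐ[R] A, (Ideal.Quotient.mkₐ R J).comp χ = ψ := by
  intro n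
  induction n with
  | zero =>
    intro A _ _ J hJ ψ k hk hann
    exact step_one hSL A J hJ ψ k hk (fun s _ => hann s (by simp))
  | succ n ih =>
    intro A _ _ J hJ ψ k hk hann
    let J₁ : Ideal A := Ideal.span {x | ∃ s ∈ maximalIdeal S ^ n, ∃ a : A,
      Ideal.Quotient.mk J a = ψ s ∧ ∃ j ∈ J, x = a * j}
    have hle : J₁ ≤ J := by
      rw [Ideal.span_le]
      rintro _ ⟨s, _, a, _, j, hj, rfl⟩
      exact J.mul_mem_left a hj
    have hJ₁ : J₁ ^ 2 = ⊥ := by
      rw [eq_bot_iff, ← hJ]; exact Ideal.pow_right_mono hle 2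
    set JB : Ideal (A ⧸ J₁) := J.map (Ideal.Quotient.mkₐ R J₁) with hJB
    have hJB2 : JB ^ 2 = ⊥ := by
      rw [hJB, ← Ideal.map_pow, hJ, Ideal.map_bot]
    let e := DoubleQuot.quotQuotEquivQuotOfLEₐ R hle
    have he : ∀ a : A, e (Ideal.Quotient.mk JB (Ideal.Quotient.mk J₁ a)) = Ideal.Quotient.mk J a :=
      fun a => rfl
    let ψB : S →ₐ[R] (A ⧸ J₁) ⧸ JB := (e.symm : (A ⧸ J) →ₐ[R] (A ⧸ J₁) ⧸ JB).comp ψ
    have heψB : ∀ s, e (ψB s) = ψ s := fun s => e.apply_symm_apply (ψ s)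
    have hkB : ∀ x ∈ maximalIdeal S ^ k, ψB x = 0 := by
      intro x hx
      change e.symm (ψ x) = 0
      rw [hk x hx, map_zero]
    have hannB : ∀ s ∈ maximalIdeal S ^ n, ∀ a : A ⧸ J₁, Ideal.Quotient.mk JB a = ψB s →
        ∀ j ∈ JB, a * j = 0 := by
      intro s hs a ha j hj
      obtain ⟨a, rfl⟩ := Ideal.Quotient.mk_surjective a
      rw [hJB] at hj
      obtain ⟨j', hj', rfl⟩ := (Ideal.mem_map_iff_of_surjective (Ideal.Quotient.mkₐ R J₁)
        (Ideal.Quotient.mkₐ_surjective R J₁)).mp hj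
      have ha' : Ideal.Quotient.mk J a = ψ s := by
        rw [← he, ha, heψB]
      change Ideal.Quotient.mk J₁ a * Ideal.Quotient.mk J₁ j' = 0
      rw [← map_mul, Ideal.Quotient.eq_zero_iff_mem]
      exact Ideal.subset_span ⟨s, hs, a, ha', j', hj', rfl⟩
    obtain ⟨χB, hχB⟩ := ih (A ⧸ J₁) JB hJB2 ψB k hkB hannB
    have hχB' : ∀ s, Ideal.Quotient.mk JB (χB s) = ψB s := fun s => by
      rw [← hχB]; rfl
    -- `χB` kills `𝔪^(k*2)`
    have hk2 : ∀ x ∈ maximalIdeal S ^ (k * 2), χB x = 0 := by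
      have h1 : (maximalIdeal S ^ k).map χB.toRingHom ≤ JB := by
        rw [Ideal.map_le_iff_le_comap]
        intro x hx
        rw [Ideal.mem_comap, ← Ideal.Quotient.eq_zero_iff_mem]
        change Ideal.Quotient.mk JB (χB x) = 0
        rw [hχB', hkB x hx]
      intro x hx
      have h2 : χB.toRingHom x ∈ (maximalIdeal S ^ (k * 2)).map χB.toRingHom :=
        Ideal.mem_map_of_mem _ hx
      rw [pow_mul, Ideal.map_pow] at h2
      have h3 := Ideal.pow_right_mono h1 2 h2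
      rw [hJB2, Ideal.mem_bot] at h3
      exact h3
    have hmkJ : ∀ (t : S) (b : A), Ideal.Quotient.mk J₁ b = χB t → Ideal.Quotient.mk J b = ψ t := by
      intro t b hb
      rw [← he, hb, hχB', heψB]
    have hann1 : ∀ t ∈ maximalIdeal S, ∀ b : A, Ideal.Quotient.mk J₁ b = χB t →
        ∀ j ∈ J₁, b * j = 0 := by
      intro t ht b hb j hj
      have hbt := hmkJ t b hb
      induction hj using Submodule.span_induction with
      | mem x hx =>
        obtain ⟨s, hs, a, ha, j, hj, rfl⟩ := hx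
        rw [← mul_assoc]
        refine hann (t * s) ?_ (b * a) ?_ j hj
        · rw [pow_succ']; exact Ideal.mul_mem_mul ht hs
        · rw [map_mul, map_mul, hbt, ha]
      | zero => simp
      | add x y _ _ hx hy => rw [mul_add, hx, hy, add_zero]
      | smul c x _ hx => rw [smul_eq_mul, mul_left_comm, hx, mul_zero]
    obtain ⟨χ, hχ⟩ := step_one hSL A J₁ hJ₁ χB (k * 2) hk2 hann1
    refine ⟨χ, ?_⟩
    ext s
    have : Ideal.Quotient.mk J₁ (χ s) = χB s := by
      rw [← hχ]; rfl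
    exact hmkJ s (χ s) this

/-- Lifts along small extensions give formal smoothness for the `𝔪_S`-adic topology. -/
theorem formallySmooth_of_smallLift (hSL : SmallLift R S) :
    ∀ (A : Type u) [CommRing A] [Algebra R A] (J : Ideal A), J ^ 2 = ⊥ →
      ∀ ψ : S →ₐ[R] A ⧸ J, (∃ k : ℕ, ∀ x ∈ maximalIdeal S ^ k, ψ x = 0) →
        ∃ χ : S →ₐ[R] A, (Ideal.Quotient.mkₐ R J).comp χ = ψ := by
  intro A _ _ J hJ ψ hk
  obtain ⟨k, hk⟩ := hk
  refine step_n hSL k A J hJ ψ k hk ?_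
  intro s hs a ha j hj
  have haJ : a ∈ J := by
    rw [← Ideal.Quotient.eq_zero_iff_mem, ha, hk s hs]
  have : a * j ∈ J ^ 2 := by
    rw [sq]; exact Ideal.mul_mem_mul haJ hj
  rwa [hJ, Ideal.mem_bot] at this

end general

section nilp
variable {R S : Type u} [CommRing R] [CommRing S] [Algebra R S] (𝔫 : Ideal S)

/-- Lifting against square-zero ideals (with continuity for the `𝔫`-adic topology) implies lifting
against nilpotent ideals. -/
theorem lift_of_nilpotent
    (hsq : ∀ (C : Type u) [CommRing C] [Algebra R C] (J : Ideal C), J ^ 2 = ⊥ →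
      ∀ u : S →ₐ[R] C ⧸ J, (∃ k : ℕ, ∀ x ∈ 𝔫 ^ k, u x = 0) →
        ∃ v : S →ₐ[R] C, (Ideal.Quotient.mkₐ R J).comp v = u) :
    ∀ (n : ℕ) (C : Type u) [CommRing C] [Algebra R C] (J : Ideal C), J ^ n = ⊥ →
      ∀ u : S →ₐ[R] C ⧸ J, (∃ k : ℕ, ∀ x ∈ 𝔫 ^ k, u x = 0) →
        ∃ v : S →ₐ[R] C, (Ideal.Quotient.mkₐ R J).comp v = u := by
  intro n
  induction n with
  | zero =>
    intro C _ _ J hJ u hk
    have h1 : (1 : C) ∈ (⊥ : Ideal C) := by
      rw [← hJ, pow_zero, Ideal.one_eq_top]; exact Submodule.mem_top (R := C) (M := C)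
    have hC : Subsingleton C := subsingleton_of_zero_eq_one ((Ideal.mem_bot.mp h1).symm)
    exact hsq C J (Subsingleton.elim _ _) u hk
  | succ n ih =>
    intro C _ _ J hJ u hk
    rcases Nat.eq_zero_or_pos n with hn | hn
    · subst hn
      rw [zero_add, pow_one] at hJ
      exact hsq C J (by rw [hJ]; simp) u hk
    obtain ⟨k, hk⟩ := hk
    let I : Ideal C := J ^ n
    have hle : I ≤ J := Ideal.pow_le_self (Nat.pos_iff_ne_zero.mp hn)
    have hI2 : I ^ 2 = ⊥ := by
      rw [eq_bot_iff, ← hJ, ← pow_mul]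
      exact Ideal.pow_le_pow_right (by omega)
    set JB : Ideal (C ⧸ I) := J.map (Ideal.Quotient.mkₐ R I) with hJB
    have hJBn : JB ^ n = ⊥ := by
      rw [hJB, ← Ideal.map_pow]
      change Ideal.map (Ideal.Quotient.mk I) I = ⊥
      rw [Ideal.map_quotient_self]
    let e := DoubleQuot.quotQuotEquivQuotOfLEₐ R hle
    have he : ∀ a : C, e (Ideal.Quotient.mk JB (Ideal.Quotient.mk I a)) = Ideal.Quotient.mk J a :=
      fun a => rfl
    let uB : S →ₐ[R] (C ⧸ I) ⧸ JB := (e.symm : (C ⧸ J) →ₐ[R] (C ⧸ I) ⧸ JB).comp u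
    have heuB : ∀ s, e (uB s) = u s := fun s => e.apply_symm_apply (u s)
    have hkB : ∀ x ∈ 𝔫 ^ k, uB x = 0 := by
      intro x hx
      change e.symm (u x) = 0
      rw [hk x hx, map_zero]
    obtain ⟨vB, hvB⟩ := ih (C ⧸ I) JB hJBn uB ⟨k, hkB⟩
    have hvB' : ∀ s, Ideal.Quotient.mk JB (vB s) = uB s := fun s => by
      rw [← hvB]; rfl
    have hk2 : ∀ x ∈ 𝔫 ^ (k * n), vB x = 0 := by
      have h1 : (𝔫 ^ k).map vB.toRingHom ≤ JB := by
        rw [Ideal.map_le_iff_le_comap]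
        intro x hx
        rw [Ideal.mem_comap, ← Ideal.Quotient.eq_zero_iff_mem]
        change Ideal.Quotient.mk JB (vB x) = 0
        rw [hvB', hkB x hx]
      intro x hx
      have h2 : vB.toRingHom x ∈ (𝔫 ^ (k * n)).map vB.toRingHom :=
        Ideal.mem_map_of_mem _ hx
      rw [pow_mul, Ideal.map_pow] at h2
      have h3 := Ideal.pow_right_mono h1 n h2
      rw [hJBn, Ideal.mem_bot] at h3
      exact h3
    obtain ⟨v, hv⟩ := hsq C I hI2 vB ⟨k * n, hk2⟩
    refine ⟨v, ?_⟩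
    ext s
    have : Ideal.Quotient.mk I (v s) = vB s := by
      rw [← hv]; rfl
    change Ideal.Quotient.mk J (v s) = u s
    rw [← he, this, hvB', heuB]

end nilp

end Groth.Agent.Lib.Helper2.SmallExt
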