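import Mathlib
import Groth.Prelude.Def_CohTop

/-!
# The long exact cohomology sequence of abelian sheaves, in elementwise form (helper2)
-/

universe u

open CategoryTheory Limits Abelian TopologicalSpace

namespace Groth.Agent.Lib.Helper2.HLes

variable {X : TopCat.{u}} {S : ShortComplex (CohTop.Ab X)} (hS : S.ShortExact)

/-- the connecting map -/
noncomputable abbrev δ (p : ℕ) : CohTop.H S.X₃ p →+ CohTop.H S.X₁ (p + 1) :=
  hS.extClass.postcomp (CohTop.const X (ULift.{u} ℤ)) rfl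

lemma δ_apply (p : ℕ) (x : CohTop.H S.X₃ p) : δ hS p x = x.comp hS.extClass rfl := rfl

lemma exact₁ (p : ℕ) (x₁ : CohTop.H S.X₁ (p + 1)) (h : Sheaf.H.map S.f (p + 1) x₁ = 0) :
    ∃ x₃ : CohTop.H S.X₃ p, δ hS p x₃ = x₁ :=
  Ext.covariant_sequence_exact₁ _ hS x₁ h rfl

include hS in
lemma exact₂ (p : ℕ) (x₂ : CohTop.H S.X₂ p) (h : Sheaf.H.map S.g p x₂ = 0) :
    ∃ x₁ : CohTop.H S.X₁ p, Sheaf.H.map S.f p x₁ = x₂ :=
  Ext.covariant_sequence_exact₂ _ hS x₂ h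

lemma exact₃ (p : ℕ) (x₃ : CohTop.H S.X₃ p) (h : δ hS p x₃ = 0) :
    ∃ x₂ : CohTop.H S.X₂ p, Sheaf.H.map S.g p x₂ = x₃ :=
  Ext.covariant_sequence_exact₃ _ hS x₃ rfl h

lemma δ_map_g (p : ℕ) (x₂ : CohTop.H S.X₂ p) : δ hS p (Sheaf.H.map S.g p x₂) = 0 := by
  change (x₂.comp (Ext.mk₀ S.g) (add_zero p)).comp hS.extClass rfl = 0
  rw [Ext.comp_assoc_of_second_deg_zero, ShortComplex.ShortExact.comp_extClass, Ext.comp_zero]

include hS in
lemma subsingleton_X₂ (p : ℕ) (h₁ : Subsingleton (CohTop.H S.X₁ p))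
    (h₃ : Subsingleton (CohTop.H S.X₃ p)) : Subsingleton (CohTop.H S.X₂ p) := by
  refine ⟨fun a b => ?_⟩
  have key : ∀ x : CohTop.H S.X₂ p, x = 0 := by
    intro x
    obtain ⟨x₁, rfl⟩ := exact₂ hS p x (Subsingleton.elim _ _)
    rw [Subsingleton.elim x₁ 0, map_zero]
  rw [key a, key b]

include hS in
lemma subsingleton_X₃ (p : ℕ) (h₂ : Subsingleton (CohTop.H S.X₂ p))
    (h₁ : Subsingleton (CohTop.H S.X₁ (p + 1))) : Subsingleton (CohTop.H S.X₃ p) := by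
  refine ⟨fun a b => ?_⟩
  have key : ∀ x : CohTop.H S.X₃ p, x = 0 := by
    intro x
    obtain ⟨x₂, rfl⟩ := exact₃ hS p x (Subsingleton.elim _ _)
    rw [Subsingleton.elim x₂ 0, map_zero]
  rw [key a, key b]

end Groth.Agent.Lib.Helper2.HLes
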