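import Mathlib.RingTheory.Flat.Basic
import Mathlib.RingTheory.Flat.Tensor
import Mathlib.LinearAlgebra.TensorProduct.Tower
import Mathlib.LinearAlgebra.TensorProduct.Quotient
import Mathlib.LinearAlgebra.TensorProduct.RightExactness
import Mathlib.RingTheory.Filtration
import Mathlib.RingTheory.LocalRing.ResidueField.Basic
import Mathlib.RingTheory.Ideal.Quotient.Operations
import Mathlib.LinearAlgebra.Basis.VectorSpace
import Mathlib.Algebra.Module.Torsion.Basic

/-!
Helper library (helper2): elementary flatness criteria.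
-/

set_option autoImplicit false

namespace Groth.Agent.Lib.Helper2.FlatCrit

open TensorProduct

section L0

variable {R : Type*} [CommRing R] (k : Type*) [CommRing k] [Algebra R k]
  {N M : Type*} [AddCommGroup N] [Module R N] [AddCommGroup M] [Module R M]
  (V : Type*) [AddCommGroup V] [Module R V] [Module k V] [IsScalarTower R k V] [Module.Flat k V]

/-- If `k ⊗ u` is injective for an `R`-algebra `k`, then `V ⊗ u` is injective for any
flat `k`-module `V`. -/
lemma lTensor_injective_of_field (u : N →ₗ[R] M) (h : Function.Injective (u.lTensor k)) :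
    Function.Injective (u.lTensor V) := by
  have h1 : Function.Injective (AlgebraTensorModule.lTensor k k u) := h
  have h2 : Function.Injective
      (LinearMap.lTensor V (AlgebraTensorModule.lTensor k k u)) :=
    Module.Flat.lTensor_preserves_injective_linearMap (M := V) _ h1
  have hnat := AlgebraTensorModule.lTensor_comp_cancelBaseChange (R := R) (A := k) (B := k)
    (M := V) u
  have hfun : ∀ x, u.lTensor V (AlgebraTensorModule.cancelBaseChange R k k V N x) =
      AlgebraTensorModule.cancelBaseChange R k k V M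
        (LinearMap.lTensor V (AlgebraTensorModule.lTensor k k u) x) := by
    intro x
    exact LinearMap.congr_fun hnat x
  intro a b hab
  obtain ⟨a', rfl⟩ := (AlgebraTensorModule.cancelBaseChange R k k V N).surjective a
  obtain ⟨b', rfl⟩ := (AlgebraTensorModule.cancelBaseChange R k k V N).surjective b
  rw [hfun, hfun] at hab
  have := h2 ((AlgebraTensorModule.cancelBaseChange R k k V M).injective hab)
  rw [this]

end L0

section L1

variable {R : Type*} [CommRing R] (m : Ideal R) [hm : m.IsMaximal]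
  {N M : Type*} [AddCommGroup N] [Module R N] [AddCommGroup M] [Module R M] [Module.Flat R M]

/-- four-lemma type chase: `0 → P' → P → P'' → 0` exact, `M` flat, `u ⊗ P'` and `u ⊗ P''`
injective imply `u ⊗ P` injective. -/
lemma lTensor_injective_of_exact (u : N →ₗ[R] M)
    {P' P P'' : Type*} [AddCommGroup P'] [Module R P'] [AddCommGroup P] [Module R P]
    [AddCommGroup P''] [Module R P''] (i : P' →ₗ[R] P) (p : P →ₗ[R] P'')
    (hi : Function.Injective i) (hex : Function.Exact i p) (hp : Function.Surjective p)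
    (h' : Function.Injective (u.lTensor P')) (h'' : Function.Injective (u.lTensor P'')) :
    Function.Injective (u.lTensor P) := by
  rw [injective_iff_map_eq_zero]
  intro x hx
  have hrowN : Function.Exact (i.rTensor N) (p.rTensor N) := rTensor_exact N hex hp
  have hiM : Function.Injective (i.rTensor M) :=
    Module.Flat.rTensor_preserves_injective_linearMap i hi
  -- image of x in P'' ⊗ N vanishes
  have h1 : p.rTensor N x = 0 := by
    apply h''
    rw [map_zero, ← LinearMap.comp_apply, LinearMap.lTensor_comp_rTensor,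
      ← LinearMap.rTensor_comp_lTensor, LinearMap.comp_apply, hx, map_zero]
  obtain ⟨y, rfl⟩ := (hrowN x).mp h1
  have h2 : u.lTensor P' y = 0 := by
    apply hiM
    rw [map_zero, ← LinearMap.comp_apply, LinearMap.rTensor_comp_lTensor,
      ← LinearMap.lTensor_comp_rTensor, LinearMap.comp_apply]
    exact hx
  have h3 : y = 0 := h' (by rw [h2, map_zero])
  rw [h3, map_zero]

/-- `L1`: if `(R/m) ⊗ u` is injective and `M` is flat, then `P ⊗ u` is injective for every
module `P` killed by a power of `m`. -/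
lemma lTensor_injective_of_pow_smul_eq_bot (u : N →ₗ[R] M)
    (h : Function.Injective (u.lTensor (R ⧸ m))) :
    ∀ (n : ℕ) (P : Type*) [AddCommGroup P] [Module R P],
      (m ^ n • (⊤ : Submodule R P) = ⊥) → Function.Injective (u.lTensor P) := by
  intro n
  induction n with
  | zero =>
    intro P _ _ hP
    have hs : Subsingleton P := by
      rw [pow_zero, Ideal.one_eq_top, Submodule.top_smul] at hP
      exact (Submodule.subsingleton_iff R).mp (subsingleton_of_bot_eq_top hP.symm)
    exact Function.injective_of_subsingleton _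
  | succ n ih =>
    intro P _ _ hP
    let P' : Submodule R P := m • ⊤
    have hP' : m ^ n • (⊤ : Submodule R P') = ⊥ := by
      rw [Submodule.eq_bot_iff]
      intro x hx
      refine Submodule.smul_induction_on hx ?_ ?_
      · intro r hr y _
        apply Subtype.ext
        have h1 : r • (y : P) ∈ m ^ n • (m • (⊤ : Submodule R P)) :=
          Submodule.smul_mem_smul hr y.2
        rw [← Submodule.mul_smul, ← pow_succ, hP] at h1
        simpa using h1
      · intro x y hx hy
        rw [hx, hy, add_zero]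
    have h' : Function.Injective (u.lTensor P') := ih P' hP'
    have hflat : Module.Flat (R ⧸ m) (P ⧸ (m • ⊤ : Submodule R P)) := by
      let _ : Field (R ⧸ m) := Ideal.Quotient.field m
      infer_instance
    have h'' : Function.Injective (u.lTensor (P ⧸ P')) :=
      lTensor_injective_of_field (R ⧸ m) (P ⧸ (m • ⊤ : Submodule R P)) u h
    exact lTensor_injective_of_exact u P'.subtype P'.mkQ P'.injective_subtype
      (LinearMap.exact_subtype_mkQ P') P'.mkQ_surjective h' h''

end L1

section Sep

variable {R S : Type*} [CommRing R] [CommRing S] [Algebra R S]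
  {N : Type*} [AddCommGroup N] [Module R N] [Module S N] [IsScalarTower R S N]

lemma mem_map_smul_top_of_mem_smul_top (𝔞 : Ideal R) {x : N}
    (hx : x ∈ 𝔞 • (⊤ : Submodule R N)) :
    x ∈ (𝔞.map (algebraMap R S)) • (⊤ : Submodule S N) := by
  refine Submodule.smul_induction_on hx ?_ ?_
  · intro r hr y _
    rw [← algebraMap_smul S r y]
    exact Submodule.smul_mem_smul (Ideal.mem_map_of_mem _ hr) Submodule.mem_top
  · intro a b ha hb
    exact add_mem ha hb

lemma mem_smul_top_of_mem_map_smul_top (𝔞 : Ideal R) {x : N}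
    (hx : x ∈ (𝔞.map (algebraMap R S)) • (⊤ : Submodule S N)) :
    x ∈ 𝔞 • (⊤ : Submodule R N) := by
  refine Submodule.smul_induction_on hx ?_ ?_
  · intro s hs y _
    have key : ∀ y : N, s • y ∈ 𝔞 • (⊤ : Submodule R N) := by
      refine Submodule.span_induction (p := fun s _ => ∀ y : N, s • y ∈ 𝔞 • (⊤ : Submodule R N))
        ?_ ?_ ?_ ?_ hs
      · rintro _ ⟨r, hr, rfl⟩ y
        rw [algebraMap_smul]
        exact Submodule.smul_mem_smul hr Submodule.mem_top
      · intro y
        rw [zero_smul]
        exact zero_mem _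
      · intro a b _ _ ha hb y
        rw [add_smul]
        exact add_mem (ha y) (hb y)
      · intro c a _ ha y
        rw [smul_eq_mul, mul_comm, mul_smul]
        exact ha (c • y)
    exact key y
  · intro a b ha hb
    exact add_mem ha hb

variable [IsNoetherianRing S] [Module.Finite S N]

/-- Separatedness: an element lying in `(I + 𝔞^n) N` for all `n` lies in `I N`, if `𝔞 S` is
contained in the Jacobson radical of the Noetherian ring `S` and `N` is finite over `S`. -/
lemma mem_smul_top_of_forall_mem_sup_pow (𝔞 I : Ideal R)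
    (h𝔞 : 𝔞.map (algebraMap R S) ≤ Ideal.jacobson ⊥) {ν : N}
    (hν : ∀ n : ℕ, ν ∈ (I ⊔ 𝔞 ^ n) • (⊤ : Submodule R N)) :
    ν ∈ I • (⊤ : Submodule R N) := by
  set 𝔟 : Ideal S := 𝔞.map (algebraMap R S)
  set K : Submodule S N := (I.map (algebraMap R S)) • ⊤
  have hkrull : (⨅ i : ℕ, 𝔟 ^ i • ⊤ : Submodule S (N ⧸ K)) = ⊥ :=
    Ideal.iInf_pow_smul_eq_bot_of_le_jacobson 𝔟 h𝔞
  have hmem : K.mkQ ν ∈ (⨅ i : ℕ, 𝔟 ^ i • ⊤ : Submodule S (N ⧸ K)) := by
    rw [Submodule.mem_iInf]
    intro n
    have h1 := mem_map_smul_top_of_mem_smul_top (S := S) (I ⊔ 𝔞 ^ n) (hν n)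
    rw [Ideal.map_sup, Ideal.map_pow, Submodule.sup_smul] at h1
    obtain ⟨a, ha, b, hb, rfl⟩ := Submodule.mem_sup.mp h1
    rw [map_add]
    have ha0 : K.mkQ a = 0 := (Submodule.Quotient.mk_eq_zero K).mpr ha
    rw [ha0, zero_add]
    have hb' : K.mkQ b ∈ (𝔟 ^ n • (⊤ : Submodule S N)).map K.mkQ := Submodule.mem_map_of_mem hb
    rw [Submodule.map_smul''] at hb'
    exact Submodule.smul_mono le_rfl le_top hb'
  rw [hkrull, Submodule.mem_bot] at hmem
  have : ν ∈ K := (Submodule.Quotient.mk_eq_zero K).mp hmem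
  exact mem_smul_top_of_mem_map_smul_top I this

end Sep

section L2

variable {R S : Type*} [CommRing R] [CommRing S] [Algebra R S] [IsNoetherianRing S]
  (m : Ideal R) [m.IsMaximal]
  {M N : Type*} [AddCommGroup M] [Module R M] [Module.Flat R M]
  [AddCommGroup N] [Module R N] [Module S N] [IsScalarTower R S N] [Module.Finite S N]

lemma exists_eq_one_tmul (I : Ideal R) (x : (R ⧸ I) ⊗[R] N) :
    ∃ ν : N, x = (1 : R ⧸ I) ⊗ₜ[R] ν := by
  obtain ⟨ν, hν⟩ := Submodule.mkQ_surjective _ (quotTensorEquivQuotSMul N I x)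
  refine ⟨ν, ?_⟩
  apply (quotTensorEquivQuotSMul N I).injective
  rw [quotTensorEquivQuotSMul_mk_one_tmul]
  exact hν.symm

lemma one_tmul_eq_zero_iff (I : Ideal R) (ν : N) :
    (1 : R ⧸ I) ⊗ₜ[R] ν = 0 ↔ ν ∈ I • (⊤ : Submodule R N) := by
  rw [← (quotTensorEquivQuotSMul N I).map_eq_zero_iff, quotTensorEquivQuotSMul_mk_one_tmul,
    Submodule.Quotient.mk_eq_zero]

/-- `L2` (Stacks 00ME, first half, generalised to all ideals): if `M` is `R`-flat, `N` is finite
over a Noetherian `R`-algebra `S` with `m S` in the Jacobson radical, and `u ⊗ R/m` is injective,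
then `u ⊗ R/I` is injective for every ideal `I`. -/
theorem lTensor_quotient_injective (hJ : m.map (algebraMap R S) ≤ Ideal.jacobson ⊥)
    (u : N →ₗ[R] M) (h : Function.Injective (u.lTensor (R ⧸ m))) (I : Ideal R) :
    Function.Injective (u.lTensor (R ⧸ I)) := by
  rw [injective_iff_map_eq_zero]
  intro x hx
  obtain ⟨ν, rfl⟩ := exists_eq_one_tmul I x
  rw [LinearMap.lTensor_tmul] at hx
  rw [one_tmul_eq_zero_iff]
  apply mem_smul_top_of_forall_mem_sup_pow (S := S) m I hJ
  intro n
  have hIJ : I ≤ I ⊔ m ^ n := le_sup_left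
  let π : R ⧸ I →ₗ[R] R ⧸ (I ⊔ m ^ n) := (Ideal.Quotient.factorₐ R hIJ).toLinearMap
  have hπ : π 1 = 1 := map_one (Ideal.Quotient.factorₐ R hIJ)
  have h1 : u.lTensor (R ⧸ (I ⊔ m ^ n)) ((1 : R ⧸ (I ⊔ m ^ n)) ⊗ₜ ν) = 0 := by
    have := congrArg (π.rTensor M) hx
    rw [LinearMap.rTensor_tmul, map_zero, hπ] at this
    rw [LinearMap.lTensor_tmul]
    exact this
  have hkill : m ^ n • (⊤ : Submodule R (R ⧸ (I ⊔ m ^ n))) = ⊥ := by
    rw [Submodule.eq_bot_iff]
    intro y hy
    refine Submodule.smul_induction_on hy ?_ ?_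
    · intro r hr z _
      obtain ⟨a, rfl⟩ := Ideal.Quotient.mk_surjective z
      rw [Algebra.smul_def, Ideal.Quotient.algebraMap_eq, ← map_mul,
        Ideal.Quotient.eq_zero_iff_mem]
      exact Ideal.mul_mem_right _ _ (le_sup_right (a := I) hr)
    · intro a b ha hb
      rw [ha, hb, add_zero]
  have h2 := lTensor_injective_of_pow_smul_eq_bot m u h n (R ⧸ (I ⊔ m ^ n)) hkill
  have h3 : (1 : R ⧸ (I ⊔ m ^ n)) ⊗ₜ[R] ν = 0 := h2 (by rw [h1, map_zero])
  exact (one_tmul_eq_zero_iff _ ν).mp h3

end L2

section Coker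

universe u

/-- If `0 → M₁ → M₂ → M₃ → 0` is exact with `M₂` flat and `f ⊗ R/I` injective for all finitely
generated ideals `I`, then `M₃` is flat. -/
lemma flat_coker {R : Type u} [CommRing R] {M₁ M₂ M₃ : Type u} [AddCommGroup M₁] [Module R M₁]
    [AddCommGroup M₂] [Module R M₂] [AddCommGroup M₃] [Module R M₃] (f : M₁ →ₗ[R] M₂)
    (g : M₂ →ₗ[R] M₃) (hexact : Function.Exact f g) (hg : Function.Surjective g)
    [Module.Flat R M₂]
    (hQ : ∀ I : Ideal R, I.FG → Function.Injective (f.rTensor (R ⧸ I))) : Module.Flat R M₃ := by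
  rw [Module.Flat.iff_lTensor_injective]
  intro I hI
  rw [injective_iff_map_eq_zero]
  intro ξ hξ
  have hι₂ : Function.Injective (I.subtype.lTensor M₂) :=
    Module.Flat.iff_lTensor_injective.mp inferInstance hI
  have hrow : ∀ (X : Type u) [AddCommGroup X] [Module R X],
      Function.Exact (I.subtype.lTensor X) ((Submodule.mkQ I).lTensor X) := fun X _ _ =>
    lTensor_exact X (LinearMap.exact_subtype_mkQ I) (Submodule.mkQ_surjective I)
  have hcol : ∀ (P : Type u) [AddCommGroup P] [Module R P],
      Function.Exact (f.rTensor P) (g.rTensor P) := fun P _ _ => rTensor_exact P hexact hg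
  obtain ⟨ζ, rfl⟩ := LinearMap.rTensor_surjective I hg ξ
  have h2 : g.rTensor R (I.subtype.lTensor M₂ ζ) = 0 := by
    rw [← LinearMap.comp_apply, LinearMap.rTensor_comp_lTensor, ← LinearMap.lTensor_comp_rTensor,
      LinearMap.comp_apply]
    exact hξ
  obtain ⟨μ, hμ⟩ := (hcol R _).mp h2
  have h3 : (Submodule.mkQ I).lTensor M₁ μ = 0 := by
    apply hQ I hI
    rw [map_zero, ← LinearMap.comp_apply, LinearMap.rTensor_comp_lTensor,
      ← LinearMap.lTensor_comp_rTensor, LinearMap.comp_apply, hμ]
    exact (hrow M₂).apply_apply_eq_zero ζ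
  obtain ⟨ν, rfl⟩ := (hrow M₁ _).mp h3
  have h4 : f.rTensor I ν = ζ := by
    apply hι₂
    rw [← hμ, ← LinearMap.comp_apply, LinearMap.lTensor_comp_rTensor,
      ← LinearMap.rTensor_comp_lTensor, LinearMap.comp_apply]
  rw [← h4]
  exact (hcol I).apply_apply_eq_zero ν

variable {R S : Type u} [CommRing R] [CommRing S] [Algebra R S] [IsNoetherianRing S]
  (m : Ideal R) [m.IsMaximal]
  {M N : Type u} [AddCommGroup M] [Module R M] [Module.Flat R M]
  [AddCommGroup N] [Module R N] [Module S N] [IsScalarTower R S N] [Module.Finite S N]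

/-- Stacks 00ME. -/
theorem injective_and_flat_coker (hJ : m.map (algebraMap R S) ≤ Ideal.jacobson ⊥)
    (u : N →ₗ[R] M) (h : Function.Injective (u.lTensor (R ⧸ m))) :
    Function.Injective u ∧ Module.Flat R (M ⧸ LinearMap.range u) := by
  have key := lTensor_quotient_injective (S := S) m hJ u h
  constructor
  · rw [injective_iff_map_eq_zero]
    intro x hx
    have h1 : u.lTensor (R ⧸ (⊥ : Ideal R)) ((1 : R ⧸ (⊥ : Ideal R)) ⊗ₜ x) = 0 := by
      rw [LinearMap.lTensor_tmul, hx, tmul_zero]
    have h2 : (1 : R ⧸ (⊥ : Ideal R)) ⊗ₜ[R] x = 0 := key ⊥ (by rw [h1, map_zero])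
    have h3 := (one_tmul_eq_zero_iff _ x).mp h2
    rw [Submodule.bot_smul] at h3
    exact h3
  · refine flat_coker u (LinearMap.range u).mkQ (LinearMap.exact_map_mkQ_range u)
      (Submodule.mkQ_surjective _) (fun I _ => ?_)
    exact (LinearMap.lTensor_inj_iff_rTensor_inj _ _).mp (key I)

end Coker

end Groth.Agent.Lib.Helper2.FlatCrit
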