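import Mathlib
import Groth.Agent.Lib.Helper2.LCInj3
import Groth.Agent.Lib.helper11.LCKit3
import Groth.Agent.Lib.helper11.LCAnn2

/-!
# Local cohomology is finitary; vanishing on the ring implies vanishing on all modules
-/

set_option autoImplicit false
universe u

open CategoryTheory CategoryTheory.Limits Abelian

namespace Groth.Agent.Lib.Helper2.LCFin

open Groth.Agent.Lib.helper11.LCKit Groth.Agent.Lib.Helper2.LCInj3

variable {R : Type u} [CommRing R] [IsNoetherianRing R]

/-- classes in `Ext^i(N, M)` (`N` finite over Noetherian `R`) come from finitely generated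
submodules of `M`. -/
theorem ext_finitary (i : ℕ) : ∀ (N : ModuleCat.{u} R) [Module.Finite R N] (M : ModuleCat.{u} R)
    (y : Ext N M i), ∃ (M' : Submodule R M) (_ : M'.FG) (y' : Ext N (ModuleCat.of R M') i),
      y'.comp (Ext.mk₀ (ModuleCat.ofHom M'.subtype)) (add_zero i) = y := by
  induction i with
  | zero =>
    intro N _ M y
    obtain ⟨φ, rfl⟩ := (Ext.mk₀_bijective N M).2 y
    refine ⟨LinearMap.range φ.hom, ?_, Ext.mk₀ (ModuleCat.ofHom φ.hom.rangeRestrict), ?_⟩
    · rw [LinearMap.range_eq_map]
      exact Submodule.FG.map _ Module.Finite.fg_top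
    · rw [Ext.mk₀_comp_mk₀]
      rfl
  | succ n ih =>
    intro N _ M y
    obtain ⟨N', _, _, _, _, f, surjf⟩ := Module.exists_finite_presentation R N
    let exac := LinearMap.shortExact_shortComplexKer surjf
    obtain ⟨z, hz⟩ := precomp_extClass_surjective_of_projective_X₂ M exac n y
    have : Module.Finite R (LinearMap.ker f) := inferInstance
    obtain ⟨M', hM', z', hz'⟩ := ih (ModuleCat.of R (LinearMap.ker f)) M z
    refine ⟨M', hM', exac.extClass.comp z' (add_comm 1 n), ?_⟩
    rw [Ext.comp_assoc _ _ _ (add_comm 1 n) (add_zero n) (by omega), hz']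
    exact hz

/-- classes in `H^i_J(M)` come from finitely generated submodules of `M`. -/
theorem lc_finitary (J : Ideal R) (i : ℕ) (M : ModuleCat.{u} R)
    (ξ : (localCohomology J i).obj M) :
    ∃ (M' : Submodule R M) (_ : M'.FG) (ξ' : (localCohomology J i).obj (ModuleCat.of R M')),
      ((localCohomology J i).map (ModuleCat.ofHom M'.subtype)).hom ξ' = ξ := by
  obtain ⟨k, y, rfl⟩ := exists_rep J i M ξ
  have : Module.Finite R (Q J k) := inferInstanceAs (Module.Finite R (R ⧸ J ^ k))
  obtain ⟨M', hM', y', rfl⟩ := ext_finitary i (Q J k) M y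
  exact ⟨M', hM', ιE J i _ k y', map_ιE J i _ y'⟩

/-- one step of the descending induction. -/
theorem step (J : Ideal R) (i : ℕ) (hR : Subsingleton (LocCoh.H J i R))
    (hnext : ∀ M : ModuleCat.{u} R, Subsingleton ((localCohomology J (i + 1)).obj M))
    (M : ModuleCat.{u} R) : Subsingleton ((localCohomology J i).obj M) := by
  -- finitely generated case
  have hfg : ∀ (P : Type u) [AddCommGroup P] [Module R P] [Module.Finite R P],
      Subsingleton ((localCohomology J i).obj (ModuleCat.of R P)) := by
    intro P _ _ _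
    obtain ⟨n, f, surjf⟩ := Module.Finite.exists_fin' R P
    have exac := LinearMap.shortExact_shortComplexKer surjf
    have hfree : Subsingleton (LocCoh.H J i (Fin n → R)) :=
      Groth.Agent.Lib.helper11.LCAnn.subsingleton_H_of_free J i (Fin n → R) hR
    refine ⟨fun x y => ?_⟩
    have key : ∀ x₃ : (localCohomology J i).obj (ModuleCat.of R P), x₃ = 0 := by
      intro x₃
      have hδ : (δ J i exac).hom x₃ = 0 := (hnext _).elim _ _
      obtain ⟨x₂, rfl⟩ := exact₃ J i exac x₃ hδ
      have : x₂ = 0 := hfree.elim _ _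
      rw [this, map_zero]
    rw [key x, key y]
  refine ⟨fun x y => ?_⟩
  have key : ∀ ξ : (localCohomology J i).obj M, ξ = 0 := by
    intro ξ
    obtain ⟨M', hM', ξ', rfl⟩ := lc_finitary J i M ξ
    have : Module.Finite R M' := Module.Finite.iff_fg.2 hM'
    have : ξ' = 0 := (hfg M').elim _ _
    rw [this, map_zero]
  rw [key x, key y]

/-- vanishing of `H^i_J(R)` above `d` implies vanishing on all modules above `d`. -/
theorem cd_of_ring (J : Ideal R) (d : ℕ) (hR : ∀ i : ℕ, d < i → Subsingleton (LocCoh.H J i R)) :
    Cd J d := by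
  obtain ⟨s, hs⟩ : ∃ s : Finset R, Ideal.span (s : Set R) = J :=
    (IsNoetherian.noetherian J)
  have hc : Cd J s.card := hs ▸ cd_span s
  have main : ∀ j : ℕ, ∀ i : ℕ, d < i → s.card + 1 ≤ i + j →
      ∀ M : ModuleCat.{u} R, Subsingleton ((localCohomology J i).obj M) := by
    intro j
    induction j with
    | zero =>
      intro i _ hi M
      exact hc M i (by omega)
    | succ j ih =>
      intro i hdi hi M
      exact step J i (hR i hdi) (fun M' => ih (i + 1) (by omega) (by omega) M') M
  intro M i hi
  exact main (s.card + 1) i hi (by omega) M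

end Groth.Agent.Lib.Helper2.LCFin
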