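import Mathlib
import Groth.Agent.Lib.Helper2.LCFin

/-!
# Local cohomology commutes with directed colimits
-/

set_option autoImplicit false
universe u

open CategoryTheory CategoryTheory.Limits Abelian

namespace Groth.Agent.Lib.Helper2.LCColim

open Groth.Agent.Lib.helper11.LCKit

variable {R : Type u} [CommRing R]

section Generic

variable {Λ : Type u} [PartialOrder Λ] [IsDirected Λ (· ≤ ·)] [Nonempty Λ]

/-- every element of a directed colimit comes from some stage. -/
theorem exists_rep_colim {K : Λ ⥤ ModuleCat.{u} R} {c : Cocone K} (hc : IsColimit c) (x : c.pt) :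
    ∃ (l : Λ) (y : K.obj l), (c.ι.app l).hom y = x :=
  Concrete.isColimit_exists_rep K hc x

/-- an element dying in a directed colimit dies at some later stage. -/
theorem exists_le_map_eq_zero {K : Λ ⥤ ModuleCat.{u} R} {c : Cocone K} (hc : IsColimit c) (l : Λ)
    (y : K.obj l) (h : (c.ι.app l).hom y = 0) :
    ∃ (m : Λ) (hlm : l ≤ m), (K.map (homOfLE hlm)).hom y = 0 := by
  have h' : (c.ι.app l).hom y = (c.ι.app l).hom 0 := by rw [h, map_zero]
  obtain ⟨k, f, g, hfg⟩ := (Concrete.isColimit_rep_eq_iff_exists K hc y 0).1 h'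
  refine ⟨k, leOfHom f, ?_⟩
  have hf : f = homOfLE (leOfHom f) := Subsingleton.elim _ _
  rw [← hf]
  exact hfg.trans (map_zero _)

/-- a criterion for preservation of directed colimits by an endofunctor of modules. -/
theorem preservesColimitsOfShape_of_elementwise (F : ModuleCat.{u} R ⥤ ModuleCat.{u} R)
    (ha : ∀ (K : Λ ⥤ ModuleCat.{u} R) (c : Cocone K) (_ : IsColimit c) (y : F.obj c.pt),
      ∃ (l : Λ) (y' : F.obj (K.obj l)), (F.map (c.ι.app l)).hom y' = y)
    (hb : ∀ (K : Λ ⥤ ModuleCat.{u} R) (c : Cocone K) (_ : IsColimit c) (l : Λ)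
      (y' : F.obj (K.obj l)), (F.map (c.ι.app l)).hom y' = 0 →
      ∃ (m : Λ) (hlm : l ≤ m), (F.map (K.map (homOfLE hlm))).hom y' = 0) :
    PreservesColimitsOfShape Λ F := by
  constructor
  intro K
  apply preservesColimit_of_preserves_colimit_cocone (colimit.isColimit K)
  apply isColimitOfReflects (forget (ModuleCat.{u} R))
  apply Types.FilteredColimit.isColimitOf
  · intro x
    obtain ⟨l, y', hy'⟩ := ha K _ (colimit.isColimit K) x
    exact ⟨l, y', hy'.symm⟩
  · intro i j xi xj hij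
    obtain ⟨k, hik, hjk⟩ := exists_ge_ge i j
    let xi' : F.obj (K.obj k) := (F.map (K.map (homOfLE hik))).hom xi
    let xj' : F.obj (K.obj k) := (F.map (K.map (homOfLE hjk))).hom xj
    have h1 : (F.map ((colimit.cocone K).ι.app k)).hom (xi' - xj') = 0 := by
      rw [map_sub, sub_eq_zero]
      have e1 : (F.map ((colimit.cocone K).ι.app k)).hom xi' =
          (F.map ((colimit.cocone K).ι.app i)).hom xi := by
        change (F.map _).hom ((F.map _).hom xi) = _
        rw [← LinearMap.comp_apply, ← ModuleCat.hom_comp, ← F.map_comp,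
          (colimit.cocone K).w (homOfLE hik)]
      have e2 : (F.map ((colimit.cocone K).ι.app k)).hom xj' =
          (F.map ((colimit.cocone K).ι.app j)).hom xj := by
        change (F.map _).hom ((F.map _).hom xj) = _
        rw [← LinearMap.comp_apply, ← ModuleCat.hom_comp, ← F.map_comp,
          (colimit.cocone K).w (homOfLE hjk)]
      rw [e1, e2]
      exact hij
    obtain ⟨m, hkm, hm⟩ := hb K _ (colimit.isColimit K) k _ h1
    refine ⟨m, homOfLE (hik.trans hkm), homOfLE (hjk.trans hkm), ?_⟩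
    rw [map_sub, sub_eq_zero] at hm
    have e1 : (F.map (K.map (homOfLE hkm))).hom xi' =
        (F.map (K.map (homOfLE (hik.trans hkm)))).hom xi := by
      change (F.map _).hom ((F.map _).hom xi) = _
      rw [← LinearMap.comp_apply, ← ModuleCat.hom_comp, ← F.map_comp, ← K.map_comp]
      rfl
    have e2 : (F.map (K.map (homOfLE hkm))).hom xj' =
        (F.map (K.map (homOfLE (hjk.trans hkm)))).hom xj := by
      change (F.map _).hom ((F.map _).hom xj) = _
      rw [← LinearMap.comp_apply, ← ModuleCat.hom_comp, ← F.map_comp, ← K.map_comp]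
      rfl
    rw [e1, e2] at hm
    exact hm

end Generic

section Hom

variable [IsNoetherianRing R] {Λ : Type u} [PartialOrder Λ] [IsDirected Λ (· ≤ ·)] [Nonempty Λ]
variable {K : Λ ⥤ ModuleCat.{u} R} {c : Cocone K} (hc : IsColimit c)

include hc in
theorem hom_b (N : ModuleCat.{u} R) [Module.Finite R N] (l : Λ) (φ : N ⟶ K.obj l)
    (h : φ ≫ c.ι.app l = 0) : ∃ (m : Λ) (hlm : l ≤ m), φ ≫ K.map (homOfLE hlm) = 0 := by
  classical
  obtain ⟨s, hs⟩ := (Module.Finite.fg_top : (⊤ : Submodule R N).FG)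
  have h1 : ∀ n ∈ s, ∃ (m : Λ) (hlm : l ≤ m), (K.map (homOfLE hlm)).hom (φ.hom n) = 0 := by
    intro n _
    apply exists_le_map_eq_zero hc
    have := congrArg (fun g => g.hom n) h
    exact this
  choose! mf hmf using h1
  obtain ⟨m, hm⟩ := Finset.exists_le (insert l (s.image mf))
  have hlm : l ≤ m := hm l (Finset.mem_insert_self _ _)
  refine ⟨m, hlm, ?_⟩
  apply ModuleCat.hom_ext
  apply LinearMap.ext_on hs
  intro n hn
  obtain ⟨hln, hn0⟩ := hmf n hn
  have hnm : mf n ≤ m := hm _ (Finset.mem_insert_of_mem (Finset.mem_image_of_mem mf hn))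
  have e : K.map (homOfLE hlm) = K.map (homOfLE hln) ≫ K.map (homOfLE hnm) := by
    rw [← K.map_comp]
    rfl
  change (K.map (homOfLE hlm)).hom (φ.hom n) = 0
  rw [e, ModuleCat.hom_comp, LinearMap.comp_apply, hn0, map_zero]

include hc in
theorem hom_a_free (N' : Type u) [AddCommGroup N'] [Module R N'] [Module.Free R N']
    [Module.Finite R N'] (φ : N' →ₗ[R] c.pt) :
    ∃ (l : Λ) (ψ : N' →ₗ[R] K.obj l), (c.ι.app l).hom ∘ₗ ψ = φ := by
  classical
  let b := Module.Free.chooseBasis R N'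
  have h1 : ∀ j, ∃ (l : Λ) (x : K.obj l), (c.ι.app l).hom x = φ (b j) :=
    fun j => exists_rep_colim hc _
  choose lf xf hxf using h1
  obtain ⟨l, hl⟩ := Finset.exists_le (Finset.univ.image lf)
  have hle : ∀ j, lf j ≤ l := fun j => hl _ (Finset.mem_image_of_mem lf (Finset.mem_univ j))
  refine ⟨l, b.constr R (fun j => (K.map (homOfLE (hle j))).hom (xf j)), ?_⟩
  apply b.ext
  intro j
  rw [LinearMap.comp_apply, Module.Basis.constr_basis, ← hxf j, ← LinearMap.comp_apply,
    ← ModuleCat.hom_comp, c.w]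

include hc in
theorem hom_a (N : ModuleCat.{u} R) [Module.Finite R N] (φ : N ⟶ c.pt) :
    ∃ (l : Λ) (φ' : N ⟶ K.obj l), φ' ≫ c.ι.app l = φ := by
  obtain ⟨N', _, _, _, _, f, surjf⟩ := Module.exists_finite_presentation R N
  obtain ⟨l, ψ, hψ⟩ := hom_a_free hc N' (φ.hom ∘ₗ f)
  -- restrict to the kernel
  let K₁ : ModuleCat.{u} R := ModuleCat.of R (LinearMap.ker f)
  have hfin : Module.Finite R K₁ := inferInstanceAs (Module.Finite R (LinearMap.ker f))
  have hz : ModuleCat.ofHom (ψ ∘ₗ (LinearMap.ker f).subtype) ≫ c.ι.app l = 0 := by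
    apply ModuleCat.hom_ext
    ext x
    change (c.ι.app l).hom (ψ x.1) = 0
    have := congrArg (fun g => g x.1) hψ
    simp only [LinearMap.comp_apply] at this
    rw [this, LinearMap.mem_ker.1 x.2, map_zero]
  obtain ⟨m, hlm, hm⟩ := hom_b hc K₁ l _ hz
  have hker : LinearMap.ker f ≤ LinearMap.ker ((K.map (homOfLE hlm)).hom ∘ₗ ψ) := by
    intro x hx
    rw [LinearMap.mem_ker]
    have := congrArg (fun g => g.hom ⟨x, hx⟩) hm
    exact this
  let φ'₀ : N →ₗ[R] K.obj m :=
    ((LinearMap.ker f).liftQ _ hker) ∘ₗ (f.quotKerEquivOfSurjective surjf).symm.toLinearMap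
  have hφ'₀ : ∀ x : N', φ'₀ (f x) = (K.map (homOfLE hlm)).hom (ψ x) := by
    intro x
    change ((LinearMap.ker f).liftQ _ hker) ((f.quotKerEquivOfSurjective surjf).symm (f x)) = _
    have : (f.quotKerEquivOfSurjective surjf).symm (f x) = Submodule.Quotient.mk x := by
      rw [LinearEquiv.symm_apply_eq]
      rfl
    rw [this]
    rfl
  refine ⟨m, ModuleCat.ofHom φ'₀, ?_⟩
  apply ModuleCat.hom_ext
  ext n
  obtain ⟨x, rfl⟩ := surjf n
  change (c.ι.app m).hom (φ'₀ (f x)) = φ.hom (f x)
  rw [hφ'₀, ← LinearMap.comp_apply, ← ModuleCat.hom_comp, c.w]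
  have := congrArg (fun g => g x) hψ
  exact this

end Hom

section ExtColim

variable [IsNoetherianRing R] {Λ : Type u} [PartialOrder Λ] [IsDirected Λ (· ≤ ·)] [Nonempty Λ]
variable {K : Λ ⥤ ModuleCat.{u} R}

/-- push forward along a transition map. -/
noncomputable def push {N : ModuleCat.{u} R} {i : ℕ} {l m : Λ} (h : l ≤ m)
    (y : Ext N (K.obj l) i) : Ext N (K.obj m) i :=
  y.comp (Ext.mk₀ (K.map (homOfLE h))) (add_zero i)

/-- push forward to the cocone point. -/
noncomputable def pushι (c : Cocone K) {N : ModuleCat.{u} R} {i : ℕ} (l : Λ)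
    (y : Ext N (K.obj l) i) : Ext N c.pt i :=
  y.comp (Ext.mk₀ (c.ι.app l)) (add_zero i)

theorem push_push {N : ModuleCat.{u} R} {i : ℕ} {l m n : Λ} (h : l ≤ m) (h' : m ≤ n)
    (y : Ext N (K.obj l) i) : push h' (push h y) = push (h.trans h') y := by
  unfold push
  rw [Ext.comp_assoc_of_third_deg_zero, Ext.mk₀_comp_mk₀, ← K.map_comp]
  rfl

theorem pushι_push (c : Cocone K) {N : ModuleCat.{u} R} {i : ℕ} {l m : Λ} (h : l ≤ m)
    (y : Ext N (K.obj l) i) : pushι c m (push h y) = pushι c l y := by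
  unfold push pushι
  rw [Ext.comp_assoc_of_third_deg_zero, Ext.mk₀_comp_mk₀, c.w]

theorem push_sub {N : ModuleCat.{u} R} {i : ℕ} {l m : Λ} (h : l ≤ m)
    (y z : Ext N (K.obj l) i) : push h (y - z) = push h y - push h z := by
  unfold push
  rw [sub_eq_add_neg, Ext.add_comp, Ext.neg_comp, ← sub_eq_add_neg]

theorem pushι_sub (c : Cocone K) {N : ModuleCat.{u} R} {i : ℕ} (l : Λ)
    (y z : Ext N (K.obj l) i) : pushι c l (y - z) = pushι c l y - pushι c l z := by
  unfold pushι
  rw [sub_eq_add_neg, Ext.add_comp, Ext.neg_comp, ← sub_eq_add_neg]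

theorem push_zero {N : ModuleCat.{u} R} {i : ℕ} {l m : Λ} (h : l ≤ m) :
    push h (0 : Ext N (K.obj l) i) = 0 := by
  unfold push
  rw [Ext.zero_comp]

theorem comp_push {N N' : ModuleCat.{u} R} {i j k : ℕ} {l m : Λ} (h : l ≤ m)
    (α : Ext N' N j) (y : Ext N (K.obj l) i) (hk : j + i = k) :
    α.comp (push h y) hk = push h (α.comp y hk) := by
  unfold push
  rw [Ext.comp_assoc_of_third_deg_zero]

theorem comp_pushι (c : Cocone K) {N N' : ModuleCat.{u} R} {i j k : ℕ} (l : Λ)
    (α : Ext N' N j) (y : Ext N (K.obj l) i) (hk : j + i = k) :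
    α.comp (pushι c l y) hk = pushι c l (α.comp y hk) := by
  unfold pushι
  rw [Ext.comp_assoc_of_third_deg_zero]

variable {c : Cocone K} (hc : IsColimit c)

include hc in
/-- `Ext^i(N, -)` commutes with directed colimits for finite `N` over a Noetherian ring. -/
theorem ext_colim (i : ℕ) : ∀ (N : ModuleCat.{u} R) [Module.Finite R N],
    (∀ y : Ext N c.pt i, ∃ (l : Λ) (y' : Ext N (K.obj l) i), pushι c l y' = y) ∧
    (∀ (l : Λ) (y' : Ext N (K.obj l) i), pushι c l y' = 0 →
      ∃ (m : Λ) (hlm : l ≤ m), push hlm y' = 0) := by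
  induction i with
  | zero =>
    intro N _
    constructor
    · intro y
      obtain ⟨φ, rfl⟩ := (Ext.mk₀_bijective N c.pt).2 y
      obtain ⟨l, φ', hφ'⟩ := hom_a hc N φ
      refine ⟨l, Ext.mk₀ φ', ?_⟩
      unfold pushι
      rw [Ext.mk₀_comp_mk₀, hφ']
    · intro l y' hy'
      obtain ⟨φ', rfl⟩ := (Ext.mk₀_bijective N (K.obj l)).2 y'
      unfold pushι at hy'
      rw [Ext.mk₀_comp_mk₀, ← Ext.mk₀_zero] at hy'
      have h0 := (Ext.mk₀_bijective N c.pt).1 hy'
      obtain ⟨m, hlm, hm⟩ := hom_b hc N l φ' h0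
      refine ⟨m, hlm, ?_⟩
      unfold push
      rw [Ext.mk₀_comp_mk₀, hm, Ext.mk₀_zero]
  | succ n ih =>
    intro N _
    obtain ⟨N', _, _, _, _, f, surjf⟩ := Module.exists_finite_presentation R N
    let exac := LinearMap.shortExact_shortComplexKer surjf
    have hfinK : Module.Finite R (ModuleCat.of R (LinearMap.ker f)) :=
      inferInstanceAs (Module.Finite R (LinearMap.ker f))
    have hfinN' : Module.Finite R (ModuleCat.of R N') :=
      inferInstanceAs (Module.Finite R N')
    obtain ⟨ihKa, ihKb⟩ := ih (ModuleCat.of R (LinearMap.ker f))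
    obtain ⟨ihN'a, -⟩ := ih (ModuleCat.of R N')
    constructor
    · intro y
      obtain ⟨z, hz⟩ := precomp_extClass_surjective_of_projective_X₂ c.pt exac n y
      obtain ⟨l, z', rfl⟩ := ihKa z
      refine ⟨l, exac.extClass.comp z' (add_comm 1 n), ?_⟩
      rw [← comp_pushι]
      exact hz
    · intro l y' hy'
      obtain ⟨z', rfl⟩ := precomp_extClass_surjective_of_projective_X₂ (K.obj l) exac n y'
      change pushι c l (exac.extClass.comp z' (add_comm 1 n)) = 0 at hy'
      rw [← comp_pushι] at hy'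
      obtain ⟨w, hw⟩ := Ext.contravariant_sequence_exact₁ exac c.pt (pushι c l z')
        (add_comm 1 n) hy'
      obtain ⟨l', w', rfl⟩ := ihN'a w
      obtain ⟨m₀, hlm₀, hl'm₀⟩ := exists_ge_ge l l'
      have h1 : pushι c m₀ (push hlm₀ z' -
          (Ext.mk₀ (ShortComplex.f _)).comp (push hl'm₀ w') (zero_add n)) = 0 := by
        rw [pushι_sub, pushι_push, ← comp_pushι, pushι_push, hw, sub_self]
      obtain ⟨m, hm₀m, hm⟩ := ihKb m₀ _ h1
      refine ⟨m, hlm₀.trans hm₀m, ?_⟩
      rw [push_sub, sub_eq_zero, push_push, ← comp_push, push_push] at hm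
      change push _ (exac.extClass.comp z' (add_comm 1 n)) = 0
      rw [← comp_push, hm]
      exact exac.extClass_comp_assoc _

end ExtColim

section LC

variable [IsNoetherianRing R] (J : Ideal R) (i : ℕ) (Λ : Type u) [PartialOrder Λ]
  [IsDirected Λ (· ≤ ·)] [Nonempty Λ]

/-- local cohomology commutes with directed colimits. -/
theorem lc_preservesColimitsOfShape : PreservesColimitsOfShape Λ (localCohomology J i) := by
  apply preservesColimitsOfShape_of_elementwise
  · intro K c hc y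
    obtain ⟨k, e, rfl⟩ := exists_rep J i c.pt y
    haveI : Module.Finite R (Q J k) := inferInstanceAs (Module.Finite R (R ⧸ J ^ k))
    obtain ⟨l, e', rfl⟩ := (ext_colim hc i (Q J k)).1 e
    exact ⟨l, ιE J i _ k e', map_ιE J i _ e'⟩
  · intro K c hc l y' hy'
    obtain ⟨k, e', rfl⟩ := exists_rep J i (K.obj l) y'
    rw [map_ιE, ιE_eq_zero_iff] at hy'
    obtain ⟨k', hkk', hk'⟩ := hy'
    rw [← Ext.comp_assoc_of_third_deg_zero] at hk'
    haveI : Module.Finite R (Q J k') := inferInstanceAs (Module.Finite R (R ⧸ J ^ k'))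
    obtain ⟨m, hlm, hm⟩ := (ext_colim hc i (Q J k')).2 l _ hk'
    refine ⟨m, hlm, ?_⟩
    rw [map_ιE, ιE_eq_zero_iff]
    refine ⟨k', hkk', ?_⟩
    rw [← Ext.comp_assoc_of_third_deg_zero]
    exact hm

end LC

end Groth.Agent.Lib.Helper2.LCColim
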