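import Mathlib
import Groth.Prelude.Def_Coh
import Groth.Prelude.Def_CxOX
import Groth.Prelude.Def_DCoh2
import Groth.Agent.Lib.Helper6.CohTopMV

/-!
# The functors `F ↦ (f|_W)_* (F|_W)` and restriction maps between them (helper2)
-/

universe u

open CategoryTheory Limits AlgebraicGeometry Opposite TopologicalSpace

namespace Groth.Agent.Lib.Helper2.RpushQC2

variable {X S : Scheme.{u}} (f : X ⟶ S)

/-- `F ↦ (f|_W)_* (F|_W)` -/
noncomputable def Φ (W : X.Opens) : X.Modules ⥤ S.Modules :=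
  Scheme.Modules.restrictFunctor W.ι ⋙ Scheme.Modules.pushforward (W.ι ≫ f)

/-- the open `W ∩ f⁻¹ T` as it appears in `Φ` -/
abbrev UW (W : X.Opens) (T : S.Opens) : X.Opens := W.ι ''ᵁ ((W.ι ≫ f) ⁻¹ᵁ T)

lemma mem_UW (W : X.Opens) (T : S.Opens) (x : X) : x ∈ UW f W T ↔ x ∈ W ∧ f x ∈ T := by
  constructor
  · rintro ⟨y, hy, rfl⟩
    exact ⟨y.2, hy⟩
  · rintro ⟨hx, hfx⟩
    exact ⟨⟨x, hx⟩, hfx, rfl⟩

lemma UW_mono {W W' : X.Opens} (h : W' ≤ W) (T : S.Opens) : UW f W' T ≤ UW f W T := by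
  intro x hx
  rw [mem_UW] at hx ⊢
  exact ⟨h hx.1, hx.2⟩

lemma UW_mono_right (W : X.Opens) {T T' : S.Opens} (h : T' ≤ T) : UW f W T' ≤ UW f W T := by
  intro x hx
  rw [mem_UW] at hx ⊢
  exact ⟨hx.1, h hx.2⟩

lemma UW_le_preimage (W : X.Opens) (T : S.Opens) : UW f W T ≤ f ⁻¹ᵁ T := by
  intro x hx
  rw [mem_UW] at hx
  exact hx.2

lemma sections_eq (W : X.Opens) (F : X.Modules) (T : S.Opens) :
    Γ((Φ f W).obj F, T) = Γ(F, UW f W T) := rfl

/-- the ring map `Γ(S, T) → Γ(X, W ∩ f⁻¹T)` -/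
noncomputable def rmap (W : X.Opens) (T : S.Opens) (r : Γ(S, T)) : Γ(X, UW f W T) :=
  X.presheaf.map (homOfLE (UW_le_preimage f W T)).op (f.app T r)

lemma rmap_eq (W : X.Opens) (T : S.Opens) (r : Γ(S, T)) :
    (W.ι.appIso ((W.ι ≫ f) ⁻¹ᵁ T)).inv ((W.ι ≫ f).app T r) = rmap f W T r := by
  have h := Scheme.Hom.app_appIso_inv W.ι (f ⁻¹ᵁ T)
  have h2 : (W.ι ≫ f).app T = f.app T ≫ W.ι.app (f ⁻¹ᵁ T) := Scheme.Hom.comp_app _ _ _
  have h3 := congrArg (fun t => (ConcreteCategory.hom t) (f.app T r)) h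
  simp only [ConcreteCategory.comp_apply] at h3
  have h4 : (ConcreteCategory.hom ((W.ι ≫ f).app T)) r =
      (ConcreteCategory.hom (W.ι.app (f ⁻¹ᵁ T))) ((ConcreteCategory.hom (f.app T)) r) :=
    congrArg (fun t => (ConcreteCategory.hom t) r) h2
  exact (congrArg (fun z => (ConcreteCategory.hom (W.ι.appIso (W.ι ⁻¹ᵁ f ⁻¹ᵁ T)).inv) z) h4).trans h3

/-- the scalar action on `Φ` -/
lemma Φ_smul (W : X.Opens) (F : X.Modules) (T : S.Opens) (r : Γ(S, T))
    (m : Γ((Φ f W).obj F, T)) :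
    (r • m : Γ((Φ f W).obj F, T)) =
      (show Γ((Φ f W).obj F, T) from
        ((rmap f W T r : Γ(X, UW f W T)) • (show Γ(F, UW f W T) from m))) := by
  have h : (r • m : Γ((Φ f W).obj F, T)) =
      (show Γ((Φ f W).obj F, T) from
        (((W.ι.appIso ((W.ι ≫ f) ⁻¹ᵁ T)).inv ((W.ι ≫ f).app T r) : Γ(X, UW f W T)) •
          (show Γ(F, UW f W T) from m))) := rfl
  rw [h, rmap_eq]

lemma rmap_res {W W' : X.Opens} (h : W' ≤ W) (T : S.Opens) (r : Γ(S, T)) :
    X.presheaf.map (homOfLE (UW_mono f h T)).op (rmap f W T r) = rmap f W' T r := by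
  unfold rmap
  rw [← ConcreteCategory.comp_apply, ← Functor.map_comp]
  rfl

/-- restriction `Φ_W F ⟶ Φ_{W'} F` as a map of abelian presheaves -/
noncomputable def ρpre {W W' : X.Opens} (h : W' ≤ W) (F : X.Modules) :
    ((Φ f W).obj F).presheaf ⟶ ((Φ f W').obj F).presheaf where
  app T := F.presheaf.map (homOfLE (UW_mono f h T.unop)).op
  naturality T T' i := by
    change F.presheaf.map _ ≫ F.presheaf.map _ = F.presheaf.map _ ≫ F.presheaf.map _
    rw [← Functor.map_comp, ← Functor.map_comp]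
    rfl

lemma ρpre_smul {W W' : X.Opens} (h : W' ≤ W) (F : X.Modules) (T : S.Opens) (r : Γ(S, T))
    (m : Γ((Φ f W).obj F, T)) :
    (ρpre f h F).app (op T) (r • m) = r • (ρpre f h F).app (op T) m := by
  have h1 := Φ_smul f W F T r m
  have h2 := Φ_smul f W' F T r ((ρpre f h F).app (op T) m)
  refine (congrArg (fun z => (ρpre f h F).app (op T) z) h1).trans (Eq.trans ?_ h2.symm)
  have h3 := Scheme.Modules.map_smul F (homOfLE (UW_mono f h T)) (rmap f W T r)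
    (show Γ(F, UW f W T) from m)
  rw [rmap_res f h T r] at h3
  exact h3

/-- restriction `Φ_W ⟶ Φ_{W'}` -/
noncomputable def ρ {W W' : X.Opens} (h : W' ≤ W) : Φ f W ⟶ Φ f W' where
  app F := SheafOfModules.Hom.mk
    (PresheafOfModules.homMk (ρpre f h F) (fun T r m => ρpre_smul f h F T.unop r m))
  naturality F F' g := by
    apply Scheme.Modules.hom_ext
    intro T
    change g.app (UW f W T) ≫ F'.presheaf.map (homOfLE (UW_mono f h T)).op =
      F.presheaf.map (homOfLE (UW_mono f h T)).op ≫ g.app (UW f W' T)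
    exact (g.mapPresheaf.naturality (homOfLE (UW_mono f h T)).op).symm

lemma ρ_app_app {W W' : X.Opens} (h : W' ≤ W) (F : X.Modules) (T : S.Opens) :
    ((ρ f h).app F).app T = F.presheaf.map (homOfLE (UW_mono f h T)).op := rfl

lemma ρ_comp {W W' W'' : X.Opens} (h : W' ≤ W) (h' : W'' ≤ W') :
    ρ f h ≫ ρ f h' = ρ f (h'.trans h) := by
  ext F : 2
  apply Scheme.Modules.hom_ext
  intro T
  change F.presheaf.map _ ≫ F.presheaf.map _ = F.presheaf.map _
  rw [← Functor.map_comp]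
  rfl

instance (W : X.Opens) : (Φ f W).Additive := by
  unfold Φ
  infer_instance

instance (W : X.Opens) : PreservesFiniteLimits (Φ f W) := by
  haveI : PreservesFiniteLimits (Scheme.Modules.pushforward (W.ι ≫ f)) :=
    (Scheme.Modules.pullbackPushforwardAdjunction (W.ι ≫ f)).rightAdjoint_preservesLimits.{0, 0}.preservesFiniteLimits
  unfold Φ
  infer_instance

open Groth.Agent.Lib.Helper6 in
/-- the sheaf condition: Mayer–Vietoris square -/
lemma isPullback_ρ (U V : X.Opens) (F : X.Modules) :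
    IsPullback ((ρ f (le_sup_left : U ≤ U ⊔ V)).app F) ((ρ f (le_sup_right : V ≤ U ⊔ V)).app F)
      ((ρ f (inf_le_left : U ⊓ V ≤ U)).app F) ((ρ f (inf_le_right : U ⊓ V ≤ V)).app F) := by
  have hc : (ρ f (le_sup_left : U ≤ U ⊔ V)).app F ≫ (ρ f (inf_le_left : U ⊓ V ≤ U)).app F =
      (ρ f (le_sup_right : V ≤ U ⊔ V)).app F ≫ (ρ f (inf_le_right : U ⊓ V ≤ V)).app F := by
    rw [← NatTrans.comp_app, ← NatTrans.comp_app, ρ_comp, ρ_comp]
  haveI : ReflectsLimit (cospan ((ρ f (inf_le_left : U ⊓ V ≤ U)).app F)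
      ((ρ f (inf_le_right : U ⊓ V ≤ V)).app F)) (Scheme.Modules.toPresheaf S) :=
    reflectsLimit_of_reflectsIsomorphisms _ _
  refine IsPullback.of_map (Scheme.Modules.toPresheaf S) hc ?_
  refine IsPullback.of_forall_isPullback_app (fun T => ?_)
  have hP : UW f (U ⊔ V) T.unop = UW f U T.unop ⊔ UW f V T.unop := by
    ext x
    simp only [Opens.coe_sup, Set.mem_union, SetLike.mem_coe, mem_UW]
    constructor
    · rintro ⟨h1 | h1, h2⟩
      · exact Or.inl ⟨h1, h2⟩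
      · exact Or.inr ⟨h1, h2⟩
    · rintro (⟨h1, h2⟩ | ⟨h1, h2⟩)
      · exact ⟨Or.inl h1, h2⟩
      · exact ⟨Or.inr h1, h2⟩
  have hS : UW f (U ⊓ V) T.unop = UW f U T.unop ⊓ UW f V T.unop := by
    ext x
    simp only [Opens.coe_inf, Set.mem_inter_iff, SetLike.mem_coe, mem_UW]
    constructor
    · rintro ⟨⟨h1, h1'⟩, h2⟩
      exact ⟨⟨h1, h2⟩, ⟨h1', h2⟩⟩
    · rintro ⟨⟨h1, h2⟩, ⟨h1', _⟩⟩
      exact ⟨⟨h1, h1'⟩, h2⟩
  exact CohTopMV.isPullback_of_eq (Coh.toAb F) hP hS _ _ _ _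

end Groth.Agent.Lib.Helper2.RpushQC2
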