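import Mathlib
import Groth.Agent.Lib.Helper2.RpushQC1
import Groth.Agent.Lib.Helper2.RpushQC2
import Groth.Agent.Lib.Helper2.PushEdge3
import Groth.Agent.Lib.Helper2.AffExt2
import Groth.Agent.Lib.Helper6.RDMayerVietoris
import Groth.Agent.Lib.Helper17.AffineSurj
import Groth.Agent.Lib.Helper17.CohKer
import Groth.Agent.Lib.Helper17.Serre2

/-!
# Mayer–Vietoris step for quasi-coherence of `R^n Φ_W` (helper2)
-/

universe u

open CategoryTheory Limits AlgebraicGeometry Opposite TopologicalSpace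

namespace Groth.Agent.Lib.Helper2.RpushQC3

open Groth.Agent.Lib.Helper6 Groth.Agent.Lib.Helper2.RpushQC2

variable {X S : Scheme.{u}} (f : X ⟶ S)

/-- restriction maps of a flasque module are epi -/
lemma epi_ρ {W W' : X.Opens} (h : W' ≤ W) (I : X.Modules)
    (hI : TopCat.Sheaf.IsFlasque (Coh.toAb I)) : Epi ((ρ f h).app I) := by
  haveI : Epi ((Scheme.Modules.toPresheaf S).map ((ρ f h).app I)) := by
    haveI : ∀ T, Epi (((Scheme.Modules.toPresheaf S).map ((ρ f h).app I)).app T) := by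
      intro T
      exact TopCat.Presheaf.IsFlasque.epi (F := (Coh.toAb I).obj) _
    exact NatTrans.epi_of_epi_app _
  exact (Scheme.Modules.toPresheaf S).epi_of_epi_map inferInstance

/-- the closure properties of quasi-coherent modules, packaged -/
theorem qc_of_five {X₁ X₂ Y X₃ X₄ : S.Modules} (a : X₁ ⟶ X₂) (b : X₂ ⟶ Y) (c : Y ⟶ X₃)
    (d : X₃ ⟶ X₄) (w₁ : a ≫ b = 0) (w₂ : b ≫ c = 0) (w₃ : c ≫ d = 0)
    (e₁ : (ShortComplex.mk a b w₁).Exact) (e₂ : (ShortComplex.mk b c w₂).Exact)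
    (e₃ : (ShortComplex.mk c d w₃).Exact)
    (h₁ : X₁.IsQuasicoherent) (h₂ : X₂.IsQuasicoherent) (h₃ : X₃.IsQuasicoherent)
    (h₄ : X₄.IsQuasicoherent) : Y.IsQuasicoherent :=
  RpushQC1.mem_of_five (fun M : S.Modules => M.IsQuasicoherent)
    (fun {A B} g hA hB => by
      haveI := hA
      haveI := hB
      exact Groth.Agent.Lib.Helper17.CohKer.isQuasicoherent_kernel g)
    (fun {A B} g hA hB => by
      haveI := hA
      haveI := hB
      exact Groth.Agent.Lib.Helper17.CohKer.isQuasicoherent_cokernel g)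
    (fun T hT hA hB => by
      haveI : T.X₁.IsQuasicoherent := hA
      haveI : T.X₃.IsQuasicoherent := hB
      exact Groth.Agent.Lib.Helper17.AffineSurj.isQuasicoherent_of_extension T hT)
    a b c d w₁ w₂ w₃ e₁ e₂ e₃ h₁ h₂ h₃ h₄

/-- the property: all `R^n Φ_W F` are quasi-coherent -/
def P [HasInjectiveResolutions X.Modules] (W : X.Opens) : Prop :=
  ∀ (F : X.Modules), F.IsQuasicoherent → ∀ n : ℕ,
    (((Φ f W).rightDerived n).obj F).IsQuasicoherent

variable [HasInjectiveResolutions X.Modules]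

/-- **Mayer–Vietoris step** -/
theorem P_sup (U V : X.Opens) (hU : P f U) (hV : P f V) (hUV : P f (U ⊓ V)) : P f (U ⊔ V) := by
  intro F hF n
  let α₁ := ρ f (le_sup_left : U ≤ U ⊔ V)
  let α₂ := ρ f (le_sup_right : V ≤ U ⊔ V)
  let β₁ := ρ f (inf_le_left : U ⊓ V ≤ U)
  let β₂ := ρ f (inf_le_right : U ⊓ V ≤ V)
  have comm : α₁ ≫ β₁ = α₂ ≫ β₂ := by
    simp only [α₁, α₂, β₁, β₂, ρ_comp]
  have hpb : ∀ I : X.Modules, Injective I →
      IsPullback (α₁.app I) (α₂.app I) (β₁.app I) (β₂.app I) :=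
    fun I _ => isPullback_ρ f U V I
  have hepi : ∀ I : X.Modules, Injective I → Epi (β₁.app I) := fun I hI => by
    haveI := hI
    exact epi_ρ f _ I (PushEdge3.isFlasque_of_injective I)
  have hW := RDMV.hw α₁ α₂ β₁ β₂ comm
  have hS := RDMV.hses α₁ α₂ β₁ β₂ comm hpb hepi
  -- quasi-coherence of the middle terms
  have hB : ∀ k : ℕ, (((RDMV.Bsum (Φ f U) (Φ f V)).rightDerived k).obj F).IsQuasicoherent := by
    intro k
    haveI := hU F hF k
    haveI := hV F hF k
    exact AffExt2.isQuasicoherent_of_iso (RDMV.e (B₁ := Φ f U) (B₂ := Φ f V) k F).symm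
  cases n with
  | zero =>
    haveI := RDSes.mono_rightDerived_zero_app (RDMV.αs α₁ α₂) (RDMV.βs β₁ β₂) hW hS F
    have hex := RDSes.exact_at_B (RDMV.αs α₁ α₂) (RDMV.βs β₁ β₂) hW hS 0 F
    have hlim := hex.fIsKernel
    let e : ((Φ f (U ⊔ V)).rightDerived 0).obj F ≅
        kernel ((NatTrans.rightDerived (RDMV.βs β₁ β₂) 0).app F) :=
      IsLimit.conePointUniqueUpToIso hlim (limit.isLimit _)
    haveI := hB 0
    haveI := hUV F hF 0
    haveI := Groth.Agent.Lib.Helper17.CohKer.isQuasicoherent_kernel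
      ((NatTrans.rightDerived (RDMV.βs β₁ β₂) 0).app F)
    exact AffExt2.isQuasicoherent_of_iso e.symm
  | succ n =>
    exact qc_of_five _ _ _ _ _ _ _
      (RDSes.exact_at_C (RDMV.αs α₁ α₂) (RDMV.βs β₁ β₂) hW hS n F)
      (RDSes.exact_at_A (RDMV.αs α₁ α₂) (RDMV.βs β₁ β₂) hW hS n F)
      (RDSes.exact_at_B (RDMV.αs α₁ α₂) (RDMV.βs β₁ β₂) hW hS (n + 1) F)
      (hB n) (hUV F hF n) (hB (n + 1)) (hUV F hF (n + 1))

end Groth.Agent.Lib.Helper2.RpushQC3
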