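import Mathlib
import Groth.Agent.Lib.Helper2.RpushQC3
import Groth.Agent.Lib.Helper6.CohTopPush
import Groth.Agent.Lib.Helper8.SheafModGroth
import Groth.Agent.Lib.Helper17.RelAffine
import Groth.Agent.Lib.Helper17.Serre
import Groth.Agent.Lib.Helper28.QCohPush
import Groth.Agent.S11319

/-!
# Base case: affine opens (helper2)
-/

universe u

open CategoryTheory Limits AlgebraicGeometry Opposite TopologicalSpace

namespace Groth.Agent.Lib.Helper2.RpushQC4

open Groth.Agent.Lib.Helper6 Groth.Agent.Lib.Helper2.RpushQC2 Groth.Agent.Lib.Helper2.RpushQC3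

/-- a module whose underlying abelian sheaf is zero is zero -/
lemma isZero_of_isZero_toAb {Y : Scheme.{u}} (M : Y.Modules) (h : IsZero (Coh.toAb M)) : IsZero M := by
  rw [IsZero.iff_id_eq_zero] at h ⊢
  apply (SheafOfModules.toSheaf Y.ringCatSheaf).map_injective
  exact ((SheafOfModules.toSheaf Y.ringCatSheaf).map_id _).trans
    (h.trans ((SheafOfModules.toSheaf Y.ringCatSheaf).map_zero _ _).symm)

/-- zero modules are quasi-coherent -/
lemma isQuasicoherent_of_isZero {Y : Scheme.{u}} (M : Y.Modules) (h : IsZero M) :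
    M.IsQuasicoherent := by
  haveI : (kernel (𝟙 (Coh.structureModule Y))).IsQuasicoherent :=
    Groth.Agent.Lib.Helper17.CohKer.isQuasicoherent_kernel _
  have hz : IsZero (kernel (𝟙 (Coh.structureModule Y))) :=
    IsZero.of_iso (isZero_zero _) (kernel.ofMono (𝟙 (Coh.structureModule Y)))
  exact AffExt2.isQuasicoherent_of_iso (hz.iso h)

variable {X S : Scheme.{u}}

/-- flasque modules have no higher direct images -/
theorem isZero_Rpush_of_flasque (g : X ⟶ S) [HasInjectiveResolutions X.Modules] (M : X.Modules)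
    (hM : TopCat.Sheaf.IsFlasque (Coh.toAb M)) (k : ℕ) :
    IsZero ((Coh.Rpush g (k + 1)).obj M) := by
  obtain ⟨e⟩ := Groth.Agent.S11319.result g M (k + 1)
  apply isZero_of_isZero_toAb
  haveI := hM
  exact IsZero.of_iso (CohTopPush.isZero_Rpush_of_flasque g.base (Coh.toAb M) k) e

/-- quasi-coherent modules have no higher direct images along affine morphisms -/
theorem isZero_Rpush_of_isAffineHom (g : X ⟶ S) [IsAffineHom g]
    [HasInjectiveResolutions X.Modules] (M : X.Modules) [M.IsQuasicoherent] (k : ℕ) :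
    IsZero ((Coh.Rpush g (k + 1)).obj M) := by
  obtain ⟨e⟩ := Groth.Agent.S11319.result g M (k + 1)
  apply isZero_of_isZero_toAb
  exact IsZero.of_iso (Groth.Agent.Lib.Helper17.RelAffine.isZero_Rpush_of_isAffineHom g M k) e

/-- restrictions of flasque modules are flasque -/
lemma isFlasque_restrict (W : X.Opens) (I : X.Modules) (hI : TopCat.Sheaf.IsFlasque (Coh.toAb I)) :
    TopCat.Sheaf.IsFlasque (Coh.toAb (I.restrict W.ι)) where
  epi {U V} i := by
    change Epi ((Coh.toAb I).obj.map (W.ι.opensFunctor.map i.unop).op)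
    exact TopCat.Presheaf.IsFlasque.epi (F := (Coh.toAb I).obj) _

instance (Y : Scheme.{u}) : EnoughInjectives Y.Modules :=
  Groth.Agent.Lib.Helper8.SheafModGroth.enoughInjectives _ Y.ringCatSheaf

/-- `R^n Φ_W F ≅ R^n (f|_W)_* (F|_W)` -/
theorem nonempty_rightDerived_Φ_iso (f : X ⟶ S) (W : X.Opens) (n : ℕ) (F : X.Modules) :
    Nonempty (((Φ f W).rightDerived n).obj F ≅
      (Coh.Rpush (W.ι ≫ f) n).obj (F.restrict W.ι)) := by
  haveI : PreservesFiniteLimits (Scheme.Modules.pushforward (W.ι ≫ f)) :=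
    (Scheme.Modules.pullbackPushforwardAdjunction (W.ι ≫ f)).rightAdjoint_preservesLimits.{0, 0}.preservesFiniteLimits
  exact RpushQC1.nonempty_precomp_iso (Scheme.Modules.restrictFunctor W.ι)
    (Scheme.Modules.pushforward (W.ι ≫ f))
    (fun I hI k => by
      haveI := hI
      exact isZero_Rpush_of_flasque (W.ι ≫ f) _
        (isFlasque_restrict W I (PushEdge3.isFlasque_of_injective I)) k)
    n F

/-- **base case** -/
theorem P_of_isAffineHom (f : X ⟶ S) (W : X.Opens) [IsAffineHom (W.ι ≫ f)] : P f W := by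
  intro F hF n
  haveI := hF
  obtain ⟨e⟩ := nonempty_rightDerived_Φ_iso f W n F
  haveI : (F.restrict W.ι).IsQuasicoherent := inferInstance
  cases n with
  | zero =>
    haveI : PreservesFiniteLimits (Scheme.Modules.pushforward (W.ι ≫ f)) :=
      (Scheme.Modules.pullbackPushforwardAdjunction (W.ι ≫ f)).rightAdjoint_preservesLimits.{0, 0}.preservesFiniteLimits
    haveI : ((Scheme.Modules.pushforward (W.ι ≫ f)).obj (F.restrict W.ι)).IsQuasicoherent :=
      Groth.Agent.Lib.Helper28.QCohLoc.isQuasicoherent_pushforward (W.ι ≫ f) (F.restrict W.ι)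
    exact AffExt2.isQuasicoherent_of_iso
      (e ≪≫ (Functor.rightDerivedZeroIsoSelf (Scheme.Modules.pushforward (W.ι ≫ f))).app
        (F.restrict W.ι)).symm
  | succ k =>
    exact isQuasicoherent_of_isZero _
      (IsZero.of_iso (isZero_Rpush_of_isAffineHom (W.ι ≫ f) (F.restrict W.ι) k) e)

end Groth.Agent.Lib.Helper2.RpushQC4
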