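import Mathlib
import Groth.Agent.Lib.Helper2.RpushQC4
import Groth.Agent.S0015
import Groth.Prelude.Def_RDer

/-!
# `R^n f_* F` is quasi-coherent for `f` qcqs with affine target (helper2)
-/

universe u

open CategoryTheory Limits AlgebraicGeometry Opposite TopologicalSpace

namespace Groth.Agent.Lib.Helper2.RpushQC5

open Groth.Agent.Lib.Helper6 Groth.Agent.Lib.Helper2.RpushQC2 Groth.Agent.Lib.Helper2.RpushQC3
  Groth.Agent.Lib.Helper2.RpushQC4

variable {X S : Scheme.{u}} (f : X ⟶ S)

/-- restriction `f_* F ⟶ Φ_W F` as a map of abelian presheaves -/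
noncomputable def ηpre (W : X.Opens) (F : X.Modules) :
    ((Scheme.Modules.pushforward f).obj F).presheaf ⟶ ((Φ f W).obj F).presheaf where
  app T := F.presheaf.map (homOfLE (UW_le_preimage f W T.unop)).op
  naturality T T' i := by
    change F.presheaf.map _ ≫ F.presheaf.map _ = F.presheaf.map _ ≫ F.presheaf.map _
    rw [← Functor.map_comp, ← Functor.map_comp]
    rfl

lemma ηpre_smul (W : X.Opens) (F : X.Modules) (T : S.Opens) (r : Γ(S, T))
    (m : Γ((Scheme.Modules.pushforward f).obj F, T)) :
    (ηpre f W F).app (op T) (r • m) = r • (ηpre f W F).app (op T) m := by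
  have h2 := Φ_smul f W F T r ((ηpre f W F).app (op T) m)
  refine Eq.trans ?_ h2.symm
  exact Scheme.Modules.map_smul F (homOfLE (UW_le_preimage f W T)) (f.app T r)
    (show Γ(F, f ⁻¹ᵁ T) from m)

/-- restriction `f_* ⟶ Φ_W` -/
noncomputable def η (W : X.Opens) : Scheme.Modules.pushforward f ⟶ Φ f W where
  app F := SheafOfModules.Hom.mk
    (PresheafOfModules.homMk (ηpre f W F) (fun T r m => ηpre_smul f W F T.unop r m))
  naturality F F' g := by
    apply Scheme.Modules.hom_ext
    intro T
    change g.app (f ⁻¹ᵁ T) ≫ F'.presheaf.map (homOfLE (UW_le_preimage f W T)).op =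
      F.presheaf.map (homOfLE (UW_le_preimage f W T)).op ≫ g.app (UW f W T)
    exact (g.mapPresheaf.naturality (homOfLE (UW_le_preimage f W T)).op).symm

lemma η_app_app (W : X.Opens) (F : X.Modules) (T : S.Opens) :
    ((η f W).app F).app T = F.presheaf.map (homOfLE (UW_le_preimage f W T)).op := rfl

/-- `F.map` of an inequality between equal opens is an isomorphism -/
lemma isIso_map_of_eq (F : X.Modules) {A B : X.Opens} (h : A ≤ B) (e : A = B) :
    IsIso (F.presheaf.map (homOfLE h).op) := by
  subst e
  have : (homOfLE h).op = 𝟙 (op A) := rfl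
  rw [this, F.presheaf.map_id]
  infer_instance

instance isIso_η_top : IsIso (η f ⊤) := by
  haveI : ∀ F, IsIso ((η f ⊤).app F) := by
    intro F
    rw [Scheme.Modules.Hom.isIso_iff_isIso_app]
    intro T
    rw [η_app_app]
    apply isIso_map_of_eq
    ext x
    simp only [SetLike.mem_coe, mem_UW]
    constructor
    · intro h; exact h.2
    · intro h; exact ⟨trivial, h⟩
  exact NatIso.isIso_of_isIso_app _

/-- `Φ_⊤ ≅ f_*` -/
noncomputable def ΦtopIso : Scheme.Modules.pushforward f ≅ Φ f ⊤ := asIso (η f ⊤)

/-- **`R^n f_* F` is quasi-coherent for `f` quasi-compact quasi-separated with affine target** -/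
theorem isQuasicoherent_Rpush_of_isAffine [IsAffine S] [QuasiCompact f] [QuasiSeparated f]
    (F : X.Modules) [F.IsQuasicoherent] (n : ℕ) :
    ((Coh.Rpush f n).obj F).IsQuasicoherent := by
  haveI : CompactSpace X := QuasiCompact.compactSpace_of_compactSpace f
  haveI : QuasiSeparatedSpace X := quasiSeparatedSpace_of_quasiSeparated f
  have hP : P f ⊤ := by
    refine Groth.Agent.S0015.result X (P f) ?_ ?_ ⊤ isCompact_univ
    · intro U hU
      haveI : IsAffine (U : Scheme.{u}) := hU
      exact P_of_isAffineHom f U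
    · intro U V _ _ hPU hPV hPUV
      exact P_sup f U V hPU hPV hPUV
  haveI := hP F inferInstance n
  exact AffExt2.isQuasicoherent_of_iso ((RDer.rightDerivedIso (ΦtopIso f) n).app F).symm

end Groth.Agent.Lib.Helper2.RpushQC5
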