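import Mathlib
import Groth.Agent.Lib.Helper2.RpushQC5
import Groth.Agent.Lib.Helper17.QCohOn

/-!
# `R^n f_* F` is quasi-coherent for `f` quasi-compact quasi-separated (helper2)
-/

universe u

open CategoryTheory Limits AlgebraicGeometry Opposite TopologicalSpace

namespace Groth.Agent.Lib.Helper2.RpushQC6

open Groth.Agent.Lib.Helper6 Groth.Agent.Lib.Helper2.RpushQC2 Groth.Agent.Lib.Helper2.RpushQC3
  Groth.Agent.Lib.Helper2.RpushQC4 Groth.Agent.Lib.Helper2.RpushQC5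

variable {X S : Scheme.{u}} (f : X ⟶ S)

instance pfl_pushforward {Y Z : Scheme.{u}} (g : Y ⟶ Z) :
    PreservesFiniteLimits (Scheme.Modules.pushforward g) :=
  (Scheme.Modules.pullbackPushforwardAdjunction g).rightAdjoint_preservesLimits.{0, 0}.preservesFiniteLimits

/-- over `V`, the module `f_* F` and `Φ_{f⁻¹V} F` agree -/
instance isIso_whiskerRight_η (V : S.Opens) :
    IsIso (Functor.whiskerRight (η f (f ⁻¹ᵁ V)) (Scheme.Modules.restrictFunctor V.ι)) := by
  haveI : ∀ F, IsIso ((Functor.whiskerRight (η f (f ⁻¹ᵁ V))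
      (Scheme.Modules.restrictFunctor V.ι)).app F) := by
    intro F
    rw [Scheme.Modules.Hom.isIso_iff_isIso_app]
    intro T
    change IsIso (((η f (f ⁻¹ᵁ V)).app F).app (V.ι ''ᵁ T))
    rw [η_app_app]
    apply isIso_map_of_eq
    ext x
    simp only [SetLike.mem_coe, mem_UW]
    constructor
    · intro h; exact h.2
    · intro h
      refine ⟨?_, h⟩
      obtain ⟨y, -, hy⟩ := h
      change f x ∈ V
      have : (V.ι y : S) = f x := hy
      rw [← this]
      exact y.2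
  exact NatIso.isIso_of_isIso_app _

/-- `(g_* -)|_V ≅ f'_*` when `g = f' ≫ V.ι` -/
noncomputable def pushRestrictIso {W : Scheme.{u}} (V : S.Opens) (g : W ⟶ S) (f' : W ⟶ V)
    (h : g = f' ≫ V.ι) :
    Scheme.Modules.pushforward g ⋙ Scheme.Modules.restrictFunctor V.ι ≅
      Scheme.Modules.pushforward f' :=
  Functor.isoWhiskerRight (Scheme.Modules.pushforwardCongr h ≪≫
      (Scheme.Modules.pushforwardComp f' V.ι).symm) (Scheme.Modules.restrictFunctor V.ι) ≪≫
    Functor.associator _ _ _ ≪≫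
    Functor.isoWhiskerLeft (Scheme.Modules.pushforward f')
      (Scheme.Modules.restrictFunctorAdjCounitIso V.ι) ≪≫
    Functor.rightUnitor _

/-- the restriction of `R^n f_* F` to an open `V` is `R^n (f|_V)_* (F|_{f⁻¹V})` -/
theorem nonempty_restrict_Rpush_iso (V : S.Opens) (F : X.Modules) (n : ℕ) :
    Nonempty (((Coh.Rpush f n).obj F).restrict V.ι ≅
      (Coh.Rpush (f ∣_ V) n).obj (F.restrict (f ⁻¹ᵁ V).ι)) := by
  let W : X.Opens := f ⁻¹ᵁ V
  let R := Scheme.Modules.restrictFunctor V.ι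
  obtain ⟨e₁⟩ := RpushQC1.nonempty_postcomp_iso (Scheme.Modules.pushforward f) R n F
  let e₂ := (RDer.rightDerivedIso (asIso (Functor.whiskerRight (η f W) R)) n).app F
  obtain ⟨e₃⟩ := RpushQC1.nonempty_postcomp_iso (Φ f W) R n F
  obtain ⟨e₄⟩ := nonempty_rightDerived_Φ_iso f W n F
  obtain ⟨e₅⟩ := RpushQC1.nonempty_postcomp_iso (Scheme.Modules.pushforward (W.ι ≫ f)) R n
    (F.restrict W.ι)
  let e₆ := (RDer.rightDerivedIso
    (pushRestrictIso V (W.ι ≫ f) (f ∣_ V) (morphismRestrict_ι f V).symm) n).app (F.restrict W.ι)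
  exact ⟨e₁.symm ≪≫ e₂ ≪≫ e₃ ≪≫ R.mapIso e₄ ≪≫ e₅.symm ≪≫ e₆⟩

/-- **`R^n f_* F` is quasi-coherent for `f` quasi-compact and quasi-separated** -/
theorem isQuasicoherent_Rpush [QuasiCompact f] [QuasiSeparated f]
    (F : X.Modules) [F.IsQuasicoherent] (n : ℕ) :
    ((Coh.Rpush f n).obj F).IsQuasicoherent := by
  refine Groth.Agent.Lib.Helper28.QCohLoc.isQuasicoherent_of_forall_isLocOn _ (fun V => ?_)
  obtain ⟨e⟩ := nonempty_restrict_Rpush_iso f V.1 F n
  haveI : IsAffine (V.1 : Scheme.{u}) := V.2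
  haveI : (F.restrict (f ⁻¹ᵁ V.1).ι).IsQuasicoherent := inferInstance
  haveI : ((Coh.Rpush (f ∣_ V.1) n).obj (F.restrict (f ⁻¹ᵁ V.1).ι)).IsQuasicoherent :=
    isQuasicoherent_Rpush_of_isAffine (f ∣_ V.1) _ n
  haveI : (((Coh.Rpush f n).obj F).restrict V.1.ι).IsQuasicoherent :=
    AffExt2.isQuasicoherent_of_iso e.symm
  exact Groth.Agent.Lib.Helper17.QCohOn.isLocOn_of_isQuasicoherent_restrict V.1 _ V.2 le_rfl

end Groth.Agent.Lib.Helper2.RpushQC6
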