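import Mathlib.RingTheory.Flat.Basic
import Mathlib.RingTheory.Flat.Stability
import Mathlib.RingTheory.Flat.Tensor
import Mathlib.LinearAlgebra.TensorProduct.Tower
import Mathlib.RingTheory.Ideal.Maps

/-!
Helper library (helper2): flatness over the small ring of `P ⊗[S] M`, and vanishing of
`Tor₁^{R'}(R'/IR', M')` for an `R'`-module `M'` flat over `R`.
-/

set_option autoImplicit false

namespace Groth.Agent.Lib.Helper2.FlatSquare

open TensorProduct

section X

variable {R S : Type*} [CommRing R] [CommRing S] [Algebra R S]
  (P : Type*) [AddCommGroup P] [Module S P] [Module R P] [IsScalarTower R S P] [Module.Flat S P]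
  (M : Type*) [AddCommGroup M] [Module R M] [Module S M] [IsScalarTower R S M] [Module.Flat R M]

/-- If `P` is flat over `S` and `M` is an `S`-module flat over `R`, then `P ⊗[S] M` is flat over
`R`. -/
theorem flat_tensor_of_flat : Module.Flat R (P ⊗[S] M) := by
  rw [Module.Flat.iff_lTensor_injective']
  intro I
  have h1 : Function.Injective (AlgebraTensorModule.lTensor S M I.subtype) :=
    Module.Flat.lTensor_preserves_injective_linearMap (M := M) I.subtype Subtype.val_injective
  have h2 : Function.Injective ((AlgebraTensorModule.lTensor S M I.subtype).lTensor P) :=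
    Module.Flat.lTensor_preserves_injective_linearMap _ h1
  have hnat : ∀ z : (P ⊗[S] M) ⊗[R] I,
      AlgebraTensorModule.assoc R S S P M R (I.subtype.lTensor (P ⊗[S] M) z) =
        (AlgebraTensorModule.lTensor S M I.subtype).lTensor P
          (AlgebraTensorModule.assoc R S S P M I z) := by
    intro z
    induction z with
    | zero => simp
    | add a b ha hb => simp only [map_add, ha, hb]
    | tmul pm i =>
      induction pm with
      | zero => simp
      | add a b ha hb => simp only [add_tmul, map_add, ha, hb]
      | tmul p m => simp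
  intro a b hab
  apply (AlgebraTensorModule.assoc R S S P M I).injective
  apply h2
  rw [← hnat, ← hnat, hab]

end X

section Y

variable {R R' : Type*} [CommRing R] [CommRing R'] [Algebra R R']
  {M' : Type*} [AddCommGroup M'] [Module R M'] [Module R' M'] [IsScalarTower R R' M']

/-- the natural map `M' ⊗[R] I → M' ⊗[R'] IR'`. -/
noncomputable def tensorIdealMap (I : Ideal R) :
    M' ⊗[R] I →ₗ[R] M' ⊗[R'] (I.map (algebraMap R R')) :=
  (TensorProduct.mapOfCompatibleSMul R' R R M' (I.map (algebraMap R R'))) ∘ₗ
    (Algebra.idealMap R' I).lTensor M'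

@[simp]
lemma tensorIdealMap_tmul (I : Ideal R) (m : M') (i : I) :
    tensorIdealMap (R' := R') I (m ⊗ₜ i) = m ⊗ₜ[R'] (Algebra.idealMap R' I i) := rfl

lemma tensorIdealMap_surjective (I : Ideal R) :
    Function.Surjective (tensorIdealMap (R' := R') (M' := M') I) := by
  have key : ∀ (x : R') (hx : x ∈ I.map (algebraMap R R')) (m : M'),
      m ⊗ₜ[R'] (⟨x, hx⟩ : I.map (algebraMap R R')) ∈
        LinearMap.range (tensorIdealMap (R' := R') (M' := M') I) := by
    intro x hx
    refine Submodule.span_induction (p := fun x hx => ∀ m : M',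
      m ⊗ₜ[R'] (⟨x, hx⟩ : I.map (algebraMap R R')) ∈
        LinearMap.range (tensorIdealMap (R' := R') (M' := M') I)) ?_ ?_ ?_ ?_ hx
    · rintro _ ⟨i, hi, rfl⟩ m
      exact ⟨m ⊗ₜ ⟨i, hi⟩, rfl⟩
    · intro m
      have : (⟨0, zero_mem _⟩ : I.map (algebraMap R R')) = 0 := rfl
      rw [this, tmul_zero]
      exact zero_mem _
    · intro x y hx hy ihx ihy m
      have : (⟨x + y, add_mem hx hy⟩ : I.map (algebraMap R R')) = ⟨x, hx⟩ + ⟨y, hy⟩ := rfl
      rw [this, tmul_add]
      exact add_mem (ihx m) (ihy m)
    · intro a x hx ihx m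
      have : (⟨a • x, Submodule.smul_mem _ a hx⟩ : I.map (algebraMap R R')) =
          a • (⟨x, hx⟩ : I.map (algebraMap R R')) := rfl
      rw [this, ← smul_tmul]
      exact ihx (a • m)
  intro z
  induction z with
  | zero => exact ⟨0, map_zero _⟩
  | add a b ha hb =>
    obtain ⟨a', rfl⟩ := ha
    obtain ⟨b', rfl⟩ := hb
    exact ⟨a' + b', map_add _ _ _⟩
  | tmul m x => exact key x.1 x.2 m

/-- If `M'` is an `R'`-module which is flat over `R`, then `M' ⊗[R'] IR' → M'` is injective. -/
theorem lTensor_map_subtype_injective [Module.Flat R M'] (I : Ideal R) :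
    Function.Injective ((I.map (algebraMap R R')).subtype.lTensor M') := by
  have hflat : Function.Injective (I.subtype.lTensor M') :=
    Module.Flat.lTensor_preserves_injective_linearMap _ Subtype.val_injective
  have hcomp : ∀ z : M' ⊗[R] I,
      TensorProduct.rid R' M' ((I.map (algebraMap R R')).subtype.lTensor M'
        (tensorIdealMap (R' := R') I z)) = TensorProduct.rid R M' (I.subtype.lTensor M' z) := by
    intro z
    induction z with
    | zero => simp
    | add a b ha hb => simp only [map_add, ha, hb]
    | tmul m i => simp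
  rw [injective_iff_map_eq_zero]
  intro x hx
  obtain ⟨z, rfl⟩ := tensorIdealMap_surjective (R' := R') (M' := M') I x
  have h0 := hcomp z
  rw [hx, map_zero] at h0
  have hz : I.subtype.lTensor M' z = 0 := (TensorProduct.rid R M').injective (by rw [← h0, map_zero])
  rw [(injective_iff_map_eq_zero _).mp hflat z hz, map_zero]

end Y

end Groth.Agent.Lib.Helper2.FlatSquare
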