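import Groth.Agent.Lib.Helper1.ModFlat
import Groth.Agent.Lib.Helper1.TensorAdj
import Groth.Prelude.Def_KLin
import Groth.Prelude.Def_ModSite2

/-!
# Tensoring and internal hom commute with multiplication by global functions (helper2)
-/

set_option backward.isDefEq.respectTransparency.types false
set_option autoImplicit false
universe u
open CategoryTheory CategoryTheory.Limits AlgebraicGeometry Opposite TopologicalSpace MonoidalCategory

noncomputable section

namespace Groth.Agent.Lib.Helper2.SD2

open Groth.Agent.Lib.Helper1.ModFlat Groth.Agent.Lib.Helper1.TensorAdj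

variable {X : Scheme.{u}}

/-- multiplication by a global function on a presheaf of modules. -/
def psmul (P : PresheafOfModules.{u} X.ringCatSheaf.obj) (r : Coh.Γtop X) : P ⟶ P :=
  PresheafOfModules.homMk
    { app := fun U => AddCommGrpCat.ofHom (DistribSMul.toAddMonoidHom (P.obj U) (Coh.resTop X U r))
      naturality := by
        intro U V f
        ext m
        change Coh.resTop X V r • (P.map f).hom m =
          (P.map f).hom (@HSMul.hSMul (X.ringCatSheaf.obj.obj U) (P.obj U) (P.obj U) _
            (Coh.resTop X U r) m)
        rw [← Coh.resTop_comp U V f r]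
        exact (P.map_smul f (Coh.resTop X U r) m).symm }
    (by
      intro U s m
      change Coh.resTop X U r • (s • m) = s • (Coh.resTop X U r • m)
      rw [← mul_smul, ← mul_smul]
      congr 1
      exact @mul_comm Γ(X, Opposite.unop U) _ (Coh.resTop X U r) s)

theorem psmul_app_apply (P : PresheafOfModules.{u} X.ringCatSheaf.obj) (r : Coh.Γtop X) (U : (Opens X)ᵒᵖ) (m : P.obj U) :
    (psmul P r).app U m = Coh.resTop X U r • m := rfl

/-- multiplication by a global function commutes with morphisms of presheaves of modules. -/
theorem psmul_comp {P Q : PresheafOfModules.{u} X.ringCatSheaf.obj} (g : P ⟶ Q) (r : Coh.Γtop X) :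
    psmul P r ≫ g = g ≫ psmul Q r := by
  apply PresheafOfModules.hom_ext
  intro U
  ext m
  change g.app U (Coh.resTop X U r • m) = Coh.resTop X U r • g.app U m
  exact (g.app U).hom.map_smul _ _

/-- the underlying presheaf map of multiplication by a global function on a sheaf of modules. -/
theorem incl_map_smulModΓ (N : X.Modules) (r : Coh.Γtop X) :
    (incl X.sheaf).map (Formal.smulModΓ N r) = psmul ((incl X.sheaf).obj N) r := by
  apply PresheafOfModules.hom_ext
  intro U
  ext m
  rfl

/-- sheafification is linear over the global functions. -/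
theorem shf_map_psmul (P : PMod X.sheaf) (r : Coh.Γtop X) :
    (shf X.sheaf).map (psmul P r) = Formal.smulModΓ ((shf X.sheaf).obj P) r := by
  apply ((adj X.sheaf).homEquiv P ((shf X.sheaf).obj P)).injective
  rw [Adjunction.homEquiv_unit, Adjunction.homEquiv_unit, incl_map_smulModΓ]
  exact ((adj X.sheaf).unit.naturality (psmul P r)).symm.trans
    (psmul_comp ((adj X.sheaf).unit.app P) r)

theorem tens_map (F : X.Modules) {M M' : X.Modules} (f : M ⟶ M') :
    (tens X.sheaf F).map f = (shf X.sheaf).map (underMap X.sheaf f ▷ under X.sheaf F) := rfl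

theorem whiskerRight_smulModΓ (M F : X.Modules) (r : Coh.Γtop X) :
    underMap X.sheaf (Formal.smulModΓ M r) ▷ under X.sheaf F =
      psmul (under X.sheaf M ⊗ under X.sheaf F : PMod X.sheaf) r := by
  apply PresheafOfModules.hom_ext
  intro U
  refine ModuleCat.MonoidalCategory.tensor_ext (M₁ := (under X.sheaf M).obj U)
    (M₂ := (under X.sheaf F).obj U) (fun m f => ?_)
  rfl

/-- tensoring commutes with multiplication by global functions. -/
theorem tens_map_smulModΓ (F M : X.Modules) (r : Coh.Γtop X) :
    (tens X.sheaf F).map (Formal.smulModΓ M r) =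
      Formal.smulModΓ ((tens X.sheaf F).obj M) r := by
  rw [tens_map, whiskerRight_smulModΓ]
  exact shf_map_psmul _ r

/-- the internal hom commutes with multiplication by global functions. -/
theorem sheafHom_map_smulModΓ (F G : X.Modules) (r : Coh.Γtop X) :
    (ModSite.sheafHom (O := X.sheaf) F).map (Formal.smulModΓ G r) =
      Formal.smulModΓ ((ModSite.sheafHom (O := X.sheaf) F).obj G) r := by
  apply ((ModSite.sheafHomAdj (O := X.sheaf) F).homEquiv _ _).symm.injective
  rw [Adjunction.homEquiv_counit, Adjunction.homEquiv_counit, tens_map_smulModΓ]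
  refine ((ModSite.sheafHomAdj (O := X.sheaf) F).counit.naturality (Formal.smulModΓ G r)).trans ?_
  exact KLin.comp_smulModΓ ((ModSite.sheafHomAdj (O := X.sheaf) F).counit.app G) r

end Groth.Agent.Lib.Helper2.SD2
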