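import Groth.Agent.Lib.Helper2.Bridge1
import Groth.Agent.Lib.Helper6.CohTopLeray
import Groth.Agent.S0028
import Groth.Prelude.Def_Coh

/-!
# Natural comparison `H^p(Y, f_* F) ≃ H^p(X, F)` for `f_*`-acyclic sheaves (helper2)

`exists_natural_equiv f p`: for an affine morphism `f : X ⟶ Y` of schemes, a family of additive
equivalences `H^p(Y, f_* M) ≃+ H^p(X, M)` for quasi-coherent `M`, natural with respect to all
morphisms of the underlying abelian sheaves.
-/

universe u
open CategoryTheory Limits AlgebraicGeometry Opposite TopologicalSpace Abelian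

namespace Groth.Agent.Lib.Helper2.Bridge2

open Groth.Agent.Lib.Helper6

variable {X Y : Scheme.{u}} (f : X ⟶ Y)

/-- the constant sheaf `ℤ` -/
noncomputable abbrev ZZ (X : Scheme.{u}) : Sheaf (Opens.grothendieckTopology X) AddCommGrpCat.{u} :=
  (constantSheaf (Opens.grothendieckTopology X) AddCommGrpCat.{u}).obj (AddCommGrpCat.of (ULift ℤ))

/-- inverse image of abelian sheaves -/
noncomputable abbrev Lf : Sheaf (Opens.grothendieckTopology Y) AddCommGrpCat.{u} ⥤
    Sheaf (Opens.grothendieckTopology X) AddCommGrpCat.{u} :=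
  TopCat.Sheaf.pullback AddCommGrpCat.{u} f.base

noncomputable abbrev adjf : Lf f ⊣ Coh.pushAb f :=
  TopCat.Sheaf.pullbackPushforwardAdjunction AddCommGrpCat.{u} f.base

instance : (Lf f).Additive := (adjf f).left_adjoint_additive
instance : PreservesFiniteColimits (Lf f) :=
  (adjf f).leftAdjoint_preservesColimits.{0, 0}.preservesFiniteColimits
instance : PreservesFiniteLimits (Lf f) :=
  CohTopPush.pull_preservesFiniteLimits f.base

noncomputable def secIso :
    Coh.pushAb f ⋙ (sheafSections (Opens.grothendieckTopology Y) AddCommGrpCat.{u}).obj (op ⊤) ≅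
    (sheafSections (Opens.grothendieckTopology X) AddCommGrpCat.{u}).obj (op ⊤) :=
  NatIso.ofComponents (fun F => Iso.refl _) (by intros; simp)

noncomputable def adjX (X : Scheme.{u}) :
    constantSheaf (Opens.grothendieckTopology X) AddCommGrpCat.{u} ⊣
    (sheafSections (Opens.grothendieckTopology X) AddCommGrpCat.{u}).obj (op ⊤) :=
  constantSheafAdj _ _ (isTerminalTop (α := Opens X))

noncomputable def constIso : constantSheaf (Opens.grothendieckTopology X) AddCommGrpCat.{u} ≅
    constantSheaf (Opens.grothendieckTopology Y) AddCommGrpCat.{u} ⋙ Lf f :=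
  Adjunction.leftAdjointUniq (adjX X) (((adjX Y).comp (adjf f)).ofNatIsoRight (secIso f))

/-- `ℤ_X ≅ f⁻¹ ℤ_Y` -/
noncomputable def cIso : ZZ X ≅ (Lf f).obj (ZZ Y) := (constIso f).app _

instance : IsIso (cIso f).hom := inferInstance

attribute [local instance] HasDerivedCategory.standard

/-- `f_*`-acyclic abelian sheaves -/
def Acyc (G : Sheaf (Opens.grothendieckTopology X) AddCommGrpCat.{u}) : Prop :=
  RDAcyc.Acyc (Coh.pushAb f) G

instance : PreservesFiniteLimits (Coh.pushAb f) := CohTopPush.push_pfl f.base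

lemma acyc_step (G : Sheaf (Opens.grothendieckTopology X) AddCommGrpCat.{u}) (hG : Acyc f G) :
    ∃ (I Q : Sheaf (Opens.grothendieckTopology X) AddCommGrpCat.{u}) (i : G ⟶ I) (q : I ⟶ Q)
      (w : i ≫ q = 0) (w' : (Coh.pushAb f).map i ≫ (Coh.pushAb f).map q = 0),
      (ShortComplex.mk i q w).ShortExact ∧ Injective I ∧ Injective ((Coh.pushAb f).obj I) ∧
        Acyc f I ∧ Acyc f Q ∧
        (ShortComplex.mk ((Coh.pushAb f).map i) ((Coh.pushAb f).map q) w').ShortExact := by
  let i := Injective.ι G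
  let q := cokernel.π i
  have hS : (ShortComplex.mk i q (cokernel.condition i)).ShortExact :=
    { exact := ShortComplex.exact_cokernel i }
  have hI : Acyc f (Injective.under G) := Leray.acyc_of_injective _ _
  have hRS := RDAcyc.map_shortExact (Coh.pushAb f) hS
    (RDAcyc.epi_map_g_of_acyc_X₁ (Coh.pushAb f) hS hG)
  exact ⟨Injective.under G, cokernel i, i, q, cokernel.condition i,
    ((ShortComplex.mk i q (cokernel.condition i)).map (Coh.pushAb f)).zero, hS, inferInstance,
    CohTopPush.push_injective f.base _, hI,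
    RDAcyc.acyc_X₃ (Coh.pushAb f) hS hG hI, hRS⟩

/-- the edge map `H^p(Y, f_* G) → H^p(X, G)` -/
noncomputable def edge (G : Sheaf (Opens.grothendieckTopology X) AddCommGrpCat.{u}) (p : ℕ)
    (y : Sheaf.H ((Coh.pushAb f).obj G) p) : Sheaf.H G p :=
  Bridge1.edge (Lf f) (Coh.pushAb f) (adjf f) (cIso f).hom G p y

lemma edge_bijective (G : Sheaf (Opens.grothendieckTopology X) AddCommGrpCat.{u}) (hG : Acyc f G)
    (p : ℕ) : Function.Bijective (edge f G p) :=
  Bridge1.edge_bijective (Lf f) (Coh.pushAb f) (adjf f) (cIso f).hom (Acyc f) (acyc_step f) p G hG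

lemma edge_add (G : Sheaf (Opens.grothendieckTopology X) AddCommGrpCat.{u}) (p : ℕ)
    (y y' : Sheaf.H ((Coh.pushAb f).obj G) p) :
    edge f G p (y + y') = edge f G p y + edge f G p y' :=
  Bridge1.edge_add _ _ _ _ _ _ _ _

lemma edge_naturality {G G' : Sheaf (Opens.grothendieckTopology X) AddCommGrpCat.{u}} (g : G ⟶ G')
    (p : ℕ) (y : Sheaf.H ((Coh.pushAb f).obj G) p) :
    edge f G' p (Sheaf.H.map ((Coh.pushAb f).map g) p y) = Sheaf.H.map g p (edge f G p y) :=
  Bridge1.edge_naturality _ _ _ _ g p y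

/-- the edge equivalence on acyclic sheaves -/
noncomputable def edgeEquiv (G : Sheaf (Opens.grothendieckTopology X) AddCommGrpCat.{u})
    (hG : Acyc f G) (p : ℕ) : Sheaf.H ((Coh.pushAb f).obj G) p ≃+ Sheaf.H G p :=
  AddEquiv.ofBijective
    ({ toFun := edge f G p
       map_zero' := Bridge1.edge_zero _ _ _ _ _ _
       map_add' := edge_add f G p } : Sheaf.H ((Coh.pushAb f).obj G) p →+ Sheaf.H G p)
    (edge_bijective f G hG p)

lemma edgeEquiv_apply (G : Sheaf (Opens.grothendieckTopology X) AddCommGrpCat.{u})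
    (hG : Acyc f G) (p : ℕ) (y : Sheaf.H ((Coh.pushAb f).obj G) p) :
    edgeEquiv f G hG p y = edge f G p y := rfl

lemma acyc_of_isAffineHom [IsAffineHom f] (M : X.Modules) [M.IsQuasicoherent] :
    Acyc f (Coh.toAb M) := by
  refine (RDAcyc.acyc_iff_isZero_rightDerived (Coh.pushAb f) _).2 fun q => ?_
  exact Groth.Agent.S0028.result f M (q + 1) (Nat.succ_pos q)

/-- **natural comparison for affine morphisms** -/
theorem exists_natural_equiv [IsAffineHom f] (p : ℕ) :
    ∃ e : ∀ M : X.Modules, M.IsQuasicoherent →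
        (Coh.HH Y ((Scheme.Modules.pushforward f).obj M) p ≃+ Coh.HH X M p),
      ∀ (M M' : X.Modules) (hM : M.IsQuasicoherent) (hM' : M'.IsQuasicoherent)
        (g : Coh.toAb M ⟶ Coh.toAb M')
        (y : Coh.HH Y ((Scheme.Modules.pushforward f).obj M) p),
        e M' hM' (Sheaf.H.map ((Coh.pushAb f).map g) p y) = Sheaf.H.map g p (e M hM y) :=
  ⟨fun M hM => edgeEquiv f (Coh.toAb M) (@acyc_of_isAffineHom _ _ f _ M hM) p,
    fun M M' hM hM' g y => by
      change edge f (Coh.toAb M') p _ = Sheaf.H.map g p (edge f (Coh.toAb M) p y)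
      exact edge_naturality f g p y⟩

end Groth.Agent.Lib.Helper2.Bridge2
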