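import Groth.Agent.Lib.Helper28.PullbackInv2
import Groth.Agent.Lib.Helper28.TwistIso

/-!
# Projection formula for invertible modules (helper2)

`exists_projection_iso f G hL`: for any morphism `f : X ⟶ Y`, any `O_X`-module `G` and an invertible
`O_Y`-module `L`: `f_* G ⊗ L ≅ f_* (G ⊗ f^* L)`.  Built on helper28's `IsTwist` uniqueness.
-/

set_option autoImplicit false
universe u
open CategoryTheory CategoryTheory.Limits AlgebraicGeometry Opposite TopologicalSpace
noncomputable section

namespace Groth.Agent.Lib.Helper2.Bridge4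

open Groth.Agent.Lib.Helper28 Groth.Agent.Lib.Helper28.QCohLoc Groth.Agent.Lib.Helper28.GenLocus
  Groth.Agent.Lib.Helper28.TensorGen Groth.Agent.Lib.Helper28.PullbackInv

variable {X Y : Scheme.{u}} (f : X ⟶ Y) (G : X.Modules) (L : Y.Modules)

/-- `f_* G ⊗ L` as a twist of `f_* G` by `L` -/
theorem isTwist_tensor :
    IsTwist ((Scheme.Modules.pushforward f).obj G) L (0 + 1)
      (CohB1.tensorMod ((Scheme.Modules.pushforward f).obj G) L)
      (fun W g x => tmulSec ((Scheme.Modules.pushforward f).obj G) L x g) :=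
  (IsTwist.refl ((Scheme.Modules.pushforward f).obj G) L).tensor L (fun _ g => g) 1
    (fun _ _ hg => hg) (fun _ _ _ _ => rfl) (fun _ c g => by rw [pow_one])

/-- `f_* (G ⊗ f^* L)` as a twist of `f_* G` by `L` -/
theorem isTwist_push :
    IsTwist ((Scheme.Modules.pushforward f).obj G) L (0 + 1)
      ((Scheme.Modules.pushforward f).obj (CohB1.tensorMod G ((Scheme.Modules.pullback f).obj L)))
      (fun W g x => tmulSec G ((Scheme.Modules.pullback f).obj L)
        (show Γ(G, f ⁻¹ᵁ W) from x) (pbs f L W g)) where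
  bij W g hg := tmulSec_right_bijective G _ (isGen_pbs (f := f) hg)
  add W g x y := tmulSec_add_left G _ _ _ _
  smul W g a x := tmulSec_smul_left G _ (f.app W a) (show Γ(G, f ⁻¹ᵁ W) from x) (pbs f L W g)
  res W W' h g x := by
    show QCohLoc.res (CohB1.tensorMod G ((Scheme.Modules.pullback f).obj L)) (f.preimage_mono h) _ = _
    rw [tmulSec_res, ← pbs_res]
    rfl
  hom W c g x := by
    show tmulSec G _ _ (pbs f L W (c • g : Γ(L, W))) = _
    rw [pbs_smul, tmulSec_smul_right, pow_one]
    rfl

/-- **projection formula for an invertible module** -/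
theorem exists_projection_iso (hL : PicF.IsInvertible L) :
    Nonempty (CohB1.tensorMod ((Scheme.Modules.pushforward f).obj G) L ≅
      (Scheme.Modules.pushforward f).obj (CohB1.tensorMod G ((Scheme.Modules.pullback f).obj L))) := by
  obtain ⟨ψ, -⟩ := IsTwist.exists_iso (isTwist_tensor f G L) (isTwist_push f G L) hL
  exact ⟨ψ⟩

end Groth.Agent.Lib.Helper2.Bridge4
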