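import Groth.Agent.Lib.Helper2.SD3
import Groth.Agent.Lib.Helper2.DualE2

/-!
# `Hom(F, G) ≃ H^0(ℋom(F, G))`, naturally and linearly (helper2)
-/

set_option backward.isDefEq.respectTransparency.types false
set_option autoImplicit false
universe u
open CategoryTheory CategoryTheory.Limits AlgebraicGeometry Opposite TopologicalSpace Abelian

noncomputable section

namespace Groth.Agent.Lib.Helper2.SD4

open Groth.Agent.Lib.Helper1.ModFlat Groth.Agent.Lib.Helper6 Groth.Agent.Lib.Helper2.SD3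
  Groth.Agent.Lib.Helper2.SerreFin1

variable {X : Scheme.{u}}

/-- global sections as `H^0`. -/
def h0 (P : X.Modules) : (ModSite.unit X.sheaf ⟶ P) ≃+ Coh.HH X P 0 :=
  (AddEquiv.ofBijective (ModAbCoh.α (ModSite.ringSh X.sheaf) P)
    (ModAbCoh.α_bijective (ModSite.ringSh X.sheaf) P)).trans Ext.addEquiv₀.symm

theorem h0_naturality {P P' : X.Modules} (g : P ⟶ P') (φ : ModSite.unit X.sheaf ⟶ P) :
    h0 P' (φ ≫ g) =
      Sheaf.H.map ((SheafOfModules.toSheaf X.ringCatSheaf).map g) 0 (h0 P φ) := by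
  rw [Sheaf.H.map_apply]
  change Ext.mk₀ (ModAbCoh.c (ModSite.ringSh X.sheaf) ≫
      (SheafOfModules.toSheaf (ModSite.ringSh X.sheaf)).map (φ ≫ g)) =
    (Ext.mk₀ (ModAbCoh.c (ModSite.ringSh X.sheaf) ≫
      (SheafOfModules.toSheaf (ModSite.ringSh X.sheaf)).map φ)).comp
      (Ext.mk₀ ((SheafOfModules.toSheaf X.ringCatSheaf).map g)) (add_zero 0)
  rw [Ext.mk₀_comp_mk₀, Functor.map_comp, Category.assoc]

variable (F : X.Modules)

/-- `Hom(F, G) ≃ H^0(ℋom(F, G))`. -/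
def Φ (G : X.Modules) : (F ⟶ G) ≃+ Coh.HH X ((T F).obj G) 0 :=
  (LocGlobExtSS.homEquiv X.sheaf F G).symm.trans (h0 ((T F).obj G))

theorem Φ_naturality {G G' : X.Modules} (g : G ⟶ G') (φ : F ⟶ G) :
    Φ F G' (φ ≫ g) =
      Sheaf.H.map ((SheafOfModules.toSheaf X.ringCatSheaf).map ((T F).map g)) 0 (Φ F G φ) := by
  have h1 : (LocGlobExtSS.homEquiv X.sheaf F G').symm (φ ≫ g) =
      (LocGlobExtSS.homEquiv X.sheaf F G).symm φ ≫ (T F).map g := by
    apply (LocGlobExtSS.homEquiv X.sheaf F G').injective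
    rw [AddEquiv.apply_symm_apply, LocGlobExtSS.homEquiv_naturality, AddEquiv.apply_symm_apply]
  change h0 ((T F).obj G') ((LocGlobExtSS.homEquiv X.sheaf F G').symm (φ ≫ g)) = _
  rw [h1, h0_naturality]
  rfl

section Linear

variable (A : Type u) [CommRing A] [X.Over (Spec (CommRingCat.of A))]

theorem HHlin_smulMod_apply (M : X.Modules) (a : A) (p : ℕ) (y : Coh.HH X M p) :
    Canon.HHlin A (Formal.smulMod A M a) p y = a • y := rfl

theorem Φ_smul (G : X.Modules) (a : A) (φ : F ⟶ G) : Φ F G (a • φ) = a • Φ F G φ := by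
  have h1 : a • φ = φ ≫ Formal.smulMod A G a := by
    rw [KLin.smul_def]
    exact (KLin.comp_smulModΓ φ _).symm
  rw [h1, Φ_naturality, ← HHlin_smulMod_apply A ((T F).obj G) a 0 (Φ F G φ)]
  change Sheaf.H.map ((SheafOfModules.toSheaf X.ringCatSheaf).map
    ((T F).map (Formal.smulModΓ G (Coh.toGlobal (X ↘ Spec (CommRingCat.of A)) a)))) 0 (Φ F G φ) = _
  rw [Groth.Agent.Lib.Helper2.SD2.sheafHom_map_smulModΓ]
  rfl

/-- `Hom(F, G) ≃ H^0(ℋom(F, G))`, as a linear equivalence. -/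
def ΦL (G : X.Modules) : (F ⟶ G) ≃ₗ[A] Coh.HH X ((T F).obj G) 0 where
  __ := Φ F G
  map_smul' a φ := Φ_smul F A G a φ

theorem ΦL_naturality {G G' : X.Modules} (g : G ⟶ G') (φ : F ⟶ G) :
    ΦL F A G' (φ ≫ g) = Canon.HHlin A ((T F).map g) 0 (ΦL F A G φ) :=
  Φ_naturality F g φ

end Linear

end Groth.Agent.Lib.Helper2.SD4
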