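import Groth.Agent.Lib.Helper2.SD2
import Groth.Agent.Lib.Helper2.SD4
import Groth.Agent.Lib.Helper2.SerreFin1
import Groth.Agent.Lib.Helper16.Stk7

/-!
# Tensoring with a flat module: monos, linearity (helper2)
-/

set_option backward.isDefEq.respectTransparency.types false
set_option autoImplicit false
universe u
open CategoryTheory CategoryTheory.Limits AlgebraicGeometry Opposite TopologicalSpace MonoidalCategory

noncomputable section

namespace Groth.Agent.Lib.Helper2.GSplit2

open Groth.Agent.Lib.Helper1.ModFlat Groth.Agent.Lib.Helper1.TensorAdj Groth.Agent.Lib.Helper16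
  Groth.Agent.Lib.Helper2.SD2 Groth.Agent.Lib.Helper2.SerreFin1

variable {X : Scheme.{u}}

/-- `E ⊗ -`. -/
abbrev TL (E : X.Modules) : X.Modules ⥤ X.Modules := DCoh.tensorBi.obj E

theorem TL_obj (E N : X.Modules) : (TL E).obj N = CohB1.tensorMod E N := rfl

theorem TL_eq (E : X.Modules) : TL E = tensL X.sheaf E := rfl

/-- tensoring with a flat module preserves monomorphisms. -/
theorem mono_TL_map (E : X.Modules) (hE : FlatMod.IsFlat E) {N N' : X.Modules} (f : N ⟶ N')
    [Mono f] : Mono ((TL E).map f) := by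
  apply Stk.mono_of_forall_stalk
  intro x
  haveI : Module.Flat (X.presheaf.stalk x) ((Stk.stk x).obj E) := hE x
  haveI : PreservesFiniteLimits (tensorLeft ((Stk.stk x).obj E)) :=
    (Module.Flat.iff_preservesFiniteLimits_tensorLeft _).1 inferInstance
  haveI : Mono ((Stk.stk x).map f) := inferInstance
  haveI : Mono ((Stk.stk x).obj E ◁ (Stk.stk x).map f) :=
    (tensorLeft ((Stk.stk x).obj E)).map_mono ((Stk.stk x).map f)
  have h := Stk.stalkTensorIso_natR x E f
  have h2 : (Stk.stk x).map ((TL E).map f) = (Stk.stalkTensorIso x E N).inv ≫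
      ((Stk.stk x).obj E ◁ (Stk.stk x).map f) ≫ (Stk.stalkTensorIso x E N').hom := by
    rw [h, Iso.inv_hom_id_assoc]
  rw [h2]
  infer_instance

theorem tensL_map (E : X.Modules) {M M' : X.Modules} (f : M ⟶ M') :
    (tensL X.sheaf E).map f = (shf X.sheaf).map (under X.sheaf E ◁ underMap X.sheaf f) := rfl

theorem whiskerLeft_smulModΓ (E M : X.Modules) (r : Coh.Γtop X) :
    under X.sheaf E ◁ underMap X.sheaf (Formal.smulModΓ M r) =
      psmul (under X.sheaf E ⊗ under X.sheaf M : PMod X.sheaf) r := by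
  apply PresheafOfModules.hom_ext
  intro U
  refine ModuleCat.MonoidalCategory.tensor_ext (M₁ := (under X.sheaf E).obj U)
    (M₂ := (under X.sheaf M).obj U) (fun m f => ?_)
  have key : ∀ (c : ((X.sheaf.obj ⋙ forget₂ CommRingCat RingCat).obj U)),
      m ⊗ₜ[((X.sheaf.obj ⋙ forget₂ CommRingCat RingCat).obj U)] (c • f) =
        c • (m ⊗ₜ[((X.sheaf.obj ⋙ forget₂ CommRingCat RingCat).obj U)] f) :=
    fun c => TensorProduct.tmul_smul c m f
  exact key (Coh.resTop X U r)

theorem TL_map_smulModΓ (E M : X.Modules) (r : Coh.Γtop X) :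
    (TL E).map (Formal.smulModΓ M r) = Formal.smulModΓ ((TL E).obj M) r := by
  change (tensL X.sheaf E).map (Formal.smulModΓ M r) = _
  rw [tensL_map, whiskerLeft_smulModΓ]
  exact shf_map_psmul _ r

section Linear

variable (A : Type u) [CommRing A] [X.Over (Spec (CommRingCat.of A))]

theorem TL_map_smul (E : X.Modules) {M M' : X.Modules} (a : A) (f : M ⟶ M') :
    (TL E).map (a • f) = a • (TL E).map f := by
  rw [KLin.smul_def, KLin.smul_def, Functor.map_comp]
  congr 1
  exact TL_map_smulModΓ E M _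

theorem HHlin_smul_apply {F G : X.Modules} (a : A) (φ : F ⟶ G) (p : ℕ) (y : Coh.HH X F p) :
    Canon.HHlin A (a • φ) p y = a • Canon.HHlin A φ p y := by
  rw [KLin.smul_def, ← HHlin_comp_apply, Groth.Agent.Lib.Helper2.SD4.HHlin_smulMod_apply,
    map_smul]

theorem HHlin_add_apply {F G : X.Modules} (φ ψ : F ⟶ G) (p : ℕ) (y : Coh.HH X F p) :
    Canon.HHlin A (φ + ψ) p y = Canon.HHlin A φ p y + Canon.HHlin A ψ p y := by
  have h1 : (SheafOfModules.toSheaf X.ringCatSheaf).map (φ + ψ) =
      (SheafOfModules.toSheaf X.ringCatSheaf).map φ +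
        (SheafOfModules.toSheaf X.ringCatSheaf).map ψ :=
    Functor.map_add (F := SheafOfModules.toSheaf.{u} X.ringCatSheaf)
  change Sheaf.H.map ((SheafOfModules.toSheaf X.ringCatSheaf).map (φ + ψ)) p y =
    Sheaf.H.map ((SheafOfModules.toSheaf X.ringCatSheaf).map φ) p y +
      Sheaf.H.map ((SheafOfModules.toSheaf X.ringCatSheaf).map ψ) p y
  rw [h1, Sheaf.H.map_add_apply]

theorem injective_HHlin_zero_of_mono {F G : X.Modules} (φ : F ⟶ G) [Mono φ] :
    Function.Injective (Canon.HHlin A φ 0) := by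
  haveI h1 : PreservesFiniteLimits (SheafOfModules.toSheaf.{u} X.ringCatSheaf) := inferInstance
  haveI h2 : (SheafOfModules.toSheaf.{u} X.ringCatSheaf).PreservesMonomorphisms :=
    preservesMonomorphisms_of_preservesLimitsOfShape _
  haveI : Mono ((SheafOfModules.toSheaf.{u} X.ringCatSheaf).map φ) :=
    @Functor.map_mono _ _ _ _ (SheafOfModules.toSheaf.{u} X.ringCatSheaf) h2 _ _ φ ‹Mono φ›
  exact Abelian.Ext.postcomp_mk₀_injective_of_mono _
    ((SheafOfModules.toSheaf X.ringCatSheaf).map φ)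

end Linear

end Groth.Agent.Lib.Helper2.GSplit2
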