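import Groth.Agent.Lib.Helper2.SerreFin1
import Groth.Agent.Lib.Helper28.TwistNegGen
import Groth.Agent.Lib.Helper28.TwistCov
import Groth.Agent.Lib.Helper28.Segre5
import Groth.Agent.Lib.Helper6.DevPow
import Groth.Agent.Lib.Helper1.LocFree3
import Groth.Agent.S2357
import Groth.Agent.S0022

/-!
# Finiteness of the cohomology of coherent modules on `P^n_R`, `R` Noetherian (helper2)
-/

set_option backward.isDefEq.respectTransparency.types false
set_option autoImplicit false
universe u
open CategoryTheory CategoryTheory.Limits AlgebraicGeometry Opposite TopologicalSpace Abelian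

noncomputable section

namespace Groth.Agent.Lib.Helper2.SerreFin2

open Groth.Agent.Lib.Helper2.ProjCoh3 Groth.Agent.Lib.Helper2.ProjCoh4 Groth.Agent.Lib.Helper2.ProjCoh5
  Groth.Agent.Lib.Helper2.SerreFin1 Groth.Agent.Lib.Helper2.HLesLin

variable (n : ℕ) (R : Type u) [CommRing R]

open Classical in
/-- the variables, as a finset. -/
def vars : Finset (PA n R) := Finset.univ.image (fun i : Fin (n + 1) => (MvPolynomial.X i : PA n R))

theorem vars_mem (f : PA n R) (hf : f ∈ vars n R) : f ∈ gr n R 1 := by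
  classical
  rw [vars] at hf
  obtain ⟨i, -, rfl⟩ := Finset.mem_image.1 hf
  exact X_mem n R i

theorem irrelevant_eq_span :
    (HomogeneousIdeal.irrelevant (gr n R)).toIdeal = Ideal.span ((vars n R : Finset (PA n R)) : Set (PA n R)) := by
  have hrange : ((vars n R : Finset (PA n R)) : Set (PA n R)) =
      Set.range (fun i : Fin (n + 1) => (MvPolynomial.X i : PA n R)) := by
    classical
    ext f
    simp [vars]
  rw [hrange]
  apply le_antisymm
  · exact Groth.Agent.Lib.Helper28.Segre5.irrelevant_le_span (gr n R)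
      (fun i : Fin (n + 1) => (MvPolynomial.X i : PA n R)) (X_mem n R) (MvPolynomial.adjoin_range_X)
  · rw [Ideal.span_le]
    rintro _ ⟨i, rfl⟩
    exact HomogeneousIdeal.mem_irrelevant_of_mem (gr n R) Nat.one_pos (X_mem n R i)

theorem hcov (x : Proj (gr n R)) :
    ∃ f : PA n R, f ∈ gr n R 1 ∧ x ∈ Proj.basicOpen (gr n R) f := by
  have hx : x ∈ ⨆ i, cov n R i := by
    rw [iSup_cov]
    trivial
  obtain ⟨i, hi⟩ := Opens.mem_iSup.1 hx
  exact ⟨MvPolynomial.X i.down, X_mem n R i.down, hi⟩

/-- `O(d)` is coherent. -/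
theorem isCoh_twist (d : ℤ) : Coh.IsCoh (Twist.twist (gr n R) d) := by
  refine ⟨isQCoh_twist n R d, ?_⟩
  refine Groth.Agent.Lib.Helper1.LocFree.isFiniteType_of_locally _ (fun x => ?_)
  obtain ⟨U, hxU, ⟨e⟩⟩ := Groth.Agent.Lib.Helper28.TwistCov.isInvertible_twist (gr n R) (hcov n R) d x
  refine ⟨U, hxU, ?_⟩
  haveI : SheafOfModules.IsFiniteType.{u} (R := (U : Scheme.{u}).ringCatSheaf)
      (Coh.structureModule (U : Scheme.{u})) :=
    (Groth.Agent.Lib.Helper6.DevRed.isCoh_structureModule (X := (U : Scheme.{u}))).2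
  exact Groth.Agent.Lib.Helper17.CohKer.isFiniteType_of_epi e.inv

variable [IsNoetherianRing R]

open Groth.Agent.Lib.Helper6.DevPow Groth.Agent.Lib.Helper6.DevCore in
/-- **Serre's finiteness theorem on `P^n_R`**, by descending induction on the degree. -/
theorem finite_HH : ∀ (t i : ℕ), n + 1 ≤ i + t → ∀ (F : (CohB1.ProjSpace n R).Modules), Coh.IsCoh F →
    Module.Finite R (Coh.HH (CohB1.ProjSpace n R) F i) := by
  intro t
  induction t with
  | zero =>
    intro i hi F hF
    haveI : Coh.IsQCoh F := hF.1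
    haveI := Groth.Agent.S0022.result n R F i (by omega)
    exact Module.Finite.of_finite
  | succ t ih =>
    intro i hi F hF
    have IH := ih (i + 1) (by omega)
    haveI : IsNoetherian (Proj (gr n R)) := Groth.Agent.S2357.result (gr n R)
    haveI : IsLocallyNoetherian (CohB1.ProjSpace n R) :=
      (inferInstance : IsLocallyNoetherian (Proj (gr n R)))
    let F' : (Proj (gr n R)).Modules := F
    haveI : F'.IsQuasicoherent := hF.1
    haveI : SheafOfModules.IsFiniteType.{u} (R := (Proj (gr n R)).ringCatSheaf) F' := hF.2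
    obtain ⟨m₀, hm₀⟩ := Groth.Agent.Lib.Helper28.GammaStar.exists_locGen_twistNeg (𝒜 := gr n R)
      (s := vars n R) (F := F') (vars_mem n R) (irrelevant_eq_span n R)
    obtain ⟨k, φ, hφ⟩ := hm₀ m₀ le_rfl
    let E : (CohB1.ProjSpace n R).Modules := ∐ fun _ : Fin k => Twist.twist (gr n R) (-(m₀ : ℤ))
    let p : E ⟶ F := Sigma.desc φ
    haveI : Epi p := hφ.epi_desc
    have hE : Coh.IsCoh E := isCoh_sigma_fin k _ (fun _ => isCoh_twist n R _)
    have hK : Coh.IsCoh (kernel p) := isCoh_kernel p hE hF
    let S : ShortComplex (CohB1.ProjSpace n R).Modules :=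
      ShortComplex.mk (kernel.ι p) p (kernel.condition p)
    have hS : S.ShortExact :=
      { exact := ShortComplex.exact_kernel p
        mono_f := inferInstanceAs (Mono (kernel.ι p))
        epi_g := inferInstanceAs (Epi p) }
    have h2 : Module.Finite R (Coh.HH (CohB1.ProjSpace n R) E i) :=
      finite_sigma R (fun _ : Fin k => (Twist.twistProjSpace n R (-(m₀ : ℤ)))) i
        (fun _ => finite_HH_twist n R _ i)
    have h1 : Module.Finite R (Coh.HH (CohB1.ProjSpace n R) (kernel p) (i + 1)) := IH _ hK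
    exact finite₃ S hS R i h2 h1

end Groth.Agent.Lib.Helper2.SerreFin2
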