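import Groth.Agent.Lib.Helper2.Bridge3
import Groth.Agent.Lib.Helper2.Bridge4
import Groth.Agent.Lib.Helper2.SerreFin2
import Groth.Agent.Lib.Helper17.TensorQC
import Groth.Agent.Lib.Helper6.K0Op

/-!
# Cohomology of twists on a closed subscheme of `P^n_R` via projective space (helper2)

`nonempty_twist_linearEquiv`: for an affine `i : X ⟶ P^n_R` over `R` and a quasi-coherent `F`:
`H^q(X, F ⊗ i^* O(d)) ≃ₗ[R] H^q(P^n_R, i_* F ⊗ O(d))`.
-/

set_option backward.isDefEq.respectTransparency.types false
set_option autoImplicit false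
universe u
open CategoryTheory CategoryTheory.Limits AlgebraicGeometry Opposite TopologicalSpace

noncomputable section

namespace Groth.Agent.Lib.Helper2.Bridge5

open Groth.Agent.Lib.Helper2.SerreFin1 Groth.Agent.Lib.Helper2.SerreFin2 Groth.Agent.Lib.Helper2.ProjCoh3

section General

variable (A : Type u) [CommRing A] {X : Scheme.{u}} [X.Over (Spec (CommRingCat.of A))]

/-- linear iso-invariance of cohomology -/
def HHlinEquiv {M M' : X.Modules} (e : M ≅ M') (p : ℕ) : Coh.HH X M p ≃ₗ[A] Coh.HH X M' p :=
  LinearEquiv.ofLinear (Canon.HHlin A e.hom p) (Canon.HHlin A e.inv p)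
    (by
      ext y
      exact (HHlin_comp_apply A e.inv e.hom p y).trans
        (by rw [e.inv_hom_id]; exact HHlin_id_apply A p y))
    (by
      ext y
      exact (HHlin_comp_apply A e.hom e.inv p y).trans
        (by rw [e.hom_inv_id]; exact HHlin_id_apply A p y))

end General

variable (R : Type u) [CommRing R] (n : ℕ)

theorem isInvertible_twist (d : ℤ) : PicF.IsInvertible (Twist.twistProjSpace n R d) :=
  Groth.Agent.Lib.Helper28.TwistCov.isInvertible_twist (gr n R) (hcov n R) d

variable {X : Scheme.{u}} [X.Over (Spec (CommRingCat.of R))] (i : X ⟶ CohB1.ProjSpace n R)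
  [IsAffineHom i]

theorem isQuasicoherent_twistOn (F : X.Modules) [F.IsQuasicoherent] (d : ℤ) :
    (CohB1.tensorMod F ((Scheme.Modules.pullback i).obj (Twist.twistProjSpace n R d))).IsQuasicoherent := by
  haveI : ((Scheme.Modules.pullback i).obj (Twist.twistProjSpace n R d)).IsQuasicoherent :=
    Groth.Agent.Lib.Helper28.InvQC.isQuasicoherent_of_isInvertible _
      (Groth.Agent.Lib.Helper28.PullbackInv.isInvertible_pullback i (isInvertible_twist R n d))
  infer_instance

/-- **cohomology of twists on `X` computed on projective space** -/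
theorem nonempty_twist_linearEquiv
    (hi : i ≫ CohB1.ProjSpace.toSpec n R = X ↘ Spec (CommRingCat.of R))
    (F : X.Modules) [F.IsQuasicoherent] (d : ℤ) (q : ℕ) :
    Nonempty (Coh.HH X (CohB1.tensorMod F ((Scheme.Modules.pullback i).obj
        (Twist.twistProjSpace n R d))) q ≃ₗ[R]
      Coh.HH (CohB1.ProjSpace n R) (CohB1.tensorMod ((Scheme.Modules.pushforward i).obj F)
        (Twist.twistProjSpace n R d)) q) := by
  obtain ⟨e, -⟩ := Bridge3.exists_natural_linearEquiv R i hi q
  obtain ⟨ψ⟩ := Bridge4.exists_projection_iso i F _ (isInvertible_twist R n d)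
  exact ⟨(e _ (isQuasicoherent_twistOn R n i F d)).symm ≪≫ₗ HHlinEquiv R ψ.symm q⟩

end Groth.Agent.Lib.Helper2.Bridge5
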