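import Groth.Agent.Lib.Helper2.TwEq1
import Groth.Agent.Lib.Helper2.SerreFin2
import Groth.Agent.Lib.Helper6.ModAbCoh
import Groth.Agent.Lib.Helper28.TwistMul
import Groth.Agent.Lib.Helper28.TwistInv
import Mathlib.Algebra.Homology.DerivedCategory.Ext.MapBijective

/-!
# `Ext^i(O(a), O(c)) = H^i(P^n, O(c - a))` on projective space: the vanishing (helper2)
-/

set_option backward.isDefEq.respectTransparency.types false
set_option autoImplicit false
universe u
open CategoryTheory CategoryTheory.Limits AlgebraicGeometry Opposite TopologicalSpace Abelian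

noncomputable section

namespace Groth.Agent.Lib.Helper2.TwEq2

open Groth.Agent.Lib.Helper2.ProjCoh3 Groth.Agent.Lib.Helper2.ProjCoh4 Groth.Agent.Lib.Helper2.ProjCoh5
  Groth.Agent.Lib.Helper2.SerreFin2 Groth.Agent.Lib.Helper28 Groth.Agent.Lib.Helper1.ModFlat
  Groth.Agent.Lib.Helper1.TensorAssoc3

section General

variable {C : Type*} [Category C] [Abelian C] [HasExt.{u} C]

theorem subsingleton_ext_of_isos {A A' B B' : C} (a : A ≅ A') (b : B ≅ B') (n : ℕ)
    (h : Subsingleton (Ext A' B' n)) : Subsingleton (Ext A B n) := by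
  have h1 : Subsingleton (Ext A B' n) := by
    have ha : ∀ x : Ext A B' n, x = 0 := by
      intro x
      have h1 : (Ext.mk₀ a.inv).comp x (zero_add _) = 0 := h.elim _ _
      have h2 := congrArg (fun z => (Ext.mk₀ a.hom).comp z (zero_add n)) h1
      simpa [Ext.mk₀_comp_mk₀_assoc, Ext.mk₀_id_comp] using h2
    exact ⟨fun x y => (ha x).trans (ha y).symm⟩
  have hb : ∀ x : Ext A B n, x = 0 := by
    intro x
    have e1 : x = (x.comp (Ext.mk₀ b.hom) (add_zero n)).comp (Ext.mk₀ b.inv) (add_zero n) := by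
      rw [Ext.comp_assoc_of_third_deg_zero, Ext.mk₀_comp_mk₀, b.hom_inv_id, Ext.comp_mk₀_id]
    rw [e1, Subsingleton.elim (x.comp (Ext.mk₀ b.hom) (add_zero n)) 0, Ext.zero_comp]
  exact ⟨fun x y => (hb x).trans (hb y).symm⟩

/-- an equivalence of abelian categories with enough injectives preserves the vanishing of `Ext`. -/
theorem subsingleton_ext_of_equivalence [EnoughInjectives C] (T : C ⥤ C) [T.IsEquivalence]
    [T.Additive] (A B : C) (n : ℕ) (h : Subsingleton (Ext (T.obj A) (T.obj B) n)) :
    Subsingleton (Ext A B n) := by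
  haveI : T.PreservesInjectiveObjects :=
    Functor.preservesInjectiveObjects_of_adjunction_of_preservesMonomorphisms
      T.asEquivalence.symm.toAdjunction
  have hbij := Functor.mapExt_bijective_of_preservesInjectiveObjects T A B n
  exact hbij.1.subsingleton

end General


variable (n : ℕ) (R : Type u) [CommRing R]

theorem hgen : (HomogeneousIdeal.irrelevant (gr n R)).toIdeal =
    Ideal.span ((gr n R 1 : Submodule R (PA n R)) : Set (PA n R)) :=
  GammaStar.hgen_of_span (vars_mem n R) (irrelevant_eq_span n R)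

/-- the ringed space structure of projective space. -/
abbrev OO : Sheaf (Opens.grothendieckTopology (CohB1.ProjSpace n R)) CommRingCat.{u} :=
  (CohB1.ProjSpace n R).sheaf

theorem nonempty_tensor_twist_iso (a b : ℤ) :
    Nonempty (t (OO n R) (Twist.twistProjSpace n R a) (Twist.twistProjSpace n R b) ≅
      Twist.twistProjSpace n R (a + b)) :=
  TwistMul.nonempty_tensor_iso (gr n R) (hgen n R) a b

theorem nonempty_twist_iso_unit (a : ℤ) (ha : a = 0) :
    Nonempty (Twist.twistProjSpace n R a ≅ ModSite.unit (OO n R)) := by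
  subst ha
  exact TwistInv.nonempty_twist_zero_iso (gr n R) (hgen n R)

theorem nonempty_tensor_twist_iso_unit (a b : ℤ) (hab : a + b = 0) :
    Nonempty (t (OO n R) (Twist.twistProjSpace n R a) (Twist.twistProjSpace n R b) ≅
      ModSite.unit (OO n R)) := by
  obtain ⟨e⟩ := nonempty_tensor_twist_iso n R a b
  obtain ⟨e'⟩ := nonempty_twist_iso_unit n R (a + b) hab
  exact ⟨e ≪≫ e'⟩

/-- tensoring with `O(a)` is an equivalence. -/
theorem isEquivalence_tensL_twist (a : ℤ) :
    (tensL (OO n R) (Twist.twistProjSpace n R a)).IsEquivalence := by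
  obtain ⟨e⟩ := nonempty_tensor_twist_iso_unit n R a (-a) (add_neg_cancel a)
  obtain ⟨e'⟩ := nonempty_tensor_twist_iso_unit n R (-a) a (neg_add_cancel a)
  exact TwEq1.isEquivalence_tensL (OO n R) _ _ e e'


section Prime

variable [HasExt.{u} (SheafOfModules.{u} (CohB1.ProjSpace n R).ringCatSheaf)]

/-- `Ext^i(O, M) = 0` when `H^i(M) = 0`. -/
theorem subsingleton_ext_unit' (M : SheafOfModules.{u} (CohB1.ProjSpace n R).ringCatSheaf) (i : ℕ)
    (h : Subsingleton (Coh.HH (CohB1.ProjSpace n R) M i)) :
    Subsingleton (Ext (SheafOfModules.unit (CohB1.ProjSpace n R).ringCatSheaf) M i) := by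
  obtain ⟨e⟩ := Groth.Agent.Lib.Helper6.ModAbCoh.nonempty_ext_addEquiv
    (CohB1.ProjSpace n R).ringCatSheaf M i
  exact e.toEquiv.subsingleton

/-- **`Ext^i(O(a), O(c)) = 0` for `i > 0` and `c - a > -n-1`**. -/
theorem subsingleton_ext_twist' (a c : ℤ) (i : ℕ) (hi : 0 < i) (h : -((n : ℤ) + 1) < c - a) :
    Subsingleton (Ext (C := SheafOfModules.{u} (CohB1.ProjSpace n R).ringCatSheaf)
      (Twist.twistProjSpace n R a) (Twist.twistProjSpace n R c) i) := by
  haveI := Groth.Agent.Lib.Helper8.SheafModGroth.enoughInjectives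
    (Opens.grothendieckTopology (CohB1.ProjSpace n R)) (CohB1.ProjSpace n R).ringCatSheaf
  haveI := isEquivalence_tensL_twist n R (-a)
  apply subsingleton_ext_of_equivalence (tensL (OO n R) (Twist.twistProjSpace n R (-a)))
  obtain ⟨e1⟩ := nonempty_tensor_twist_iso_unit n R (-a) a (neg_add_cancel a)
  obtain ⟨e2⟩ := nonempty_tensor_twist_iso n R (-a) c
  refine subsingleton_ext_of_isos e1 e2 i ?_
  apply subsingleton_ext_unit'
  exact subsingleton_HH n R (-a + c) i (fun h0 => by omega) (fun hn => by omega)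

end Prime

end Groth.Agent.Lib.Helper2.TwEq2
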