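import Groth.Agent.Lib.Helper2.IntNum4
import Groth.Agent.Lib.Helper2.TwEq2
import Groth.Agent.Lib.Helper2.Bridge5
import Groth.Agent.Lib.Helper28.TwistInv
import Groth.Agent.Lib.Helper28.ProjSpaceBasic
import Groth.Agent.Lib.Helper16.RS6
import Groth.Prelude.Def_Pic13
import Mathlib
set_option backward.isDefEq.respectTransparency.types false
set_option autoImplicit false
set_option linter.style.haveILetI false

/-!
# Intersection numbers, VI: Hilbert coefficients in the binomial basis (helper2)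
-/

universe u
open CategoryTheory CategoryTheory.Limits AlgebraicGeometry Opposite TopologicalSpace

namespace Groth.Agent.Lib.Helper2.IntNum6
open Groth.Agent.Lib.Helper6.K0Filt Groth.Agent.Lib.Helper6.K0Len Groth.Agent.Lib.Helper6.K0Op
  Groth.Agent.Lib.Helper6.K0Tensor Groth.Agent.Lib.Helper4.Snapper Groth.Agent.Lib.Helper2.IntNum1
  Groth.Agent.Lib.Helper2.IntNum2 Groth.Agent.Lib.Helper2.IntNum4

section comb

/-- uniqueness of coefficients in the basis `m ↦ C(m + j, j)` -/
theorem binom_basis_unique : ∀ (N : ℕ) (c : ℕ → ℤ) (m₀ : ℕ),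
    (∀ m, m₀ ≤ m → ∑ j ∈ Finset.range N, c j * ((m + j).choose j : ℤ) = 0) → ∀ j, j < N → c j = 0 := by
  intro N
  induction N with
  | zero => intro c m₀ _ j hj; omega
  | succ N ih =>
    intro c m₀ h
    have h2 : ∀ m, m₀ + 1 ≤ m → ∑ j ∈ Finset.range N, c (j + 1) * ((m + j).choose j : ℤ) = 0 := by
      intro m hm
      obtain ⟨m', rfl⟩ : ∃ m', m = m' + 1 := ⟨m - 1, by omega⟩
      have e1 := h (m' + 1) (by omega)
      have e2 := h m' (by omega)
      rw [Finset.sum_range_succ'] at e1 e2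
      have e3 := congrArg₂ (· - ·) e1 e2
      simp only [sub_self, Nat.choose_zero_right, Nat.cast_one, mul_one, add_sub_add_right_eq_sub] at e3
      rw [← Finset.sum_sub_distrib] at e3
      rw [← e3]
      apply Finset.sum_congr rfl
      intro j _
      rw [← mul_sub]
      congr 1
      have : (m' + 1 + (j + 1)).choose (j + 1) = (m' + 1 + j).choose j + (m' + (j + 1)).choose (j + 1) := by
        have : m' + 1 + (j + 1) = (m' + 1 + j) + 1 := by ring
        rw [this, Nat.choose_succ_succ]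
        congr 2
        omega
      rw [this]
      push_cast
      ring
    have h3 := ih (fun j => c (j + 1)) (m₀ + 1) h2
    have h4 := h m₀ le_rfl
    rw [Finset.sum_range_succ'] at h4
    have h5 : ∑ j ∈ Finset.range N, c (j + 1) * ((m₀ + (j + 1)).choose (j + 1) : ℤ) = 0 := by
      apply Finset.sum_eq_zero
      intro j hj
      rw [h3 j (Finset.mem_range.1 hj), zero_mul]
    rw [h5] at h4
    simp at h4
    intro j hj
    cases j with
    | zero => exact h4
    | succ j => exact h3 j (by omega)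

/-- change of basis from `C(m + j - 1, j)` to `C(m + j, j)` -/
theorem sum_choose_pred_eq (r : ℕ) (B : ℕ → ℤ) (hB : B (r + 1) = 0) (m : ℕ) :
    ∑ j ∈ Finset.range (r + 1), ((m + j - 1).choose j : ℤ) * B j =
      ∑ j ∈ Finset.range (r + 1), (B j - B (j + 1)) * ((m + j).choose j : ℤ) := by
  have h1 : ∀ j, ((m + (j + 1) - 1).choose (j + 1) : ℤ) =
      ((m + (j + 1)).choose (j + 1) : ℤ) - ((m + j).choose j : ℤ) := by
    intro j
    have e1 : m + (j + 1) - 1 = m + j := by omega
    have e2 : m + (j + 1) = (m + j) + 1 := by omega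
    rw [e1, e2, Nat.choose_succ_succ]
    push_cast
    ring
  simp only [sub_mul]
  rw [Finset.sum_sub_distrib]
  rw [Finset.sum_range_succ' (fun j => ((m + j - 1).choose j : ℤ) * B j)]
  simp only [h1]
  rw [Finset.sum_range_succ (fun j => B (j + 1) * ((m + j).choose j : ℤ)), hB, zero_mul, add_zero]
  rw [Finset.sum_range_succ' (fun j => B j * ((m + j).choose j : ℤ))]
  simp only [sub_mul, Finset.sum_sub_distrib, Nat.choose_zero_right, Nat.cast_one, one_mul, mul_one]
  have : ∑ x ∈ Finset.range r, ((m + x).choose x : ℤ) * B (x + 1) =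
      ∑ x ∈ Finset.range r, B (x + 1) * ((m + x).choose x : ℤ) :=
    Finset.sum_congr rfl (fun x _ => mul_comm _ _)
  rw [this]
  have : ∑ x ∈ Finset.range r, ((m + (x + 1)).choose (x + 1) : ℤ) * B (x + 1) =
      ∑ x ∈ Finset.range r, B (x + 1) * ((m + (x + 1)).choose (x + 1) : ℤ) :=
    Finset.sum_congr rfl (fun x _ => mul_comm _ _)
  rw [this]
  ring

end comb

section hilb
variable (k : Type u) [Field k] (X : Scheme.{u}) [X.Over (Spec (CommRingCat.of k))]
  [IsProper (X ↘ Spec (CommRingCat.of k))]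

include k in
theorem cls_mem_Hlt_of_dim (r : ℕ) (hdim : topologicalKrullDim X ≤ r) (G : X.Modules) (hG : Coh.IsCoh G) :
    cls G ∈ Hlt X (r + 1) := by
  apply cls_mem_Hlt G hG r
  exact (topologicalKrullDim_subspace_le X _).trans hdim

/-- `χ(H^m ⊗ G) = Σ_j (B_j - B_{j+1}) C(m + j, j)` with `B_j = χ((1 - [H'])^j [G])` -/
theorem chi_Top_pow_eq (r : ℕ) (hdim : topologicalKrullDim X ≤ r) (H H' : X.Modules) (hH : PicF.IsInvertible H)
    (e : CohB1.tensorMod H H' ≅ Coh.structureModule X) (G : X.Modules) (hG : Coh.IsCoh G) (m : ℕ) :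
    chi k X ((Top H ^ m) (cls G)) =
      ∑ j ∈ Finset.range (r + 1), (chi k X (((1 - Top H') ^ j) (cls G)) -
        chi k X (((1 - Top H') ^ (j + 1)) (cls G))) * ((m + j).choose j : ℤ) := by
  haveI : IsNoetherian X := isNoetherian k X
  have hH' : PicF.IsInvertible H' := Groth.Agent.Lib.Helper6.K0Inv.isInvertible_of_tensor_iso H H' hH e
  have h1 : Top H * (1 - (1 - Top H')) = 1 := by
    rw [sub_sub_cancel]; exact Top_mul_Top_eq_one H H' hH e
  have hz : ((1 - Top H') ^ (r + 1)) (cls G) = 0 := by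
    apply eq_zero_of_mem_Hlt_zero
    apply pow_sub_Top_mem_Hlt H' hH' 0 (r + 1)
    rw [zero_add]
    exact cls_mem_Hlt_of_dim k X r hdim G hG
  have hc : ((1 - Top H') ^ (r + 1)) • (cls G) = (0 : K0 X) := by
    rw [AddMonoid.End.smul_def]; exact hz
  have h2 := pow_smul_eq_sum (Top H) (1 - Top H') h1 (cls G) r hc m
  rw [AddMonoid.End.smul_def] at h2
  rw [h2, map_sum]
  rw [← sum_choose_pred_eq r (fun j => chi k X (((1 - Top H') ^ j) (cls G))) (by simp only [hz, map_zero]) m]
  apply Finset.sum_congr rfl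
  intro j _
  rw [map_zsmul, smul_eq_mul, AddMonoid.End.smul_def]

/-- uniqueness of the Hilbert coefficients -/
theorem coeff_eq (r : ℕ) (hdim : topologicalKrullDim X ≤ r) (H H' : X.Modules) (hH : PicF.IsInvertible H)
    (e : CohB1.tensorMod H H' ≅ Coh.structureModule X) (G : X.Modules) (hG : Coh.IsCoh G)
    (a : _root_.Fin (r + 1) → ℤ)
    (ha : ∀ m : ℕ, chi k X ((Top H ^ m) (cls G)) = ∑ j : _root_.Fin (r + 1), a j * ((m + j).choose j : ℤ))
    (j : _root_.Fin (r + 1)) :
    a j = chi k X (((1 - Top H') ^ (j : ℕ)) (cls G)) - chi k X (((1 - Top H') ^ ((j : ℕ) + 1)) (cls G)) := by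
  let a' : ℕ → ℤ := fun j => if h : j < r + 1 then a ⟨j, h⟩ else 0
  have key := binom_basis_unique (r + 1)
    (fun j => a' j - (chi k X (((1 - Top H') ^ j) (cls G)) - chi k X (((1 - Top H') ^ (j + 1)) (cls G)))) 0
    (by
      intro m _
      simp only [sub_mul]
      rw [Finset.sum_sub_distrib, sub_eq_zero]
      have h1 := chi_Top_pow_eq k X r hdim H H' hH e G hG m
      simp only [sub_mul] at h1
      rw [← h1, ha m, ← Fin.sum_univ_eq_sum_range (fun j => a' j * ((m + j).choose j : ℤ)) (r + 1)]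
      apply Finset.sum_congr rfl
      intro j _
      simp only [a', dif_pos j.2])
    j j.2
  have : a' j = a j := by simp only [a', dif_pos j.2]
  rw [this, sub_eq_zero] at key
  exact key

end hilb

section proj
variable (k : Type u) [Field k] (n : ℕ) {X : Scheme.{u}} (i : X ⟶ CohB1.ProjSpace n k)

/-- `i^* O(1) ⊗ i^* O(-1) ≅ O_X` -/
theorem nonempty_pullback_twist_tensor_iso (a b : ℤ) (hab : a + b = 0) :
    Nonempty (CohB1.tensorMod ((Scheme.Modules.pullback i).obj (Twist.twistProjSpace n k a))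
      ((Scheme.Modules.pullback i).obj (Twist.twistProjSpace n k b)) ≅ Coh.structureModule X) := by
  obtain ⟨e⟩ := Groth.Agent.Lib.Helper2.TwEq2.nonempty_tensor_twist_iso_unit n k a b hab
  obtain ⟨ψ, -⟩ := Groth.Agent.Lib.Helper28.PullbackInv.exists_pullback_tensorMod_iso i
    (Groth.Agent.Lib.Helper2.Bridge5.isInvertible_twist k n a)
    (Groth.Agent.Lib.Helper2.Bridge5.isInvertible_twist k n b)
  exact ⟨ψ.symm ≪≫ (Scheme.Modules.pullback i).mapIso e ≪≫ Groth.Agent.Lib.Helper16.RS.pullbackUnitIso i⟩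

/-- `i^* O(m) ≅ (i^* O(1))^{⊗ m}` -/
theorem nonempty_pullback_twist_iso_tensorPow (m : ℕ) :
    Nonempty ((Scheme.Modules.pullback i).obj (Twist.twistProjSpace n k (m : ℤ)) ≅
      CohB1.tensorPow ((Scheme.Modules.pullback i).obj (Twist.twistProjSpace n k 1)) m) := by
  obtain ⟨e⟩ := Groth.Agent.Lib.Helper28.TwistInv.nonempty_twist_iso_tensorPow
    (Groth.Agent.Lib.Helper2.ProjCoh3.gr n k) (Groth.Agent.Lib.Helper2.TwEq2.hgen n k) m
  obtain ⟨ψ, -⟩ := Groth.Agent.Lib.Helper28.PullbackInv.exists_pullback_tensorPow_iso i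
    (Groth.Agent.Lib.Helper2.Bridge5.isInvertible_twist k n 1) m
  exact ⟨(Scheme.Modules.pullback i).mapIso e ≪≫ ψ⟩

theorem cls_twistOn (G : X.Modules) (hG : Coh.IsCoh G) (m : ℕ) :
    cls (Pic13.twistOn k i G (m : ℤ)) =
      (Top ((Scheme.Modules.pullback i).obj (Twist.twistProjSpace n k 1)) ^ m) (cls G) := by
  have hH : PicF.IsInvertible ((Scheme.Modules.pullback i).obj (Twist.twistProjSpace n k 1)) :=
    Groth.Agent.Lib.Helper28.PullbackInv.isInvertible_pullback i
      (Groth.Agent.Lib.Helper2.Bridge5.isInvertible_twist k n 1)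
  have hHm : PicF.IsInvertible ((Scheme.Modules.pullback i).obj (Twist.twistProjSpace n k (m : ℤ))) :=
    Groth.Agent.Lib.Helper28.PullbackInv.isInvertible_pullback i
      (Groth.Agent.Lib.Helper2.Bridge5.isInvertible_twist k n (m : ℤ))
  obtain ⟨e⟩ := nonempty_pullback_twist_iso_tensorPow k n i m
  unfold Pic13.twistOn
  rw [cls_iso (Groth.Agent.Lib.Helper6.K0Inv.braidIso G _)
    (isCoh_tensorMod _ _ hG (isCoh_of_isInvertible _ hHm)), ← Top_cls _ hHm G hG,
    Top_congr e hHm (Groth.Agent.Lib.Helper28.GenLocus.isInvertible_tensorPow hH m), Top_tensorPow _ hH m]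

end proj

end Groth.Agent.Lib.Helper2.IntNum6
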