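import Groth.Agent.Lib.Helper6.CohTopClosed
import Groth.Agent.Lib.Helper6.ModAbPush

/-!
# Direct image along a closed immersion is exact on modules (helper2)
-/

set_option autoImplicit false
universe u
open CategoryTheory CategoryTheory.Limits AlgebraicGeometry Opposite TopologicalSpace
noncomputable section

namespace Groth.Agent.Lib.Helper2.Bridge7

open Groth.Agent.Lib.Helper6 Groth.Agent.Lib.Helper6.ModAbPush

variable {X Y : Scheme.{u}} (i : X ⟶ Y)

instance : PreservesFiniteLimits (Scheme.Modules.pushforward i) :=
  (Scheme.Modules.pullbackPushforwardAdjunction i).rightAdjoint_preservesLimits.{0, 0}.preservesFiniteLimits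

instance : (Scheme.Modules.pushforward i).Additive :=
  Functor.additive_of_preserves_binary_products _

theorem epi_push_map (hi : Topology.IsClosedEmbedding i.base) {M N : X.Modules} (g : M ⟶ N)
    [Epi g] : Epi ((Scheme.Modules.pushforward i).map g) := by
  haveI : Epi ((tS X).map g) := inferInstance
  have h := CohTopClosed.epi_push_map_of_isClosedEmbedding i.base hi ((tS X).map g)
  have h2 : Epi ((tS Y).map ((Scheme.Modules.pushforward i).map g)) := h
  haveI : (tS Y).Faithful := inferInstanceAs (SheafOfModules.toSheaf.{u} Y.ringCatSheaf).Faithful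
  haveI : (tS Y).ReflectsEpimorphisms := Functor.reflectsEpimorphisms_of_faithful _
  exact (tS Y).epi_of_epi_map h2

theorem shortExact_map_push (hi : Topology.IsClosedEmbedding i.base) (S : ShortComplex X.Modules)
    (hS : S.ShortExact) : (S.map (Scheme.Modules.pushforward i)).ShortExact := by
  have h := (Functor.preservesFiniteLimits_iff_forall_exact_map_and_mono
    (Scheme.Modules.pushforward i)).1 inferInstance S hS
  haveI := hS.epi_g
  exact { exact := h.1, mono_f := h.2, epi_g := epi_push_map i hi S.g }

end Groth.Agent.Lib.Helper2.Bridge7
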