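import Groth.Agent.Lib.Helper2.ProjCoh10

/-!
# The Euler characteristic of `O(n)` on projective space over a field (helper2)
-/

set_option autoImplicit false
universe u
open CategoryTheory AlgebraicGeometry MvPolynomial

noncomputable section

namespace Groth.Agent.Lib.Helper2.ProjCoh11

open Groth.Agent.Lib.Helper2.ProjCoh5 Groth.Agent.Lib.Helper2.ProjCoh10

theorem finrank_homogeneousSubmodule (k : Type u) [Field k] (r D : ℕ) :
    Module.finrank k (homogeneousSubmodule (Fin (r + 1)) k D) = (r + D).choose D := by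
  classical
  rw [homogeneousSubmodule_eq_finsupp_supported]
  rw [LinearEquiv.finrank_eq (AddMonoidAlgebra.supportedEquivFinsupp (R := k) (S := k)
    {d : Fin (r + 1) →₀ ℕ | d.degree = D})]
  let _ : Fintype {d : Fin (r + 1) →₀ ℕ | d.degree = D} :=
    Fintype.ofFinset ((Finset.univ : Finset (Fin (r + 1))).finsuppAntidiag D) (fun m => by
      simp [Finset.mem_finsuppAntidiag, Finsupp.degree_eq_sum])
  rw [Module.finrank_finsupp_self, Fintype.card_ofFinset, Finset.card_finsuppAntidiag_nat_eq_choose]
  simp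

variable (k : Type u) [Field k] (r : ℕ)

theorem finrank_eq_zero (n : ℤ) (j : ℕ) (h₀ : ¬ (j = 0 ∧ 0 ≤ n))
    (hn : ¬ (j = r ∧ n ≤ -((r : ℤ) + 1))) :
    Module.finrank k (Coh.HH (CohB1.ProjSpace r k) (Twist.twistProjSpace r k n) j) = 0 := by
  haveI : Subsingleton (Coh.HH (CohB1.ProjSpace r k) (Twist.twistProjSpace r k n) j) :=
    subsingleton_HH r k n j h₀ hn
  exact Module.finrank_zero_of_subsingleton

/-- **Euler characteristic of `O(n)` on `P^r_k`**. -/
theorem euler (hr : 0 < r) (n : ℤ) :
    ((Finset.range (r + 1)).sum fun j => (-1 : ℤ) ^ j *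
        (Module.finrank k (Coh.HH (CohB1.ProjSpace r k) (Twist.twistProjSpace r k n) j) : ℤ)) =
      Ring.choose (n + r) r := by
  by_cases h0 : 0 ≤ n
  · obtain ⟨D, rfl⟩ := Int.eq_ofNat_of_zero_le h0
    rw [Finset.sum_eq_single 0]
    · obtain ⟨e⟩ := nonempty_linearEquiv_zero r k D
      rw [LinearEquiv.finrank_eq e, finrank_homogeneousSubmodule, pow_zero, one_mul]
      have h1 : ((D : ℤ) + (r : ℤ)) = ((D + r : ℕ) : ℤ) := by push_cast; ring
      rw [h1, Ring.choose_natCast, add_comm r D, Nat.choose_symm_add]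
    · intro j _ hj
      rw [finrank_eq_zero k r _ j (fun h => hj h.1) (fun h => by have := h.2; omega)]
      simp
    · intro h
      exact absurd (Finset.mem_range.mpr (Nat.succ_pos r)) h
  · push Not at h0
    by_cases h1 : n ≤ -((r : ℤ) + 1)
    · obtain ⟨k', hk'⟩ : ∃ k' : ℕ, n = -((r : ℤ) + 1 + k') :=
        ⟨(-n - r - 1).toNat, by rw [Int.toNat_of_nonneg (by omega)]; ring⟩
      subst hk'
      rw [Finset.sum_eq_single r]
      · obtain ⟨e⟩ := nonempty_linearEquiv_top r k k'
        rw [LinearEquiv.finrank_eq e, finrank_homogeneousSubmodule]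
        have h2 : -((r : ℤ) + 1 + k') + r = -((k' : ℤ) + 1) := by ring
        rw [h2, Ring.choose_neg]
        have h3 : ((k' : ℤ) + 1 + (r : ℤ) - 1) = ((k' + r : ℕ) : ℤ) := by push_cast; ring
        rw [h3, Ring.choose_natCast, add_comm r k', Nat.choose_symm_add, Units.smul_def,
          Int.coe_negOnePow_natCast]
        rfl
      · intro j hj hjr
        rw [finrank_eq_zero k r _ j (fun h => by have := h.2; omega) (fun h => hjr h.1)]
        simp
      · intro h
        exact absurd (Finset.mem_range.mpr (Nat.lt_succ_self r)) h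
    · push Not at h1
      rw [Finset.sum_eq_zero]
      · obtain ⟨m, hm⟩ : ∃ m : ℕ, n + r = m := ⟨(n + r).toNat, by
          rw [Int.toNat_of_nonneg (by omega)]⟩
        rw [hm, Ring.choose_natCast, Nat.choose_eq_zero_of_lt (by omega)]
        rfl
      · intro j _
        rw [finrank_eq_zero k r _ j (fun h => by have := h.2; omega)
          (fun h => by have := h.2; omega)]
        simp

end Groth.Agent.Lib.Helper2.ProjCoh11
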