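import Groth.Agent.Lib.Helper2.ProjCoh4
import Groth.Agent.Lib.Helper28.TwistQC
import Groth.Agent.S0013
import Groth.Agent.S0022

/-!
# Vanishing of the cohomology of `O(d)` on projective space (helper2)
-/

set_option autoImplicit false
universe u
open CategoryTheory CategoryTheory.Limits AlgebraicGeometry Opposite TopologicalSpace

noncomputable section

namespace Groth.Agent.Lib.Helper2.ProjCoh5

open Groth.Agent.Lib.Helper28 Groth.Agent.Lib.Helper2.ProjCoh3 Groth.Agent.Lib.Helper2.ProjCoh4
  Groth.Agent.Lib.Helper17.CechElem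

variable (n : ℕ) (R : Type u) [CommRing R]

theorem X_mem (k : Fin (n + 1)) : (MvPolynomial.X k : PA n R) ∈ gr n R 1 :=
  MvPolynomial.isHomogeneous_X R k

theorem iSup_cov : ⨆ i, cov n R i = ⊤ := by
  apply Proj.iSup_basicOpen_eq_top' (gr n R)
    (fun i : Idx.{u} n => (MvPolynomial.X i.down : PA n R))
  · intro i
    exact ⟨1, X_mem n R i.down⟩
  · rw [eq_top_iff]
    intro p hp0
    clear hp0
    induction p using MvPolynomial.induction_on with
    | C a =>
      have : (MvPolynomial.C a : PA n R) ∈ gr n R 0 := MvPolynomial.isHomogeneous_C _ a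
      exact Subalgebra.algebraMap_mem _ (⟨_, this⟩ : gr n R 0)
    | add p q hp hq => exact Subalgebra.add_mem _ hp hq
    | mul_X p k hp => exact Subalgebra.mul_mem _ hp (Algebra.subset_adjoin ⟨ULift.up k, rfl⟩)

theorem isAffineOpen_cov (i : Idx.{u} n) : IsAffineOpen (cov n R i) :=
  Proj.isAffineOpen_basicOpen (gr n R) (MvPolynomial.X i.down) (X_mem n R i.down) one_pos

theorem isAffineOpen_iInf (s : Finset (Idx.{u} n)) (hs : s.Nonempty) :
    IsAffineOpen (⨅ i ∈ s, cov n R i) := by
  classical
  haveI : Scheme.IsSeparated (Proj (gr n R)) := inferInstance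
  induction hs using Finset.Nonempty.cons_induction with
  | singleton a =>
    simp only [Finset.mem_singleton, iInf_iInf_eq_left]
    exact isAffineOpen_cov n R a
  | cons a s ha hs ih =>
    rw [Finset.cons_eq_insert, Finset.iInf_insert]
    exact (isAffineOpen_cov n R a).inf ih

theorem isQCoh_twist (d : ℤ) : Coh.IsQCoh (Twist.twist (gr n R) d) :=
  TwistQC.isQuasicoherent_twist (gr n R) d

/-- Čech cohomology of the standard cover computes the cohomology of `O(d)`. -/
theorem nonempty_equiv (d : ℤ) (q : ℕ) :
    Nonempty (((K (cov n R) (PO R d)).homology q : AddCommGrpCat.{u}) ≃+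
      Coh.HH (Proj (gr n R)) (Twist.twist (gr n R) d) q) :=
  haveI : Coh.IsQCoh (Twist.twist (gr n R) d) := isQCoh_twist n R d
  Groth.Agent.S0013.result (Proj (gr n R)) (cov n R) (iSup_cov n R) (isAffineOpen_iInf n R)
    (Twist.twist (gr n R) d) q

/-- **the vanishing part of the cohomology of projective space**. -/
theorem subsingleton_HH (d : ℤ) (q : ℕ) (h₀ : ¬ (q = 0 ∧ 0 ≤ d))
    (hn : ¬ (q = n ∧ d ≤ -((n : ℤ) + 1))) :
    Subsingleton (Coh.HH (Proj (gr n R)) (Twist.twist (gr n R) d) q) := by
  haveI : Coh.IsQCoh (Twist.twist (gr n R) d) := isQCoh_twist n R d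
  by_cases hq : n < q
  · exact @Groth.Agent.S0022.result n R _ (Twist.twist (gr n R) d) (isQCoh_twist n R d) q hq
  · obtain ⟨e⟩ := nonempty_equiv n R d q
    have hz : IsZero ((K (cov n R) (PO R d)).homology q) := by
      cases q with
      | zero =>
        have hd : d < 0 := by
          by_contra hcon
          exact h₀ ⟨rfl, by omega⟩
        have hn1 : 1 ≤ n := by
          by_contra hcon
          have hn0 : n = 0 := by omega
          exact hn ⟨hn0.symm, by subst hn0; simp; omega⟩
        exact isZero_homology_zero R hn1 hd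
      | succ p =>
        apply isZero_homology_succ R p
        by_cases hlt : p + 1 < n
        · exact Or.inl hlt
        · right
          have hpn : p + 1 = n := by omega
          by_contra hcon
          exact hn ⟨hpn, by omega⟩
    haveI := AddCommGrpCat.subsingleton_of_isZero hz
    exact e.symm.injective.subsingleton

end Groth.Agent.Lib.Helper2.ProjCoh5
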