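import Mathlib
import Groth.Prelude.Def_SpSeq
import Groth.Agent.S8355

/-!
# Collapse of a spectral sequence with abutment at a position which is alone on its diagonal
and whose differentials start/end at zero objects

`collapse`: if `E` is a cohomological spectral sequence with abutment data `a` on `H`, the
filtration of `H (p + q)` is finite, all other terms of total degree `p + q` on the first page
vanish, and all the sources/targets of the differentials at `(p, q)` vanish on the first page,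
then `H (p + q) ≅ E_{r₀}^{p,q}`.
-/

set_option autoImplicit false
universe v u

open CategoryTheory CategoryTheory.Limits

namespace Groth.Agent.Lib.Helper2.SSCollapse

section Fil

variable {C : Type u} [Category.{v} C] [Abelian C] {X : C}

theorem eq_of_isZero_grPiece (F : ℤ → Subobject X) (hF : Antitone F) (p : ℤ)
    (h : IsZero (SpSeq.grPiece F hF p)) : F (p + 1) = F p := by
  have hle : F (p + 1) ≤ F p := hF (Int.le_add_one le_rfl)
  haveI : Epi ((F (p + 1)).ofLE (F p) hle) := by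
    have h' : IsZero (cokernel ((F (p + 1)).ofLE (F p) hle)) := h
    exact Preadditive.epi_of_isZero_cokernel _ h'
  haveI : IsIso ((F (p + 1)).ofLE (F p) hle) := isIso_of_mono_of_epi _
  refine le_antisymm hle ?_
  refine Subobject.le_of_comm (inv ((F (p + 1)).ofLE (F p) hle)) ?_
  rw [IsIso.inv_comp_eq, Subobject.ofLE_arrow]

theorem const_of_isZero_grPiece (F : ℤ → Subobject X) (hF : Antitone F) (a : ℤ) :
    ∀ (k : ℕ), (∀ p : ℤ, a ≤ p → p < a + k → IsZero (SpSeq.grPiece F hF p)) →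
      F (a + k) = F a := by
  intro k
  induction k with
  | zero =>
    intro _
    simp
  | succ k ih =>
    intro h
    have h1 : F (a + k) = F a := ih (fun p hp1 hp2 => h p hp1 (by push_cast; lia))
    have h2 : F (a + k + 1) = F (a + k) :=
      eq_of_isZero_grPiece F hF (a + k) (h (a + k) (by lia) (by push_cast; lia))
    have e : a + ((k + 1 : ℕ) : ℤ) = a + k + 1 := by push_cast; ring
    rw [e, h2, h1]

/-- a finite filtration with a single nonzero graded piece. -/
theorem nonempty_iso_grPiece (F : ℤ → Subobject X) (hF : Antitone F) (p₀ : ℤ)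
    (htop : ∃ a : ℤ, F a = ⊤) (hbot : ∃ b : ℤ, F b = ⊥)
    (h : ∀ p : ℤ, p ≠ p₀ → IsZero (SpSeq.grPiece F hF p)) :
    Nonempty (X ≅ SpSeq.grPiece F hF p₀) := by
  obtain ⟨a, ha⟩ := htop
  obtain ⟨b, hb⟩ := hbot
  have h1 : F p₀ = ⊤ := by
    by_cases hap : p₀ ≤ a
    · exact top_le_iff.1 (ha ▸ hF hap)
    · obtain ⟨k, hk⟩ := Int.eq_ofNat_of_zero_le (show 0 ≤ p₀ - a by lia)
      have := const_of_isZero_grPiece F hF a k (fun p hp1 hp2 => h p (by lia))
      have e : a + (k : ℤ) = p₀ := by lia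
      rw [e, ha] at this
      exact this
  have h2 : F (p₀ + 1) = ⊥ := by
    by_cases hbp : b ≤ p₀ + 1
    · exact le_bot_iff.1 (hb ▸ hF hbp)
    · obtain ⟨k, hk⟩ := Int.eq_ofNat_of_zero_le (show 0 ≤ b - (p₀ + 1) by lia)
      have := const_of_isZero_grPiece F hF (p₀ + 1) k (fun p hp1 hp2 => h p (by lia))
      have e : p₀ + 1 + (k : ℤ) = b := by lia
      rw [e, hb] at this
      exact this.symm
  have hle : F (p₀ + 1) ≤ F p₀ := hF (Int.le_add_one le_rfl)
  have hz : IsZero ((F (p₀ + 1) : Subobject X) : C) := by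
    rw [h2]
    exact IsZero.of_iso (isZero_zero C) Subobject.botCoeIsoZero
  have h0 : (F (p₀ + 1)).ofLE (F p₀) hle = 0 := hz.eq_of_src _ _
  haveI : IsIso (F p₀).arrow := (Subobject.isIso_arrow_iff_eq_top _).2 h1
  have e1 : X ≅ ((F p₀ : Subobject X) : C) := (asIso (F p₀).arrow).symm
  have e2 : ((F p₀ : Subobject X) : C) ≅ cokernel ((F (p₀ + 1)).ofLE (F p₀) hle) :=
    (cokernelZeroIsoTarget (X := ((F (p₀ + 1) : Subobject X) : C))).symm ≪≫
      (cokernelIsoOfEq h0).symm
  exact ⟨e1 ≪≫ e2⟩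

end Fil

section SS

variable {C : Type u} [Category.{v} C] [Abelian C] {r₀ : ℤ}

/-- if both differentials at `pq` on page `k` vanish, then `E_{k+1}^{pq} ≅ E_k^{pq}`. -/
theorem nonempty_page_succ_iso (E : CohomologicalSpectralSequence C r₀) (pq : ℤ × ℤ) (k : ℤ)
    (hk : r₀ ≤ k) (h₁ : (E.page k hk).d (pq - (k, 1 - k)) pq = 0)
    (h₂ : (E.page k hk).d pq (pq + (k, 1 - k)) = 0) :
    Nonempty ((E.page (k + 1) (by lia)).X pq ≅ (E.page k hk).X pq) := by
  have hf : ((E.page k hk).sc pq).f = 0 := by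
    change (E.page k hk).d _ pq = 0
    rw [(ComplexShape.up' ((k, 1 - k) : ℤ × ℤ)).prev_eq' (sub_add_cancel pq ((k, 1 - k) : ℤ × ℤ))]
    exact h₁
  have hg : ((E.page k hk).sc pq).g = 0 := by
    change (E.page k hk).d pq _ = 0
    rw [(ComplexShape.up' ((k, 1 - k) : ℤ × ℤ)).next_eq' rfl]
    exact h₂
  exact ⟨(E.iso k (k + 1) pq rfl hk).symm ≪≫
    (ShortComplex.HomologyData.ofZeros ((E.page k hk).sc pq) hf hg).left.homologyIso⟩

/-- the term at `pq` does not change if all sources and targets of its differentials vanish on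
the first page. -/
theorem nonempty_page_iso (E : CohomologicalSpectralSequence C r₀) (pq : ℤ × ℤ)
    (hout : ∀ r : ℤ, r₀ ≤ r → IsZero ((E.page r₀ le_rfl).X (pq + (r, 1 - r))))
    (hin : ∀ r : ℤ, r₀ ≤ r → IsZero ((E.page r₀ le_rfl).X (pq - (r, 1 - r)))) :
    ∀ (n : ℕ) (k : ℤ) (hk : r₀ ≤ k), k = r₀ + n →
      Nonempty ((E.page k hk).X pq ≅ (E.page r₀ le_rfl).X pq) := by
  intro n
  induction n with
  | zero =>
    intro k hk hkn
    have : k = r₀ := by simpa using hkn
    subst this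
    exact ⟨Iso.refl _⟩
  | succ n ih =>
    intro k hk hkn
    obtain ⟨e⟩ := ih (r₀ + n) (by lia) rfl
    have hz1 : IsZero ((E.page (r₀ + n) (by lia)).X (pq - (r₀ + n, 1 - (r₀ + n)))) :=
      Groth.Agent.S8355.up E _ r₀ le_rfl (hin (r₀ + n) (by lia)) n (r₀ + n) (by lia) rfl
    have hz2 : IsZero ((E.page (r₀ + n) (by lia)).X (pq + (r₀ + n, 1 - (r₀ + n)))) :=
      Groth.Agent.S8355.up E _ r₀ le_rfl (hout (r₀ + n) (by lia)) n (r₀ + n) (by lia) rfl
    obtain ⟨e'⟩ := nonempty_page_succ_iso E pq (r₀ + n) (by lia) (hz1.eq_of_src _ _)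
      (hz2.eq_of_tgt _ _)
    have : k = r₀ + n + 1 := by rw [hkn]; push_cast; ring
    subst this
    exact ⟨e' ≪≫ e⟩

theorem isZero_grPiece_of_eq {H : ℤ → C} {E : CohomologicalSpectralSequence C r₀}
    (a : SpSeq.Abutment E H) (p : ℤ) (m n : ℤ) (hmn : m = n)
    (h : IsZero (SpSeq.grPiece (a.fil m) (a.anti m) p)) :
    IsZero (SpSeq.grPiece (a.fil n) (a.anti n) p) := by
  subst hmn
  exact h

/-- **collapse**: a position alone on its diagonal, with no possible nonzero differential. -/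
theorem collapse (E : CohomologicalSpectralSequence C r₀) {H : ℤ → C} (a : SpSeq.Abutment E H)
    (pq : ℤ × ℤ) (hfin : a.IsFinite (pq.1 + pq.2))
    (hdiag : ∀ p : ℤ, p ≠ pq.1 → IsZero ((E.page r₀ le_rfl).X (p, pq.1 + pq.2 - p)))
    (hout : ∀ r : ℤ, r₀ ≤ r → IsZero ((E.page r₀ le_rfl).X (pq + (r, 1 - r))))
    (hin : ∀ r : ℤ, r₀ ≤ r → IsZero ((E.page r₀ le_rfl).X (pq - (r, 1 - r)))) :
    Nonempty (H (pq.1 + pq.2) ≅ (E.page r₀ le_rfl).X pq) := by
  have hgr : ∀ p : ℤ, p ≠ pq.1 →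
      IsZero (SpSeq.grPiece (a.fil (pq.1 + pq.2)) (a.anti (pq.1 + pq.2)) p) := by
    intro p hp
    have := (Groth.Agent.S8355.result E r₀ le_rfl (p, pq.1 + pq.2 - p) (hdiag p hp)).2 H a
    exact isZero_grPiece_of_eq a p _ _ (by simp) this
  obtain ⟨e1⟩ := nonempty_iso_grPiece (a.fil (pq.1 + pq.2)) (a.anti (pq.1 + pq.2)) pq.1
    hfin.1 hfin.2 hgr
  have hrk : r₀ ≤ a.rk pq := (a.stat pq).1
  obtain ⟨n, hn⟩ := Int.eq_ofNat_of_zero_le (sub_nonneg.mpr hrk)
  obtain ⟨e2⟩ := nonempty_page_iso E pq hout hin n (a.rk pq) hrk (by lia)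
  exact ⟨e1 ≪≫ (a.β pq).symm ≪≫ e2⟩

end SS

end Groth.Agent.Lib.Helper2.SSCollapse
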