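import Groth.Agent.Lib.Helper2.LocalCrit
import Mathlib.RingTheory.Flat.Stability
import Mathlib.RingTheory.Ideal.Quotient.Operations

/-!
Helper library (helper2): flatness from flatness modulo ideals cofinal with the powers of `I`.
-/

set_option autoImplicit false

namespace Groth.Agent.Lib.Helper2.PowCrit

open TensorProduct

section Gen

variable {R : Type*} [CommRing R] {M : Type*} [AddCommGroup M] [Module R M]

/-- an `R`-submodule of `R ⧸ 𝔞` as an ideal -/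
lemma injective_submodule_of_ideal (𝔞 : Ideal R)
    (H : ∀ 𝔮 : Ideal (R ⧸ 𝔞), Function.Injective ((𝔮.subtype.restrictScalars R).lTensor M))
    (Q' : Submodule R (R ⧸ 𝔞)) : Function.Injective (Q'.subtype.lTensor M) := by
  let 𝔮 : Ideal (R ⧸ 𝔞) :=
    { carrier := Q'
      add_mem' := fun ha hb => Q'.add_mem ha hb
      zero_mem' := Q'.zero_mem
      smul_mem' := by
        intro c x hx
        obtain ⟨r, rfl⟩ := Ideal.Quotient.mk_surjective c
        have : (Ideal.Quotient.mk 𝔞 r) • x = r • x := by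
          rw [smul_eq_mul, Algebra.smul_def]; rfl
        rw [this]
        exact Q'.smul_mem r hx }
  let ε : Q' →ₗ[R] 𝔮 :=
    { toFun := fun x => ⟨x.1, x.2⟩
      map_add' := fun _ _ => rfl
      map_smul' := fun _ _ => rfl }
  have hε : Function.Injective ε := fun a b hab =>
    Subtype.ext (congrArg (fun z : 𝔮 => (z : R ⧸ 𝔞)) hab)
  have hεs : Function.Surjective ε := fun y => ⟨⟨y.1, y.2⟩, rfl⟩
  let εe : Q' ≃ₗ[R] 𝔮 := LinearEquiv.ofBijective ε ⟨hε, hεs⟩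
  have hcomp : Q'.subtype = (𝔮.subtype.restrictScalars R) ∘ₗ εe.toLinearMap := by
    ext x; rfl
  rw [hcomp, LinearMap.lTensor_comp, LinearMap.coe_comp]
  exact (H 𝔮).comp (LinearEquiv.lTensor M εe).injective

/-- flatness of `M/𝔞M` over `R/𝔞` gives injectivity of `M ⊗ Q' → M ⊗ R/𝔞`. -/
lemma injective_submodule_quotient_of_flat (𝔞 : Ideal R)
    [Module.Flat (R ⧸ 𝔞) ((R ⧸ 𝔞) ⊗[R] M)] (Q' : Submodule R (R ⧸ 𝔞)) :
    Function.Injective (Q'.subtype.lTensor M) :=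
  injective_submodule_of_ideal 𝔞 (fun 𝔮 =>
    LocalCrit.lTensor_injective_of_flat_baseChange (A := R ⧸ 𝔞) 𝔮.subtype 𝔮.injective_subtype) Q'

/-- base change of flatness along `R/𝔟 → R/𝔠`. -/
lemma flat_quotient_of_le {𝔟 𝔠 : Ideal R} (h : 𝔟 ≤ 𝔠)
    [Module.Flat (R ⧸ 𝔟) ((R ⧸ 𝔟) ⊗[R] M)] : Module.Flat (R ⧸ 𝔠) ((R ⧸ 𝔠) ⊗[R] M) := by
  letI : Algebra (R ⧸ 𝔟) (R ⧸ 𝔠) := (Ideal.Quotient.factor h).toAlgebra
  haveI : IsScalarTower R (R ⧸ 𝔟) (R ⧸ 𝔠) := IsScalarTower.of_algebraMap_eq (fun x => rfl)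
  have : Module.Flat (R ⧸ 𝔠) ((R ⧸ 𝔠) ⊗[R ⧸ 𝔟] ((R ⧸ 𝔟) ⊗[R] M)) := inferInstance
  exact Module.Flat.of_linearEquiv
    (AlgebraTensorModule.cancelBaseChange R (R ⧸ 𝔟) (R ⧸ 𝔠) (R ⧸ 𝔠) M).symm

end Gen

section Main

universe u

variable {R S : Type u} [CommRing R] [CommRing S] [Algebra R S] [IsNoetherianRing R]
  [IsNoetherianRing S] {M : Type u} [AddCommGroup M] [Module R M] [Module S M]
  [IsScalarTower R S M] [Module.Finite S M] (I : Ideal R)

/-- Flatness from flatness modulo ideals contained in arbitrarily high powers of `I`. -/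
theorem flat_of_forall_exists_flat_quotient (hJ : I.map (algebraMap R S) ≤ Ideal.jacobson ⊥)
    (h : ∀ n : ℕ, 0 < n → ∃ 𝔟 : Ideal R, 𝔟 ≤ I ^ n ∧
      Module.Flat (R ⧸ 𝔟) ((R ⧸ 𝔟) ⊗[R] M)) : Module.Flat R M := by
  refine LocalCrit.flat_of_forall_quotient_pow (S := S) I hJ ?_
  intro n hn Q'
  obtain ⟨𝔟, h𝔟, hfl⟩ := h n hn
  haveI := hfl
  haveI : Module.Flat (R ⧸ I ^ n) ((R ⧸ I ^ n) ⊗[R] M) := flat_quotient_of_le h𝔟
  exact injective_submodule_quotient_of_flat (I ^ n) Q'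

/-- Flatness from flatness modulo all powers of `I`. -/
theorem flat_of_forall_flat_quotient_pow (hJ : I.map (algebraMap R S) ≤ Ideal.jacobson ⊥)
    (h : ∀ n : ℕ, 0 < n → Module.Flat (R ⧸ I ^ n) ((R ⧸ I ^ n) ⊗[R] M)) : Module.Flat R M :=
  flat_of_forall_exists_flat_quotient (S := S) I hJ fun n hn => ⟨I ^ n, le_rfl, h n hn⟩

end Main

end Groth.Agent.Lib.Helper2.PowCrit
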