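import Groth.Agent.S0398
import Groth.Agent.Lib.Helper2.PowCrit
import Mathlib.RingTheory.HopkinsLevitzki
import Mathlib.RingTheory.Ideal.Quotient.Noetherian
import Mathlib.RingTheory.KrullDimension.Basic
import Mathlib.RingTheory.LocalRing.RingHom.Basic

/-!
Helper library (helper2): descent of flatness along `A → A'` for local homomorphisms of Noetherian
local rings `A → B`, when the topology of `A` is induced from `A'` (via Artinian quotients).
-/

set_option autoImplicit false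

namespace Groth.Agent.Lib.Helper2.ArtinDescent

open TensorProduct

universe u

variable {A B A' : Type u} [CommRing A] [CommRing B] [CommRing A'] [Algebra A B] [Algebra A A']

/-- If `A' ⊗ B` is `A'`-flat, `𝔞 ⊆ A'` an ideal with `A/(𝔞 ∩ A)` Artinian, then `B/(𝔞 ∩ A)B` is
flat over `A/(𝔞 ∩ A)`. -/
theorem flat_quotient_comap (𝔞 : Ideal A') [IsArtinianRing (A ⧸ 𝔞.comap (algebraMap A A'))]
    [Module.Flat A' (A' ⊗[A] B)] :
    Module.Flat (A ⧸ 𝔞.comap (algebraMap A A')) ((A ⧸ 𝔞.comap (algebraMap A A')) ⊗[A] B) := by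
  haveI : IsScalarTower A (A ⧸ 𝔞.comap (algebraMap A A')) (A' ⧸ 𝔞) :=
    IsScalarTower.of_algebraMap_eq (fun x => rfl)
  have hfl : Module.Flat (A' ⧸ 𝔞) ((A' ⧸ 𝔞) ⊗[A ⧸ 𝔞.comap (algebraMap A A')]
      ((A ⧸ 𝔞.comap (algebraMap A A')) ⊗[A] B)) := by
    let e1 := AlgebraTensorModule.cancelBaseChange A (A ⧸ 𝔞.comap (algebraMap A A')) (A' ⧸ 𝔞)
      (A' ⧸ 𝔞) B
    let e2 := AlgebraTensorModule.cancelBaseChange A A' (A' ⧸ 𝔞) (A' ⧸ 𝔞) B
    exact Module.Flat.of_linearEquiv (e1.trans e2.symm)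
  exact Groth.Agent.S0398.result (R := A ⧸ 𝔞.comap (algebraMap A A')) (S := A' ⧸ 𝔞)
    Ideal.algebraMap_quotient_injective

end Groth.Agent.Lib.Helper2.ArtinDescent

namespace Groth.Agent.Lib.Helper2.ArtinDescent

open TensorProduct

universe u

/-- A quotient of a Noetherian local ring by an ideal containing a power of the maximal ideal is
Artinian. -/
theorem isArtinianRing_quotient_of_pow_le {A : Type u} [CommRing A] [IsNoetherianRing A]
    [IsLocalRing A] (𝔟 : Ideal A) {N : ℕ} (h : IsLocalRing.maximalIdeal A ^ N ≤ 𝔟) :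
    IsArtinianRing (A ⧸ 𝔟) := by
  rw [isArtinianRing_iff_krullDimLE_zero, Ring.krullDimLE_zero_iff]
  intro P hP
  have hP' : (P.comap (Ideal.Quotient.mk 𝔟)).IsPrime := Ideal.comap_isPrime _ P
  have h𝔟 : 𝔟 ≤ P.comap (Ideal.Quotient.mk 𝔟) := by
    intro x hx
    rw [Ideal.mem_comap, Ideal.Quotient.eq_zero_iff_mem.mpr hx]
    exact zero_mem _
  have hm : IsLocalRing.maximalIdeal A ≤ P.comap (Ideal.Quotient.mk 𝔟) :=
    hP'.le_of_pow_le (h.trans h𝔟)
  have heq : P.comap (Ideal.Quotient.mk 𝔟) = IsLocalRing.maximalIdeal A :=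
    ((IsLocalRing.maximalIdeal.isMaximal A).eq_of_le hP'.ne_top hm).symm
  have hmax : (P.comap (Ideal.Quotient.mk 𝔟)).IsMaximal := heq ▸ IsLocalRing.maximalIdeal.isMaximal A
  have hmap : (P.comap (Ideal.Quotient.mk 𝔟)).map (Ideal.Quotient.mk 𝔟) = P :=
    Ideal.map_comap_of_surjective _ Ideal.Quotient.mk_surjective P
  rcases Ideal.map_eq_top_or_isMaximal_of_surjective (Ideal.Quotient.mk 𝔟)
    Ideal.Quotient.mk_surjective hmax with h1 | h1
  · rw [hmap] at h1
    exact absurd h1 hP.ne_top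
  · rwa [hmap] at h1

variable {A B A' : Type u} [CommRing A] [CommRing B] [CommRing A'] [Algebra A B] [Algebra A A']
  [IsNoetherianRing A] [IsLocalRing A] [IsNoetherianRing B] [IsLocalRing B]
  [IsLocalHom (algebraMap A B)]

/-- Descent of flatness along `A → A'` when the `m`-adic topology of `A` is induced by a family of
ideals `𝔞 i` of `A'` whose contractions contain powers of `m`. -/
theorem flat_of_flat_baseChange {ι : Type*} (𝔞 : ι → Ideal A')
    (hpow : ∀ i, ∃ N : ℕ, IsLocalRing.maximalIdeal A ^ N ≤ (𝔞 i).comap (algebraMap A A'))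
    (htop : ∀ n : ℕ, ∃ i, (𝔞 i).comap (algebraMap A A') ≤ IsLocalRing.maximalIdeal A ^ n)
    [Module.Flat A' (A' ⊗[A] B)] : Module.Flat A B := by
  have hJ : (IsLocalRing.maximalIdeal A).map (algebraMap A B) ≤ Ideal.jacobson ⊥ := by
    rw [IsLocalRing.jacobson_eq_maximalIdeal ⊥ bot_ne_top]
    exact IsLocalRing.map_maximalIdeal_le (algebraMap A B)
  refine PowCrit.flat_of_forall_exists_flat_quotient (S := B) (M := B) (IsLocalRing.maximalIdeal A)
    hJ ?_
  intro n _
  obtain ⟨i, hi⟩ := htop n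
  refine ⟨(𝔞 i).comap (algebraMap A A'), hi, ?_⟩
  obtain ⟨N, hN⟩ := hpow i
  haveI : IsArtinianRing (A ⧸ (𝔞 i).comap (algebraMap A A')) :=
    isArtinianRing_quotient_of_pow_le _ hN
  exact flat_quotient_comap (𝔞 i)

end Groth.Agent.Lib.Helper2.ArtinDescent
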