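import Mathlib

/-!
# Classes of finite modules closed under submodules and extensions (helper2)

Let `A` be a noetherian ring and `C` a class of `A`-modules which contains the zero modules, is
closed under submodules (of finite modules) and under extensions.  If `C (A ⧸ p)` for every
associated prime `p` of a finite module `M`, then `C M`  (`of_ass`).

The proof is by noetherian induction, splitting off `N₁ = (0 :_M p)` for `p` maximal among the
associated primes of `M`:  `N₁` is a finite torsion-free `A ⧸ p`-module (`torsionFree` deals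
with these by induction on the number of generators) and `Ass (M ⧸ N₁) ⊆ Ass M`
(`exists_good_prime`).
-/

set_option autoImplicit false

namespace Groth.Agent.Lib.Helper2.AssClass

universe u

variable {A : Type u} [CommRing A] [IsNoetherianRing A]

/-- Closure hypotheses on a class of modules. -/
structure ClassHyp (C : ∀ (N : Type u) [AddCommGroup N] [Module A N], Prop) : Prop where
  zero : ∀ (N : Type u) [AddCommGroup N] [Module A N] [Subsingleton N], C N
  sub : ∀ (N' N : Type u) [AddCommGroup N'] [Module A N'] [AddCommGroup N] [Module A N]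
    [Module.Finite A N] (f : N' →ₗ[A] N), Function.Injective f → C N → C N'
  ext : ∀ (N' N N'' : Type u) [AddCommGroup N'] [Module A N'] [AddCommGroup N] [Module A N]
    [AddCommGroup N''] [Module A N''] [Module.Finite A N] (f : N' →ₗ[A] N) (g : N →ₗ[A] N''),
    Function.Injective f → Function.Surjective g → Function.Exact f g → C N' → C N'' → C N

variable {C : ∀ (N : Type u) [AddCommGroup N] [Module A N], Prop}

theorem ClassHyp.iso (hC : ClassHyp C) {N N' : Type u} [AddCommGroup N] [Module A N]
    [AddCommGroup N'] [Module A N'] [Module.Finite A N] (e : N ≃ₗ[A] N') (h : C N) : C N' :=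
  hC.sub N' N e.symm.toLinearMap e.symm.injective h

/-- Cyclic torsion-free `A ⧸ p`-modules. -/
theorem cyclic (hC : ClassHyp C) (p : Ideal A) [p.IsPrime] (hp : C (A ⧸ p))
    (L : Type u) [AddCommGroup L] [Module A L] (z : L) (hz : Submodule.span A {z} = ⊤)
    (hk : ∀ a ∈ p, ∀ y : L, a • y = 0) (htf : ∀ a, a ∉ p → ∀ y : L, a • y = 0 → y = 0) :
    C L := by
  by_cases hz0 : z = 0
  · haveI : Subsingleton (Submodule A L) :=
      subsingleton_of_bot_eq_top (by rw [← hz, hz0, Submodule.span_zero_singleton])
    haveI : Subsingleton L := (Submodule.subsingleton_iff A).1 this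
    exact hC.zero L
  · let ψ : (A ⧸ p) →ₗ[A] L := Submodule.liftQ p (LinearMap.toSpanSingleton A L z)
      (fun a ha => by
        rw [LinearMap.mem_ker, LinearMap.toSpanSingleton_apply]
        exact hk a ha z)
    have hψ : ∀ a : A, ψ (Submodule.Quotient.mk a) = a • z := fun a => rfl
    have hinj : Function.Injective ψ := by
      rw [injective_iff_map_eq_zero]
      intro c hc
      obtain ⟨a, rfl⟩ := Submodule.Quotient.mk_surjective _ c
      rw [hψ] at hc
      by_contra hne
      have hap : a ∉ p := fun hap => hne ((Submodule.Quotient.mk_eq_zero _).2 hap)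
      exact hz0 (htf a hap z hc)
    have hsurj : Function.Surjective ψ := by
      intro y
      have hy : y ∈ Submodule.span A {z} := by rw [hz]; trivial
      obtain ⟨a, rfl⟩ := Submodule.mem_span_singleton.1 hy
      exact ⟨Submodule.Quotient.mk a, hψ a⟩
    exact hC.iso (LinearEquiv.ofBijective ψ ⟨hinj, hsurj⟩) hp

/-- Finite torsion-free `A ⧸ p`-modules, by induction on the number of generators. -/
theorem torsionFree (hC : ClassHyp C) (p : Ideal A) [p.IsPrime] (hp : C (A ⧸ p)) :
    ∀ (n : ℕ) (L : Type u) [AddCommGroup L] [Module A L] (x : Fin n → L),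
      Submodule.span A (Set.range x) = ⊤ → (∀ a ∈ p, ∀ y : L, a • y = 0) →
      (∀ a, a ∉ p → ∀ y : L, a • y = 0 → y = 0) → C L := by
  intro n
  induction n with
  | zero =>
    intro L _ _ x hx _ _
    haveI : Subsingleton (Submodule A L) :=
      subsingleton_of_bot_eq_top (by rw [← hx, Set.range_eq_empty, Submodule.span_empty])
    haveI : Subsingleton L := (Submodule.subsingleton_iff A).1 this
    exact hC.zero L
  | succ n ih =>
    intro L _ _ x hx hk htf
    haveI : Module.Finite A L :=
      Module.finite_def.2 (Submodule.fg_def.2 ⟨Set.range x, Set.finite_range x, hx⟩)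
    haveI : IsNoetherian A L := isNoetherian_of_isNoetherianRing_of_finite A L
    let L₀ : Submodule A L := Submodule.span A (Set.range (fun i : Fin n => x i.castSucc))
    let Sat : Submodule A L :=
      { carrier := {y | ∃ a, a ∉ p ∧ a • y ∈ L₀}
        zero_mem' := ⟨1, fun h => (‹p.IsPrime›.ne_top) ((Ideal.eq_top_iff_one p).2 h),
          by rw [smul_zero]; exact L₀.zero_mem⟩
        add_mem' := by
          rintro y₁ y₂ ⟨a₁, ha₁, h₁⟩ ⟨a₂, ha₂, h₂⟩
          refine ⟨a₁ * a₂, fun h => (‹p.IsPrime›.mem_or_mem h).elim ha₁ ha₂, ?_⟩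
          have e : (a₁ * a₂) • (y₁ + y₂) = a₂ • (a₁ • y₁) + a₁ • (a₂ • y₂) := by
            rw [smul_add, mul_smul, mul_smul, smul_comm a₁ a₂ y₁]
          rw [e]
          exact L₀.add_mem (L₀.smul_mem _ h₁) (L₀.smul_mem _ h₂)
        smul_mem' := by
          rintro c y ⟨a, ha, h⟩
          refine ⟨a, ha, ?_⟩
          rw [smul_comm]
          exact L₀.smul_mem _ h }
    have hmemSat : ∀ y, y ∈ Sat ↔ ∃ a, a ∉ p ∧ a • y ∈ L₀ := fun y => Iff.rfl
    -- a common denominator
    have hden : ∀ t : Finset L, (∀ y ∈ t, y ∈ Sat) → ∃ a, a ∉ p ∧ ∀ y ∈ t, a • y ∈ L₀ := by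
      classical
      intro t
      induction t using Finset.induction_on with
      | empty =>
        intro _
        exact ⟨1, fun h => (‹p.IsPrime›.ne_top) ((Ideal.eq_top_iff_one p).2 h), by simp⟩
      | insert w t hw iht =>
        intro h
        obtain ⟨a, ha, hat⟩ := iht (fun y hy => h y (Finset.mem_insert_of_mem hy))
        obtain ⟨b, hb, hbw⟩ := (hmemSat w).1 (h w (Finset.mem_insert_self w t))
        refine ⟨a * b, fun h => (‹p.IsPrime›.mem_or_mem h).elim ha hb, ?_⟩
        intro y hy
        rcases Finset.mem_insert.1 hy with rfl | hy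
        · rw [mul_smul]
          exact L₀.smul_mem _ hbw
        · rw [mul_comm, mul_smul]
          exact L₀.smul_mem _ (hat y hy)
    obtain ⟨s, hs⟩ := (IsNoetherian.noetherian Sat : Sat.FG)
    obtain ⟨a, ha, has⟩ := hden s (fun y hy => by
      rw [← hs]; exact Submodule.subset_span hy)
    have haSat : ∀ y ∈ Sat, a • y ∈ L₀ := by
      have : Sat ≤ L₀.comap (LinearMap.lsmul A L a) := by
        rw [← hs, Submodule.span_le]
        intro y hy
        exact has y hy
      intro y hy
      exact this hy
    let φ : ↥Sat →ₗ[A] ↥L₀ :=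
      LinearMap.codRestrict L₀ ((LinearMap.lsmul A L a).comp Sat.subtype)
        (fun y => haSat y.1 y.2)
    have hφ : Function.Injective φ := by
      rw [injective_iff_map_eq_zero]
      intro y hy
      have h1 : a • (y : L) = 0 := congrArg Subtype.val hy
      exact Subtype.ext (htf a ha _ h1)
    -- `L₀` is generated by `n` elements
    have hCL₀ : C ↥L₀ := by
      refine ih ↥L₀ (fun i => ⟨x i.castSucc, Submodule.subset_span ⟨i, rfl⟩⟩) ?_ ?_ ?_
      · apply Submodule.map_injective_of_injective L₀.injective_subtype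
        rw [Submodule.map_span, Submodule.map_subtype_top, ← Set.range_comp]
        rfl
      · intro b hb y
        exact Subtype.ext (hk b hb y)
      · intro b hb y hy
        exact Subtype.ext (htf b hb y (congrArg Subtype.val hy))
    have hCSat : C ↥Sat := hC.sub _ _ φ hφ hCL₀
    -- the quotient is cyclic and torsion-free
    have hCQ : C (L ⧸ Sat) := by
      refine cyclic hC p hp (L ⧸ Sat) (Sat.mkQ (x (Fin.last n))) ?_ ?_ ?_
      · rw [eq_top_iff, ← Submodule.range_mkQ Sat, LinearMap.range_eq_map, ← hx,
          Submodule.map_span, Submodule.span_le]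
        rintro _ ⟨_, ⟨i, rfl⟩, rfl⟩
        induction i using Fin.lastCases with
        | last => exact Submodule.subset_span rfl
        | cast j =>
          have : x j.castSucc ∈ Sat :=
            ⟨1, fun h => (‹p.IsPrime›.ne_top) ((Ideal.eq_top_iff_one p).2 h), by
              rw [one_smul]; exact Submodule.subset_span ⟨j, rfl⟩⟩
          have h0 : Sat.mkQ (x j.castSucc) = 0 := (Submodule.Quotient.mk_eq_zero _).2 this
          rw [h0]
          exact Submodule.zero_mem _
      · intro b hb y
        obtain ⟨y, rfl⟩ := Submodule.Quotient.mk_surjective _ y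
        rw [← Submodule.Quotient.mk_smul, hk b hb y, Submodule.Quotient.mk_zero]
      · intro b hb y hy
        obtain ⟨y, rfl⟩ := Submodule.Quotient.mk_surjective _ y
        rw [← Submodule.Quotient.mk_smul, Submodule.Quotient.mk_eq_zero] at hy
        obtain ⟨c, hc, hcy⟩ := (hmemSat _).1 hy
        rw [Submodule.Quotient.mk_eq_zero]
        refine ⟨c * b, fun h => (‹p.IsPrime›.mem_or_mem h).elim hc hb, ?_⟩
        rw [mul_smul]
        exact hcy
    exact hC.ext ↥Sat L (L ⧸ Sat) Sat.subtype Sat.mkQ Sat.injective_subtype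
      (Submodule.mkQ_surjective _) (LinearMap.exact_subtype_mkQ Sat) hCSat hCQ

/-- A prime `p` maximal among the associated primes of `M`: the submodule `N₁ = (0 :_M p)` is
nonzero, torsion-free over `A ⧸ p`, and `Ass (M ⧸ N₁) ⊆ Ass M`. -/
theorem exists_good_prime (M : Type u) [AddCommGroup M] [Module A M] [Module.Finite A M]
    [Nontrivial M] :
    ∃ p : Ideal A, p ∈ associatedPrimes A M ∧
      Submodule.torsionBySet A M (p : Set A) ≠ ⊥ ∧
      (∀ a, a ∉ p → ∀ y ∈ Submodule.torsionBySet A M (p : Set A), a • y = 0 → y = 0) ∧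
      associatedPrimes A (M ⧸ Submodule.torsionBySet A M (p : Set A)) ⊆
        associatedPrimes A M := by
  obtain ⟨p, hp⟩ := (associatedPrimes.finite A M).exists_maximal (associatedPrimes.nonempty A M)
  have hpA : IsAssociatedPrime p M := hp.prop
  have hmax : ∀ q, IsAssociatedPrime q M → p ≤ q → q = p :=
    fun q hq hpq => le_antisymm (hp.le_of_ge hq hpq) hpq
  haveI : p.IsPrime := hpA.isPrime
  set N₁ := Submodule.torsionBySet A M (p : Set A) with hN₁
  have hmem : ∀ y, y ∈ N₁ ↔ ∀ a ∈ p, a • y = 0 := by
    intro y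
    rw [hN₁, Submodule.mem_torsionBySet_iff]
    exact ⟨fun h a ha => h ⟨a, ha⟩, fun h a => h a a.2⟩
  have hann : ∀ y : M, y ≠ 0 → (∀ a ∈ p, a • y = 0) → ∀ b, b • y = 0 → b ∈ p := by
    intro y hy hpy b hb
    obtain ⟨q, hq, hle⟩ := exists_le_isAssociatedPrime_of_isNoetherianRing A y hy
    have hpq : p ≤ q := fun a ha => hle (Submodule.mem_colon_singleton.2 (by
      rw [hpy a ha]; exact Submodule.zero_mem _))
    have hqp : q = p := hmax q hq hpq
    rw [hqp] at hle
    exact hle (Submodule.mem_colon_singleton.2 (by rw [hb]; exact Submodule.zero_mem _))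
  refine ⟨p, hpA, ?_, ?_, ?_⟩
  · obtain ⟨_, x, hx⟩ := (isAssociatedPrime_iff).1 hpA
    have hx0 : x ≠ 0 := by
      rintro rfl
      apply ‹p.IsPrime›.ne_top
      rw [hx, Ideal.eq_top_iff_one, Submodule.mem_colon_singleton, smul_zero]
      exact Submodule.zero_mem _
    intro hbot
    apply hx0
    have hxN : x ∈ N₁ := (hmem x).2 (fun a ha => by
      rw [hx, Submodule.mem_colon_singleton, Submodule.mem_bot] at ha
      exact ha)
    rw [hN₁, hbot] at hxN
    exact (Submodule.mem_bot A).1 hxN
  · intro a ha y hy hay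
    by_contra hy0
    exact ha (hann y hy0 ((hmem y).1 hy) a hay)
  · intro q hq
    obtain ⟨hqp, x, hx⟩ := (isAssociatedPrime_iff).1 hq
    obtain ⟨x, rfl⟩ := Submodule.Quotient.mk_surjective _ x
    have hqmem : ∀ c, c ∈ q ↔ c • x ∈ N₁ := by
      intro c
      rw [hx, Submodule.mem_colon_singleton, Submodule.mem_bot, ← Submodule.Quotient.mk_smul,
        Submodule.Quotient.mk_eq_zero]
    have hxN : x ∉ N₁ := by
      intro h
      apply hqp.ne_top
      rw [Ideal.eq_top_iff_one, hqmem, one_smul]
      exact h
    by_cases hpq : p ≤ q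
    · obtain ⟨b, hb, hbx⟩ : ∃ b ∈ p, b • x ≠ 0 := by
        by_contra h
        push Not at h
        exact hxN ((hmem x).2 h)
      have hq' : ∀ c ∈ q, c • (b • x) = 0 := by
        intro c hc
        rw [smul_comm]
        exact (hmem _).1 ((hqmem c).1 hc) b hb
      obtain ⟨q', hq'A, hle⟩ := exists_le_isAssociatedPrime_of_isNoetherianRing A (b • x) hbx
      have hqq' : q ≤ q' := fun c hc => hle (Submodule.mem_colon_singleton.2 (by
        rw [hq' c hc]; exact Submodule.zero_mem _))
      have h1 : q' = p := hmax q' hq'A (hpq.trans hqq')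
      have h2 : q = p := le_antisymm (h1 ▸ hqq') hpq
      rw [h2]
      exact hpA
    · obtain ⟨a, hap, haq⟩ := Set.not_subset.1 hpq
      refine (isAssociatedPrime_iff).2 ⟨hqp, a • x, ?_⟩
      ext c
      rw [Submodule.mem_colon_singleton, Submodule.mem_bot]
      constructor
      · intro hc
        rw [smul_comm]
        exact (hmem _).1 ((hqmem c).1 hc) a hap
      · intro hc
        have h1 : (c * a) • x ∈ N₁ := by
          rw [mul_smul, hc]
          exact Submodule.zero_mem _
        exact (hqp.mem_or_mem ((hqmem _).2 h1)).resolve_right haq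

/-- If `C (A ⧸ p)` for all associated primes `p` of the finite module `M`, then `C M`. -/
theorem of_ass (hC : ClassHyp C) (M : Type u) [AddCommGroup M] [Module A M] [Module.Finite A M]
    (h : ∀ p ∈ associatedPrimes A M, C (A ⧸ p)) : C M := by
  haveI : IsNoetherian A M := isNoetherian_of_isNoetherianRing_of_finite A M
  have key : ∀ N : Submodule A M,
      (∀ p ∈ associatedPrimes A (M ⧸ N), C (A ⧸ p)) → C (M ⧸ N) := by
    intro N
    induction N using IsNoetherian.induction with
    | hgt N ih =>
      intro hN
      by_cases hsub : Subsingleton (M ⧸ N)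
      · exact hC.zero _
      · haveI : Nontrivial (M ⧸ N) := not_subsingleton_iff_nontrivial.1 hsub
        obtain ⟨p, hpA, hne, htf, hass⟩ := exists_good_prime (A := A) (M ⧸ N)
        haveI : p.IsPrime := hpA.isPrime
        set N₁ := Submodule.torsionBySet A (M ⧸ N) (p : Set A) with hN₁
        have hCN₁ : C ↥N₁ := by
          obtain ⟨n, x, hx⟩ := Module.Finite.exists_fin (R := A) (M := ↥N₁)
          refine torsionFree hC p (hN p hpA) n ↥N₁ x hx ?_ ?_
          · intro a ha y
            exact Subtype.ext ((Submodule.mem_torsionBySet_iff ..).1 y.2 ⟨a, ha⟩)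
          · intro a ha y hy
            exact Subtype.ext (htf a ha y.1 y.2 (congrArg Subtype.val hy))
        let N' : Submodule A M := N₁.comap N.mkQ
        have hNN' : N ≤ N' := by
          intro y hy
          show N.mkQ y ∈ N₁
          rw [Submodule.mkQ_apply, (Submodule.Quotient.mk_eq_zero N).2 hy]
          exact Submodule.zero_mem _
        have hmap : N'.map N.mkQ = N₁ :=
          Submodule.map_comap_eq_of_surjective (Submodule.mkQ_surjective N) N₁
        have hlt : N < N' := by
          refine lt_of_le_of_ne hNN' ?_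
          intro heq
          apply hne
          rw [← hmap, ← heq, Submodule.mkQ_map_self]
        let e : ((M ⧸ N) ⧸ N₁) ≃ₗ[A] M ⧸ N' :=
          (Submodule.quotEquivOfEq _ _ hmap.symm).trans
            (Submodule.quotientQuotientEquivQuotient N N' hNN')
        have hCQ' : C (M ⧸ N') := ih N' hlt (fun q hq =>
          hN q (hass ((LinearEquiv.AssociatedPrimes.eq e).symm ▸ hq)))
        have hCQ : C ((M ⧸ N) ⧸ N₁) := hC.iso e.symm hCQ'
        exact hC.ext ↥N₁ (M ⧸ N) ((M ⧸ N) ⧸ N₁) N₁.subtype N₁.mkQ N₁.injective_subtype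
          (Submodule.mkQ_surjective _) (LinearMap.exact_subtype_mkQ N₁) hCN₁ hCQ
  let e : (M ⧸ (⊥ : Submodule A M)) ≃ₗ[A] M := Submodule.quotEquivOfEqBot ⊥ rfl
  exact hC.iso e (key ⊥ (fun p hp => h p ((LinearEquiv.AssociatedPrimes.eq e) ▸ hp)))

end Groth.Agent.Lib.Helper2.AssClass
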