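import Groth.Agent.S2574
import Groth.Agent.Lib.Helper2.PowCrit
import Mathlib.RingTheory.AdicCompletion.Basic
import Mathlib.RingTheory.Regular.IsSMulRegular

/-!
Helper library (helper2): flatness criteria of EGA IV 11.3 type: vanishing of `Tor₁(E/K, M)` for
modules `E` killed by a power of `J`, from flatness of `M/JM` and flatness of `M` at finitely many
primes; ideally separated version of the local criterion.
-/

set_option autoImplicit false

namespace Groth.Agent.Lib.Helper2.AssFlat

open TensorProduct

/-- If `M_p` is flat over `A_p`, elements of the kernel of `M ⊗ K → M ⊗ E` are killed by some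
`s ∉ p`. -/
lemma exists_smul_eq_zero {A : Type*} [CommRing A] (p : Ideal A) [p.IsPrime] (M : Type*)
    [AddCommGroup M] [Module A M]
    [Module.Flat (Localization.AtPrime p) (LocalizedModule p.primeCompl M)]
    {E : Type*} [AddCommGroup E] [Module A E]
    (K : Submodule A E) (z : M ⊗[A] K) (hz : K.subtype.lTensor M z = 0) :
    ∃ s ∉ p, s • z = 0 := by
  let ℓ := LocalizedModule.mkLinearMap p.primeCompl M
  haveI : Module.Flat A (Localization.AtPrime p) := IsLocalization.flat _ p.primeCompl
  haveI : Module.Flat A (LocalizedModule p.primeCompl M) :=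
    Module.Flat.trans A (Localization.AtPrime p) _
  have hinj : Function.Injective (K.subtype.lTensor (LocalizedModule p.primeCompl M)) :=
    Module.Flat.lTensor_preserves_injective_linearMap _ Subtype.val_injective
  have h1 : ℓ.rTensor K z = 0 := by
    apply hinj
    rw [map_zero, ← LinearMap.comp_apply, LinearMap.lTensor_comp_rTensor,
      ← LinearMap.rTensor_comp_lTensor, LinearMap.comp_apply, hz, map_zero]
  haveI : IsLocalizedModule p.primeCompl (ℓ.rTensor K) :=
    IsLocalizedModule.rTensor (R := A) (A := A) (N := K) (S := p.primeCompl) ℓ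
  obtain ⟨s, hs⟩ := (IsLocalizedModule.eq_zero_iff p.primeCompl (ℓ.rTensor K)).mp h1
  exact ⟨s.1, s.2, hs⟩

/-- Filtration argument: `M ⊗ K → M ⊗ E` is injective for submodules `K` of `E` killed by a power
of `J`, if `M/JM` is flat over `A/J`, elements avoiding a finite set of primes are `E`-regular,
and kernels are killed by elements outside each of these primes. -/
theorem injective_of_torsion {A : Type*} [CommRing A] (J : Ideal A)
    {M : Type*} [AddCommGroup M] [Module A M] [Module.Flat (A ⧸ J) ((A ⧸ J) ⊗[A] M)]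
    {E : Type*} [AddCommGroup E] [Module A E]
    (P₀ : Finset (Ideal A)) (hP₀ : ∀ p ∈ P₀, p.IsPrime)
    (hreg : ∀ s : A, (∀ p ∈ P₀, s ∉ p) → IsSMulRegular E s)
    (H : ∀ p ∈ P₀, ∀ (K : Submodule A E) (z : M ⊗[A] K),
      K.subtype.lTensor M z = 0 → ∃ s ∉ p, s • z = 0) :
    ∀ (k : ℕ) (K : Submodule A E), (∀ x ∈ K, ∀ a ∈ J ^ k, a • x = 0) →
      Function.Injective (K.subtype.lTensor M) := by
  intro k
  induction k with
  | zero =>
    intro K hK
    have hK0 : K = ⊥ := by
      rw [eq_bot_iff]
      intro x hx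
      have := hK x hx 1 (by rw [pow_zero, Ideal.one_eq_top]; exact Submodule.mem_top)
      rw [one_smul] at this
      rw [this]
      exact zero_mem _
    subst hK0
    haveI : Subsingleton (M ⊗[A] (⊥ : Submodule A E)) := inferInstance
    exact Function.injective_of_subsingleton _
  | succ k ih =>
    intro K hK
    rw [injective_iff_map_eq_zero]
    intro z hz
    let U : Submodule A E := Submodule.torsionBySet A E (J ^ k : Ideal A)
    have hU : ∀ x : E, x ∈ U ↔ ∀ a ∈ J ^ k, a • x = 0 := by
      intro x
      rw [Submodule.mem_torsionBySet_iff]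
      exact ⟨fun h a ha => h ⟨a, ha⟩, fun h a => h a.1 a.2⟩
    let K' : Submodule A E := K ⊓ U
    let f : K' →ₗ[A] K := Submodule.inclusion inf_le_left
    let g : K →ₗ[A] (K ⧸ LinearMap.range f) := Submodule.mkQ _
    have hfg : Function.Exact f g := LinearMap.exact_map_mkQ_range f
    have hg : Function.Surjective g := Submodule.mkQ_surjective _
    have hex := lTensor_exact M hfg hg
    have hmem : ∀ x : K, x ∈ LinearMap.range f ↔ x.1 ∈ U := by
      intro x
      constructor
      · rintro ⟨y, rfl⟩
        exact y.2.2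
      · intro hx
        exact ⟨⟨x.1, x.2, hx⟩, rfl⟩
    have hzbar : g.lTensor M z = 0 := by
      have hQ : ∀ a ∈ J, ∀ x : K ⧸ LinearMap.range f, a • x = 0 := by
        intro a ha x
        obtain ⟨x, rfl⟩ := Submodule.mkQ_surjective _ x
        rw [← map_smul, Submodule.mkQ_apply, Submodule.Quotient.mk_eq_zero, hmem, hU]
        intro b hb
        have := hK x.1 x.2 (b * a) (by rw [pow_succ]; exact Ideal.mul_mem_mul hb ha)
        rw [mul_smul] at this
        exact this
      let 𝔟 : Ideal A := LinearMap.ker (LinearMap.toSpanSingleton A _ (g.lTensor M z))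
      have h𝔟 : ∀ p ∈ P₀, ¬ 𝔟 ≤ p := by
        intro p hp hle
        obtain ⟨s, hsp, hs⟩ := H p hp K z hz
        apply hsp
        apply hle
        show LinearMap.toSpanSingleton A _ (g.lTensor M z) s = 0
        rw [LinearMap.toSpanSingleton_apply, ← map_smul, hs, map_zero]
      have hnot : ¬ ((𝔟 : Set A) ⊆ ⋃ p ∈ (P₀ : Set (Ideal A)), (p : Set A)) := by
        intro hsub
        obtain ⟨p, hp, hle⟩ := (Ideal.subset_union_prime (s := P₀) (f := fun p : Ideal A => p)
          ⊤ ⊤ (fun p hp _ _ => hP₀ p hp) (I := 𝔟)).mp hsub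
        exact h𝔟 p hp hle
      obtain ⟨s, hs𝔟, hsn⟩ := Set.not_subset.mp hnot
      have hsP₀ : ∀ p ∈ P₀, s ∉ p := by
        intro p hp hsp
        exact hsn (Set.mem_iUnion₂.mpr ⟨p, hp, hsp⟩)
      have hsreg := hreg s hsP₀
      have hsinj : Function.Injective
          ((s • LinearMap.id : (K ⧸ LinearMap.range f) →ₗ[A] (K ⧸ LinearMap.range f))) := by
        rw [injective_iff_map_eq_zero]
        intro x hx
        obtain ⟨x, rfl⟩ := Submodule.mkQ_surjective _ x
        rw [LinearMap.smul_apply, LinearMap.id_apply, ← map_smul, Submodule.mkQ_apply,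
          Submodule.Quotient.mk_eq_zero, hmem, hU] at hx
        rw [Submodule.mkQ_apply, Submodule.Quotient.mk_eq_zero, hmem, hU]
        intro b hb
        have := hx b hb
        apply hsreg
        show s • (b • x.1) = s • 0
        rw [smul_zero, smul_comm]
        exact this
      have hinj := Groth.Agent.S2574.lTensor_injective_of_killed (M := M) J hQ hQ _ hsinj
      apply hinj
      rw [map_zero, LinearMap.lTensor_smul, LinearMap.lTensor_id, LinearMap.smul_apply,
        LinearMap.id_apply]
      exact hs𝔟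
    obtain ⟨z', rfl⟩ := (hex z).mp hzbar
    have hz' : K'.subtype.lTensor M z' = 0 := by
      have hc : K.subtype ∘ₗ f = K'.subtype := rfl
      rw [← hc, LinearMap.lTensor_comp, LinearMap.comp_apply]
      exact hz
    have hK' : ∀ x ∈ K', ∀ a ∈ J ^ k, a • x = 0 := fun x hx => (hU x).mp hx.2
    rw [(injective_iff_map_eq_zero _).mp (ih K' hK') z' hz', map_zero]

section Hausdorff

variable {R : Type*} [CommRing R] [IsNoetherianRing R] {M : Type*} [AddCommGroup M] [Module R M]
  (I : Ideal R)

/-- Local criterion, ideally separated version: flatness from flatness modulo all powers of `I`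
when all `M ⊗ 𝔞` are `I`-adically separated. -/
theorem flat_of_hausdorff_of_forall_quotient_pow
    (hsep : ∀ 𝔞 : Ideal R, IsHausdorff I (M ⊗[R] 𝔞))
    (hF : ∀ n : ℕ, 0 < n → ∀ Q' : Submodule R (R ⧸ I ^ n),
      Function.Injective (Q'.subtype.lTensor M)) : Module.Flat R M := by
  rw [Module.Flat.iff_lTensor_injective]
  intro J _
  rw [injective_iff_map_eq_zero]
  intro x hx
  obtain ⟨k, hk⟩ := Ideal.exists_pow_inf_eq_pow_smul I (J : Submodule R R)
  have key : ∀ n : ℕ, x ∈ I ^ n • (⊤ : Submodule R (M ⊗[R] J)) := by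
    intro n
    rcases Nat.eq_zero_or_pos n with rfl | hn
    · rw [pow_zero, Ideal.one_eq_top, Submodule.top_smul]
      exact Submodule.mem_top
    have hN : 0 < n + k := Nat.add_pos_left hn k
    let q : R →ₗ[R] R ⧸ I ^ (n + k) := Submodule.mkQ (I ^ (n + k))
    let φ : J →ₗ[R] R ⧸ I ^ (n + k) := q.comp J.subtype
    let φ' : J →ₗ[R] LinearMap.range φ := φ.rangeRestrict
    have hφ' : (LinearMap.range φ).subtype.comp φ' = φ := by ext; rfl
    have h1 : φ'.lTensor M x = 0 := by
      apply hF (n + k) hN (LinearMap.range φ)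
      rw [map_zero, ← LinearMap.comp_apply, ← LinearMap.lTensor_comp, hφ']
      show (q.comp J.subtype).lTensor M x = 0
      rw [LinearMap.lTensor_comp, LinearMap.comp_apply, hx, map_zero]
    have hex : Function.Exact ((LinearMap.ker φ').subtype.lTensor M) (φ'.lTensor M) :=
      lTensor_exact M (LinearMap.exact_subtype_ker_map φ') (LinearMap.surjective_rangeRestrict φ)
    obtain ⟨y, rfl⟩ := (hex x).mp h1
    apply LocalCrit.lTensor_subtype_mem_smul_top
    intro κ hκ
    rw [Submodule.mem_smul_top_iff]
    have hκ0 : φ κ = 0 := by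
      have h2 : φ' κ = 0 := LinearMap.mem_ker.mp hκ
      have h3 : ((φ' κ : LinearMap.range φ) : R ⧸ I ^ (n + k)) = 0 := by rw [h2]; rfl
      exact h3
    have hκI : (κ : R) ∈ I ^ (n + k) := (Submodule.Quotient.mk_eq_zero _).mp hκ0
    have hmem : (κ : R) ∈ I ^ (n + k) • (⊤ : Submodule R R) ⊓ (J : Submodule R R) := by
      refine ⟨?_, κ.2⟩
      rw [smul_eq_mul, Ideal.mul_top]
      exact hκI
    rw [hk (n + k) (Nat.le_add_left k n), Nat.add_sub_cancel] at hmem
    exact Submodule.smul_mono le_rfl inf_le_right hmem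
  exact (hsep J).haus x fun n => SModEq.zero.mpr (key n)

/-- transfer of separatedness along the commutativity isomorphism -/
lemma isHausdorff_comm (𝔞 : Ideal R) (h : IsHausdorff I (𝔞 ⊗[R] M)) :
    IsHausdorff I (M ⊗[R] 𝔞) := by
  refine ⟨fun x hx => ?_⟩
  have h2 : ∀ n : ℕ, (TensorProduct.comm R M 𝔞) x ≡ 0
      [SMOD (I ^ n • ⊤ : Submodule R (𝔞 ⊗[R] M))] := by
    intro n
    rw [SModEq.zero]
    have hxn := SModEq.zero.mp (hx n)
    refine Submodule.smul_induction_on hxn ?_ ?_
    · intro r hr y _
      rw [map_smul]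
      exact Submodule.smul_mem_smul hr Submodule.mem_top
    · intro a b ha hb
      rw [map_add]
      exact add_mem ha hb
  have := h.haus _ h2
  exact (TensorProduct.comm R M 𝔞).map_eq_zero_iff.mp this

end Hausdorff

section Quot

variable {R : Type*} [CommRing R] {M : Type*} [AddCommGroup M] [Module R M]

/-- naturality of `cancelBaseChange` in the first variable (no flatness assumption) -/
lemma cancel_nat' {A : Type*} [CommRing A] [Algebra R A] {Q' Q : Type*} [AddCommGroup Q']
    [Module R Q'] [Module A Q'] [IsScalarTower R A Q'] [AddCommGroup Q] [Module R Q] [Module A Q]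
    [IsScalarTower R A Q] (j : Q' →ₗ[A] Q) (x : Q' ⊗[A] (A ⊗[R] M)) :
    AlgebraTensorModule.cancelBaseChange R A A Q M (j.rTensor (A ⊗[R] M) x) =
      (j.restrictScalars R).rTensor M (AlgebraTensorModule.cancelBaseChange R A A Q' M x) := by
  induction x with
  | zero => simp
  | add a b ha hb => simp only [map_add, ha, hb]
  | tmul q y =>
    induction y with
    | zero => simp
    | add a b ha hb => simp only [tmul_add, map_add, ha, hb]
    | tmul a m => simp

/-- If `M ⊗ Q' → M ⊗ R/𝔟` is injective for all submodules `Q'` of `R/𝔟`, then `M/𝔟M` is flat over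
`R/𝔟`. -/
theorem flat_quotient_of_forall_injective (𝔟 : Ideal R)
    (h : ∀ Q' : Submodule R (R ⧸ 𝔟), Function.Injective (Q'.subtype.lTensor M)) :
    Module.Flat (R ⧸ 𝔟) ((R ⧸ 𝔟) ⊗[R] M) := by
  rw [Module.Flat.iff_rTensor_injective']
  intro 𝔮
  rw [injective_iff_map_eq_zero]
  intro x hx
  have h1 := cancel_nat' (R := R) (M := M) (A := R ⧸ 𝔟) 𝔮.subtype x
  rw [hx, map_zero] at h1
  have h2 : Function.Injective ((𝔮.subtype.restrictScalars R).rTensor M) :=
    (LinearMap.lTensor_inj_iff_rTensor_inj _ _).mp (h (𝔮.restrictScalars R))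
  have h3 := (injective_iff_map_eq_zero _).mp h2 _ h1.symm
  exact (AlgebraTensorModule.cancelBaseChange R (R ⧸ 𝔟) (R ⧸ 𝔟) 𝔮 M).map_eq_zero_iff.mp h3

end Quot

end Groth.Agent.Lib.Helper2.AssFlat
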