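import Mathlib
import Groth.Agent.Lib.Helper2.SamuelDim
import Groth.Agent.Lib.Helper2.LenAt

set_option autoImplicit false
universe u v w

namespace Groth.Agent.Lib.Helper2.AssocFormula

open Groth.Agent.Lib.Helper2.HilbSamuel Groth.Agent.Lib.Helper2.SamuelI
  Groth.Agent.Lib.Helper2.SamuelDim Groth.Agent.Lib.Helper2.LenAt
open Filter

section Order

theorem le_of_lt_succ_withBot (x : WithBot ℕ∞) (d : ℕ) (h : x < ((d + 1 : ℕ) : WithBot ℕ∞)) :
    x ≤ (d : WithBot ℕ∞) := by
  induction x using WithBot.recBotCoe with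
  | bot => exact bot_le
  | coe y =>
    induction y using ENat.recTopCoe with
    | top =>
      exfalso
      have h1 : ((⊤ : ℕ∞) : WithBot ℕ∞) < (((d + 1 : ℕ) : ℕ∞) : WithBot ℕ∞) := h
      rw [WithBot.coe_lt_coe] at h1
      exact absurd h1 (by simp)
    | coe n =>
      have h1 : (((n : ℕ) : ℕ∞) : WithBot ℕ∞) < (((d + 1 : ℕ) : ℕ∞) : WithBot ℕ∞) := h
      rw [WithBot.coe_lt_coe, Nat.cast_lt] at h1
      have h2 : n ≤ d := by omega
      exact_mod_cast h2

variable {A : Type u} [CommRing A]

theorem ringKrullDim_quotient_eq_coheight (q : PrimeSpectrum A) :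
    ringKrullDim (A ⧸ q.asIdeal) = (Order.coheight q : ℕ∞) := by
  rw [ringKrullDim_quotient, Order.coheight_eq_krullDim_Ici]
  have : PrimeSpectrum.zeroLocus (q.asIdeal : Set A) = Set.Ici q := by
    ext x
    rw [PrimeSpectrum.mem_zeroLocus, Set.mem_Ici]
    rfl
  rw [this]

theorem ringKrullDim_quotient_lt {p q : PrimeSpectrum A} (h : q < p) (d : ℕ)
    (hp : ringKrullDim (A ⧸ p.asIdeal) = d) :
    ¬ ringKrullDim (A ⧸ q.asIdeal) ≤ d := by
  rw [ringKrullDim_quotient_eq_coheight] at hp ⊢
  have h1 := Order.coheight_add_one_le h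
  have h2 : Order.coheight p = (d : ℕ∞) := by exact_mod_cast hp
  rw [h2] at h1
  intro h3
  have h4 : Order.coheight q ≤ (d : ℕ∞) := by exact_mod_cast h3
  have h5 := h1.trans h4
  have h6 : ((d + 1 : ℕ) : ℕ∞) ≤ (d : ℕ∞) := by exact_mod_cast h5
  rw [Nat.cast_le] at h6
  omega

end Order

section Zero

variable {A : Type u} [CommRing A] [IsNoetherianRing A] [Finite (MaximalSpectrum A)] (I : Ideal A)

theorem chiI_eq_zero_of_subsingleton (N : Type v) [AddCommGroup N] [Module A N] [Subsingleton N]
    (t : ℕ) : (Module.length A (N ⧸ (I ^ t • (⊤ : Submodule A N)))).toNat = 0 := by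
  rw [Module.length_eq_zero]
  rfl

theorem tendsto_zero_of_supportDim_lt (hI : ∃ N, (Ring.jacobson A) ^ N ≤ I)
    (N : Type v) [AddCommGroup N] [Module A N] [Module.Finite A N] (d : ℕ)
    (hdim : Module.supportDim A N < (d : WithBot ℕ∞)) (c : ℝ) (hc : 0 ≤ c) :
    Tendsto (fun t : ℕ => c *
      ((Module.length A (N ⧸ (I ^ t • (⊤ : Submodule A N)))).toNat : ℝ) / (t : ℝ) ^ d)
      atTop (nhds 0) := by
  by_cases hsub : Subsingleton N
  · simp only [chiI_eq_zero_of_subsingleton I N]
    simp
  · rw [not_subsingleton_iff_nontrivial] at hsub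
    have hbot : Module.supportDim A N ≠ ⊥ := Module.supportDim_ne_bot_of_nontrivial A N
    -- d ≥ 1
    obtain ⟨d', rfl⟩ : ∃ d', d = d' + 1 := by
      cases d with
      | zero =>
        exfalso
        have h0 : (0 : WithBot ℕ∞) ≤ Module.supportDim A N := by
          rw [Module.supportDim]
          exact Order.krullDim_nonneg_iff.2 (Module.nonempty_support_of_nontrivial.to_subtype)
        have : Module.supportDim A N < 0 := by exact_mod_cast hdim
        exact absurd (lt_of_le_of_lt h0 this) (lt_irrefl _)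
      | succ d' => exact ⟨d', rfl⟩
    have hle := le_of_lt_succ_withBot _ d' hdim
    obtain ⟨P, hP⟩ := exists_HS (A := A) (M := N)
    have hdeg := HS.natDegree_le_supportDim hP d' hle
    obtain ⟨N₀, hN₀⟩ := hI
    have hN₁ : (Ring.jacobson A) ^ (N₀ + 1) ≤ I :=
      (Ideal.pow_le_pow_right (Nat.le_succ N₀)).trans hN₀
    obtain ⟨T, hT⟩ := hP
    have hup := tendsto_eval_div_pow_zero P (d' + 1) (N₀ + 1) (by omega) c
    refine tendsto_of_tendsto_of_tendsto_of_le_of_le' tendsto_const_nhds hup ?_ ?_
    · filter_upwards with t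
      positivity
    · filter_upwards [eventually_ge_atTop T] with t ht
      have h1 : LI I N t ≤ L A N ((N₀ + 1) * t) := LI_le_of_pow_le hN₁ t
      have h2 : (LI I N t).toNat ≤ (L A N ((N₀ + 1) * t)).toNat :=
        ENat.toNat_le_toNat h1 (L_ne_top _)
      have h3 : T ≤ (N₀ + 1) * t := by nlinarith
      have h4 := hT _ h3
      rw [← LI_eq]
      have h5 : ((LI I N t).toNat : ℝ) ≤ ((P.eval ((((N₀ + 1) * t : ℕ) : ℚ)) : ℚ) : ℝ) := by
        rw [← h4]
        exact_mod_cast h2
      gcongr

end Zero

section Main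

variable {A : Type u} [CommRing A] [IsNoetherianRing A] [Finite (MaximalSpectrum A)] (I : Ideal A)

open Classical in
/-- the summand of the associativity formula. -/
noncomputable def G (d : ℕ) (e : PrimeSpectrum A → ℝ) (N : Type u) [AddCommGroup N] [Module A N]
    (p : PrimeSpectrum A) : ℝ :=
  if ringKrullDim (A ⧸ p.asIdeal) = d then ((lenAt p N).toNat : ℝ) * e p else 0

/-- the normalised Samuel function. -/
noncomputable def U (d : ℕ) (N : Type u) [AddCommGroup N] [Module A N] (t : ℕ) : ℝ :=
  (d.factorial : ℝ) * ((Module.length A (N ⧸ (I ^ t • (⊤ : Submodule A N)))).toNat : ℝ) / (t : ℝ) ^ d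

theorem U_congr (d : ℕ) {N N' : Type u} [AddCommGroup N] [Module A N] [AddCommGroup N']
    [Module A N'] (e : N ≃ₗ[A] N') : U I d N = U I d N' := by
  funext t
  unfold U
  rw [← LI_eq, ← LI_eq, LI_congr I e]

theorem assoc_aux (hI : ∃ N, (Ring.jacobson A) ^ N ≤ I) (d : ℕ) (e : PrimeSpectrum A → ℝ)
    (he : ∀ p : PrimeSpectrum A, ringKrullDim (A ⧸ p.asIdeal) = d →
      Tendsto (U I d (A ⧸ p.asIdeal)) atTop (nhds (e p)))
    (M : Type u) [AddCommGroup M] [Module A M] [hM : Module.Finite A M] :
    Module.supportDim A M ≤ d →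
      (∀ p : PrimeSpectrum A, ringKrullDim (A ⧸ p.asIdeal) = d → lenAt p M ≠ ⊤) ∧
      {p : PrimeSpectrum A | ringKrullDim (A ⧸ p.asIdeal) = d ∧ lenAt p M ≠ 0}.Finite ∧
      Tendsto (U I d M) atTop (nhds (∑ᶠ p, G d e M p)) := by
  induction hM using IsNoetherianRing.induction_on_isQuotientEquivQuotientPrime A with
  | subsingleton N =>
    intro _
    have h0 : ∀ p : PrimeSpectrum A, lenAt p N = 0 := fun p => lenAt_eq_zero_of_subsingleton p N
    refine ⟨fun p _ => by rw [h0 p]; simp, ?_, ?_⟩
    · convert Set.finite_empty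
      ext p
      simp [h0 p]
    · have hU : U I d N = fun _ => 0 := by
        funext t
        unfold U
        rw [chiI_eq_zero_of_subsingleton I N]
        simp
      have hG : ∀ p, G d e N p = 0 := by
        intro p
        unfold G
        rw [h0 p]
        simp
      rw [hU, finsum_congr hG, finsum_zero]
      exact tendsto_const_nhds
  | quotient N q eq =>
    intro hdim
    have hdimq : ringKrullDim (A ⧸ q.asIdeal) ≤ d := by
      rw [← Module.supportDim_quotient_eq_ringKrullDim, ← Module.supportDim_eq_of_equiv eq]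
      exact hdim
    have hlen : ∀ p : PrimeSpectrum A, lenAt p N = lenAt p (A ⧸ q.asIdeal) :=
      fun p => lenAt_congr p eq
    -- for primes of coheight d, either p = q or the length vanishes
    have hkey : ∀ p : PrimeSpectrum A, ringKrullDim (A ⧸ p.asIdeal) = d → p ≠ q → lenAt p N = 0 := by
      intro p hp hpq
      rw [hlen p]
      apply lenAt_quotient_eq_zero
      intro hqp
      exact ringKrullDim_quotient_lt (lt_of_le_of_ne hqp (Ne.symm hpq)) d hp hdimq
    have hself : lenAt q N = 1 := by rw [hlen q]; exact lenAt_quotient_self q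
    refine ⟨?_, ?_, ?_⟩
    · intro p hp
      by_cases hpq : p = q
      · rw [hpq, hself]; simp
      · rw [hkey p hp hpq]; simp
    · apply Set.Finite.subset (Set.finite_singleton q)
      rintro p ⟨hp, hne⟩
      by_contra hpq
      exact hne (hkey p hp hpq)
    · rw [U_congr I d eq]
      by_cases hq : ringKrullDim (A ⧸ q.asIdeal) = d
      · have hsum : ∑ᶠ p, G d e N p = e q := by
          rw [finsum_eq_single _ q]
          · unfold G
            rw [if_pos hq, hself]
            simp
          · intro p hpq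
            unfold G
            split_ifs with hp
            · rw [hkey p hp hpq]; simp
            · rfl
        rw [hsum]
        exact he q hq
      · have hsum : ∑ᶠ p, G d e N p = 0 := by
          rw [finsum_congr (g := fun _ => (0 : ℝ)), finsum_zero]
          intro p
          unfold G
          split_ifs with hp
          · have hpq : p ≠ q := by
              rintro rfl
              exact hq hp
            rw [hkey p hp hpq]; simp
          · rfl
        rw [hsum]
        have hlt : Module.supportDim A (A ⧸ q.asIdeal) < (d : WithBot ℕ∞) := by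
          rw [Module.supportDim_quotient_eq_ringKrullDim]
          exact lt_of_le_of_ne hdimq hq
        exact tendsto_zero_of_supportDim_lt I hI (A ⧸ q.asIdeal) d hlt (d.factorial : ℝ)
          (by positivity)
  | exact N₁ N₂ N₃ f g hf hg hfg ih₁ ih₃ =>
    intro hdim
    have hd₁ : Module.supportDim A N₁ ≤ d := (Module.supportDim_le_of_injective f hf).trans hdim
    have hd₃ : Module.supportDim A N₃ ≤ d := (Module.supportDim_le_of_surjective g hg).trans hdim
    obtain ⟨fin₁, set₁, lim₁⟩ := ih₁ hd₁
    obtain ⟨fin₃, set₃, lim₃⟩ := ih₃ hd₃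
    have hadd : ∀ p : PrimeSpectrum A, lenAt p N₂ = lenAt p N₁ + lenAt p N₃ :=
      fun p => lenAt_exact p f g hf hg hfg
    have hGadd : ∀ p, G d e N₂ p = G d e N₁ p + G d e N₃ p := by
      intro p
      unfold G
      split_ifs with hp
      · rw [hadd p, ENat.toNat_add (fin₁ p hp) (fin₃ p hp)]
        push_cast
        ring
      · simp
    have hsupp : ∀ (N : Type u) [AddCommGroup N] [Module A N],
        {p : PrimeSpectrum A | ringKrullDim (A ⧸ p.asIdeal) = d ∧ lenAt p N ≠ 0}.Finite →
        (Function.support (G d e N)).Finite := by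
      intro N _ _ hfin
      apply hfin.subset
      intro p hp
      rw [Function.mem_support] at hp
      unfold G at hp
      split_ifs at hp with hpd
      · refine ⟨hpd, fun h0 => hp ?_⟩
        rw [h0]; simp
      · exact absurd rfl hp
    refine ⟨?_, ?_, ?_⟩
    · intro p hp
      rw [hadd p]
      exact WithTop.add_ne_top.2 ⟨fin₁ p hp, fin₃ p hp⟩
    · apply (set₁.union set₃).subset
      rintro p ⟨hp, hne⟩
      by_contra hcon
      rw [Set.mem_union, not_or] at hcon
      apply hne
      rw [hadd p]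
      have h1 : lenAt p N₁ = 0 := by
        by_contra h
        exact hcon.1 ⟨hp, h⟩
      have h3 : lenAt p N₃ = 0 := by
        by_contra h
        exact hcon.2 ⟨hp, h⟩
      rw [h1, h3, add_zero]
    · rw [finsum_congr hGadd, finsum_add_distrib (hsupp N₁ set₁) (hsupp N₃ set₃)]
      exact tendsto_add_of_exact I hI f g hf hg (LinearMap.exact_iff.1 hfg).symm
        (d.factorial : ℝ) (by positivity) d _ _ lim₁ lim₃

theorem assoc_formula (hI : ∃ N, (Ring.jacobson A) ^ N ≤ I)
    (M : Type u) [AddCommGroup M] [Module A M] [Module.Finite A M]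
    (d : ℕ) (hd : Module.supportDim A M ≤ d) (e : PrimeSpectrum A → ℝ)
    (he : ∀ p : PrimeSpectrum A, ringKrullDim (A ⧸ p.asIdeal) = d →
      Tendsto (fun t : ℕ => (d.factorial : ℝ) *
        ((Module.length A ((A ⧸ p.asIdeal) ⧸ (I ^ t • (⊤ : Submodule A (A ⧸ p.asIdeal))))).toNat : ℝ) / (t : ℝ) ^ d)
        atTop (nhds (e p))) :
    Tendsto (fun t : ℕ => (d.factorial : ℝ) *
      ((Module.length A (M ⧸ (I ^ t • (⊤ : Submodule A M)))).toNat : ℝ) / (t : ℝ) ^ d) atTop
      (nhds (∑ᶠ (p : PrimeSpectrum A) (_ : ringKrullDim (A ⧸ p.asIdeal) = d),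
        ((Module.length (Localization.AtPrime p.asIdeal)
          (LocalizedModule p.asIdeal.primeCompl M)).toNat : ℝ) * e p)) := by
  classical
  have := (assoc_aux I hI d e he M hd).2.2
  have hsum : (∑ᶠ (p : PrimeSpectrum A) (_ : ringKrullDim (A ⧸ p.asIdeal) = d),
        ((Module.length (Localization.AtPrime p.asIdeal)
          (LocalizedModule p.asIdeal.primeCompl M)).toNat : ℝ) * e p) = ∑ᶠ p, G d e M p := by
    apply finsum_congr
    intro p
    rw [finsum_eq_if]
    unfold G lenAt
    congr
  rw [hsum]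
  exact this

end Main

end Groth.Agent.Lib.Helper2.AssocFormula
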