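import Groth.Agent.Lib.Helper2.IntNum5
import Groth.Agent.Lib.Helper8.PtSupp
import Mathlib
set_option backward.isDefEq.respectTransparency.types false
set_option autoImplicit false
set_option linter.style.haveILetI false

/-!
# Intersection numbers, VII: sections of powers and positivity against ample classes (helper2)
-/

universe u
open CategoryTheory CategoryTheory.Limits AlgebraicGeometry Opposite TopologicalSpace

namespace Groth.Agent.Lib.Helper2.IntNum7
open Groth.Agent.Lib.Helper6.K0Filt Groth.Agent.Lib.Helper6.K0Len Groth.Agent.Lib.Helper6.K0Op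
  Groth.Agent.Lib.Helper6.K0Tensor Groth.Agent.Lib.Helper4.Snapper Groth.Agent.Lib.Helper2.IntNum1
  Groth.Agent.Lib.Helper2.IntNum2 Groth.Agent.Lib.Helper2.IntNum4 Groth.Agent.Lib.Helper4.NumPoly
  Groth.Agent.Lib.Helper2.IntNum5

variable {X : Scheme.{u}}

/-- a nonzero class in `H⁰` gives a nonzero morphism from the structure sheaf -/
theorem exists_hom_ne_zero_of_nontrivial_HH (M : X.Modules) (h : Nontrivial (Coh.HH X M 0)) :
    ∃ s : Coh.structureModule X ⟶ M, s ≠ 0 := by
  obtain ⟨x, hx⟩ := exists_ne (0 : Coh.HH X M 0)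
  have hσ : Groth.Agent.Lib.Helper8.PtSupp.e0 M x ≠ 0 := by
    intro h0
    apply hx
    apply (Groth.Agent.Lib.Helper8.PtSupp.e0 M).injective
    rw [h0, map_zero]
  refine ⟨Groth.Agent.Lib.Helper28.TwistGen.ofSection M (Groth.Agent.Lib.Helper8.PtSupp.e0 M x), ?_⟩
  intro h0
  apply hσ
  rw [← Groth.Agent.Lib.Helper28.GenLocus.secOf_ofSection (Groth.Agent.Lib.Helper8.PtSupp.e0 M x), h0]
  unfold Groth.Agent.Lib.Helper28.GenLocus.secOf
  rfl

section rel
variable (k : Type u) [Field k] [X.Over (Spec (CommRingCat.of k))]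
    [IsProper (X ↘ (Spec (CommRingCat.of k)))]

include k in
/-- on an integral scheme of dimension `d + 1`, a nonzero section of `N^{⊗n}` gives `([N]^n - 1)[O_X] = [Q]` with
`dim Supp Q ≤ d` -/
theorem exists_coker_relation [IsIntegral X] (N : X.Modules) (hN : PicF.IsInvertible N) (n : ℕ)
    (s : Coh.structureModule X ⟶ CohB1.tensorPow N n) (hs : s ≠ 0) (d : ℕ)
    (hdim : topologicalKrullDim X = ((d + 1 : ℕ) : WithBot ℕ∞)) :
    ∃ Q : X.Modules, Coh.IsCoh Q ∧ topologicalKrullDim (CohB1.support Q) ≤ (d : WithBot ℕ∞) ∧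
      (Top N ^ n - 1) (cls (Coh.structureModule X)) = cls Q := by
  haveI : IsNoetherian X := isNoetherian k X
  have hO : Coh.IsCoh (Coh.structureModule X) := Groth.Agent.Lib.Helper6.DevRed.isCoh_structureModule
  have hOi := Groth.Agent.Lib.Helper28.AmpleUnit.isInvertible_structureModule X
  have hNi : PicF.IsInvertible (CohB1.tensorPow N n) := Groth.Agent.Lib.Helper28.GenLocus.isInvertible_tensorPow hN n
  have hNc := isCoh_of_isInvertible _ hNi
  haveI hsm : Mono s := Groth.Agent.Lib.Helper8.CurveInv.mono_of_ne_zero hOi hNi s hs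
  have hC : Coh.IsCoh (cokernel s) := Groth.Agent.Lib.Helper6.DevCore.isCoh_cokernel s hO hNc
  have hT : (ShortComplex.mk s (cokernel.π s) (cokernel.condition s)).ShortExact :=
    { exact := ShortComplex.exact_of_g_is_cokernel _ (cokernelIsCokernel s)
      mono_f := hsm
      epi_g := inferInstanceAs (Epi (cokernel.π s)) }
  have hcl1 : cls (CohB1.tensorPow N n) = cls (Coh.structureModule X) + cls (cokernel s) :=
    Groth.Agent.Lib.Helper16.K0Db.clSub_shortExact _ _ hT hO hNc hC
  have hTop : Top (CohB1.tensorPow N n) = Top N ^ n := Top_tensorPow N hN n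
  have hrel : (Top N ^ n - 1) (cls (Coh.structureModule X)) = cls (cokernel s) := by
    show (Top N ^ n) (cls (Coh.structureModule X)) - cls (Coh.structureModule X) = _
    rw [← hTop, Top_cls _ hNi _ hO,
      cls_iso (Groth.Agent.Lib.Helper28.AmpleUnit.nonempty_tensor_unit_iso (CohB1.tensorPow N n)).some
        (isCoh_tensorMod _ _ hNc hO), hcl1]
    abel
  have hξC : genericPoint X ∉ CohB1.support (cokernel s) := by
    have h1 := len_add _ hT (genericPoint X)
    change len (CohB1.tensorPow N n) (genericPoint X) =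
      len (Coh.structureModule X) (genericPoint X) + len (cokernel s) (genericPoint X) at h1
    rw [len_genericPoint_of_isInvertible _ hOi, len_genericPoint_of_isInvertible _ hNi] at h1
    intro hmem
    have h6 : len (cokernel s) (genericPoint X) ≠ 0 := by
      unfold len
      rw [Ne, Module.length_eq_zero_iff]
      exact hmem
    apply h6
    have : (1 : ℕ∞) + len (cokernel s) (genericPoint X) = 1 + 0 := by rw [← h1, add_zero]
    exact ENat.add_right_injective_of_ne_top (by simp) this
  have hdimC : topologicalKrullDim (CohB1.support (cokernel s)) ≤ (d : WithBot ℕ∞) := by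
    have hcl := Groth.Agent.Lib.Helper6.DevCore.isClosed_support _ hC
    have hne : CohB1.support (cokernel s) ≠ Set.univ := fun h => hξC (h ▸ Set.mem_univ _)
    have h1 := Groth.Agent.Lib.Helper24.ConnDimSub.dim_add_one_le
      (IrreducibleSpace.isIrreducible_univ X) hcl (Set.subset_univ _) hne
    rw [(Homeomorph.Set.univ X).isHomeomorph.topologicalKrullDim_eq, hdim] at h1
    exact Groth.Agent.Lib.Helper4.DimChain.le_of_add_one_le_succ _ d h1
  exact ⟨cokernel s, hC, hdimC, hrel⟩

end rel

section main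
variable (k : Type u) [Field k]

/-- if `N` has positive self-intersection and some positive power of `N` has a nonzero section, then `N` meets every ample
class positively (surfaces) -/
theorem pos_of_sections (X : Scheme.{u}) [X.Over (Spec (CommRingCat.of k))]
    [IsProper (X ↘ (Spec (CommRingCat.of k)))] [IsIntegral X]
    (hdim : topologicalKrullDim X = 2)
    (N N' : X.Modules) (hN : PicF.IsInvertible N) (hNN' : Nonempty (CohB1.tensorMod N N' ≅ Coh.structureModule X))
    (hpos : 0 < FGA.intNum k X 2 ![N', N'] (Coh.structureModule X))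
    (n : ℕ) (hn : 0 < n) (s : Coh.structureModule X ⟶ CohB1.tensorPow N n) (hs : s ≠ 0)
    (H H' : X.Modules) (hH : CohB1.IsAmple H) (hHH' : Nonempty (CohB1.tensorMod H H' ≅ Coh.structureModule X)) :
    0 < FGA.intNum k X 2 ![N', H'] (Coh.structureModule X) := by
  haveI : IsNoetherian X := isNoetherian k X
  have hO : Coh.IsCoh (Coh.structureModule X) := Groth.Agent.Lib.Helper6.DevRed.isCoh_structureModule
  have hN' : PicF.IsInvertible N' := Groth.Agent.Lib.Helper6.K0Inv.isInvertible_of_tensor_iso N N' hN hNN'.some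
  have hH' : PicF.IsInvertible H' := Groth.Agent.Lib.Helper6.K0Inv.isInvertible_of_tensor_iso H H' hH.1 hHH'.some
  have h1 : Top N * Top N' = 1 := Top_mul_Top_eq_one N N' hN hNN'.some
  have hd2 : topologicalKrullDim X ≤ (2 : ℕ) := by rw [hdim]; rfl
  have hdim' : topologicalKrullDim X = ((1 + 1 : ℕ) : WithBot ℕ∞) := by rw [hdim]; rfl
  obtain ⟨Q, hQ, hQd, hrel⟩ := exists_coker_relation k N hN n s hs 1 hdim'
  have hO3 : cls (Coh.structureModule X) ∈ Hlt X (1 + 2) := by
    apply cls_mem_Hlt _ hO 2
    exact le_trans (topologicalKrullDim_subspace_le X _) hd2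
  have hMH : ∀ i, PicF.IsInvertible ((![H'] : _root_.Fin 1 → X.Modules) i) := by
    intro i; fin_cases i; exact hH'
  have hMN : ∀ i, PicF.IsInvertible ((![N'] : _root_.Fin 1 → X.Modules) i) := by
    intro i; fin_cases i; exact hN'
  have eqH := Psi_Top_pow_sub_one N N' hN hN' h1 (![H'] : _root_.Fin 1 → X.Modules) hMH n _ hO3
  have eqN := Psi_Top_pow_sub_one N N' hN hN' h1 (![N'] : _root_.Fin 1 → X.Modules) hMN n _ hO3
  rw [hrel] at eqH eqN
  have hMNH : ∀ i, PicF.IsInvertible ((![N', H'] : _root_.Fin 2 → X.Modules) i) := by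
    intro i; fin_cases i
    · exact hN'
    · exact hH'
  have hMNN : ∀ i, PicF.IsInvertible ((![N', N'] : _root_.Fin 2 → X.Modules) i) := by
    intro i; fin_cases i
    · exact hN'
    · exact hN'
  rw [intNum_eq k X 2 hd2 _ hMNH _ hO]
  rw [intNum_eq k X 2 hd2 _ hMNN _ hO] at hpos
  have eN : (n : ℤ) * chi k X (Psi (![N', N'] : _root_.Fin 2 → X.Modules) (cls (Coh.structureModule X))) =
      chi k X (Psi (![N'] : _root_.Fin 1 → X.Modules) (cls Q)) := by
    rw [eqN, map_nsmul, nsmul_eq_mul]
    rfl
  have eH : (n : ℤ) * chi k X (Psi (![N', H'] : _root_.Fin 2 → X.Modules) (cls (Coh.structureModule X))) =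
      chi k X (Psi (![H'] : _root_.Fin 1 → X.Modules) (cls Q)) := by
    rw [eqH, map_nsmul, nsmul_eq_mul]
    rfl
  -- the support of `Q` has dimension exactly one
  have hQ1 : topologicalKrullDim (CohB1.support Q) = ((1 : ℕ) : WithBot ℕ∞) := by
    rcases lt_or_eq_of_le hQd with hlt | heq
    · exfalso
      have hmem : cls Q ∈ Hlt X (0 + 1) := cls_mem_Hlt_of_lt Q hQ 1 hlt
      have h0 := eq_zero_of_mem_Hlt_zero _ (Psi_mem_Hlt (![N'] : _root_.Fin 1 → X.Modules) hMN 0 _ hmem)
      rw [h0, map_zero] at eN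
      have hn0 : (0 : ℤ) < n := by exact_mod_cast hn
      have := mul_pos hn0 hpos
      omega
    · exact heq
  have hpH := pos k X (![H] : _root_.Fin 1 → X.Modules) (![H'] : _root_.Fin 1 → X.Modules)
    (by intro i; fin_cases i; exact hH) (by intro i; fin_cases i; exact hHH') Q hQ hQ1
  rw [← eH] at hpH
  by_contra hb
  push Not at hb
  have := mul_nonpos_of_nonneg_of_nonpos (Int.natCast_nonneg n) hb
  omega

end main

end Groth.Agent.Lib.Helper2.IntNum7
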