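import Groth.Agent.Lib.Helper2.IntNum4
import Mathlib
set_option backward.isDefEq.respectTransparency.types false
set_option autoImplicit false
set_option linter.style.haveILetI false

/-!
# Intersection numbers, V: positivity for ample modules (helper2)

Mixed version of helper4's positivity of the top Hilbert coefficient (`Snapper11`–`Snapper13`): for ample
`L_1, …, L_r` with inverses `M_i` and `F` coherent with `dim Supp F = r`, `(L_1 ⋯ L_r ; F) > 0`.
-/

universe u
open CategoryTheory CategoryTheory.Limits AlgebraicGeometry Opposite TopologicalSpace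

namespace Groth.Agent.Lib.Helper2.IntNum5
open Groth.Agent.Lib.Helper6.K0Filt Groth.Agent.Lib.Helper6.K0Len Groth.Agent.Lib.Helper6.K0Op
  Groth.Agent.Lib.Helper6.K0Tensor Groth.Agent.Lib.Helper4.Snapper Groth.Agent.Lib.Helper2.IntNum1
  Groth.Agent.Lib.Helper2.IntNum2 Groth.Agent.Lib.Helper2.IntNum4 Groth.Agent.Lib.Helper4.NumPoly

variable {X : Scheme.{u}}

section step
variable (k : Type u) [Field k] [X.Over (Spec (CommRingCat.of k))]
    [IsProper (X ↘ (Spec (CommRingCat.of k)))]

include k in
open Groth.Agent.Lib.Helper17.Serre in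
/-- the geometric input of the inductive step (extracted from helper4's `hcoef_pos_step`): on an integral scheme of
dimension `d + 1` with an ample `L`, `([L]^m - 1)[O_X] = [C] + [L]^m [O_Z]` with `dim Supp C ≤ d` and `Z` the
closure of a point of dimension `d`. -/
theorem exists_section_relation [IsIntegral X] (L : X.Modules) (hL : CohB1.IsAmple L) (d : ℕ)
    (hdim : topologicalKrullDim X = ((d + 1 : ℕ) : WithBot ℕ∞)) :
    ∃ (m : ℕ) (C : X.Modules) (η : X), Coh.IsCoh C ∧
      topologicalKrullDim (CohB1.support C) ≤ (d : WithBot ℕ∞) ∧ Dn d η ∧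
      cls (Coh.structureModule X) ∈ Hlt X (d + 2) ∧ cls (OZ η) ∈ Hlt X (d + 1) ∧
      (Top L ^ m - 1) (cls (Coh.structureModule X)) = cls C + (Top L ^ m) (cls (OZ η)) := by
  haveI : IsNoetherian X := isNoetherian_of_proper k
  haveI := hL.2.1
  haveI : X.IsSeparated := Groth.Agent.Lib.Helper28.GenLocus.isSeparated_of_isAmple hL
  have hLi := hL.1
  -- a point with closure of dimension `d`
  obtain ⟨η, hη⟩ := Groth.Agent.Lib.Helper4.DimChain.exists_dim_closure_eq d hdim
  set I' : X.IdealSheafData := Scheme.IdealSheafData.vanishingIdeal ⟨closure {η}, isClosed_closure⟩ with hI'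
  have hO : Coh.IsCoh (Coh.structureModule X) := Groth.Agent.Lib.Helper6.DevRed.isCoh_structureModule
  have hQ : Coh.IsCoh (ClSub.quotMod I') := Groth.Agent.Lib.Helper6.DevRed.isCoh_quotMod I'
  have hI : Coh.IsCoh (ClSub.idealMod I') :=
    Groth.Agent.Lib.Helper6.DevCore.isCoh_kernel (ClSub.toSubscheme I') hO hQ
  have hS := idealSES_shortExact I'
  -- the generic point is not in the support of the quotient
  have hξQ : genericPoint X ∉ CohB1.support (ClSub.quotMod I') := by
    rw [Groth.Agent.Lib.Helper6.DevRed.support_quotMod_vanishingIdeal]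
    intro hmem
    have hsub : (Set.univ : Set X) ⊆ closure {η} := by
      rw [← (genericPoint_spec X).def]
      exact closure_minimal (Set.singleton_subset_iff.2 hmem) isClosed_closure
    have h1 : topologicalKrullDim X ≤ topologicalKrullDim ↥(closure ({η} : Set X)) := by
      rw [← (Homeomorph.Set.univ X).isHomeomorph.topologicalKrullDim_eq]
      exact (Topology.IsEmbedding.inclusion hsub).isInducing.topologicalKrullDim_le
    rw [hdim, hη] at h1
    have : d + 1 ≤ d := by exact_mod_cast h1
    omega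
  -- the ideal is nonzero
  have hI0 : ¬ IsZero (ClSub.idealMod I') := by
    intro hz
    have h1 := len_add _ hS (genericPoint X)
    have h2 : len (ClSub.idealMod I') (genericPoint X) = 0 :=
      len_eq_zero_of_notMem_support _ _ (by
        rw [Groth.Agent.Lib.Helper16.K0Supp.support_of_isZero hz]; exact Set.notMem_empty _)
    have h3 : len (ClSub.quotMod I') (genericPoint X) = 0 := len_eq_zero_of_notMem_support _ _ hξQ
    have h4 : len (Coh.structureModule X) (genericPoint X) = 1 :=
      len_genericPoint_of_isInvertible _ (Groth.Agent.Lib.Helper28.AmpleUnit.isInvertible_structureModule X)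
    change len (Coh.structureModule X) (genericPoint X) = len (ClSub.idealMod I') (genericPoint X) +
      len (ClSub.quotMod I') (genericPoint X) at h1
    rw [h2, h3, h4] at h1
    simp at h1
  -- a nonzero section of a twist of the ideal
  obtain ⟨n₀, hn₀⟩ := Groth.Agent.S2325.result X L hL (ClSub.idealMod I') hI
  set m := n₀ + 1 with hm
  set N := CohB1.tensorPow L m with hN
  have hNi : PicF.IsInvertible N := Groth.Agent.Lib.Helper28.GenLocus.isInvertible_tensorPow hLi m
  have hNc := isCoh_of_isInvertible N hNi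
  have hgg : Curv2.IsGloballyGenerated (CohB1.tensorMod N (ClSub.idealMod I')) :=
    isGloballyGenerated_of_iso (Groth.Agent.Lib.Helper6.K0Inv.braidIso _ _) (hn₀ m (by omega))
  obtain ⟨s, hs⟩ := exists_hom_ne_zero_of_isGloballyGenerated _ hgg
    (not_isZero_tensorMod N _ hNi hI0)
  -- the tensored sequence
  have hS' := shortExact_tensor_of_flat N (isFlat_of_isInvertible N hNi) _ hS
  haveI := hS'.mono_f
  have hσ : s ≫ ((idealSES I').map (DCoh.tensorBi.obj N)).f ≠ 0 := by
    intro h0
    apply hs
    exact (cancel_mono ((idealSES I').map (DCoh.tensorBi.obj N)).f).1 (h0.trans zero_comp.symm)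
  haveI hσm : Mono (s ≫ ((idealSES I').map (DCoh.tensorBi.obj N)).f) :=
    Groth.Agent.Lib.Helper8.CurveInv.mono_of_ne_zero
      (Groth.Agent.Lib.Helper28.AmpleUnit.isInvertible_structureModule X)
      (Groth.Agent.Lib.Helper28.GenLocus.isInvertible_tensorMod hNi
        (Groth.Agent.Lib.Helper28.AmpleUnit.isInvertible_structureModule X)) _ hσ
  haveI hsm : Mono s := mono_of_mono s ((idealSES I').map (DCoh.tensorBi.obj N)).f
  -- the cokernel of `s`
  have hNI : Coh.IsCoh (CohB1.tensorMod N (ClSub.idealMod I')) := isCoh_tensorMod _ _ hNc hI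
  have hNO : Coh.IsCoh (CohB1.tensorMod N (Coh.structureModule X)) := isCoh_tensorMod _ _ hNc hO
  have hNQ : Coh.IsCoh (CohB1.tensorMod N (ClSub.quotMod I')) := isCoh_tensorMod _ _ hNc hQ
  have hC : Coh.IsCoh (cokernel s) := Groth.Agent.Lib.Helper6.DevCore.isCoh_cokernel s hO hNI
  have hT : (ShortComplex.mk s (cokernel.π s) (cokernel.condition s)).ShortExact :=
    { exact := ShortComplex.exact_of_g_is_cokernel _ (cokernelIsCokernel s)
      mono_f := hsm
      epi_g := inferInstanceAs (Epi (cokernel.π s)) }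
  -- classes
  have hcl1 : cls (CohB1.tensorMod N (ClSub.idealMod I')) = cls (Coh.structureModule X) + cls (cokernel s) :=
    Groth.Agent.Lib.Helper16.K0Db.clSub_shortExact _ _ hT hO hNI hC
  have hcl2 : cls (CohB1.tensorMod N (Coh.structureModule X)) =
      cls (CohB1.tensorMod N (ClSub.idealMod I')) + cls (CohB1.tensorMod N (ClSub.quotMod I')) :=
    Groth.Agent.Lib.Helper16.K0Db.clSub_shortExact _ _ hS' hNI hNO hNQ
  have hTop : Top N = Top L ^ m := Top_tensorPow L hLi m
  have hrel : (Top L ^ m - 1) (cls (Coh.structureModule X)) =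
      cls (cokernel s) + (Top L ^ m) (cls (ClSub.quotMod I')) := by
    show (Top L ^ m) (cls (Coh.structureModule X)) - cls (Coh.structureModule X) = _
    rw [← hTop, Top_cls N hNi _ hO, Top_cls N hNi _ hQ, hcl2, hcl1]
    abel
  -- the generic point is not in the support of the cokernel
  have hξC : genericPoint X ∉ CohB1.support (cokernel s) := by
    have h1 := len_add _ hT (genericPoint X)
    have h2 := len_add _ hS' (genericPoint X)
    change len (CohB1.tensorMod N (ClSub.idealMod I')) (genericPoint X) =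
      len (Coh.structureModule X) (genericPoint X) + len (cokernel s) (genericPoint X) at h1
    change len (CohB1.tensorMod N (Coh.structureModule X)) (genericPoint X) =
      len (CohB1.tensorMod N (ClSub.idealMod I')) (genericPoint X) +
        len (CohB1.tensorMod N (ClSub.quotMod I')) (genericPoint X) at h2
    have h3 : len (CohB1.tensorMod N (ClSub.quotMod I')) (genericPoint X) = 0 :=
      len_eq_zero_of_notMem_support _ _ (by rw [support_tensorMod_eq N _ hNi]; exact hξQ)
    have h4 : len (Coh.structureModule X) (genericPoint X) = 1 :=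
      len_genericPoint_of_isInvertible _ (Groth.Agent.Lib.Helper28.AmpleUnit.isInvertible_structureModule X)
    have h5 : len (CohB1.tensorMod N (Coh.structureModule X)) (genericPoint X) = 1 :=
      len_genericPoint_of_isInvertible _ (Groth.Agent.Lib.Helper28.GenLocus.isInvertible_tensorMod hNi
        (Groth.Agent.Lib.Helper28.AmpleUnit.isInvertible_structureModule X))
    rw [h3, h5, add_zero] at h2
    rw [← h2, h4] at h1
    intro hmem
    have h6 : len (cokernel s) (genericPoint X) ≠ 0 := by
      unfold len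
      rw [Ne, Module.length_eq_zero_iff]
      exact hmem
    apply h6
    have : (1 : ℕ∞) + len (cokernel s) (genericPoint X) = 1 + 0 := by rw [← h1, add_zero]
    exact ENat.add_right_injective_of_ne_top (by simp) this
  -- dimension of the support of the cokernel
  have hdimC : topologicalKrullDim (CohB1.support (cokernel s)) ≤ (d : WithBot ℕ∞) := by
    have hcl := Groth.Agent.Lib.Helper6.DevCore.isClosed_support _ hC
    have hne : CohB1.support (cokernel s) ≠ Set.univ := fun h => hξC (h ▸ Set.mem_univ _)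
    have h1 := Groth.Agent.Lib.Helper24.ConnDimSub.dim_add_one_le
      (IrreducibleSpace.isIrreducible_univ X) hcl (Set.subset_univ _) hne
    rw [(Homeomorph.Set.univ X).isHomeomorph.topologicalKrullDim_eq, hdim] at h1
    exact Groth.Agent.Lib.Helper4.DimChain.le_of_add_one_le_succ _ d h1
  -- the structure sheaf has dimension ≤ d + 1
  have hOmem : cls (Coh.structureModule X) ∈ Hlt X (d + 2) := by
    apply cls_mem_Hlt _ hO (d + 1)
    rw [← hdim]
    exact topologicalKrullDim_subspace_le X _
  have hQmem : cls (ClSub.quotMod I') ∈ Hlt X (d + 1) := by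
    apply cls_mem_Hlt _ hQ d
    rw [Groth.Agent.Lib.Helper6.DevRed.support_quotMod_vanishingIdeal]
    exact hη.le
  exact ⟨m, cokernel s, η, hC, hdimC, hη, hOmem, hQmem, hrel⟩

/-- **the inductive step of positivity** on an integral scheme -/
theorem pos_step [IsIntegral X] {r : ℕ} (L M : _root_.Fin (r + 1) → X.Modules)
    (hL : ∀ i, CohB1.IsAmple (L i))
    (hLM : ∀ i, Nonempty (CohB1.tensorMod (L i) (M i) ≅ Coh.structureModule X))
    (hdim : topologicalKrullDim X = ((r + 1 : ℕ) : WithBot ℕ∞))
    (IHpos : ∀ η : X, Dn r η → 0 < chi k X (Psi (Fin.tail M) (cls (OZ η))))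
    (IHnn : ∀ G : X.Modules, Coh.IsCoh G → topologicalKrullDim (CohB1.support G) ≤ (r : WithBot ℕ∞) →
      0 ≤ chi k X (Psi (Fin.tail M) (cls G))) :
    0 < chi k X (Psi M (cls (Coh.structureModule X))) := by
  haveI : IsNoetherian X := isNoetherian k X
  obtain ⟨m, C, η, hC, hdimC, hη, hOmem, hQmem, hrel⟩ := exists_section_relation k (L 0) (hL 0) r hdim
  obtain ⟨e⟩ := hLM 0
  have hM : ∀ i, PicF.IsInvertible (M i) := fun i =>
    Groth.Agent.Lib.Helper6.K0Inv.isInvertible_of_tensor_iso (L i) (M i) (hL i).1 (hLM i).some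
  have h1 := Top_mul_Top_eq_one (L 0) (M 0) (hL 0).1 e
  have hfin := Psi_Top_pow_sub_one (L 0) (M 0) (hL 0).1 (hM 0) h1 (Fin.tail M) (fun i => hM i.succ) m _ hOmem
  rw [Fin.cons_self_tail, hrel, map_add,
    Psi_Top_pow (L 0) (hL 0).1 (Fin.tail M) (fun i => hM i.succ) m _ hQmem] at hfin
  have hpos : 0 < chi k X (Psi (Fin.tail M) (cls C)) + chi k X (Psi (Fin.tail M) (cls (OZ η))) :=
    add_pos_of_nonneg_of_pos (IHnn _ hC hdimC) (IHpos η hη)
  rw [← map_add, hfin, map_nsmul, nsmul_eq_mul] at hpos
  have hm0 : (0 : ℤ) ≤ (m : ℤ) := Int.natCast_nonneg m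
  by_contra hcon
  rw [not_lt] at hcon
  have := mul_nonpos_of_nonneg_of_nonpos hm0 hcon
  omega

open Classical in
/-- nonnegativity follows from positivity at the points of dimension `r` -/
theorem nonneg_of_pos {r : ℕ} (M : _root_.Fin r → X.Modules) (hM : ∀ i, PicF.IsInvertible (M i))
    (hpos : ∀ ξ : X, Dn r ξ → 0 < chi k X (Psi M (cls (OZ ξ))))
    (F : X.Modules) (hF : Coh.IsCoh F) (hsupp : topologicalKrullDim (CohB1.support F) ≤ (r : WithBot ℕ∞)) :
    0 ≤ chi k X (Psi M (cls F)) := by
  obtain ⟨hfin, h0⟩ := Groth.Agent.Lib.Helper2.IntNum3.Psi_cls_eq_finsum k X M hM F hF hsupp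
  rw [h0]
  change 0 ≤ ((chi k X).comp (Psi M : K0 X →+ K0 X)) (finsum (term (Dn r) F))
  rw [AddMonoidHom.map_finsum _ (hfin.1.subset (support_term_subset (Dn r) F))]
  apply finsum_nonneg
  intro ξ
  unfold term
  split_ifs with h
  · rw [map_nsmul, nsmul_eq_mul]
    exact mul_nonneg (Int.natCast_nonneg _) (hpos ξ h).le
  · rw [map_zero]

open Classical in
/-- positivity follows from positivity at the points of dimension `r`, when `dim Supp F = r` -/
theorem pos_of_pos {r : ℕ} (M : _root_.Fin r → X.Modules) (hM : ∀ i, PicF.IsInvertible (M i))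
    (hpos : ∀ ξ : X, Dn r ξ → 0 < chi k X (Psi M (cls (OZ ξ))))
    (F : X.Modules) (hF : Coh.IsCoh F) (hsupp : topologicalKrullDim (CohB1.support F) = (r : WithBot ℕ∞)) :
    0 < chi k X (Psi M (cls F)) := by
  haveI : IsNoetherian X := isNoetherian k X
  have hcl := Groth.Agent.Lib.Helper6.DevCore.isClosed_support F hF
  obtain ⟨η, hηF, hη⟩ := Groth.Agent.Lib.Helper4.DimChain.exists_mem_dim_closure_eq _ hcl r hsupp
  obtain ⟨hfin, h0⟩ := Groth.Agent.Lib.Helper2.IntNum3.Psi_cls_eq_finsum k X M hM F hF hsupp.le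
  rw [h0]
  change 0 < ((chi k X).comp (Psi M : K0 X →+ K0 X)) (finsum (term (Dn r) F))
  rw [AddMonoidHom.map_finsum _ (hfin.1.subset (support_term_subset (Dn r) F))]
  set f : X → ℤ := fun ξ => ((chi k X).comp (Psi M : K0 X →+ K0 X)) (term (Dn r) F ξ) with hf
  have hnn : ∀ ξ, 0 ≤ f ξ := by
    intro ξ
    simp only [hf]
    unfold term
    split_ifs with h
    · rw [map_nsmul, nsmul_eq_mul]
      exact mul_nonneg (Int.natCast_nonneg _) (hpos ξ h).le
    · rw [map_zero]
  have hsub : Function.support f ⊆ {x : X | Dn r x ∧ x ∈ CohB1.support F} := by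
    intro ξ hξ
    rw [Function.mem_support] at hξ
    apply support_term_subset (Dn r) F
    rw [Function.mem_support]
    intro h0
    apply hξ
    simp only [hf]
    rw [h0, map_zero]
  have hfs : Function.HasFiniteSupport f := hfin.1.subset hsub
  refine lt_of_lt_of_le ?_ (single_le_finsum η hfs hnn)
  have hDη : Dn r η := hη
  show 0 < ((chi k X).comp (Psi M : K0 X →+ K0 X)) (term (Dn r) F η)
  unfold term
  rw [if_pos hDη, map_nsmul, nsmul_eq_mul]
  apply mul_pos _ (hpos η hDη)
  have h1 : len F η ≠ 0 := by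
    unfold len
    rw [Ne, Module.length_eq_zero_iff]
    exact hηF
  have h2 : len F η ≠ ⊤ := hfin.2 η hDη
  have : 0 < (len F η).toNat := by
    rw [Nat.pos_iff_ne_zero, Ne, ENat.toNat_eq_zero]
    tauto
  exact_mod_cast this

/-- the base case: on an integral proper scheme of dimension `0`, `χ(O_X) > 0` -/
theorem pos_dim_zero [IsIntegral X] (hdim : topologicalKrullDim X = ((0 : ℕ) : WithBot ℕ∞)) :
    0 < chi k X (cls (Coh.structureModule X)) := by
  have hO : Coh.IsCoh (Coh.structureModule X) := Groth.Agent.Lib.Helper6.DevRed.isCoh_structureModule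
  rw [chi_cls k X _ hO, ← eulerCharLE_eq_euler k X 0 hdim.le]
  unfold FGA.eulerCharLE
  simp only [zero_add, Finset.range_one, Finset.sum_singleton, pow_zero, one_mul]
  have hne : ¬ IsZero (Coh.structureModule X) := by
    intro hz
    have h1 := Groth.Agent.Lib.Helper16.K0Supp.support_of_isZero hz
    rw [support_of_isInvertible _ (Groth.Agent.Lib.Helper28.AmpleUnit.isInvertible_structureModule X)] at h1
    exact Set.univ_nonempty.ne_empty h1
  have hs : (𝟙 (Coh.structureModule X)) ≠ 0 := fun h => hne ((IsZero.iff_id_eq_zero _).2 h)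
  haveI := nontrivial_sections_of_hom_ne_zero _ (𝟙 (Coh.structureModule X)) hs
  haveI : Nontrivial (Coh.HH X (Coh.structureModule X) 0) :=
    (Groth.Agent.Lib.Helper8.PtSupp.e0 (X := X) (M := Coh.structureModule X)).toEquiv.nontrivial
  haveI := Groth.Agent.Lib.Helper8.EulerK.finite_HH k X _ hO 0
  exact_mod_cast Module.finrank_pos

end step

section main
variable (k : Type u) [Field k]

/-- positivity at a point of dimension `r`, given positivity on integral schemes of dimension `r` -/
theorem pos_point_of (r : ℕ)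
    (ih : ∀ (Z : Scheme.{u}) [Z.Over (Spec (CommRingCat.of k))] [IsProper (Z ↘ (Spec (CommRingCat.of k)))]
      [IsIntegral Z] (L M : _root_.Fin r → Z.Modules), (∀ i, CohB1.IsAmple (L i)) →
      (∀ i, Nonempty (CohB1.tensorMod (L i) (M i) ≅ Coh.structureModule Z)) →
      topologicalKrullDim Z = (r : WithBot ℕ∞) → 0 < chi k Z (Psi M (cls (Coh.structureModule Z))))
    (X : Scheme.{u}) [X.Over (Spec (CommRingCat.of k))] [IsProper (X ↘ (Spec (CommRingCat.of k)))]
    (L M : _root_.Fin r → X.Modules) (hL : ∀ i, CohB1.IsAmple (L i))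
    (hLM : ∀ i, Nonempty (CohB1.tensorMod (L i) (M i) ≅ Coh.structureModule X))
    (ξ : X) (hξ : Dn r ξ) : 0 < chi k X (Psi M (cls (OZ ξ))) := by
  haveI : IsNoetherian X := isNoetherian k X
  have hM : ∀ i, PicF.IsInvertible (M i) := fun i =>
    Groth.Agent.Lib.Helper6.K0Inv.isInvertible_of_tensor_iso (L i) (M i) (hL i).1 (hLM i).some
  set I : X.IdealSheafData := Scheme.IdealSheafData.vanishingIdeal ⟨closure {ξ}, isClosed_closure⟩ with hI
  letI : I.subscheme.Over (Spec (CommRingCat.of k)) := ⟨I.subschemeι ≫ (X ↘ (Spec (CommRingCat.of k)))⟩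
  haveI : IsProper (I.subscheme ↘ (Spec (CommRingCat.of k))) :=
    inferInstanceAs (IsProper (I.subschemeι ≫ (X ↘ (Spec (CommRingCat.of k)))))
  haveI : IsIntegral I.subscheme :=
    Groth.Agent.Lib.Helper6.DevRed.isIntegral_subscheme_vanishingIdeal _ isIrreducible_singleton.closure
  haveI : CompactSpace I.subscheme :=
    QuasiCompact.compactSpace_of_compactSpace (I.subscheme ↘ Spec (CommRingCat.of k))
  have hLZ : ∀ i, CohB1.IsAmple ((Scheme.Modules.pullback I.subschemeι).obj (L i)) := fun i =>
    Groth.Agent.Lib.Helper28.PullbackInv.isAmple_pullback_of_isEmbedding I.subschemeι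
      I.subschemeι.isClosedEmbedding.isEmbedding (L i) (hL i)
  have hdim : topologicalKrullDim I.subscheme = ((r : ℕ) : WithBot ℕ∞) := by
    have h1 := I.subschemeι.isClosedEmbedding.isEmbedding.toHomeomorph.isHomeomorph.topologicalKrullDim_eq
    rw [h1, I.range_subschemeι, hI, Scheme.IdealSheafData.coe_support_vanishingIdeal]
    exact hξ
  have hLMZ : ∀ i, Nonempty (CohB1.tensorMod ((Scheme.Modules.pullback I.subschemeι).obj (L i))
      ((Scheme.Modules.pullback I.subschemeι).obj (M i)) ≅ Coh.structureModule I.subscheme) := by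
    intro i
    obtain ⟨e⟩ := hLM i
    obtain ⟨ψ, -⟩ := Groth.Agent.Lib.Helper28.PullbackInv.exists_pullback_tensorMod_iso I.subschemeι
      (hL i).1 (hM i)
    exact ⟨ψ.symm ≪≫ (Scheme.Modules.pullback I.subschemeι).mapIso e ≪≫
      Groth.Agent.Lib.Helper16.RS.pullbackUnitIso I.subschemeι⟩
  show 0 < chi k X (Psi M (cls (ClSub.quotMod I)))
  rw [chi_Psi_quotMod_eq k I M hM]
  exact ih I.subscheme _ _ hLZ hLMZ hdim

/-- **positivity on integral schemes** -/
theorem pos_integral : ∀ (r : ℕ) (X : Scheme.{u}) [X.Over (Spec (CommRingCat.of k))]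
    [IsProper (X ↘ (Spec (CommRingCat.of k)))] [IsIntegral X] (L M : _root_.Fin r → X.Modules),
    (∀ i, CohB1.IsAmple (L i)) →
    (∀ i, Nonempty (CohB1.tensorMod (L i) (M i) ≅ Coh.structureModule X)) →
    topologicalKrullDim X = (r : WithBot ℕ∞) → 0 < chi k X (Psi M (cls (Coh.structureModule X))) := by
  intro r
  induction r with
  | zero =>
    intro X _ _ _ L M _ _ hdim
    have : Psi M = 1 := by unfold Psi; simp
    rw [this]
    exact pos_dim_zero k hdim
  | succ r ih =>
    intro X _ _ _ L M hL hLM hdim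
    have hM : ∀ i, PicF.IsInvertible (M i) := fun i =>
      Groth.Agent.Lib.Helper6.K0Inv.isInvertible_of_tensor_iso (L i) (M i) (hL i).1 (hLM i).some
    have IHpos : ∀ η : X, Dn r η → 0 < chi k X (Psi (Fin.tail M) (cls (OZ η))) := fun η hη =>
      pos_point_of k r ih X (Fin.tail L) (Fin.tail M) (fun i => hL i.succ) (fun i => hLM i.succ) η hη
    exact pos_step k L M hL hLM hdim IHpos
      (fun G hG hGd => nonneg_of_pos k (Fin.tail M) (fun i => hM i.succ) IHpos G hG hGd)

/-- **positivity of intersection numbers of ample modules** -/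
theorem pos (X : Scheme.{u}) [X.Over (Spec (CommRingCat.of k))] [IsProper (X ↘ (Spec (CommRingCat.of k)))]
    {r : ℕ} (L M : _root_.Fin r → X.Modules) (hL : ∀ i, CohB1.IsAmple (L i))
    (hLM : ∀ i, Nonempty (CohB1.tensorMod (L i) (M i) ≅ Coh.structureModule X))
    (F : X.Modules) (hF : Coh.IsCoh F) (hsupp : topologicalKrullDim (CohB1.support F) = (r : WithBot ℕ∞)) :
    0 < chi k X (Psi M (cls F)) := by
  have hM : ∀ i, PicF.IsInvertible (M i) := fun i =>
    Groth.Agent.Lib.Helper6.K0Inv.isInvertible_of_tensor_iso (L i) (M i) (hL i).1 (hLM i).some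
  exact pos_of_pos k M hM (fun ξ hξ => pos_point_of k r (pos_integral k r) X L M hL hLM ξ hξ) F hF hsupp

end main

end Groth.Agent.Lib.Helper2.IntNum5
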