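import Mathlib
set_option autoImplicit false

/-!
# Helper2 — KodPoly: elementary growth bounds for integer combinations of `m ↦ C(m + j, j)`
-/

namespace Groth.Agent.Lib.Helper2.KodPoly

theorem choose_le (r j m : ℕ) (hj : j ≤ r) (hm : 1 ≤ m) :
    (m + j).choose j ≤ (r + 1) ^ r * m ^ r := by
  have h1 : (m + j).choose j ≤ (m + j) ^ j := by
    have := Nat.descFactorial_eq_factorial_mul_choose (m + j) j
    calc (m + j).choose j ≤ j.factorial * (m + j).choose j :=
          Nat.le_mul_of_pos_left _ (Nat.factorial_pos j)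
      _ = (m + j).descFactorial j := this.symm
      _ ≤ (m + j) ^ j := Nat.descFactorial_le_pow _ _
  have h2 : m + j ≤ (r + 1) * m := by nlinarith
  have h3 : 1 ≤ (r + 1) * m := by nlinarith
  calc (m + j).choose j ≤ (m + j) ^ j := h1
    _ ≤ ((r + 1) * m) ^ j := Nat.pow_le_pow_left h2 j
    _ ≤ ((r + 1) * m) ^ r := Nat.pow_le_pow_right h3 hj
    _ = (r + 1) ^ r * m ^ r := mul_pow _ _ _

/-- upper bound: a combination of `C(m + j, j)`, `j ≤ r`, is `O(m^r)` -/
theorem exists_ub (r : ℕ) (c : ℕ → ℤ) :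
    ∃ C : ℕ, ∀ m : ℕ, 1 ≤ m →
      ∑ j ∈ Finset.range (r + 1), c j * ((m + j).choose j : ℤ) ≤ (C : ℤ) * (m : ℤ) ^ r := by
  refine ⟨(∑ j ∈ Finset.range (r + 1), (c j).natAbs) * (r + 1) ^ r, ?_⟩
  intro m hm
  push_cast
  rw [Finset.sum_mul, Finset.sum_mul]
  apply Finset.sum_le_sum
  intro j hj
  rw [Finset.mem_range] at hj
  have h1 := choose_le r j m (by omega) hm
  have h1' : ((m + j).choose j : ℤ) ≤ ((r : ℤ) + 1) ^ r * (m : ℤ) ^ r := by exact_mod_cast h1
  have h2 : c j ≤ |c j| := le_abs_self _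
  have h3 : (0 : ℤ) ≤ ((m + j).choose j : ℤ) := by positivity
  calc c j * ((m + j).choose j : ℤ) ≤ |c j| * ((m + j).choose j : ℤ) :=
        mul_le_mul_of_nonneg_right h2 h3
    _ ≤ |c j| * (((r : ℤ) + 1) ^ r * (m : ℤ) ^ r) := mul_le_mul_of_nonneg_left h1' (abs_nonneg _)
    _ = |c j| * ((r : ℤ) + 1) ^ r * (m : ℤ) ^ r := by ring

/-- lower bound: if the top coefficient is positive, the combination is `≥ m^n / N` eventually -/
theorem exists_lb (n : ℕ) (c : ℕ → ℤ) (hc : 1 ≤ c n) :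
    ∃ N m₀ : ℕ, 0 < N ∧ ∀ m : ℕ, m₀ ≤ m →
      (m : ℤ) ^ n ≤ (N : ℤ) * ∑ j ∈ Finset.range (n + 1), c j * ((m + j).choose j : ℤ) := by
  rcases n with _ | d
  · refine ⟨1, 0, Nat.one_pos, ?_⟩
    intro m _
    simp only [pow_zero, zero_add, Finset.range_one, Finset.sum_singleton, add_zero,
      Nat.choose_zero_right, Nat.cast_one, mul_one, one_mul]
    exact hc
  · obtain ⟨C, hC⟩ := exists_ub d (fun j => - c j)
    refine ⟨2 * (d + 1).factorial, 2 * (d + 1).factorial * C + 1, by positivity, ?_⟩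
    intro m hm
    have hm1 : 1 ≤ m := by omega
    have hlow := hC m hm1
    simp only [neg_mul, Finset.sum_neg_distrib] at hlow
    rw [Finset.sum_range_succ]
    have htop : (m : ℤ) ^ (d + 1) ≤ ((d + 1).factorial : ℤ) * ((m + (d + 1)).choose (d + 1) : ℤ) := by
      have h1 := Nat.pow_sub_le_descFactorial (m + (d + 1)) (d + 1)
      rw [Nat.descFactorial_eq_factorial_mul_choose] at h1
      have h2 : m ^ (d + 1) ≤ (m + (d + 1) + 1 - (d + 1)) ^ (d + 1) :=
        Nat.pow_le_pow_left (by omega) _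
      exact_mod_cast h2.trans h1
    have hch : (0 : ℤ) ≤ ((m + (d + 1)).choose (d + 1) : ℤ) := by positivity
    have hf : (0 : ℤ) < ((d + 1).factorial : ℤ) := by exact_mod_cast Nat.factorial_pos _
    have htop2 : ((m + (d + 1)).choose (d + 1) : ℤ) ≤ c (d + 1) * ((m + (d + 1)).choose (d + 1) : ℤ) := by
      nlinarith
    have hmC : (2 * (d + 1).factorial * C : ℤ) ≤ (m : ℤ) := by
      have : 2 * (d + 1).factorial * C ≤ m := by omega
      exact_mod_cast this
    have hmd : (0 : ℤ) ≤ (m : ℤ) ^ d := by positivity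
    have hpow : (m : ℤ) ^ (d + 1) = (m : ℤ) * (m : ℤ) ^ d := by ring
    push_cast
    set S := ∑ x ∈ Finset.range (d + 1), c x * ((m + x).choose x : ℤ) with hS
    set T := ((m + (d + 1)).choose (d + 1) : ℤ) with hT
    set F := ((d + 1).factorial : ℤ) with hF
    have hS' : -((C : ℤ) * (m : ℤ) ^ d) ≤ S := by linarith
    have h5 : (2 * F * C) * (m : ℤ) ^ d ≤ (m : ℤ) * (m : ℤ) ^ d := mul_le_mul_of_nonneg_right hmC hmd
    have h6 : F * T ≤ F * (c (d + 1) * T) := mul_le_mul_of_nonneg_left htop2 hf.le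
    have h7 : F * (-((C : ℤ) * (m : ℤ) ^ d)) ≤ F * S := mul_le_mul_of_nonneg_left hS' hf.le
    have hgoal : (m : ℤ) ^ (d + 1) ≤ 2 * F * (S + c (d + 1) * T) := by
      rw [hpow] at htop ⊢
      nlinarith
    convert hgoal using 2

end Groth.Agent.Lib.Helper2.KodPoly
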