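import Mathlib
import Groth.Agent.Lib.Helper2.TensEq
import Groth.Agent.Lib.Helper8.EulerK
import Groth.Agent.Lib.Helper28.TensorPowGen
import Groth.Agent.Lib.Helper28.GenLocus
set_option backward.isDefEq.respectTransparency.types false
set_option autoImplicit false
set_option linter.style.haveILetI false

/-!
# Helper2 — KodSub: the relation "`E` embeds in `F`" on modules, its stability under tensoring with flat
(invertible) modules and tensor powers, and monotonicity of `h⁰`.
-/

universe u
open CategoryTheory CategoryTheory.Limits AlgebraicGeometry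

namespace Groth.Agent.Lib.Helper2.KodSub

open Groth.Agent.Lib.Helper2.TensEq Groth.Agent.Lib.Helper8.EulerK

variable {X : Scheme.{u}}

/-- `E` embeds in `F` -/
def Sub (E F : X.Modules) : Prop := ∃ φ : E ⟶ F, Mono φ

theorem Sub.refl (E : X.Modules) : Sub E E := ⟨𝟙 E, inferInstance⟩

theorem Sub.of_iso {E F : X.Modules} (e : E ≅ F) : Sub E F := ⟨e.hom, inferInstance⟩

theorem Sub.trans {E F G : X.Modules} (h1 : Sub E F) (h2 : Sub F G) : Sub E G := by
  obtain ⟨φ, hφ⟩ := h1
  obtain ⟨ψ, hψ⟩ := h2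
  exact ⟨φ ≫ ψ, mono_comp φ ψ⟩

theorem mono_T_map (M : X.Modules) (hM : FlatMod.IsFlat M) {E F : X.Modules} (φ : E ⟶ F) [Mono φ] :
    Mono ((T M).map φ) := by
  have hT : (ShortComplex.mk φ (cokernel.π φ) (cokernel.condition φ)).ShortExact :=
    { exact := ShortComplex.exact_of_g_is_cokernel _ (cokernelIsCokernel φ)
      mono_f := inferInstanceAs (Mono φ)
      epi_g := inferInstanceAs (Epi (cokernel.π φ)) }
  exact (Groth.Agent.Lib.Helper6.K0Op.shortExact_tensor_of_flat M hM _ hT).mono_f

theorem Sub.tensor_left (M : X.Modules) (hM : FlatMod.IsFlat M) {E F : X.Modules} (h : Sub E F) :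
    Sub (CohB1.tensorMod M E) (CohB1.tensorMod M F) := by
  obtain ⟨φ, hφ⟩ := h
  exact ⟨(T M).map φ, mono_T_map M hM φ⟩

theorem Sub.tensor_right (M : X.Modules) (hM : FlatMod.IsFlat M) {E F : X.Modules} (h : Sub E F) :
    Sub (CohB1.tensorMod E M) (CohB1.tensorMod F M) :=
  ((Sub.of_iso (Groth.Agent.Lib.Helper6.K0Inv.braidIso E M)).trans (h.tensor_left M hM)).trans
    (Sub.of_iso (Groth.Agent.Lib.Helper6.K0Inv.braidIso M F))

theorem Sub.tensor {E F E' F' : X.Modules} (hE' : FlatMod.IsFlat E') (hF : FlatMod.IsFlat F)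
    (h : Sub E F) (h' : Sub E' F') : Sub (CohB1.tensorMod E E') (CohB1.tensorMod F F') :=
  (h.tensor_right E' hE').trans (h'.tensor_left F hF)

theorem Sub.pow {E F : X.Modules} (hE : PicF.IsInvertible E) (hF : PicF.IsInvertible F) (h : Sub E F) (m : ℕ) :
    Sub (CohB1.tensorPow E m) (CohB1.tensorPow F m) := by
  induction m with
  | zero => exact Sub.refl _
  | succ m ih =>
    exact Sub.tensor (Groth.Agent.Lib.Helper6.K0Op.isFlat_of_isInvertible _ hE)
      (Groth.Agent.Lib.Helper6.K0Op.isFlat_of_isInvertible _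
        (Groth.Agent.Lib.Helper28.GenLocus.isInvertible_tensorPow hF m)) ih h

section field
variable (k : Type u) [Field k] [X.Over (Spec (CommRingCat.of k))] [IsProper (X ↘ Spec (CommRingCat.of k))]

theorem Sub.hh_le {E F : X.Modules} (hF : Coh.IsCoh F) (h : Sub E F) :
    Module.finrank k (Coh.HH X E 0) ≤ Module.finrank k (Coh.HH X F 0) := by
  obtain ⟨φ, hφ⟩ := h
  have hT : (ShortComplex.mk φ (cokernel.π φ) (cokernel.condition φ)).ShortExact :=
    { exact := ShortComplex.exact_of_g_is_cokernel _ (cokernelIsCokernel φ)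
      mono_f := inferInstanceAs (Mono φ)
      epi_g := inferInstanceAs (Epi (cokernel.π φ)) }
  exact hh₁_zero_le k _ hT hF

theorem hh_iso {E F : X.Modules} (e : E ≅ F) (i : ℕ) :
    Module.finrank k (Coh.HH X E i) = Module.finrank k (Coh.HH X F i) :=
  hh_congr k e i

end field

end Groth.Agent.Lib.Helper2.KodSub
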