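import Mathlib
import Groth.Agent.Lib.Helper2.KodSub
import Groth.Agent.Lib.Helper2.KodPoly
import Groth.Agent.Lib.Helper2.IntNum6
import Groth.Agent.Lib.Helper4.AmpleSerre
import Groth.Agent.Lib.Helper4.Snapper10
import Groth.Agent.Lib.Helper4.Snapper11
import Groth.Agent.Lib.Helper28.AmpleGG
import Groth.Agent.Lib.Helper8.CurveInv1
import Groth.Agent.Lib.Helper8.InvInverse
set_option backward.isDefEq.respectTransparency.types false
set_option autoImplicit false
set_option linter.style.haveILetI false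

/-!
# Helper2 — KodUB: `h⁰(G ⊗ N^m) = O(m^r)` for `N` ample, `dim X ≤ r`; and `h⁰(M^m) = O(m^r)` for any invertible `M`
on an integral projective scheme of dimension `≤ r`.
-/

universe u
open CategoryTheory CategoryTheory.Limits AlgebraicGeometry

namespace Groth.Agent.Lib.Helper2.KodUB

open Groth.Agent.Lib.Helper2.KodSub Groth.Agent.Lib.Helper8.EulerK Groth.Agent.Lib.Helper2.IntNum1 Groth.Agent.Lib.Helper6.K0Len
  Groth.Agent.Lib.Helper2.IntNum6 Groth.Agent.Lib.Helper6.K0Op Groth.Agent.Lib.Helper6.K0Filt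
  Groth.Agent.Lib.Helper4.Snapper

variable (k : Type u) [Field k] {X : Scheme.{u}} [X.Over (Spec (CommRingCat.of k))]
  [IsProper (X ↘ Spec (CommRingCat.of k))]

/-- abbreviation -/
noncomputable def h0 (F : X.Modules) : ℕ := Module.finrank k (Coh.HH X F 0)

theorem h0_iso {E F : X.Modules} (e : E ≅ F) : h0 k E = h0 k F := hh_congr k e 0

/-- the Euler characteristic of `G ⊗ N^m` in the binomial basis -/
theorem euler_tensorPow_eq (r : ℕ) (hdim : topologicalKrullDim X ≤ r) (N : X.Modules) (hN : PicF.IsInvertible N)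
    (G : X.Modules) (hG : Coh.IsCoh G) :
    ∃ c : ℕ → ℤ, (∀ m : ℕ, Curv2.euler k X (CohB1.tensorMod G (CohB1.tensorPow N m)) =
        ∑ j ∈ Finset.range (r + 1), c j * ((m + j).choose j : ℤ)) ∧
      c r = chi k X (((1 - Top (Groth.Agent.Lib.Helper28.HomMod.dual N)) ^ r) (cls G)) := by
  haveI : IsNoetherian X := isNoetherian k X
  set N' := Groth.Agent.Lib.Helper28.HomMod.dual N with hN'
  obtain ⟨e0⟩ := Groth.Agent.Lib.Helper8.InvInverse.isInverseOf_dual hN
  have e : CohB1.tensorMod N N' ≅ Coh.structureModule X :=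
    Groth.Agent.Lib.Helper6.K0Inv.braidIso N N' ≪≫ e0
  have hN'i : PicF.IsInvertible N' := Groth.Agent.Lib.Helper6.K0Inv.isInvertible_of_tensor_iso N N' hN e
  refine ⟨fun j => chi k X (((1 - Top N') ^ j) (cls G)) - chi k X (((1 - Top N') ^ (j + 1)) (cls G)), ?_, ?_⟩
  · intro m
    have h1 := chi_Top_pow_eq k X r hdim N N' hN e G hG m
    rw [← h1, ← Top_tensorPow N hN m,
      Top_cls _ (Groth.Agent.Lib.Helper28.GenLocus.isInvertible_tensorPow hN m) G hG,
      chi_cls k X _ (isCoh_tensorMod _ _ (isCoh_of_isInvertible _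
        (Groth.Agent.Lib.Helper28.GenLocus.isInvertible_tensorPow hN m)) hG)]
    exact euler_congr k (Groth.Agent.Lib.Helper6.K0Inv.braidIso G (CohB1.tensorPow N m))
  · have hz : ((1 - Top N') ^ (r + 1)) (cls G) = 0 := by
      apply eq_zero_of_mem_Hlt_zero
      apply pow_sub_Top_mem_Hlt N' hN'i 0 (r + 1)
      rw [zero_add]
      exact cls_mem_Hlt_of_dim k X r hdim G hG
    show chi k X (((1 - Top N') ^ r) (cls G)) - chi k X (((1 - Top N') ^ (r + 1)) (cls G)) = _
    rw [hz, map_zero, sub_zero]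

/-- eventually `h⁰ = χ` for twists by powers of an ample module -/
theorem exists_h0_eq_euler (N : X.Modules) (hN : CohB1.IsAmple N) (G : X.Modules) (hG : Coh.IsCoh G) :
    ∃ n₀ : ℕ, ∀ m : ℕ, n₀ ≤ m →
      (h0 k (CohB1.tensorMod G (CohB1.tensorPow N m)) : ℤ) =
        Curv2.euler k X (CohB1.tensorMod G (CohB1.tensorPow N m)) := by
  obtain ⟨n₀, hn₀⟩ := Groth.Agent.Lib.Helper4.AmpleSerre.vanishing_of_isAmple k X
    (X ↘ Spec (CommRingCat.of k)) N hN G hG
  refine ⟨n₀, fun m hm => ?_⟩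
  rw [euler_eq_sum k X _ 1 (fun p hp => hn₀ m hm p (by omega))]
  simp only [Finset.range_one, Finset.sum_singleton, pow_zero, one_mul]
  rfl

/-- promote an eventual bound to a bound for all `m ≥ 1` -/
theorem exists_bound_of_eventually (f : ℕ → ℕ) (r C₁ n₀ : ℕ) (h : ∀ m, n₀ ≤ m → 1 ≤ m → f m ≤ C₁ * m ^ r) :
    ∃ C : ℕ, ∀ m, 1 ≤ m → f m ≤ C * m ^ r := by
  refine ⟨C₁ + ∑ i ∈ Finset.range n₀, f i, fun m hm => ?_⟩
  have hpos : 1 ≤ m ^ r := Nat.one_le_pow _ _ hm
  by_cases hmn : n₀ ≤ m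
  · calc f m ≤ C₁ * m ^ r := h m hmn hm
      _ ≤ (C₁ + ∑ i ∈ Finset.range n₀, f i) * m ^ r := Nat.mul_le_mul_right _ (Nat.le_add_right _ _)
  · have h1 : f m ≤ ∑ i ∈ Finset.range n₀, f i :=
      Finset.single_le_sum (f := f) (fun i _ => Nat.zero_le _) (Finset.mem_range.2 (by omega))
    calc f m ≤ ∑ i ∈ Finset.range n₀, f i := h1
      _ ≤ C₁ + ∑ i ∈ Finset.range n₀, f i := Nat.le_add_left _ _
      _ = (C₁ + ∑ i ∈ Finset.range n₀, f i) * 1 := (Nat.mul_one _).symm
      _ ≤ (C₁ + ∑ i ∈ Finset.range n₀, f i) * m ^ r := Nat.mul_le_mul_left _ hpos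

/-- **`h⁰(G ⊗ N^m) = O(m^r)` for `N` ample and `dim X ≤ r`** -/
theorem ub_ample (r : ℕ) (hdim : topologicalKrullDim X ≤ r) (N : X.Modules) (hN : CohB1.IsAmple N)
    (G : X.Modules) (hG : Coh.IsCoh G) :
    ∃ C : ℕ, ∀ m : ℕ, 1 ≤ m → h0 k (CohB1.tensorMod G (CohB1.tensorPow N m)) ≤ C * m ^ r := by
  obtain ⟨c, hc, -⟩ := euler_tensorPow_eq k r hdim N hN.1 G hG
  obtain ⟨n₀, hn₀⟩ := exists_h0_eq_euler k N hN G hG
  obtain ⟨C₁, hC₁⟩ := Groth.Agent.Lib.Helper2.KodPoly.exists_ub r c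
  apply exists_bound_of_eventually _ r C₁ n₀
  intro m hm hm1
  have h1 := hC₁ m hm1
  rw [← hc m, ← hn₀ m hm] at h1
  exact_mod_cast h1

section integral
variable [IsIntegral X]

include k in
/-- a globally generated invertible module on an integral scheme contains `O_X` -/
theorem sub_of_gg (E : X.Modules) (hE : PicF.IsInvertible E) (hgg : Curv2.IsGloballyGenerated E) :
    Sub (Coh.structureModule X) E := by
  have hne : ¬ IsZero E := by
    intro hz
    have h1 := Groth.Agent.Lib.Helper16.K0Supp.support_of_isZero hz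
    rw [support_of_isInvertible _ hE] at h1
    exact Set.univ_nonempty.ne_empty h1
  obtain ⟨s, hs⟩ := exists_hom_ne_zero_of_isGloballyGenerated E hgg hne
  exact ⟨s, Groth.Agent.Lib.Helper8.CurveInv.mono_of_ne_zero
    (Groth.Agent.Lib.Helper28.AmpleUnit.isInvertible_structureModule X) hE s hs⟩

include k in
/-- on an integral projective scheme every invertible module embeds in an ample one -/
theorem exists_ample_sub (H : X.Modules) (hH : CohB1.IsAmple H) (M : X.Modules) (hM : PicF.IsInvertible M) :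
    ∃ N : X.Modules, CohB1.IsAmple N ∧ Sub M N := by
  obtain ⟨n₁, -, h1⟩ := Groth.Agent.Lib.Helper28.GenLocus.exists_isAmple_isGloballyGenerated hH hM
  obtain ⟨n₂, -, h2⟩ := Groth.Agent.Lib.Helper28.GenLocus.exists_isAmple_isGloballyGenerated hH
    (Groth.Agent.Lib.Helper28.AmpleUnit.isInvertible_structureModule X)
  set b := max n₁ n₂ with hb
  obtain ⟨hA, -⟩ := h1 b (le_max_left _ _)
  obtain ⟨-, hgg⟩ := h2 b (le_max_right _ _)
  obtain ⟨u⟩ := Groth.Agent.Lib.Helper28.AmpleUnit.nonempty_tensor_unit_iso (CohB1.tensorPow H b)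
  have hHb : PicF.IsInvertible (CohB1.tensorPow H b) :=
    Groth.Agent.Lib.Helper28.GenLocus.isInvertible_tensorPow hH.1 b
  have hgg' : Curv2.IsGloballyGenerated (CohB1.tensorPow H b) :=
    Groth.Agent.Lib.Helper8.GGKill.isGloballyGenerated_of_iso u hgg
  have hs := sub_of_gg k _ hHb hgg'
  obtain ⟨v⟩ := Groth.Agent.Lib.Helper28.InvQC.nonempty_unit_tensor_iso M
  exact ⟨_, hA, (Sub.of_iso v.symm).trans (hs.tensor_right M (isFlat_of_isInvertible _ hM))⟩

/-- **`h⁰(M^m) = O(m^r)` for any invertible `M` on an integral projective scheme of dimension `≤ r`** -/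
theorem ub_integral (r : ℕ) (hdim : topologicalKrullDim X ≤ r) (H : X.Modules) (hH : CohB1.IsAmple H)
    (M : X.Modules) (hM : PicF.IsInvertible M) :
    ∃ C : ℕ, ∀ m : ℕ, 1 ≤ m → h0 k (CohB1.tensorPow M m) ≤ C * m ^ r := by
  obtain ⟨N, hN, hMN⟩ := exists_ample_sub k H hH M hM
  have hO : Coh.IsCoh (Coh.structureModule X) := Groth.Agent.Lib.Helper6.DevRed.isCoh_structureModule
  obtain ⟨C, hC⟩ := ub_ample k r hdim N hN _ hO
  refine ⟨C, fun m hm => le_trans ?_ (hC m hm)⟩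
  have hNm := Groth.Agent.Lib.Helper28.GenLocus.isInvertible_tensorPow hN.1 m
  obtain ⟨v⟩ := Groth.Agent.Lib.Helper28.InvQC.nonempty_unit_tensor_iso (CohB1.tensorPow N m)
  rw [h0_iso k v]
  exact (hMN.pow hM hN.1 m).hh_le k (isCoh_of_isInvertible _ hNm)

end integral

end Groth.Agent.Lib.Helper2.KodUB
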