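import Mathlib
import Groth.Agent.Lib.Helper2.KodUB
import Groth.Agent.Lib.Helper6.DevExt
import Groth.Agent.Lib.Helper6.DevCore
import Groth.Agent.Lib.Helper4.Snapper7
import Groth.Agent.Lib.Helper17.GrVan
import Groth.Agent.Lib.Helper28.PullbackInv
set_option backward.isDefEq.respectTransparency.types false
set_option autoImplicit false
set_option linter.style.haveILetI false

/-!
# Helper2 — KodDev: `h⁰(F ⊗ L^m) = O(m^r)` for `F` coherent with `dim Supp F ≤ r` and `L` any invertible module on a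
projective scheme over a field (dévissage).
-/

universe u
open CategoryTheory CategoryTheory.Limits AlgebraicGeometry TopologicalSpace

namespace Groth.Agent.Lib.Helper2.KodDev

open Groth.Agent.Lib.Helper2.KodSub Groth.Agent.Lib.Helper8.EulerK Groth.Agent.Lib.Helper2.KodUB
  Groth.Agent.Lib.Helper6.K0Op Groth.Agent.Lib.Helper6.DevCore Groth.Agent.Lib.Helper2.TensEq

theorem dim_mono {T : Type*} [TopologicalSpace T] {A B : Set T} (h : A ⊆ B) :
    topologicalKrullDim A ≤ topologicalKrullDim B :=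
  (Topology.IsEmbedding.inclusion h).isInducing.topologicalKrullDim_le

variable (k : Type u) [Field k] {X : Scheme.{u}} [X.Over (Spec (CommRingCat.of k))]
  [IsProper (X ↘ Spec (CommRingCat.of k))]

/-- the class of modules with the expected growth of sections after twisting by powers of `L` -/
def ubClass (L : X.Modules) : ObjectProperty X.Modules := fun F =>
  ∀ r : ℕ, topologicalKrullDim (CohB1.support F) ≤ r →
    ∃ C : ℕ, ∀ m : ℕ, 1 ≤ m → h0 k (CohB1.tensorMod (CohB1.tensorPow L m) F) ≤ C * m ^ r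

theorem ubClass_of_iso (L : X.Modules) {F G : X.Modules} (e : F ≅ G) (h : ubClass k L F) : ubClass k L G := by
  intro r hr
  have hs : CohB1.support F ⊆ CohB1.support G := support_subset_of_mono e.hom
  obtain ⟨C, hC⟩ := h r ((dim_mono hs).trans hr)
  refine ⟨C, fun m hm => ?_⟩
  have h1 := h0_iso k ((T (CohB1.tensorPow L m)).mapIso e)
  change h0 k (CohB1.tensorMod (CohB1.tensorPow L m) F) = h0 k (CohB1.tensorMod (CohB1.tensorPow L m) G) at h1
  rw [← h1]
  exact hC m hm

instance (L : X.Modules) : (ubClass k L).IsClosedUnderIsomorphisms where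
  of_iso e h := ubClass_of_iso k L e h

theorem ubClass_of_isZero (L : X.Modules) (F : X.Modules) (hF : IsZero F) : ubClass k L F := by
  intro r _
  refine ⟨0, fun m _ => ?_⟩
  have hz : IsZero ((T (CohB1.tensorPow L m)).obj F) := Functor.map_isZero _ hF
  haveI : Subsingleton (Coh.HH X (CohB1.tensorMod (CohB1.tensorPow L m) F) 0) :=
    Groth.Agent.Lib.Helper17.Graded.subsingleton_HH_of_isZero _ hz 0
  have : h0 k (CohB1.tensorMod (CohB1.tensorPow L m) F) = 0 := Module.finrank_zero_of_subsingleton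
  rw [this]
  exact Nat.zero_le _

theorem ubClass_ext (L : X.Modules) (hL : PicF.IsInvertible L) (S : ShortComplex X.Modules) (hS : S.ShortExact)
    (h₁ : Coh.IsCoh S.X₁) (h₂ : Coh.IsCoh S.X₂) (h₃ : Coh.IsCoh S.X₃)
    (k₁ : ubClass k L S.X₁) (k₃ : ubClass k L S.X₃) : ubClass k L S.X₂ := by
  intro r hr
  haveI := hS.mono_f
  haveI := hS.epi_g
  obtain ⟨C₁, hC₁⟩ := k₁ r ((dim_mono (support_subset_of_mono S.f)).trans hr)
  obtain ⟨C₃, hC₃⟩ := k₃ r ((dim_mono (support_subset_of_epi S.g)).trans hr)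
  refine ⟨C₁ + C₃, fun m hm => ?_⟩
  have hLm := Groth.Agent.Lib.Helper28.GenLocus.isInvertible_tensorPow hL m
  have hc := isCoh_of_isInvertible _ hLm
  have hS' := shortExact_tensor_of_flat _ (isFlat_of_isInvertible _ hLm) S hS
  have hle := hh₂_le k _ hS' (isCoh_tensorMod _ _ hc h₁) (isCoh_tensorMod _ _ hc h₂)
    (isCoh_tensorMod _ _ hc h₃) 0
  have e1 := hC₁ m hm
  have e3 := hC₃ m hm
  change h0 k (CohB1.tensorMod (CohB1.tensorPow L m) S.X₂) ≤
    h0 k (CohB1.tensorMod (CohB1.tensorPow L m) S.X₁) + h0 k (CohB1.tensorMod (CohB1.tensorPow L m) S.X₃) at hle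
  calc _ ≤ _ := hle
    _ ≤ C₁ * m ^ r + C₃ * m ^ r := Nat.add_le_add e1 e3
    _ = (C₁ + C₃) * m ^ r := (Nat.add_mul _ _ _).symm

/-- transfer of sections to the closed subscheme -/
theorem h0_quotMod_tensorPow (I : X.IdealSheafData) (L : X.Modules) (hL : PicF.IsInvertible L) (m : ℕ) :
    h0 k (CohB1.tensorMod (ClSub.quotMod I) (CohB1.tensorPow L m)) =
      @h0 k _ I.subscheme ⟨I.subschemeι ≫ (X ↘ (Spec (CommRingCat.of k)))⟩
        (CohB1.tensorMod (Coh.structureModule I.subscheme)
          (CohB1.tensorPow ((Scheme.Modules.pullback I.subschemeι).obj L) m)) := by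
  letI : I.subscheme.Over (Spec (CommRingCat.of k)) := ⟨I.subschemeι ≫ (X ↘ (Spec (CommRingCat.of k)))⟩
  obtain ⟨e⟩ := Groth.Agent.Lib.Helper4.Snapper.nonempty_push_tensorPows_iso I.subschemeι
    (Coh.structureModule I.subscheme) 1 (fun _ => L) (fun _ => hL) (fun _ => m)
  have hq : (CohB1.tensorMod (Coh.structureModule I.subscheme)
      (CohB1.tensorPow ((Scheme.Modules.pullback I.subschemeι).obj L) m)).IsQuasicoherent :=
    (isCoh_tensorMod _ _ Groth.Agent.Lib.Helper6.DevRed.isCoh_structureModule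
      (isCoh_of_isInvertible _ (Groth.Agent.Lib.Helper28.GenLocus.isInvertible_tensorPow
        (Groth.Agent.Lib.Helper28.PullbackInv.isInvertible_pullback I.subschemeι hL) m))).1
  obtain ⟨E, -⟩ := Groth.Agent.Lib.Helper2.Bridge3.exists_natural_linearEquiv k I.subschemeι rfl 0
  have h1 := (E _ hq).finrank_eq
  have h2 := h0_iso k e
  unfold h0 at h2 ⊢
  rw [← h1]
  exact h2.symm

section main
variable {H : X.Modules} (hH : CohB1.IsAmple H) {L : X.Modules} (hL : PicF.IsInvertible L)

include hH hL in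
/-- the class contains the coherent submodules of `O_X / J_Z`, `Z` integral -/
theorem ubClass_ideal (Z : Closeds X) (hirr : IsIrreducible (Z : Set X)) (y : X) (hy : closure {y} = (Z : Set X))
    (I : X.IdealSheafData) (hI : I = Scheme.IdealSheafData.vanishingIdeal Z)
    (N : X.Modules) (j : N ⟶ ClSub.quotMod I) (hj : Mono j)
    (hN : Coh.IsCoh N) : ubClass k L N := by
  intro r hr
  haveI : IsIntegral I.subscheme := by
    rw [hI]; exact Groth.Agent.Lib.Helper6.DevRed.isIntegral_subscheme_vanishingIdeal Z hirr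
  have hy' : closure {y} = (I.support : Set X) := by
    rw [hI, Scheme.IdealSheafData.coe_support_vanishingIdeal]; exact hy
  by_cases hyN : y ∈ CohB1.support N
  · have hZN : (Z : Set X) ⊆ CohB1.support N := by
      rw [← hy]
      exact (isClosed_support N hN).closure_subset_iff.2 (Set.singleton_subset_iff.2 hyN)
    have hdimZ : topologicalKrullDim (Z : Set X) ≤ r := (dim_mono hZN).trans hr
    letI : I.subscheme.Over (Spec (CommRingCat.of k)) := ⟨I.subschemeι ≫ (X ↘ (Spec (CommRingCat.of k)))⟩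
    haveI : IsProper (I.subscheme ↘ (Spec (CommRingCat.of k))) :=
      inferInstanceAs (IsProper (I.subschemeι ≫ (X ↘ (Spec (CommRingCat.of k)))))
    haveI : CompactSpace I.subscheme :=
      QuasiCompact.compactSpace_of_compactSpace (I.subscheme ↘ Spec (CommRingCat.of k))
    have hdim' : topologicalKrullDim I.subscheme ≤ r := by
      have h1 := I.subschemeι.isClosedEmbedding.isEmbedding.toHomeomorph.isHomeomorph.topologicalKrullDim_eq
      rw [h1, I.range_subschemeι, hI, Scheme.IdealSheafData.coe_support_vanishingIdeal]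
      exact hdimZ
    have hHZ : CohB1.IsAmple ((Scheme.Modules.pullback I.subschemeι).obj H) :=
      Groth.Agent.Lib.Helper28.PullbackInv.isAmple_pullback_of_isEmbedding I.subschemeι
        I.subschemeι.isClosedEmbedding.isEmbedding H hH
    have hLZ := Groth.Agent.Lib.Helper28.PullbackInv.isInvertible_pullback I.subschemeι hL
    obtain ⟨C, hC⟩ := ub_integral k r hdim' _ hHZ _ hLZ
    refine ⟨C, fun m hm => le_trans ?_ (hC m hm)⟩
    have hLm := Groth.Agent.Lib.Helper28.GenLocus.isInvertible_tensorPow hL m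
    have hc := isCoh_of_isInvertible _ hLm
    have hQc : Coh.IsCoh (ClSub.quotMod I) := Groth.Agent.Lib.Helper6.DevRed.isCoh_quotMod I
    have h1 : h0 k (CohB1.tensorMod (CohB1.tensorPow L m) N) ≤
        h0 k (CohB1.tensorMod (CohB1.tensorPow L m) (ClSub.quotMod I)) :=
      (Sub.tensor_left _ (isFlat_of_isInvertible _ hLm) ⟨j, hj⟩).hh_le k (isCoh_tensorMod _ _ hc hQc)
    have h2 := h0_iso k (Groth.Agent.Lib.Helper6.K0Inv.braidIso (CohB1.tensorPow L m) (ClSub.quotMod I))
    have h3 := h0_quotMod_tensorPow k I L hL m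
    obtain ⟨v⟩ := Groth.Agent.Lib.Helper28.InvQC.nonempty_unit_tensor_iso
      (CohB1.tensorPow ((Scheme.Modules.pullback I.subschemeι).obj L) m)
    have h4 := h0_iso k v
    rw [h2, h3, h4] at h1
    exact h1
  · haveI := hj
    have hz := Groth.Agent.Lib.Helper6.DevExt.isZero_of_mono_quotMod I y hy' j hyN
    exact ubClass_of_isZero k L N hz r hr

include hH hL in
/-- **`h⁰(F ⊗ L^m) = O(m^r)`** for `F` coherent with `dim Supp F ≤ r` and `L` invertible, on a projective scheme -/
theorem ub_general (F : X.Modules) (hF : Coh.IsCoh F) (r : ℕ)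
    (hr : topologicalKrullDim (CohB1.support F) ≤ r) :
    ∃ C : ℕ, ∀ m : ℕ, 1 ≤ m → h0 k (CohB1.tensorMod F (CohB1.tensorPow L m)) ≤ C * m ^ r := by
  haveI : IsNoetherian X := Groth.Agent.Lib.Helper2.IntNum1.isNoetherian k X
  have key : ubClass k L F := by
    refine devissage_core (ubClass k L) (ubClass_ext k L hL) (ubClass_of_isZero k L) Set.univ ?_
      isClosed_univ F hF (Set.subset_univ _)
    intro Z hZc hZi _ y hy IH Q hQ hQZ hyQ
    exact Groth.Agent.Lib.Helper6.DevExt.step_ext (ubClass k L)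
      (fun M N e h => ubClass_of_iso k L e.some h) (ubClass_ext k L hL) ⟨Z, hZc⟩ hZi y hy
      (fun N j hj hN => ubClass_ideal k hH hL ⟨Z, hZc⟩ hZi y hy _ rfl N j hj hN) IH Q hQ hQZ hyQ
  obtain ⟨C, hC⟩ := key r hr
  refine ⟨C, fun m hm => ?_⟩
  rw [h0_iso k (Groth.Agent.Lib.Helper6.K0Inv.braidIso F (CohB1.tensorPow L m))]
  exact hC m hm

end main

end Groth.Agent.Lib.Helper2.KodDev
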