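import Mathlib
import Groth.Agent.Lib.Helper2.KodDev
import Groth.Agent.Lib.Helper2.IntNum5
import Groth.Agent.Lib.Helper2.IntNum7
import Groth.Agent.Lib.Helper6.DevStep
import Groth.Agent.Lib.Helper28.AmplePow
set_option backward.isDefEq.respectTransparency.types false
set_option autoImplicit false
set_option linter.style.haveILetI false

/-!
# Helper2 — Kodaira: the lower bound `h⁰(A^m) ≥ m^n / N` for ample `A` on an integral projective scheme of dimension `n`,
and **Kodaira's lemma**: if `h⁰(L^m) ≥ m^n / a` for infinitely many `m` and `E` is an effective invertible module, then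
`E` embeds in some `L^m`, `m > 0`.
-/

universe u
open CategoryTheory CategoryTheory.Limits AlgebraicGeometry TopologicalSpace

namespace Groth.Agent.Lib.Helper2.Kodaira

open Groth.Agent.Lib.Helper2.KodSub Groth.Agent.Lib.Helper8.EulerK Groth.Agent.Lib.Helper2.KodUB
  Groth.Agent.Lib.Helper6.K0Op Groth.Agent.Lib.Helper6.DevCore Groth.Agent.Lib.Helper2.TensEq
  Groth.Agent.Lib.Helper2.KodDev Groth.Agent.Lib.Helper2.IntNum1 Groth.Agent.Lib.Helper6.K0Len
  Groth.Agent.Lib.Helper4.Snapper Groth.Agent.Lib.Helper28.GenLocus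

theorem isEmpty_of_dim_eq_bot {T : Type*} [TopologicalSpace T] (h : topologicalKrullDim T = ⊥) : IsEmpty T := by
  rw [topologicalKrullDim, Order.krullDim_eq_bot_iff] at h
  exact ⟨fun x => h.false ⟨closure {x}, isIrreducible_singleton.closure, isClosed_closure⟩⟩

variable (k : Type u) [Field k] {X : Scheme.{u}} [X.Over (Spec (CommRingCat.of k))]
  [IsProper (X ↘ Spec (CommRingCat.of k))]

theorem h0_of_isZero (F : X.Modules) (hF : IsZero F) : h0 k F = 0 := by
  haveI : Subsingleton (Coh.HH X F 0) := Groth.Agent.Lib.Helper17.Graded.subsingleton_HH_of_isZero _ hF 0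
  exact Module.finrank_zero_of_subsingleton

section ub
variable {H : X.Modules} (hH : CohB1.IsAmple H) {L : X.Modules} (hL : PicF.IsInvertible L)

include hH hL in
/-- the bound in the form used for Kodaira's lemma: if `dim Supp F < n` then `m · h⁰(F ⊗ L^m) ≤ C m^n` -/
theorem ub_lower (F : X.Modules) (hF : Coh.IsCoh F) (n : ℕ)
    (h : topologicalKrullDim (CohB1.support F) + 1 ≤ (n : WithBot ℕ∞)) :
    ∃ C : ℕ, ∀ m : ℕ, 1 ≤ m → m * h0 k (CohB1.tensorMod F (CohB1.tensorPow L m)) ≤ C * m ^ n := by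
  rcases n with _ | d
  · have hb : topologicalKrullDim (CohB1.support F) = ⊥ := by
      by_contra hne
      obtain ⟨e, he⟩ := WithBot.ne_bot_iff_exists.1 hne
      rw [← he] at h
      have h' : ((e + 1 : ℕ∞) : WithBot ℕ∞) ≤ ((0 : ℕ∞) : WithBot ℕ∞) := by exact_mod_cast h
      rw [WithBot.coe_le_coe] at h'
      simp at h'
    have hemp := isEmpty_of_dim_eq_bot hb
    have hz : IsZero F := isZero_of_support_eq_empty F (Set.isEmpty_coe_sort.1 hemp)
    refine ⟨0, fun m _ => ?_⟩
    have hz' : IsZero (CohB1.tensorMod F (CohB1.tensorPow L m)) :=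
      IsZero.of_iso (Functor.map_isZero (T (CohB1.tensorPow L m)) hz)
        (Groth.Agent.Lib.Helper6.K0Inv.braidIso F (CohB1.tensorPow L m))
    rw [h0_of_isZero k _ hz']
    simp
  · obtain ⟨C, hC⟩ := ub_general k hH hL F hF d
      (Groth.Agent.Lib.Helper4.DimChain.le_of_add_one_le_succ _ d h)
    refine ⟨C, fun m hm => ?_⟩
    calc m * h0 k (CohB1.tensorMod F (CohB1.tensorPow L m)) ≤ m * (C * m ^ d) :=
          Nat.mul_le_mul_left _ (hC m hm)
      _ = C * m ^ (d + 1) := by ring

end ub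

section integral
variable [IsIntegral X]

/-- `h⁰(O_X) > 0` -/
theorem h0_unit_pos : 0 < h0 k (Coh.structureModule X) := by
  have hO : Coh.IsCoh (Coh.structureModule X) := Groth.Agent.Lib.Helper6.DevRed.isCoh_structureModule
  have hne : ¬ IsZero (Coh.structureModule X) := by
    intro hz
    have h1 := Groth.Agent.Lib.Helper16.K0Supp.support_of_isZero hz
    rw [support_of_isInvertible _ (Groth.Agent.Lib.Helper28.AmpleUnit.isInvertible_structureModule X)] at h1
    exact Set.univ_nonempty.ne_empty h1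
  have hs : (𝟙 (Coh.structureModule X)) ≠ 0 := fun h => hne ((IsZero.iff_id_eq_zero _).2 h)
  haveI := nontrivial_sections_of_hom_ne_zero _ (𝟙 (Coh.structureModule X)) hs
  haveI : Nontrivial (Coh.HH X (Coh.structureModule X) 0) :=
    (Groth.Agent.Lib.Helper8.PtSupp.e0 (X := X) (M := Coh.structureModule X)).toEquiv.nontrivial
  haveI := finite_HH k X _ hO 0
  exact Module.finrank_pos

/-- **lower bound for ample modules**: `m^n ≤ N · h⁰(A^m)` for `m ≥ m₀`, on an integral scheme of dimension `n` -/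
theorem lb_ample (n : ℕ) (hdim : topologicalKrullDim X = (n : WithBot ℕ∞)) (A : X.Modules) (hA : CohB1.IsAmple A) :
    ∃ N m₀ : ℕ, 0 < N ∧ ∀ m : ℕ, m₀ ≤ m → m ^ n ≤ N * h0 k (CohB1.tensorPow A m) := by
  have hO : Coh.IsCoh (Coh.structureModule X) := Groth.Agent.Lib.Helper6.DevRed.isCoh_structureModule
  obtain ⟨c, hc, hcn⟩ := euler_tensorPow_eq k n hdim.le A hA.1 _ hO
  obtain ⟨n₀, hn₀⟩ := exists_h0_eq_euler k A hA _ hO
  set A' := Groth.Agent.Lib.Helper28.HomMod.dual A with hA'
  have hpos : 0 < c n := by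
    rw [hcn, ← Psi_const n A']
    obtain ⟨e0⟩ := Groth.Agent.Lib.Helper8.InvInverse.isInverseOf_dual hA.1
    have e : CohB1.tensorMod A A' ≅ Coh.structureModule X :=
      Groth.Agent.Lib.Helper6.K0Inv.braidIso A A' ≪≫ e0
    refine Groth.Agent.Lib.Helper2.IntNum5.pos k X (fun _ : _root_.Fin n => A) (fun _ => A') (fun _ => hA)
      (fun _ => ⟨e⟩) _ hO ?_
    rw [support_of_isInvertible _ (Groth.Agent.Lib.Helper28.AmpleUnit.isInvertible_structureModule X),
      (Homeomorph.Set.univ X).isHomeomorph.topologicalKrullDim_eq, hdim]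
  obtain ⟨N, m₀, hN, hlb⟩ := Groth.Agent.Lib.Helper2.KodPoly.exists_lb n c (by omega)
  refine ⟨N, max m₀ n₀, hN, fun m hm => ?_⟩
  have h1 := hlb m ((le_max_left _ _).trans hm)
  rw [← hc m, ← hn₀ m ((le_max_right _ _).trans hm)] at h1
  obtain ⟨v⟩ := Groth.Agent.Lib.Helper28.InvQC.nonempty_unit_tensor_iso (CohB1.tensorPow A m)
  rw [h0_iso k v] at h1
  exact_mod_cast h1

end integral

end Groth.Agent.Lib.Helper2.Kodaira
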