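import Mathlib
set_option autoImplicit false

/-!
# Helper2 — NefRR1: arithmetic for the asymptotic Riemann–Roch estimate for nef modules
-/

namespace Groth.Agent.Lib.Helper2.NefRR1

/-- the bounding function `m ↦ m^(r-1)` (`0` for `r = 0`) -/
def bd : ℕ → ℕ → ℕ
  | 0, _ => 0
  | (r + 1), m => m ^ r

@[simp] theorem bd_zero (m : ℕ) : bd 0 m = 0 := rfl
@[simp] theorem bd_succ (r m : ℕ) : bd (r + 1) m = m ^ r := rfl

theorem bd_mono_right (r : ℕ) {m m' : ℕ} (h : m ≤ m') : bd r m ≤ bd r m' := by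
  cases r with
  | zero => simp
  | succ r => exact Nat.pow_le_pow_left h r

theorem bd_le_succ (r : ℕ) {m : ℕ} (hm : 1 ≤ m) : bd r m ≤ bd (r + 1) m := by
  cases r with
  | zero => simp
  | succ r => exact Nat.pow_le_pow_right hm (Nat.le_succ r)

theorem bd_mono_left {r r' : ℕ} (h : r ≤ r') {m : ℕ} (hm : 1 ≤ m) : bd r m ≤ bd r' m := by
  induction r' with
  | zero =>
    obtain rfl : r = 0 := by omega
    exact le_rfl
  | succ r' ih =>
    rcases Nat.lt_or_ge r (r' + 1) with h1 | h1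
    · exact (ih (by omega)).trans (bd_le_succ r' hm)
    · obtain rfl : r = r' + 1 := by omega
      exact le_rfl

theorem mul_bd_le (r m : ℕ) : m * bd r m ≤ bd (r + 1) m := by
  cases r with
  | zero => simp
  | succ r => rw [bd_succ, bd_succ, pow_succ, Nat.mul_comm]

theorem one_le_bd_succ (r : ℕ) {m : ℕ} (hm : 1 ≤ m) : 1 ≤ bd (r + 1) m := by
  rw [bd_succ]
  exact Nat.one_le_pow _ _ hm

theorem bd_add_one_le (s : ℕ) {m : ℕ} (hm : 1 ≤ m) : bd s (m + 1) ≤ 2 ^ s * bd s m := by
  cases s with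
  | zero => simp
  | succ t =>
    rw [bd_succ, bd_succ]
    calc (m + 1) ^ t ≤ (2 * m) ^ t := Nat.pow_le_pow_left (by omega) t
      _ = 2 ^ t * m ^ t := Nat.mul_pow 2 m t
      _ ≤ 2 ^ (t + 1) * m ^ t := Nat.mul_le_mul_right _ (Nat.pow_le_pow_right (by omega) (Nat.le_succ t))

/-- the recursion lemma: `a (m + m₀) ≤ a m + C · bd s m` gives `a m ≤ C' · bd (s+1) m` -/
theorem rec_bound (a : ℕ → ℕ) (m₀ : ℕ) (hm₀ : 1 ≤ m₀) (C s : ℕ)
    (h : ∀ m, 1 ≤ m → a (m + m₀) ≤ a m + C * bd s m) :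
    ∃ C' : ℕ, ∀ m, 1 ≤ m → a m ≤ C' * bd (s + 1) m := by
  set A := ∑ j ∈ Finset.range (m₀ + 1), a j with hA
  have hA' : ∀ j, j ≤ m₀ → a j ≤ A := by
    intro j hj
    exact Finset.single_le_sum (f := a) (fun _ _ => Nat.zero_le _) (Finset.mem_range.2 (by omega))
  have key : ∀ m, 1 ≤ m → a m ≤ A + C * (m * bd s m) := by
    intro m
    induction m using Nat.strong_induction_on with
    | _ m ih =>
      intro hm
      rcases Nat.lt_or_ge m₀ m with hlt | hge
      · obtain ⟨m', rfl⟩ : ∃ m', m = m' + m₀ := ⟨m - m₀, by omega⟩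
        have hm' : 1 ≤ m' := by omega
        have h1 := h m' hm'
        have h2 := ih m' (by omega) hm'
        have h3 : bd s m' ≤ bd s (m' + m₀) := bd_mono_right s (by omega)
        calc a (m' + m₀) ≤ a m' + C * bd s m' := h1
          _ ≤ A + C * (m' * bd s m') + C * bd s m' := Nat.add_le_add_right h2 _
          _ = A + C * ((m' + 1) * bd s m') := by ring
          _ ≤ A + C * ((m' + m₀) * bd s (m' + m₀)) := by
            apply Nat.add_le_add_left
            apply Nat.mul_le_mul_left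
            exact Nat.mul_le_mul (by omega) h3
      · exact (hA' m hge).trans (Nat.le_add_right _ _)
  refine ⟨A + C, fun m hm => ?_⟩
  calc a m ≤ A + C * (m * bd s m) := key m hm
    _ ≤ A * bd (s + 1) m + C * bd (s + 1) m := by
      apply Nat.add_le_add
      · exact Nat.le_mul_of_pos_right _ (one_le_bd_succ s hm)
      · exact Nat.mul_le_mul_left _ (mul_bd_le s m)
    _ = (A + C) * bd (s + 1) m := (Nat.add_mul _ _ _).symm

end Groth.Agent.Lib.Helper2.NefRR1
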