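import Mathlib
import Groth.Agent.Lib.Helper2.NefRR1
import Groth.Agent.Lib.Helper2.KodDev
set_option backward.isDefEq.respectTransparency.types false
set_option autoImplicit false
set_option linter.style.haveILetI false

/-!
# Helper2 — NefRR2: the class of coherent modules `F` with `h^i(L^m ⊗ F) = O(m^(dim Supp F - 1))` for `i ≥ 1`
-/

universe u
open CategoryTheory CategoryTheory.Limits AlgebraicGeometry TopologicalSpace

namespace Groth.Agent.Lib.Helper2.NefRR2

open Groth.Agent.Lib.Helper2.KodSub Groth.Agent.Lib.Helper8.EulerK Groth.Agent.Lib.Helper2.KodUB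
  Groth.Agent.Lib.Helper6.K0Op Groth.Agent.Lib.Helper6.DevCore Groth.Agent.Lib.Helper2.TensEq
  Groth.Agent.Lib.Helper2.NefRR1 Groth.Agent.Lib.Helper2.KodDev

variable (k : Type u) [Field k] {X : Scheme.{u}} [X.Over (Spec (CommRingCat.of k))]
  [IsProper (X ↘ Spec (CommRingCat.of k))]

/-- the class of modules whose higher cohomology after twisting by powers of `L` grows at most like
`m^(dim Supp - 1)`; only support dimensions `≤ R` are considered -/
def nefClass (L : X.Modules) (R : ℕ) : ObjectProperty X.Modules := fun F =>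
  ∀ r : ℕ, r ≤ R → topologicalKrullDim (CohB1.support F) ≤ r → ∀ i : ℕ, 1 ≤ i →
    ∃ C : ℕ, ∀ m : ℕ, 1 ≤ m → hh k (CohB1.tensorMod (CohB1.tensorPow L m) F) i ≤ C * bd r m

theorem nefClass_of_iso (L : X.Modules) (R : ℕ) {F G : X.Modules} (e : F ≅ G) (h : nefClass k L R F) :
    nefClass k L R G := by
  intro r hrR hr i hi
  have hs : CohB1.support F ⊆ CohB1.support G := support_subset_of_mono e.hom
  obtain ⟨C, hC⟩ := h r hrR ((dim_mono hs).trans hr) i hi
  refine ⟨C, fun m hm => ?_⟩
  have h1 := hh_congr k ((T (CohB1.tensorPow L m)).mapIso e) i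
  change hh k (CohB1.tensorMod (CohB1.tensorPow L m) F) i = hh k (CohB1.tensorMod (CohB1.tensorPow L m) G) i at h1
  rw [← h1]
  exact hC m hm

instance (L : X.Modules) (R : ℕ) : (nefClass k L R).IsClosedUnderIsomorphisms where
  of_iso e h := nefClass_of_iso k L R e h

theorem hh_of_isZero (F : X.Modules) (hF : IsZero F) (i : ℕ) : hh k F i = 0 := by
  haveI : Subsingleton (Coh.HH X F i) := Groth.Agent.Lib.Helper17.Graded.subsingleton_HH_of_isZero _ hF i
  exact Module.finrank_zero_of_subsingleton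

theorem nefClass_of_isZero (L : X.Modules) (R : ℕ) (F : X.Modules) (hF : IsZero F) : nefClass k L R F := by
  intro r _ _ i _
  refine ⟨0, fun m _ => ?_⟩
  have hz : IsZero ((T (CohB1.tensorPow L m)).obj F) := Functor.map_isZero _ hF
  have : hh k (CohB1.tensorMod (CohB1.tensorPow L m) F) i = 0 := hh_of_isZero k _ hz i
  rw [this]
  exact Nat.zero_le _

theorem nefClass_ext (L : X.Modules) (hL : PicF.IsInvertible L) (R : ℕ) (S : ShortComplex X.Modules)
    (hS : S.ShortExact)
    (h₁ : Coh.IsCoh S.X₁) (h₂ : Coh.IsCoh S.X₂) (h₃ : Coh.IsCoh S.X₃)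
    (k₁ : nefClass k L R S.X₁) (k₃ : nefClass k L R S.X₃) : nefClass k L R S.X₂ := by
  intro r hrR hr i hi
  haveI := hS.mono_f
  haveI := hS.epi_g
  obtain ⟨C₁, hC₁⟩ := k₁ r hrR ((dim_mono (support_subset_of_mono S.f)).trans hr) i hi
  obtain ⟨C₃, hC₃⟩ := k₃ r hrR ((dim_mono (support_subset_of_epi S.g)).trans hr) i hi
  refine ⟨C₁ + C₃, fun m hm => ?_⟩
  have hLm := Groth.Agent.Lib.Helper28.GenLocus.isInvertible_tensorPow hL m
  have hc := isCoh_of_isInvertible _ hLm
  have hS' := shortExact_tensor_of_flat _ (isFlat_of_isInvertible _ hLm) S hS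
  have hle := hh₂_le k _ hS' (isCoh_tensorMod _ _ hc h₁) (isCoh_tensorMod _ _ hc h₂)
    (isCoh_tensorMod _ _ hc h₃) i
  have e1 := hC₁ m hm
  have e3 := hC₃ m hm
  change hh k (CohB1.tensorMod (CohB1.tensorPow L m) S.X₂) i ≤
    hh k (CohB1.tensorMod (CohB1.tensorPow L m) S.X₁) i + hh k (CohB1.tensorMod (CohB1.tensorPow L m) S.X₃) i at hle
  calc _ ≤ _ := hle
    _ ≤ C₁ * bd r m + C₃ * bd r m := Nat.add_le_add e1 e3
    _ = (C₁ + C₃) * bd r m := (Nat.add_mul _ _ _).symm

/-- transfer of cohomology to the closed subscheme -/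
theorem hh_quotMod_tensorPow (I : X.IdealSheafData) (L : X.Modules) (hL : PicF.IsInvertible L) (m i : ℕ) :
    hh k (CohB1.tensorMod (ClSub.quotMod I) (CohB1.tensorPow L m)) i =
      @hh k _ I.subscheme ⟨I.subschemeι ≫ (X ↘ (Spec (CommRingCat.of k)))⟩
        (CohB1.tensorMod (Coh.structureModule I.subscheme)
          (CohB1.tensorPow ((Scheme.Modules.pullback I.subschemeι).obj L) m)) i := by
  letI : I.subscheme.Over (Spec (CommRingCat.of k)) := ⟨I.subschemeι ≫ (X ↘ (Spec (CommRingCat.of k)))⟩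
  obtain ⟨e⟩ := Groth.Agent.Lib.Helper4.Snapper.nonempty_push_tensorPows_iso I.subschemeι
    (Coh.structureModule I.subscheme) 1 (fun _ => L) (fun _ => hL) (fun _ => m)
  have hq : (CohB1.tensorMod (Coh.structureModule I.subscheme)
      (CohB1.tensorPow ((Scheme.Modules.pullback I.subschemeι).obj L) m)).IsQuasicoherent :=
    (isCoh_tensorMod _ _ Groth.Agent.Lib.Helper6.DevRed.isCoh_structureModule
      (isCoh_of_isInvertible _ (Groth.Agent.Lib.Helper28.GenLocus.isInvertible_tensorPow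
        (Groth.Agent.Lib.Helper28.PullbackInv.isInvertible_pullback I.subschemeι hL) m))).1
  obtain ⟨E, -⟩ := Groth.Agent.Lib.Helper2.Bridge3.exists_natural_linearEquiv k I.subschemeι rfl i
  have h1 := (E _ hq).finrank_eq
  have h2 := hh_congr k e i
  unfold hh at h2 ⊢
  rw [← h1]
  exact h2.symm

/-- the same with the twist on the left and the unit removed on the subscheme -/
theorem hh_tensorPow_quotMod (I : X.IdealSheafData) (L : X.Modules) (hL : PicF.IsInvertible L) (m i : ℕ) :
    hh k (CohB1.tensorMod (CohB1.tensorPow L m) (ClSub.quotMod I)) i =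
      @hh k _ I.subscheme ⟨I.subschemeι ≫ (X ↘ (Spec (CommRingCat.of k)))⟩
        (CohB1.tensorPow ((Scheme.Modules.pullback I.subschemeι).obj L) m) i := by
  letI : I.subscheme.Over (Spec (CommRingCat.of k)) := ⟨I.subschemeι ≫ (X ↘ (Spec (CommRingCat.of k)))⟩
  have h2 := hh_congr k (Groth.Agent.Lib.Helper6.K0Inv.braidIso (CohB1.tensorPow L m) (ClSub.quotMod I)) i
  have h3 := hh_quotMod_tensorPow k I L hL m i
  obtain ⟨v⟩ := Groth.Agent.Lib.Helper28.InvQC.nonempty_unit_tensor_iso
    (CohB1.tensorPow ((Scheme.Modules.pullback I.subschemeι).obj L) m)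
  have h4 := hh_congr k v i
  rw [h2, h3, h4]

end Groth.Agent.Lib.Helper2.NefRR2
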