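import Groth.Agent.Lib.Helper8.CurveMap
import Groth.Agent.Lib.Helper8.CurveTensor
import Groth.Agent.Lib.Helper8.CurveRR
import Groth.Agent.Lib.Helper8.P1Core
import Groth.Agent.Lib.Helper23.ProjF.ProjMap
import Groth.Agent.Lib.Helper13.SectionExt
import Groth.Agent.Lib.helper19.NoethNorm1
import Groth.Agent.Lib.Helper28.PullbackInv2
import Groth.Prelude.Def_Pic13

/-! # Helper2 — degrees of invertible modules under finite morphisms of integral proper curves; pull-back preserves numerical equivalence -/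
set_option autoImplicit false
set_option backward.isDefEq.respectTransparency.types false
universe u
open CategoryTheory CategoryTheory.Limits AlgebraicGeometry Opposite TopologicalSpace
noncomputable section

namespace Groth.Agent.Lib.Helper2.NumPull

open Groth.Agent.Lib.Helper8.EulerK Groth.Agent.Lib.Helper8.CurveTensor

section finite

variable (k : Type u) [Field k] {Y' Y : Scheme.{u}} [Y'.Over (Spec (CommRingCat.of k))]
  [Y.Over (Spec (CommRingCat.of k))] [IsIntegral Y'] [IsIntegral Y]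
  [IsProper (Y' ↘ (Spec (CommRingCat.of k)))] [IsProper (Y ↘ (Spec (CommRingCat.of k)))]

theorem isFinLocFree_of_isInvertible {Z : Scheme.{u}} (M : Z.Modules) (hM : PicF.IsInvertible M) :
    FlatMod.IsFinLocFree M := fun x => by
  obtain ⟨U, hxU, h⟩ := Groth.Agent.Lib.Helper6.K0Op.isFinLocFreeOfRank_one_of_isInvertible M hM x
  exact ⟨U, 1, hxU, h⟩

/-- **degree of a pull-back along a finite morphism of integral proper curves** -/
theorem deg_pullback_finite (hY : topologicalKrullDim Y ≤ 1) (h : Y' ⟶ Y) [IsFinite h]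
    (hh : h ≫ (Y ↘ (Spec (CommRingCat.of k))) = Y' ↘ (Spec (CommRingCat.of k)))
    (M : Y.Modules) (hM : PicF.IsInvertible M) :
    Curv2.deg k Y' ((Scheme.Modules.pullback h).obj M) 1 =
      (grank Y ((Scheme.Modules.pushforward h).obj (Coh.structureModule Y')) : ℤ) * Curv2.deg k Y M 1 := by
  set G := (Scheme.Modules.pushforward h).obj (Coh.structureModule Y') with hG
  have hM1 := Groth.Agent.Lib.Helper6.K0Op.isFinLocFreeOfRank_one_of_isInvertible M hM
  have hcO' : Coh.IsCoh (Coh.structureModule Y') := Groth.Agent.Lib.Helper6.DevRed.isCoh_structureModule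
  have hcG : Coh.IsCoh G := Groth.Agent.Lib.Helper6.DevChev.isCoh_push_of_isFinite h _ hcO'
  have hpM : PicF.IsInvertible ((Scheme.Modules.pullback h).obj M) :=
    Groth.Agent.Lib.Helper28.PullbackInv.isInvertible_pullback h hM
  have hcpM := Groth.Agent.Lib.Helper6.K0Op.isCoh_of_isInvertible _ hpM
  have hcT := Groth.Agent.Lib.Helper6.K0Op.isCoh_tensorMod _ _ hcpM hcO'
  obtain ⟨a⟩ := Groth.Agent.Lib.Helper28.AmpleUnit.nonempty_tensor_unit_iso ((Scheme.Modules.pullback h).obj M)
  haveI := Groth.Agent.Lib.Helper23.ProjF.isIso_projMap h M (Coh.structureModule Y')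
    (isFinLocFree_of_isInvertible M hM)
  have e1 := euler_congr k a
  have e2 := Groth.Agent.Lib.Helper8.AffPush.euler_push k h hh _ hcT.1
  have e3 := euler_congr k (asIso (Groth.Agent.Lib.Helper23.ProjF.projMap h M (Coh.structureModule Y')))
  have e4 := phi_eq_zero k Y hY 1 M hM1 G hcG
  have e5 := Groth.Agent.Lib.Helper8.AffPush.euler_push k h hh _ hcO'.1
  unfold phi at e4
  unfold Curv2.deg
  rw [← e1, ← e2, ← e3, ← e5]
  unfold Curv2.deg at e4
  linarith

end finite

section triv

open Groth.Agent.Lib.Helper28 Groth.Agent.Lib.Helper28.QCohLoc Groth.Agent.Lib.Helper28.GenLocus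

/-- a module with a global free generator is trivial -/
theorem nonempty_iso_of_isGen_top {Z : Scheme.{u}} (M : Z.Modules) (γ : Γ(M, ⊤)) (hγ : IsGen M ⊤ γ) :
    Nonempty (Coh.structureModule Z ≅ M) := by
  set s := TwistGen.ofSection M γ with hs
  have h1 : s.app ⊤ (show Γ(Coh.structureModule Z, ⊤) from (1 : Γ(Z, ⊤))) = γ := by
    rw [hs, TwistGen.ofSection_app_one, res_self]
  have htop : CohB1.genLocus M s = ⊤ := by
    refine top_le_iff.1 (le_genLocus s ⊤ fun W hW => ?_)
    have : (s.app W : Γ(Coh.structureModule Z, W) → Γ(M, W)) =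
        fun c : Γ(Z, W) => (c • res M hW γ : Γ(M, W)) := by
      funext c
      rw [hom_app_eq_smul s W c, h1]
    rw [this]
    exact hγ W hW
  haveI := Groth.Agent.Lib.Helper8.P1Core.isIso_of_genLocus_eq_top Z s htop
  exact ⟨asIso s⟩

/-- on an integral scheme of dimension zero every point is the generic point -/
theorem eq_genericPoint_of_dim_le_zero {Z : Scheme.{u}} [IsIntegral Z] (hZ : topologicalKrullDim Z ≤ 0)
    (z : Z) : z = genericPoint Z := by
  unfold topologicalKrullDim at hZ
  rw [Order.krullDim_nonpos_iff_forall_isMax] at hZ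
  let a : IrreducibleCloseds Z := ⟨closure {z}, isIrreducible_singleton.closure, isClosed_closure⟩
  let b : IrreducibleCloseds Z := ⟨Set.univ, (IrreducibleSpace.isIrreducible_univ Z), isClosed_univ⟩
  have hab : a ≤ b := fun _ _ => trivial
  have hba : b ≤ a := hZ a hab
  have hz : IsGenericPoint z (Set.univ : Set Z) := by
    unfold IsGenericPoint
    exact Set.eq_univ_of_univ_subset hba
  exact hz.eq (genericPoint_spec Z)

/-- **invertible modules on an integral scheme of dimension zero are trivial** -/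
theorem nonempty_iso_of_dim_le_zero {Z : Scheme.{u}} [IsIntegral Z] (hZ : topologicalKrullDim Z ≤ 0)
    (M : Z.Modules) (hM : PicF.IsInvertible M) : Nonempty (Coh.structureModule Z ≅ M) := by
  obtain ⟨U, γ, hxU, hγ⟩ := exists_isGen M hM (genericPoint Z)
  have hU : U = ⊤ := by
    refine top_le_iff.1 fun z _ => ?_
    rw [eq_genericPoint_of_dim_le_zero hZ z]
    exact hxU
  subst hU
  exact nonempty_iso_of_isGen_top M γ hγ

end triv

section bridge

variable (k : Type u) [Field k]

/-- `Pic13.curveDeg` is `Curv2.deg` on an integral proper curve -/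
theorem curveDeg_eq {Y : Scheme.{u}} (p : Y ⟶ Spec (CommRingCat.of k)) [IsProper p] [IsIntegral Y]
    (hdim : topologicalKrullDim Y ≤ 1) (L : Y.Modules) (hL : Coh.IsQCoh L) :
    Pic13.curveDeg k p L = @Curv2.deg k _ Y ⟨p⟩ L 1 := by
  letI : Y.Over (Spec (CommRingCat.of k)) := ⟨p⟩
  haveI : IsProper (Y ↘ Spec (CommRingCat.of k)) := ‹IsProper p›
  have hO : Coh.IsQCoh (Coh.structureModule Y) :=
    (Groth.Agent.Lib.Helper6.DevRed.isCoh_structureModule (X := Y)).1
  unfold Pic13.curveDeg Curv2.deg FGA.eulerCharLE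
  rw [Groth.Agent.Lib.Helper8.CurveRR.euler_eq_sub k Y hdim L hL,
    Groth.Agent.Lib.Helper8.CurveRR.euler_eq_sub k Y hdim _ hO]
  simp [Finset.sum_range_succ]
  ring

/-- iso-invariance of `Pic13.curveDeg` -/
theorem curveDeg_congr {Y : Scheme.{u}} (p : Y ⟶ Spec (CommRingCat.of k)) {L L' : Y.Modules} (e : L ≅ L') :
    Pic13.curveDeg k p L = Pic13.curveDeg k p L' := by
  letI : Y.Over (Spec (CommRingCat.of k)) := ⟨p⟩
  unfold Pic13.curveDeg FGA.eulerCharLE
  congr 1
  refine Finset.sum_congr rfl fun i _ => ?_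
  have := hh_congr k e i
  unfold hh at this
  rw [this]

theorem le_zero_of_lt_one (x : WithBot ℕ∞) (h : x < 1) : x ≤ 0 := by
  induction x using WithBot.recBotCoe with
  | bot => exact bot_le
  | coe n =>
    have h' : n < 1 := by exact_mod_cast h
    rw [ENat.lt_one_iff_eq_zero] at h'
    subst h'
    rfl

end bridge

section main

variable (k : Type u) [Field k] (X X' : Scheme.{u})
  [X.Over (Spec (CommRingCat.of k))] [X'.Over (Spec (CommRingCat.of k))]
  [IsProper (X ↘ Spec (CommRingCat.of k))] [IsProper (X' ↘ Spec (CommRingCat.of k))]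

/-- **numerical equivalence is preserved by pull-back** -/
theorem main (g : X' ⟶ X) (hg : g ≫ (X ↘ Spec (CommRingCat.of k)) = X' ↘ Spec (CommRingCat.of k))
    (L N : X.Modules) (hL : PicF.IsInvertible L) (hN : PicF.IsInvertible N)
    (hnum : ∀ (Y : Scheme.{u}) (ι : Y ⟶ X) [IsClosedImmersion ι], IsIntegral Y → topologicalKrullDim Y = 1 →
      Pic13.curveDeg k (ι ≫ (X ↘ Spec (CommRingCat.of k))) ((Scheme.Modules.pullback ι).obj L) =
        Pic13.curveDeg k (ι ≫ (X ↘ Spec (CommRingCat.of k))) ((Scheme.Modules.pullback ι).obj N))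
    (Y' : Scheme.{u}) (ι : Y' ⟶ X') [IsClosedImmersion ι] (hint : IsIntegral Y')
    (hdim : topologicalKrullDim Y' = 1) :
    Pic13.curveDeg k (ι ≫ (X' ↘ Spec (CommRingCat.of k)))
        ((Scheme.Modules.pullback ι).obj ((Scheme.Modules.pullback g).obj L)) =
      Pic13.curveDeg k (ι ≫ (X' ↘ Spec (CommRingCat.of k)))
        ((Scheme.Modules.pullback ι).obj ((Scheme.Modules.pullback g).obj N)) := by
  haveI := hint
  have hφk : (ι ≫ g) ≫ (X ↘ Spec (CommRingCat.of k)) = ι ≫ (X' ↘ Spec (CommRingCat.of k)) := by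
    rw [Category.assoc, hg]
  haveI hpY' : IsProper (ι ≫ (X' ↘ Spec (CommRingCat.of k))) := inferInstance
  haveI : IsProper (ι ≫ g) := by
    haveI : IsProper ((ι ≫ g) ≫ (X ↘ Spec (CommRingCat.of k))) := by rw [hφk]; infer_instance
    exact IsProper.of_comp (ι ≫ g) (X ↘ Spec (CommRingCat.of k))
  have hh : (ι ≫ g).toImage ≫ (ι ≫ g).imageι = ι ≫ g := (ι ≫ g).toImage_imageι
  haveI : IsIntegral (ι ≫ g).image := Groth.Agent.Lib.Helper13.SectionExt.isIntegral_image (ι ≫ g)
  letI instY' : Y'.Over (Spec (CommRingCat.of k)) := ⟨ι ≫ (X' ↘ Spec (CommRingCat.of k))⟩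
  letI instY : (ι ≫ g).image.Over (Spec (CommRingCat.of k)) :=
    ⟨(ι ≫ g).imageι ≫ (X ↘ Spec (CommRingCat.of k))⟩
  haveI : IsProper (Y' ↘ Spec (CommRingCat.of k)) := hpY'
  haveI hpY : IsProper ((ι ≫ g).image ↘ Spec (CommRingCat.of k)) :=
    inferInstanceAs (IsProper ((ι ≫ g).imageι ≫ (X ↘ Spec (CommRingCat.of k))))
  have hhk : (ι ≫ g).toImage ≫ ((ι ≫ g).image ↘ Spec (CommRingCat.of k)) =
      Y' ↘ Spec (CommRingCat.of k) := by
    show (ι ≫ g).toImage ≫ (ι ≫ g).imageι ≫ (X ↘ Spec (CommRingCat.of k)) =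
      ι ≫ (X' ↘ Spec (CommRingCat.of k))
    rw [← Category.assoc, hh, hφk]
  haveI : IsProper (ι ≫ g).toImage :=
    Groth.Agent.Lib.Helper8.CurveMap.isProper_of_over k (ι ≫ g).toImage hhk
  have hsurj : Function.Surjective (ι ≫ g).toImage.base := by
    have hd : DenseRange (ι ≫ g).toImage.base := (ι ≫ g).toImage.denseRange
    have hc : IsClosed (Set.range (ι ≫ g).toImage.base) := (ι ≫ g).toImage.isClosedMap.isClosed_range
    rw [← Set.range_eq_univ, ← hc.closure_eq]
    exact hd.closure_range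
  have hYle : topologicalKrullDim (ι ≫ g).image ≤ 1 := by
    have := Groth.Agent.Lib.helper19.NoethNorm1.topologicalKrullDim_le_of_isClosedMap_of_surjective
      (ι ≫ g).toImage.base (ι ≫ g).toImage.continuous (ι ≫ g).toImage.isClosedMap hsurj
    rw [hdim] at this
    exact this
  have iso1 : ∀ P : X.Modules, (Scheme.Modules.pullback ι).obj ((Scheme.Modules.pullback g).obj P) ≅
      (Scheme.Modules.pullback (ι ≫ g).toImage).obj ((Scheme.Modules.pullback (ι ≫ g).imageι).obj P) :=
    fun P => (Scheme.Modules.pullbackComp ι g).app P ≪≫ (Scheme.Modules.pullbackCongr hh.symm).app P ≪≫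
      ((Scheme.Modules.pullbackComp (ι ≫ g).toImage (ι ≫ g).imageι).app P).symm
  rw [curveDeg_congr k _ (iso1 L), curveDeg_congr k _ (iso1 N)]
  have hML := Groth.Agent.Lib.Helper28.PullbackInv.isInvertible_pullback (ι ≫ g).imageι hL
  have hMN := Groth.Agent.Lib.Helper28.PullbackInv.isInvertible_pullback (ι ≫ g).imageι hN
  by_cases h1 : topologicalKrullDim (ι ≫ g).image = 1
  · have hξ : (ι ≫ g).toImage.base (genericPoint Y') = genericPoint (ι ≫ g).image := by
      have h2 := (genericPoint_spec Y').image (ι ≫ g).toImage.continuous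
      rw [Set.image_univ, (ι ≫ g).toImage.denseRange.closure_range] at h2
      exact h2.eq (genericPoint_spec _)
    haveI : IsFinite (ι ≫ g).toImage :=
      Groth.Agent.Lib.Helper8.CurveMap.isFinite_of_curves k hdim h1 (ι ≫ g).toImage hhk hξ
    have dL := deg_pullback_finite k hYle (ι ≫ g).toImage hhk _ hML
    have dN := deg_pullback_finite k hYle (ι ≫ g).toImage hhk _ hMN
    have hn := hnum (ι ≫ g).image (ι ≫ g).imageι inferInstance h1
    have q1 := (Groth.Agent.Lib.Helper6.K0Op.isCoh_of_isInvertible _ hML).1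
    have q2 := (Groth.Agent.Lib.Helper6.K0Op.isCoh_of_isInvertible _ hMN).1
    have q3 := (Groth.Agent.Lib.Helper6.K0Op.isCoh_of_isInvertible _
      (Groth.Agent.Lib.Helper28.PullbackInv.isInvertible_pullback (ι ≫ g).toImage hML)).1
    have q4 := (Groth.Agent.Lib.Helper6.K0Op.isCoh_of_isInvertible _
      (Groth.Agent.Lib.Helper28.PullbackInv.isInvertible_pullback (ι ≫ g).toImage hMN)).1
    rw [curveDeg_eq k _ hYle _ q1, curveDeg_eq k _ hYle _ q2] at hn
    rw [curveDeg_eq k _ hdim.le _ q3, curveDeg_eq k _ hdim.le _ q4]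
    exact dL.trans ((congrArg _ hn).trans dN.symm)
  · have h0 : topologicalKrullDim (ι ≫ g).image ≤ 0 := le_zero_of_lt_one _ (lt_of_le_of_ne hYle h1)
    obtain ⟨a⟩ := nonempty_iso_of_dim_le_zero h0 _ hML
    obtain ⟨b⟩ := nonempty_iso_of_dim_le_zero h0 _ hMN
    exact curveDeg_congr k _ ((Scheme.Modules.pullback (ι ≫ g).toImage).mapIso (a.symm ≪≫ b))

end main

end Groth.Agent.Lib.Helper2.NumPull
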