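import Mathlib
import Groth.Agent.Lib.Helper2.NefRR2
import Groth.Agent.Lib.Helper4.KLM4
import Groth.Agent.Lib.Helper2.Kodaira
set_option backward.isDefEq.respectTransparency.types false
set_option autoImplicit false
set_option linter.style.haveILetI false

/-!
# Helper2 — NefRR3: dévissage for the class `nefClass`, given the statement for integral schemes
-/

universe u
open CategoryTheory CategoryTheory.Limits AlgebraicGeometry TopologicalSpace
open Groth.Agent.Lib.Helper17.CohKer Groth.Agent.Lib.Helper17.StalkExact Groth.Agent.Lib.Helper28.QCohLoc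

namespace Groth.Agent.Lib.Helper2.NefRR3

open Groth.Agent.Lib.Helper2.KodSub Groth.Agent.Lib.Helper8.EulerK Groth.Agent.Lib.Helper2.KodUB
  Groth.Agent.Lib.Helper6.K0Op Groth.Agent.Lib.Helper6.DevCore Groth.Agent.Lib.Helper2.TensEq
  Groth.Agent.Lib.Helper2.NefRR1 Groth.Agent.Lib.Helper2.NefRR2 Groth.Agent.Lib.Helper2.KodDev
  Groth.Agent.Lib.Helper4.KLM4 Groth.Agent.Lib.Helper6.DevRed Groth.Agent.Lib.Helper6.DevStep
  Groth.Agent.Lib.Helper29.QCohStalk

/-- a nonzero submodule of `O_X / J_Z` (`Z` integral) is generically everything -/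
theorem stalkHom_surjective_of_mono_quotMod {X : Scheme.{u}} (Z : Closeds X) (y : X)
    (hy : closure {y} = (Z : Set X)) (N : X.Modules)
    (j : N ⟶ ClSub.quotMod (Scheme.IdealSheafData.vanishingIdeal Z)) [Mono j]
    (hyN : y ∈ CohB1.support N) : Function.Surjective (stalkHom j y) := by
  obtain ⟨g, hg0, hgm, hcyc⟩ := exists_gen_quotMod Z y hy
  haveI : Nontrivial (N.presheaf.stalk y) := not_subsingleton_iff_nontrivial.1 hyN
  obtain ⟨v, hv⟩ := exists_ne (0 : N.presheaf.stalk y)
  have hjv : stalkHom j y v ≠ 0 := fun h0 => hv (stalkHom_injective_of_mono j y (by rw [h0, map_zero]))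
  obtain ⟨c, hc⟩ := hcyc (stalkHom j y v)
  have hcu : IsUnit c := by
    by_contra hnu
    have hcm : c ∈ IsLocalRing.maximalIdeal (X.presheaf.stalk y) := (IsLocalRing.mem_maximalIdeal c).2 hnu
    rw [hc, hgm c hcm] at hjv
    exact hjv rfl
  obtain ⟨u, rfl⟩ := hcu
  intro t
  obtain ⟨c', rfl⟩ := hcyc t
  refine ⟨(c' * ↑u⁻¹) • v, ?_⟩
  rw [stalkHom_smul, hc, smul_smul, mul_assoc, Units.inv_mul, mul_one]

variable (k : Type u) [Field k]

/-- the statement for integral schemes of dimension `r` -/
def BInt (r : ℕ) : Prop :=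
  ∀ (Z : Scheme.{u}) [Z.Over (Spec (CommRingCat.of k))] [IsProper (Z ↘ Spec (CommRingCat.of k))] [IsIntegral Z]
    (H L : Z.Modules), CohB1.IsAmple H → PicF.IsInvertible L → Nef k Z L →
    topologicalKrullDim Z = (r : WithBot ℕ∞) → ∀ i : ℕ, 1 ≤ i →
    ∃ C : ℕ, ∀ m : ℕ, 1 ≤ m → hh k (CohB1.tensorPow L m) i ≤ C * bd r m

variable {X : Scheme.{u}} [X.Over (Spec (CommRingCat.of k))] [IsProper (X ↘ Spec (CommRingCat.of k))]

section main
variable {H : X.Modules} (hH : CohB1.IsAmple H) {L : X.Modules} (hL : PicF.IsInvertible L)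
  (hnef : Nef k X L) (R : ℕ) (hB : ∀ r : ℕ, r ≤ R → BInt.{u} k r)

include hH hL hnef hB in
/-- the class contains the coherent submodules of `O_X / J_Z`, `Z` integral -/
theorem nefClass_ideal (Z : Closeds X) (hirr : IsIrreducible (Z : Set X)) (y : X) (hy : closure {y} = (Z : Set X))
    (I : X.IdealSheafData) (hI : I = Scheme.IdealSheafData.vanishingIdeal Z)
    (IH : ∀ N : X.Modules, Coh.IsCoh N → CohB1.support N ⊆ (Z : Set X) → y ∉ CohB1.support N →
      nefClass k L R N)
    (N : X.Modules) (j : N ⟶ ClSub.quotMod I) (hj : Mono j)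
    (hN : Coh.IsCoh N) : nefClass k L R N := by
  intro r hrR hr i hi
  haveI : IsNoetherian X := Groth.Agent.Lib.Helper2.IntNum1.isNoetherian k X
  haveI : IsIntegral I.subscheme := by
    rw [hI]; exact Groth.Agent.Lib.Helper6.DevRed.isIntegral_subscheme_vanishingIdeal Z hirr
  have hy' : closure {y} = (I.support : Set X) := by
    rw [hI, Scheme.IdealSheafData.coe_support_vanishingIdeal]; exact hy
  by_cases hyN : y ∈ CohB1.support N
  · have hZN : (Z : Set X) ⊆ CohB1.support N := by
      rw [← hy]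
      exact (isClosed_support N hN).closure_subset_iff.2 (Set.singleton_subset_iff.2 hyN)
    have hdimZ : topologicalKrullDim (Z : Set X) ≤ r := (dim_mono hZN).trans hr
    obtain ⟨rZ, hrZ⟩ := Groth.Agent.Lib.Helper4.NM6.exists_dim_eq k (Z : Set X) hirr.nonempty
    have hrZr : rZ ≤ r := by
      rw [hrZ] at hdimZ
      exact_mod_cast hdimZ
    letI : I.subscheme.Over (Spec (CommRingCat.of k)) := ⟨I.subschemeι ≫ (X ↘ (Spec (CommRingCat.of k)))⟩
    haveI : IsProper (I.subscheme ↘ (Spec (CommRingCat.of k))) :=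
      inferInstanceAs (IsProper (I.subschemeι ≫ (X ↘ (Spec (CommRingCat.of k)))))
    haveI : CompactSpace I.subscheme :=
      QuasiCompact.compactSpace_of_compactSpace (I.subscheme ↘ Spec (CommRingCat.of k))
    have hdim' : topologicalKrullDim I.subscheme = (rZ : WithBot ℕ∞) := by
      have h1 := I.subschemeι.isClosedEmbedding.isEmbedding.toHomeomorph.isHomeomorph.topologicalKrullDim_eq
      rw [h1, I.range_subschemeι, hI, Scheme.IdealSheafData.coe_support_vanishingIdeal]
      exact hrZ
    have hHZ : CohB1.IsAmple ((Scheme.Modules.pullback I.subschemeι).obj H) :=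
      Groth.Agent.Lib.Helper28.PullbackInv.isAmple_pullback_of_isEmbedding I.subschemeι
        I.subschemeι.isClosedEmbedding.isEmbedding H hH
    have hLZ := Groth.Agent.Lib.Helper28.PullbackInv.isInvertible_pullback I.subschemeι hL
    obtain ⟨CZ, hCZ⟩ := hB rZ (hrZr.trans hrR) I.subscheme _ _ hHZ hLZ (hnef.pullback k I.subschemeι) hdim' i hi
    -- the cokernel
    have hQc : Coh.IsCoh (ClSub.quotMod I) := Groth.Agent.Lib.Helper6.DevRed.isCoh_quotMod I
    have hTc : Coh.IsCoh (cokernel j) := isCoh_cokernel j hN hQc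
    have hS : (ShortComplex.mk j (cokernel.π j) (cokernel.condition j)).ShortExact :=
      { exact := ShortComplex.exact_of_g_is_cokernel _ (cokernelIsCokernel j)
        mono_f := hj
        epi_g := inferInstanceAs (Epi (cokernel.π j)) }
    have hyT : y ∉ CohB1.support (cokernel j) := by
      subst hI
      haveI := hj
      exact notMem_support_cokernel j y (stalkHom_surjective_of_mono_quotMod Z y hy N j hyN)
    have hTZ : CohB1.support (cokernel j) ⊆ (Z : Set X) := by
      refine (support_subset_of_epi (cokernel.π j)).trans ?_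
      rw [Groth.Agent.Lib.Helper6.DevRed.support_quotMod, hI, Scheme.IdealSheafData.coe_support_vanishingIdeal]
    have hdT : topologicalKrullDim (CohB1.support (cokernel j)) + 1 ≤ (rZ : WithBot ℕ∞) := by
      rw [← hrZ]
      refine Groth.Agent.Lib.Helper24.ConnDimSub.dim_add_one_le hirr (isClosed_support _ hTc) hTZ ?_
      intro h
      apply hyT
      rw [h, ← hy]
      exact subset_closure (Set.mem_singleton y)
    -- the bound for the cokernel one degree lower
    have hTb : ∃ CT : ℕ, ∀ m : ℕ, 1 ≤ m →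
        hh k (CohB1.tensorMod (CohB1.tensorPow L m) (cokernel j)) (i - 1) ≤ CT * bd r m := by
      rcases Nat.eq_zero_or_pos rZ with h0 | hpos
      · subst h0
        have hbot : topologicalKrullDim (CohB1.support (cokernel j)) = ⊥ := by
          by_contra hne
          obtain ⟨a, ha⟩ := WithBot.ne_bot_iff_exists.1 hne
          rw [← ha] at hdT
          have h1 : ((a + 1 : ℕ∞) : WithBot ℕ∞) ≤ ((0 : ℕ) : WithBot ℕ∞) := by exact_mod_cast hdT
          have h2 : (a + 1 : ℕ∞) ≤ 0 := by exact_mod_cast h1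
          simp at h2
        haveI := Groth.Agent.Lib.Helper2.Kodaira.isEmpty_of_dim_eq_bot hbot
        have hemp : CohB1.support (cokernel j) = ∅ := Set.isEmpty_coe_sort.1 inferInstance
        have hz : IsZero (cokernel j) := isZero_of_support_eq_empty _ hemp
        refine ⟨0, fun m _ => ?_⟩
        have hz' : IsZero ((T (CohB1.tensorPow L m)).obj (cokernel j)) := Functor.map_isZero _ hz
        have : hh k (CohB1.tensorMod (CohB1.tensorPow L m) (cokernel j)) (i - 1) = 0 := hh_of_isZero k _ hz' _
        rw [this]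
        exact Nat.zero_le _
      · obtain ⟨d, rfl⟩ : ∃ d, rZ = d + 1 := ⟨rZ - 1, by omega⟩
        have hdT' : topologicalKrullDim (CohB1.support (cokernel j)) ≤ (d : WithBot ℕ∞) :=
          Groth.Agent.Lib.Helper4.DimChain.le_of_add_one_le_succ _ d hdT
        rcases Nat.lt_or_ge 1 i with h2 | h2
        · obtain ⟨C, hC⟩ := IH _ hTc hTZ hyT d (by omega) hdT' (i - 1) (by omega)
          exact ⟨C, fun m hm => (hC m hm).trans (Nat.mul_le_mul_left _ (bd_mono_left (by omega) hm))⟩
        · obtain rfl : i = 1 := by omega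
          obtain ⟨C, hC⟩ := ub_general k hH hL _ hTc d hdT'
          refine ⟨C, fun m hm => ?_⟩
          have h3 := hC m hm
          rw [h0_iso k (Groth.Agent.Lib.Helper6.K0Inv.braidIso (cokernel j) (CohB1.tensorPow L m))] at h3
          have h4 : m ^ d ≤ bd r m := by
            have := bd_mono_left (show d + 1 ≤ r from hrZr) hm
            rwa [bd_succ] at this
          exact h3.trans (Nat.mul_le_mul_left _ h4)
    obtain ⟨CT, hCT⟩ := hTb
    refine ⟨CT + CZ, fun m hm => ?_⟩
    have hLm := Groth.Agent.Lib.Helper28.GenLocus.isInvertible_tensorPow hL m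
    have hc := isCoh_of_isInvertible _ hLm
    have hS' := shortExact_tensor_of_flat _ (isFlat_of_isInvertible _ hLm) _ hS
    obtain ⟨i', rfl⟩ : ∃ i', i = i' + 1 := ⟨i - 1, by omega⟩
    have hle := hh₁_succ_le k _ hS' (isCoh_tensorMod _ _ hc hN) (isCoh_tensorMod _ _ hc hQc)
      (isCoh_tensorMod _ _ hc hTc) i'
    change hh k (CohB1.tensorMod (CohB1.tensorPow L m) N) (i' + 1) ≤
      hh k (CohB1.tensorMod (CohB1.tensorPow L m) (cokernel j)) i' +
        hh k (CohB1.tensorMod (CohB1.tensorPow L m) (ClSub.quotMod I)) (i' + 1) at hle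
    have e1 := hCT m hm
    rw [Nat.add_sub_cancel] at e1
    have e2 : hh k (CohB1.tensorMod (CohB1.tensorPow L m) (ClSub.quotMod I)) (i' + 1) ≤ CZ * bd r m := by
      rw [hh_tensorPow_quotMod k I L hL m (i' + 1)]
      exact (hCZ m hm).trans (Nat.mul_le_mul_left _ (bd_mono_left hrZr hm))
    calc _ ≤ _ := hle
      _ ≤ CT * bd r m + CZ * bd r m := Nat.add_le_add e1 e2
      _ = (CT + CZ) * bd r m := (Nat.add_mul _ _ _).symm
  · haveI := hj
    have hz := Groth.Agent.Lib.Helper6.DevExt.isZero_of_mono_quotMod I y hy' j hyN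
    exact nefClass_of_isZero k L R N hz r hrR hr i hi

include hH hL hnef hB in
/-- **dévissage**: all coherent modules are in the class -/
theorem nefClass_all (F : X.Modules) (hF : Coh.IsCoh F) : nefClass k L R F := by
  haveI : IsNoetherian X := Groth.Agent.Lib.Helper2.IntNum1.isNoetherian k X
  refine devissage_core (nefClass k L R) (nefClass_ext k L hL R) (nefClass_of_isZero k L R) Set.univ ?_
    isClosed_univ F hF (Set.subset_univ _)
  intro Z hZc hZi _ y hy IH Q hQ hQZ hyQ
  exact Groth.Agent.Lib.Helper6.DevExt.step_ext (nefClass k L R)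
    (fun M N e h => nefClass_of_iso k L R e.some h) (nefClass_ext k L hL R) ⟨Z, hZc⟩ hZi y hy
    (fun N j hj hN => nefClass_ideal k hH hL hnef R hB ⟨Z, hZc⟩ hZi y hy _ rfl IH N j hj hN) IH Q hQ hQZ hyQ

end main

end Groth.Agent.Lib.Helper2.NefRR3
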