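import Mathlib
import Groth.Agent.Lib.Helper2.NefRR3
import Groth.Agent.Lib.Helper2.IntNum7
import Groth.Agent.Lib.Helper16.TA1
set_option backward.isDefEq.respectTransparency.types false
set_option autoImplicit false
set_option linter.style.haveILetI false

/-!
# Helper2 — NefRR4: higher cohomology of powers of a nef module on an integral projective scheme
(the inductive step, degrees `≥ 2`)
-/

universe u
open CategoryTheory CategoryTheory.Limits AlgebraicGeometry TopologicalSpace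

namespace Groth.Agent.Lib.Helper2.NefRR4

open Groth.Agent.Lib.Helper2.KodSub Groth.Agent.Lib.Helper8.EulerK Groth.Agent.Lib.Helper2.KodUB
  Groth.Agent.Lib.Helper6.K0Op Groth.Agent.Lib.Helper6.DevCore Groth.Agent.Lib.Helper2.TensEq
  Groth.Agent.Lib.Helper2.NefRR1 Groth.Agent.Lib.Helper2.NefRR2 Groth.Agent.Lib.Helper2.NefRR3
  Groth.Agent.Lib.Helper2.KodDev Groth.Agent.Lib.Helper4.KLM4 Groth.Agent.Lib.Helper6.K0Len
  Groth.Agent.Lib.Helper4.Snapper

variable (k : Type u) [Field k] {X : Scheme.{u}} [X.Over (Spec (CommRingCat.of k))]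
  [IsProper (X ↘ Spec (CommRingCat.of k))]

include k in
/-- the cokernel of a monomorphism `O_X → M` (`M` invertible) on an integral scheme of dimension `d + 1` -/
theorem coker_of_mono [IsIntegral X] (d : ℕ) (hdim : topologicalKrullDim X = ((d + 1 : ℕ) : WithBot ℕ∞))
    (M : X.Modules) (hM : PicF.IsInvertible M) (s : Coh.structureModule X ⟶ M) (hsm : Mono s) :
    Coh.IsCoh (cokernel s) ∧ topologicalKrullDim (CohB1.support (cokernel s)) ≤ (d : WithBot ℕ∞) ∧
      (ShortComplex.mk s (cokernel.π s) (cokernel.condition s)).ShortExact := by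
  haveI : IsNoetherian X := Groth.Agent.Lib.Helper2.IntNum1.isNoetherian k X
  have hO : Coh.IsCoh (Coh.structureModule X) := Groth.Agent.Lib.Helper6.DevRed.isCoh_structureModule
  have hOi := Groth.Agent.Lib.Helper28.AmpleUnit.isInvertible_structureModule X
  have hMc := isCoh_of_isInvertible _ hM
  have hC : Coh.IsCoh (cokernel s) := Groth.Agent.Lib.Helper6.DevCore.isCoh_cokernel s hO hMc
  have hT : (ShortComplex.mk s (cokernel.π s) (cokernel.condition s)).ShortExact :=
    { exact := ShortComplex.exact_of_g_is_cokernel _ (cokernelIsCokernel s)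
      mono_f := hsm
      epi_g := inferInstanceAs (Epi (cokernel.π s)) }
  have hξC : genericPoint X ∉ CohB1.support (cokernel s) := by
    have h1 := len_add _ hT (genericPoint X)
    change len M (genericPoint X) =
      len (Coh.structureModule X) (genericPoint X) + len (cokernel s) (genericPoint X) at h1
    rw [len_genericPoint_of_isInvertible _ hOi, len_genericPoint_of_isInvertible _ hM] at h1
    intro hmem
    have h6 : len (cokernel s) (genericPoint X) ≠ 0 := by
      unfold len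
      rw [Ne, Module.length_eq_zero_iff]
      exact hmem
    apply h6
    have : (1 : ℕ∞) + len (cokernel s) (genericPoint X) = 1 + 0 := by rw [← h1, add_zero]
    exact ENat.add_right_injective_of_ne_top (by simp) this
  have hdimC : topologicalKrullDim (CohB1.support (cokernel s)) ≤ (d : WithBot ℕ∞) := by
    have hcl := Groth.Agent.Lib.Helper6.DevCore.isClosed_support _ hC
    have hne : CohB1.support (cokernel s) ≠ Set.univ := fun h => hξC (h ▸ Set.mem_univ _)
    have h1 := Groth.Agent.Lib.Helper24.ConnDimSub.dim_add_one_le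
      (IrreducibleSpace.isIrreducible_univ X) hcl (Set.subset_univ _) hne
    rw [(Homeomorph.Set.univ X).isHomeomorph.topologicalKrullDim_eq, hdim] at h1
    exact Groth.Agent.Lib.Helper4.DimChain.le_of_add_one_le_succ _ d h1
  exact ⟨hC, hdimC, hT⟩

/-- the two cohomological inequalities attached to `0 → O → M → T → 0` twisted by an invertible `P` -/
theorem les_bounds {M : X.Modules} (hM : PicF.IsInvertible M) (s : Coh.structureModule X ⟶ M)
    (hS : (ShortComplex.mk s (cokernel.π s) (cokernel.condition s)).ShortExact)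
    (hT : Coh.IsCoh (cokernel s)) (P : X.Modules) (hP : PicF.IsInvertible P) (i : ℕ) :
    hh k P (i + 1) ≤ hh k (CohB1.tensorMod P (cokernel s)) i + hh k (CohB1.tensorMod P M) (i + 1) ∧
      hh k (CohB1.tensorMod P M) i ≤ hh k P i + hh k (CohB1.tensorMod P (cokernel s)) i := by
  have hO : Coh.IsCoh (Coh.structureModule X) := Groth.Agent.Lib.Helper6.DevRed.isCoh_structureModule
  have hc := isCoh_of_isInvertible _ hP
  have hMc := isCoh_of_isInvertible _ hM
  have hS' := shortExact_tensor_of_flat _ (isFlat_of_isInvertible _ hP) _ hS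
  obtain ⟨u⟩ := Groth.Agent.Lib.Helper28.AmpleUnit.nonempty_tensor_unit_iso P
  have h1 := hh₁_succ_le k _ hS' (isCoh_tensorMod _ _ hc hO) (isCoh_tensorMod _ _ hc hMc)
    (isCoh_tensorMod _ _ hc hT) i
  have h2 := hh₂_le k _ hS' (isCoh_tensorMod _ _ hc hO) (isCoh_tensorMod _ _ hc hMc)
    (isCoh_tensorMod _ _ hc hT) i
  change hh k (CohB1.tensorMod P (Coh.structureModule X)) (i + 1) ≤
    hh k (CohB1.tensorMod P (cokernel s)) i + hh k (CohB1.tensorMod P M) (i + 1) at h1
  change hh k (CohB1.tensorMod P M) i ≤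
    hh k (CohB1.tensorMod P (Coh.structureModule X)) i + hh k (CohB1.tensorMod P (cokernel s)) i at h2
  rw [hh_congr k u (i + 1)] at h1
  rw [hh_congr k u i] at h2
  exact ⟨h1, h2⟩

section step
variable [IsIntegral X] (d : ℕ) (hdim : topologicalKrullDim X = ((d + 1 : ℕ) : WithBot ℕ∞))
  {H : X.Modules} (hH : CohB1.IsAmple H) {L : X.Modules} (hL : PicF.IsInvertible L)
  (hA : ∀ F : X.Modules, Coh.IsCoh F → nefClass k L d F)

include hdim hH hL hA in
/-- degrees `≥ 2` -/
theorem bound_ge_two (i : ℕ) (hi : 2 ≤ i) :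
    ∃ C : ℕ, ∀ m : ℕ, 1 ≤ m → hh k (CohB1.tensorPow L m) i ≤ C * bd (d + 1) m := by
  have hOi := Groth.Agent.Lib.Helper28.AmpleUnit.isInvertible_structureModule X
  obtain ⟨n₁, -, h1⟩ := Groth.Agent.Lib.Helper28.GenLocus.exists_isAmple_isGloballyGenerated hH hL
  obtain ⟨n₂, -, h2⟩ := Groth.Agent.Lib.Helper28.GenLocus.exists_isAmple_isGloballyGenerated hH hOi
  set b := max n₁ n₂ with hb
  have hHb : PicF.IsInvertible (CohB1.tensorPow H b) :=
    Groth.Agent.Lib.Helper28.GenLocus.isInvertible_tensorPow hH.1 b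
  obtain ⟨-, hgg1⟩ := h1 b (le_max_left _ _)
  obtain ⟨-, hgg2⟩ := h2 b (le_max_right _ _)
  obtain ⟨u⟩ := Groth.Agent.Lib.Helper28.AmpleUnit.nonempty_tensor_unit_iso (CohB1.tensorPow H b)
  have hgg2' : Curv2.IsGloballyGenerated (CohB1.tensorPow H b) :=
    Groth.Agent.Lib.Helper8.GGKill.isGloballyGenerated_of_iso u hgg2
  have hM₁ : PicF.IsInvertible (CohB1.tensorMod L (CohB1.tensorPow H b)) :=
    Groth.Agent.Lib.Helper28.GenLocus.isInvertible_tensorMod hL hHb
  have hM₁' : PicF.IsInvertible (CohB1.tensorMod (CohB1.tensorPow H b) L) :=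
    Groth.Agent.Lib.Helper28.GenLocus.isInvertible_tensorMod hHb hL
  obtain ⟨s₁, hs₁⟩ := (sub_of_gg k _ hM₁' hgg1).trans
    (Sub.of_iso (Groth.Agent.Lib.Helper6.K0Inv.braidIso (CohB1.tensorPow H b) L))
  obtain ⟨s₂, hs₂⟩ := sub_of_gg k _ hHb hgg2'
  obtain ⟨hT₁c, hT₁d, hS₁⟩ := coker_of_mono k d hdim _ hM₁ s₁ hs₁
  obtain ⟨hT₂c, hT₂d, hS₂⟩ := coker_of_mono k d hdim _ hHb s₂ hs₂
  obtain ⟨C₁, hC₁⟩ := hA _ hT₁c d le_rfl hT₁d i (by omega)
  obtain ⟨C₂, hC₂⟩ := hA _ hT₂c d le_rfl hT₂d (i - 1) (by omega)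
  apply rec_bound (fun m => hh k (CohB1.tensorPow L m) i) 1 le_rfl (C₂ * 2 ^ d + C₁) d
  intro m hm
  obtain ⟨i', rfl⟩ : ∃ i', i = i' + 1 := ⟨i - 1, by omega⟩
  have hLm := Groth.Agent.Lib.Helper28.GenLocus.isInvertible_tensorPow hL m
  have hLm1 := Groth.Agent.Lib.Helper28.GenLocus.isInvertible_tensorPow hL (m + 1)
  have hP1 := (les_bounds k hHb s₂ hS₂ hT₂c (CohB1.tensorPow L (m + 1)) hLm1 i').1
  have hP2 := (les_bounds k hM₁ s₁ hS₁ hT₁c (CohB1.tensorPow L m) hLm (i' + 1)).2
  have iso : hh k (CohB1.tensorMod (CohB1.tensorPow L (m + 1)) (CohB1.tensorPow H b)) (i' + 1) =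
      hh k (CohB1.tensorMod (CohB1.tensorPow L m) (CohB1.tensorMod L (CohB1.tensorPow H b))) (i' + 1) :=
    hh_congr k (Groth.Agent.Lib.Helper16.TA.assocIso (CohB1.tensorPow L m) L (CohB1.tensorPow H b)) (i' + 1)
  have e1 := hC₁ m hm
  have e2 := hC₂ (m + 1) (by omega)
  rw [Nat.add_sub_cancel] at e2
  have e3 : bd d (m + 1) ≤ 2 ^ d * bd d m := bd_add_one_le d hm
  show hh k (CohB1.tensorPow L (m + 1)) (i' + 1) ≤ hh k (CohB1.tensorPow L m) (i' + 1) + (C₂ * 2 ^ d + C₁) * bd d m
  rw [iso] at hP1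
  calc hh k (CohB1.tensorPow L (m + 1)) (i' + 1)
      ≤ hh k (CohB1.tensorMod (CohB1.tensorPow L (m + 1)) (cokernel s₂)) i' +
          hh k (CohB1.tensorMod (CohB1.tensorPow L m) (CohB1.tensorMod L (CohB1.tensorPow H b))) (i' + 1) := hP1
    _ ≤ C₂ * bd d (m + 1) + (hh k (CohB1.tensorPow L m) (i' + 1) +
          hh k (CohB1.tensorMod (CohB1.tensorPow L m) (cokernel s₁)) (i' + 1)) := Nat.add_le_add e2 hP2
    _ ≤ C₂ * (2 ^ d * bd d m) + (hh k (CohB1.tensorPow L m) (i' + 1) + C₁ * bd d m) :=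
        Nat.add_le_add (Nat.mul_le_mul_left _ e3) (Nat.add_le_add_left e1 _)
    _ = hh k (CohB1.tensorPow L m) (i' + 1) + (C₂ * 2 ^ d + C₁) * bd d m := by ring

end step

end Groth.Agent.Lib.Helper2.NefRR4
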