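import Mathlib
import Groth.Agent.Lib.Helper2.NefRR4
set_option backward.isDefEq.respectTransparency.types false
set_option autoImplicit false
set_option linter.style.haveILetI false

/-!
# Helper2 — GVSupp: Grothendieck vanishing by the dimension of the support, for coherent modules on a proper scheme
over a field; cokernels of monomorphisms of invertible modules on integral schemes.
-/

universe u
open CategoryTheory CategoryTheory.Limits AlgebraicGeometry TopologicalSpace
open Groth.Agent.Lib.Helper17.CohKer Groth.Agent.Lib.Helper17.StalkExact Groth.Agent.Lib.Helper28.QCohLoc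

namespace Groth.Agent.Lib.Helper2.GVSupp

open Groth.Agent.Lib.Helper2.KodSub Groth.Agent.Lib.Helper8.EulerK Groth.Agent.Lib.Helper2.KodUB
  Groth.Agent.Lib.Helper6.K0Op Groth.Agent.Lib.Helper6.DevCore Groth.Agent.Lib.Helper2.TensEq
  Groth.Agent.Lib.Helper2.NefRR1 Groth.Agent.Lib.Helper2.NefRR2 Groth.Agent.Lib.Helper2.NefRR3
  Groth.Agent.Lib.Helper2.KodDev Groth.Agent.Lib.Helper6.DevRed Groth.Agent.Lib.Helper6.DevStep
  Groth.Agent.Lib.Helper29.QCohStalk Groth.Agent.Lib.Helper6.K0Len Groth.Agent.Lib.Helper4.Snapper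

variable (k : Type u) [Field k] {X : Scheme.{u}} [X.Over (Spec (CommRingCat.of k))]
  [IsProper (X ↘ Spec (CommRingCat.of k))]

/-- the class of modules whose cohomology vanishes above the dimension of the support -/
def gvClass : ObjectProperty X.Modules := fun F =>
  ∀ d : ℕ, topologicalKrullDim (CohB1.support F) ≤ d → ∀ p : ℕ, d < p → hh k F p = 0

theorem gvClass_of_iso {F G : X.Modules} (e : F ≅ G) (h : gvClass k F) : gvClass k G := by
  intro d hd p hp
  have hs : CohB1.support F ⊆ CohB1.support G := support_subset_of_mono e.hom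
  rw [← hh_congr k e p]
  exact h d ((dim_mono hs).trans hd) p hp

instance : (gvClass k (X := X)).IsClosedUnderIsomorphisms where
  of_iso e h := gvClass_of_iso k e h

theorem gvClass_of_isZero (F : X.Modules) (hF : IsZero F) : gvClass k F := by
  intro d _ p _
  exact hh_of_isZero k F hF p

theorem gvClass_ext (S : ShortComplex X.Modules) (hS : S.ShortExact)
    (h₁ : Coh.IsCoh S.X₁) (h₂ : Coh.IsCoh S.X₂) (h₃ : Coh.IsCoh S.X₃)
    (k₁ : gvClass k S.X₁) (k₃ : gvClass k S.X₃) : gvClass k S.X₂ := by
  intro d hd p hp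
  haveI := hS.mono_f
  haveI := hS.epi_g
  have e1 := k₁ d ((dim_mono (support_subset_of_mono S.f)).trans hd) p hp
  have e3 := k₃ d ((dim_mono (support_subset_of_epi S.g)).trans hd) p hp
  have hle := hh₂_le k _ hS h₁ h₂ h₃ p
  omega

/-- the class contains the coherent submodules of `O_X / J_Z`, `Z` integral -/
theorem gvClass_ideal (Z : Closeds X) (hirr : IsIrreducible (Z : Set X)) (y : X) (hy : closure {y} = (Z : Set X))
    (I : X.IdealSheafData) (hI : I = Scheme.IdealSheafData.vanishingIdeal Z)
    (IH : ∀ N : X.Modules, Coh.IsCoh N → CohB1.support N ⊆ (Z : Set X) → y ∉ CohB1.support N → gvClass k N)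
    (N : X.Modules) (j : N ⟶ ClSub.quotMod I) (hj : Mono j)
    (hN : Coh.IsCoh N) : gvClass k N := by
  intro d hd p hp
  haveI : IsNoetherian X := Groth.Agent.Lib.Helper2.IntNum1.isNoetherian k X
  haveI : IsIntegral I.subscheme := by
    rw [hI]; exact Groth.Agent.Lib.Helper6.DevRed.isIntegral_subscheme_vanishingIdeal Z hirr
  have hy' : closure {y} = (I.support : Set X) := by
    rw [hI, Scheme.IdealSheafData.coe_support_vanishingIdeal]; exact hy
  by_cases hyN : y ∈ CohB1.support N
  · have hZN : (Z : Set X) ⊆ CohB1.support N := by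
      rw [← hy]
      exact (isClosed_support N hN).closure_subset_iff.2 (Set.singleton_subset_iff.2 hyN)
    have hdimZ : topologicalKrullDim (Z : Set X) ≤ d := (dim_mono hZN).trans hd
    obtain ⟨rZ, hrZ⟩ := Groth.Agent.Lib.Helper4.NM6.exists_dim_eq k (Z : Set X) hirr.nonempty
    have hrZr : rZ ≤ d := by
      rw [hrZ] at hdimZ
      exact_mod_cast hdimZ
    letI : I.subscheme.Over (Spec (CommRingCat.of k)) := ⟨I.subschemeι ≫ (X ↘ (Spec (CommRingCat.of k)))⟩
    haveI : IsProper (I.subscheme ↘ (Spec (CommRingCat.of k))) :=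
      inferInstanceAs (IsProper (I.subschemeι ≫ (X ↘ (Spec (CommRingCat.of k)))))
    have hdim' : topologicalKrullDim I.subscheme = (rZ : WithBot ℕ∞) := by
      have h1 := I.subschemeι.isClosedEmbedding.isEmbedding.toHomeomorph.isHomeomorph.topologicalKrullDim_eq
      rw [h1, I.range_subschemeι, hI, Scheme.IdealSheafData.coe_support_vanishingIdeal]
      exact hrZ
    -- vanishing for `O_X / I`
    have hOi := Groth.Agent.Lib.Helper28.AmpleUnit.isInvertible_structureModule X
    have hQ0 : hh k (ClSub.quotMod I) p = 0 := by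
      obtain ⟨v⟩ := Groth.Agent.Lib.Helper28.InvQC.nonempty_unit_tensor_iso (ClSub.quotMod I)
      have h1 := hh_tensorPow_quotMod k I (Coh.structureModule X) hOi 0 p
      have h2 : hh k (CohB1.tensorMod (CohB1.tensorPow (Coh.structureModule X) 0) (ClSub.quotMod I)) p =
          hh k (ClSub.quotMod I) p := hh_congr k v p
      rw [← h2, h1]
      haveI : IsNoetherian I.subscheme := Groth.Agent.Lib.Helper2.IntNum1.isNoetherian k I.subscheme
      haveI : NoetherianSpace ↑I.subscheme.toTopCat := inferInstanceAs (NoetherianSpace I.subscheme)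
      haveI : Subsingleton (Coh.HH I.subscheme
          (CohB1.tensorPow ((Scheme.Modules.pullback I.subschemeι).obj (Coh.structureModule X)) 0) p) :=
        Groth.Agent.Lib.Helper17.GV.grothendieck_vanishing (X := I.subscheme.toTopCat) rZ hdim'.le
          (Coh.toAb _) p (by omega)
      exact Module.finrank_zero_of_subsingleton
    -- the cokernel
    have hQc : Coh.IsCoh (ClSub.quotMod I) := Groth.Agent.Lib.Helper6.DevRed.isCoh_quotMod I
    have hTc : Coh.IsCoh (cokernel j) := isCoh_cokernel j hN hQc
    have hS : (ShortComplex.mk j (cokernel.π j) (cokernel.condition j)).ShortExact :=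
      { exact := ShortComplex.exact_of_g_is_cokernel _ (cokernelIsCokernel j)
        mono_f := hj
        epi_g := inferInstanceAs (Epi (cokernel.π j)) }
    have hyT : y ∉ CohB1.support (cokernel j) := by
      subst hI
      haveI := hj
      exact notMem_support_cokernel j y (stalkHom_surjective_of_mono_quotMod Z y hy N j hyN)
    have hTZ : CohB1.support (cokernel j) ⊆ (Z : Set X) := by
      refine (support_subset_of_epi (cokernel.π j)).trans ?_
      rw [Groth.Agent.Lib.Helper6.DevRed.support_quotMod, hI, Scheme.IdealSheafData.coe_support_vanishingIdeal]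
    have hdT : topologicalKrullDim (CohB1.support (cokernel j)) + 1 ≤ (rZ : WithBot ℕ∞) := by
      rw [← hrZ]
      refine Groth.Agent.Lib.Helper24.ConnDimSub.dim_add_one_le hirr (isClosed_support _ hTc) hTZ ?_
      intro h
      apply hyT
      rw [h, ← hy]
      exact subset_closure (Set.mem_singleton y)
    have hTb : hh k (cokernel j) (p - 1) = 0 := by
      rcases Nat.eq_zero_or_pos rZ with h0 | hpos
      · subst h0
        have hbot : topologicalKrullDim (CohB1.support (cokernel j)) = ⊥ := by
          by_contra hne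
          obtain ⟨a, ha⟩ := WithBot.ne_bot_iff_exists.1 hne
          rw [← ha] at hdT
          have h1 : ((a + 1 : ℕ∞) : WithBot ℕ∞) ≤ ((0 : ℕ) : WithBot ℕ∞) := by exact_mod_cast hdT
          have h2 : (a + 1 : ℕ∞) ≤ 0 := by exact_mod_cast h1
          simp at h2
        haveI := Groth.Agent.Lib.Helper2.Kodaira.isEmpty_of_dim_eq_bot hbot
        have hemp : CohB1.support (cokernel j) = ∅ := Set.isEmpty_coe_sort.1 inferInstance
        exact hh_of_isZero k _ (isZero_of_support_eq_empty _ hemp) _
      · obtain ⟨d', rfl⟩ : ∃ d', rZ = d' + 1 := ⟨rZ - 1, by omega⟩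
        have hdT' : topologicalKrullDim (CohB1.support (cokernel j)) ≤ (d' : WithBot ℕ∞) :=
          Groth.Agent.Lib.Helper4.DimChain.le_of_add_one_le_succ _ d' hdT
        exact IH _ hTc hTZ hyT d' hdT' (p - 1) (by omega)
    obtain ⟨p', rfl⟩ : ∃ p', p = p' + 1 := ⟨p - 1, by omega⟩
    have hle := hh₁_succ_le k _ hS hN hQc hTc p'
    change hh k N (p' + 1) ≤ hh k (cokernel j) p' + hh k (ClSub.quotMod I) (p' + 1) at hle
    rw [Nat.add_sub_cancel] at hTb
    omega
  · haveI := hj
    have hz := Groth.Agent.Lib.Helper6.DevExt.isZero_of_mono_quotMod I y hy' j hyN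
    exact hh_of_isZero k N hz p

/-- **Grothendieck vanishing by the dimension of the support** -/
theorem hh_eq_zero_of_dim_support_lt (F : X.Modules) (hF : Coh.IsCoh F) (d : ℕ)
    (hd : topologicalKrullDim (CohB1.support F) ≤ d) (p : ℕ) (hp : d < p) : hh k F p = 0 := by
  haveI : IsNoetherian X := Groth.Agent.Lib.Helper2.IntNum1.isNoetherian k X
  have key : gvClass k F := by
    refine devissage_core (gvClass k) (gvClass_ext k) (gvClass_of_isZero k) Set.univ ?_
      isClosed_univ F hF (Set.subset_univ _)
    intro Z hZc hZi _ y hy IH Q hQ hQZ hyQ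
    exact Groth.Agent.Lib.Helper6.DevExt.step_ext (gvClass k)
      (fun M N e h => gvClass_of_iso k e.some h) (gvClass_ext k) ⟨Z, hZc⟩ hZi y hy
      (fun N j hj hN => gvClass_ideal k ⟨Z, hZc⟩ hZi y hy _ rfl IH N j hj hN) IH Q hQ hQZ hyQ
  exact key d hd p hp

include k in
/-- the cokernel of a monomorphism `N → M` of invertible modules on an integral scheme of dimension `d + 1` -/
theorem coker_of_mono_inv [IsIntegral X] (d : ℕ) (hdim : topologicalKrullDim X = ((d + 1 : ℕ) : WithBot ℕ∞))
    (N M : X.Modules) (hN : PicF.IsInvertible N) (hM : PicF.IsInvertible M) (s : N ⟶ M) (hsm : Mono s) :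
    Coh.IsCoh (cokernel s) ∧ topologicalKrullDim (CohB1.support (cokernel s)) ≤ (d : WithBot ℕ∞) ∧
      (ShortComplex.mk s (cokernel.π s) (cokernel.condition s)).ShortExact := by
  haveI : IsNoetherian X := Groth.Agent.Lib.Helper2.IntNum1.isNoetherian k X
  have hNc := isCoh_of_isInvertible _ hN
  have hMc := isCoh_of_isInvertible _ hM
  have hC : Coh.IsCoh (cokernel s) := Groth.Agent.Lib.Helper6.DevCore.isCoh_cokernel s hNc hMc
  have hT : (ShortComplex.mk s (cokernel.π s) (cokernel.condition s)).ShortExact :=
    { exact := ShortComplex.exact_of_g_is_cokernel _ (cokernelIsCokernel s)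
      mono_f := hsm
      epi_g := inferInstanceAs (Epi (cokernel.π s)) }
  have hξC : genericPoint X ∉ CohB1.support (cokernel s) := by
    have h1 := len_add _ hT (genericPoint X)
    change len M (genericPoint X) = len N (genericPoint X) + len (cokernel s) (genericPoint X) at h1
    rw [len_genericPoint_of_isInvertible _ hN, len_genericPoint_of_isInvertible _ hM] at h1
    intro hmem
    have h6 : len (cokernel s) (genericPoint X) ≠ 0 := by
      unfold len
      rw [Ne, Module.length_eq_zero_iff]
      exact hmem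
    apply h6
    have : (1 : ℕ∞) + len (cokernel s) (genericPoint X) = 1 + 0 := by rw [← h1, add_zero]
    exact ENat.add_right_injective_of_ne_top (by simp) this
  have hdimC : topologicalKrullDim (CohB1.support (cokernel s)) ≤ (d : WithBot ℕ∞) := by
    have hcl := Groth.Agent.Lib.Helper6.DevCore.isClosed_support _ hC
    have hne : CohB1.support (cokernel s) ≠ Set.univ := fun h => hξC (h ▸ Set.mem_univ _)
    have h1 := Groth.Agent.Lib.Helper24.ConnDimSub.dim_add_one_le
      (IrreducibleSpace.isIrreducible_univ X) hcl (Set.subset_univ _) hne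
    rw [(Homeomorph.Set.univ X).isHomeomorph.topologicalKrullDim_eq, hdim] at h1
    exact Groth.Agent.Lib.Helper4.DimChain.le_of_add_one_le_succ _ d h1
  exact ⟨hC, hdimC, hT⟩

/-- on an integral scheme of dimension `d + 1`, top cohomology can only drop along a monomorphism of invertible
modules -/
theorem hh_top_le_of_mono [IsIntegral X] (d : ℕ) (hdim : topologicalKrullDim X = ((d + 1 : ℕ) : WithBot ℕ∞))
    (N M : X.Modules) (hN : PicF.IsInvertible N) (hM : PicF.IsInvertible M) (h : Sub N M) :
    hh k M (d + 1) ≤ hh k N (d + 1) := by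
  obtain ⟨s, hs⟩ := h
  obtain ⟨hC, hdimC, hT⟩ := coker_of_mono_inv k d hdim N M hN hM s hs
  have h1 := hh₂_le k _ hT (isCoh_of_isInvertible _ hN) (isCoh_of_isInvertible _ hM) hC (d + 1)
  change hh k M (d + 1) ≤ hh k N (d + 1) + hh k (cokernel s) (d + 1) at h1
  rw [hh_eq_zero_of_dim_support_lt k _ hC d hdimC (d + 1) (Nat.lt_succ_self d)] at h1
  exact h1

end Groth.Agent.Lib.Helper2.GVSupp
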