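import Mathlib
import Groth.Agent.Lib.Helper2.Kodaira
set_option backward.isDefEq.respectTransparency.types false
set_option autoImplicit false
set_option linter.style.haveILetI false

/-!
# Helper2 — Kodaira2: Kodaira's lemma and its consequences for big invertible modules
-/

universe u
open CategoryTheory CategoryTheory.Limits AlgebraicGeometry TopologicalSpace

namespace Groth.Agent.Lib.Helper2.Kodaira

open Groth.Agent.Lib.Helper2.KodSub Groth.Agent.Lib.Helper8.EulerK Groth.Agent.Lib.Helper2.KodUB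
  Groth.Agent.Lib.Helper6.K0Op Groth.Agent.Lib.Helper6.DevCore Groth.Agent.Lib.Helper2.TensEq
  Groth.Agent.Lib.Helper2.KodDev Groth.Agent.Lib.Helper2.IntNum1 Groth.Agent.Lib.Helper6.K0Len
  Groth.Agent.Lib.Helper4.Snapper Groth.Agent.Lib.Helper28.GenLocus

variable (k : Type u) [Field k] {X : Scheme.{u}} [X.Over (Spec (CommRingCat.of k))]
  [IsProper (X ↘ Spec (CommRingCat.of k))] [IsIntegral X]

/-- **Kodaira's lemma** -/
theorem kodaira (n : ℕ) (hdim : topologicalKrullDim X = (n : WithBot ℕ∞)) {H : X.Modules} (hH : CohB1.IsAmple H)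
    {L : X.Modules} (hL : PicF.IsInvertible L) (E : X.Modules) (hE : PicF.IsInvertible E)
    (hOE : Sub (Coh.structureModule X) E) (a : ℕ)
    (hfreq : ∀ M₀ : ℕ, ∃ m, M₀ ≤ m ∧ m ^ n ≤ a * h0 k (CohB1.tensorPow L m)) :
    ∃ m : ℕ, 0 < m ∧ Sub E (CohB1.tensorPow L m) := by
  haveI : IsNoetherian X := isNoetherian k X
  obtain ⟨s, hs⟩ := hOE
  have hO : Coh.IsCoh (Coh.structureModule X) := Groth.Agent.Lib.Helper6.DevRed.isCoh_structureModule
  have hOi := Groth.Agent.Lib.Helper28.AmpleUnit.isInvertible_structureModule X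
  set E' := Groth.Agent.Lib.Helper28.HomMod.dual E with hE'
  have hinv : ClSub.IsInverseOf E' E := Groth.Agent.Lib.Helper8.InvInverse.isInverseOf_dual hE
  have hE'i : PicF.IsInvertible E' := isInvertible_of_isInverseOf hE hinv
  have hE'c := isCoh_of_isInvertible _ hE'i
  obtain ⟨e0⟩ := hinv
  obtain ⟨v⟩ := Groth.Agent.Lib.Helper28.AmpleUnit.nonempty_tensor_unit_iso E'
  let t1 : E' ⟶ CohB1.tensorMod E' (Coh.structureModule X) := v.inv
  let t2 : CohB1.tensorMod E' (Coh.structureModule X) ⟶ CohB1.tensorMod E' E := (T E').map s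
  let t3 : CohB1.tensorMod E' E ⟶ Coh.structureModule X := e0.hom
  haveI : Mono t1 := inferInstanceAs (Mono v.inv)
  haveI : Mono t2 := mono_T_map E' (isFlat_of_isInvertible _ hE'i) s
  haveI : Mono t3 := inferInstanceAs (Mono e0.hom)
  let t : E' ⟶ Coh.structureModule X := t1 ≫ t2 ≫ t3
  haveI : Mono (t2 ≫ t3) := mono_comp t2 t3
  haveI hmt : Mono t := mono_comp t1 (t2 ≫ t3)
  have ht0 : t ≠ 0 := by
    intro h0
    have hz : IsZero E' := IsZero.of_mono_eq_zero t h0
    have h1 := Groth.Agent.Lib.Helper16.K0Supp.support_of_isZero hz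
    rw [support_of_isInvertible _ hE'i] at h1
    exact Set.univ_nonempty.ne_empty h1
  have hQ : Coh.IsCoh (cokernel t) := isCoh_cokernel t hE'c hO
  have hT : (ShortComplex.mk t (cokernel.π t) (cokernel.condition t)).ShortExact :=
    { exact := ShortComplex.exact_of_g_is_cokernel _ (cokernelIsCokernel t)
      mono_f := hmt
      epi_g := inferInstanceAs (Epi (cokernel.π t)) }
  have hξ : genericPoint X ∉ CohB1.support (cokernel t) :=
    Groth.Agent.Lib.Helper6.DevStep.notMem_support_cokernel t (genericPoint X)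
      (Groth.Agent.Lib.Helper8.CurveInv.stalkHom_genericPoint_surjective hE'i hOi t ht0)
  have hdimQ : topologicalKrullDim (CohB1.support (cokernel t)) + 1 ≤ (n : WithBot ℕ∞) := by
    have hcl := isClosed_support _ hQ
    have hne : CohB1.support (cokernel t) ≠ Set.univ := fun h => hξ (h ▸ Set.mem_univ _)
    have h1 := Groth.Agent.Lib.Helper24.ConnDimSub.dim_add_one_le
      (IrreducibleSpace.isIrreducible_univ X) hcl (Set.subset_univ _) hne
    rw [(Homeomorph.Set.univ X).isHomeomorph.topologicalKrullDim_eq, hdim] at h1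
    exact h1
  obtain ⟨C, hC⟩ := ub_lower k hH hL _ hQ n hdimQ
  obtain ⟨m, hmM, hm⟩ := hfreq (a * C + 1)
  have hm1 : 1 ≤ m := by omega
  have hLm := isInvertible_tensorPow hL m
  have hc := isCoh_of_isInvertible _ hLm
  have hpos : 0 < h0 k (CohB1.tensorMod (CohB1.tensorPow L m) E') := by
    by_contra hcon
    have hzero : h0 k (CohB1.tensorMod (CohB1.tensorPow L m) E') = 0 := by omega
    have hS' := shortExact_tensor_of_flat _ (isFlat_of_isInvertible _ hLm) _ hT
    have hle := hh₂_le k _ hS' (isCoh_tensorMod _ _ hc hE'c) (isCoh_tensorMod _ _ hc hO)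
      (isCoh_tensorMod _ _ hc hQ) 0
    change h0 k (CohB1.tensorMod (CohB1.tensorPow L m) (Coh.structureModule X)) ≤
      h0 k (CohB1.tensorMod (CohB1.tensorPow L m) E') +
        h0 k (CohB1.tensorMod (CohB1.tensorPow L m) (cokernel t)) at hle
    obtain ⟨u⟩ := Groth.Agent.Lib.Helper28.AmpleUnit.nonempty_tensor_unit_iso (CohB1.tensorPow L m)
    rw [hzero, zero_add, h0_iso k u,
      h0_iso k (Groth.Agent.Lib.Helper6.K0Inv.braidIso (CohB1.tensorPow L m) (cokernel t))] at hle
    have h2 := hC m hm1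
    have hmn : 0 < m ^ n := Nat.pow_pos (by omega)
    have h3 : m * m ^ n ≤ (a * C) * m ^ n := by
      calc m * m ^ n ≤ m * (a * h0 k (CohB1.tensorPow L m)) := Nat.mul_le_mul_left _ hm
        _ ≤ m * (a * h0 k (CohB1.tensorMod (cokernel t) (CohB1.tensorPow L m))) :=
            Nat.mul_le_mul_left _ (Nat.mul_le_mul_left _ hle)
        _ = a * (m * h0 k (CohB1.tensorMod (cokernel t) (CohB1.tensorPow L m))) := by ring
        _ ≤ a * (C * m ^ n) := Nat.mul_le_mul_left _ h2
        _ = (a * C) * m ^ n := by ring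
    have h4 : m ≤ a * C := Nat.le_of_mul_le_mul_right h3 hmn
    omega
  have hnt : Nontrivial (Coh.HH X (CohB1.tensorMod E' (CohB1.tensorPow L m)) 0) := by
    rw [h0_iso k (Groth.Agent.Lib.Helper6.K0Inv.braidIso (CohB1.tensorPow L m) E')] at hpos
    exact Module.nontrivial_of_finrank_pos (R := k) hpos
  obtain ⟨φ, hφ⟩ := (exists_hom_ne_zero_iff ⟨e0⟩ (CohB1.tensorPow L m)).2 hnt
  exact ⟨m, hm1, φ, Groth.Agent.Lib.Helper8.CurveInv.mono_of_ne_zero hE hLm φ hφ⟩

end Groth.Agent.Lib.Helper2.Kodaira
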