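import Mathlib
import Groth.Agent.Lib.Helper2.Kodaira2
set_option backward.isDefEq.respectTransparency.types false
set_option autoImplicit false
set_option linter.style.haveILetI false

/-!
# Helper2 — Kodaira3: big invertible modules: exponent one, growth of sections along all large `m`
-/

universe u
open CategoryTheory CategoryTheory.Limits AlgebraicGeometry TopologicalSpace

namespace Groth.Agent.Lib.Helper2.Kodaira

open Groth.Agent.Lib.Helper2.KodSub Groth.Agent.Lib.Helper8.EulerK Groth.Agent.Lib.Helper2.KodUB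
  Groth.Agent.Lib.Helper6.K0Op Groth.Agent.Lib.Helper6.DevCore Groth.Agent.Lib.Helper2.TensEq
  Groth.Agent.Lib.Helper2.KodDev Groth.Agent.Lib.Helper2.IntNum1 Groth.Agent.Lib.Helper6.K0Len
  Groth.Agent.Lib.Helper4.Snapper Groth.Agent.Lib.Helper28.GenLocus

section eff
variable {X : Scheme.{u}}

/-- effective: `O_X` embeds -/
def Eff (E : X.Modules) : Prop := Sub (Coh.structureModule X) E

theorem isFlat_unit : FlatMod.IsFlat (Coh.structureModule X) :=
  isFlat_of_isInvertible _ (Groth.Agent.Lib.Helper28.AmpleUnit.isInvertible_structureModule X)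

theorem Eff.tensor {E F : X.Modules} (hE : PicF.IsInvertible E) (h1 : Eff E) (h2 : Eff F) :
    Eff (CohB1.tensorMod E F) := by
  obtain ⟨v⟩ := Groth.Agent.Lib.Helper28.AmpleUnit.nonempty_tensor_unit_iso (Coh.structureModule X)
  exact (Sub.of_iso v.symm).trans (Sub.tensor isFlat_unit (isFlat_of_isInvertible _ hE) h1 h2)

theorem Eff.pow {E : X.Modules} (hE : PicF.IsInvertible E) (h : Eff E) (m : ℕ) : Eff (CohB1.tensorPow E m) := by
  obtain ⟨v⟩ := Groth.Agent.Lib.Helper28.AmpleUnit.nonempty_tensorPow_unit_iso X m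
  exact (Sub.of_iso v.symm).trans
    (Sub.pow (Groth.Agent.Lib.Helper28.AmpleUnit.isInvertible_structureModule X) hE h m)

theorem Eff.sub {E F : X.Modules} (h : Eff E) (h' : Sub E F) : Eff F := Sub.trans h h'

/-- `Sub E F → Eff G → Sub E (F ⊗ G)` -/
theorem Sub.tensor_eff {E F G : X.Modules} (hF : PicF.IsInvertible F) (h : Sub E F) (hG : Eff G) :
    Sub E (CohB1.tensorMod F G) := by
  obtain ⟨v⟩ := Groth.Agent.Lib.Helper28.AmpleUnit.nonempty_tensor_unit_iso E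
  exact (Sub.of_iso v.symm).trans (Sub.tensor isFlat_unit (isFlat_of_isInvertible _ hF) h hG)

/-- `L^{pα} ⊗ L^{qβ}`-type juggling: `(L^p)^α ⊗ (L^q)^β` embeds in `L^j` when `j = p α + q β` -/
theorem sub_pow_pow {L : X.Modules} (hL : PicF.IsInvertible L) (p q α β j : ℕ) (hj : j = p * α + q * β) :
    Sub (CohB1.tensorMod (CohB1.tensorPow (CohB1.tensorPow L p) α) (CohB1.tensorPow (CohB1.tensorPow L q) β))
      (CohB1.tensorPow L j) := by
  obtain ⟨ψ₁, -⟩ := exists_tensorPow_tensorPow_iso hL p α (p * α) rfl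
  obtain ⟨ψ₂, -⟩ := exists_tensorPow_tensorPow_iso hL q β (q * β) rfl
  obtain ⟨ψ₃, -⟩ := exists_tensorPow_add_iso hL (p * α) (q * β) j hj
  exact (Sub.tensor (isFlat_of_isInvertible _ (isInvertible_tensorPow (isInvertible_tensorPow hL q) β))
    (isFlat_of_isInvertible _ (isInvertible_tensorPow hL (p * α))) (Sub.of_iso ψ₁) (Sub.of_iso ψ₂)).trans
    (Sub.of_iso ψ₃)

/-- **exponent one**: if `L^p` and `L^{p+1}` are effective then so is `L^j` for all `j ≥ p²` -/
theorem eff_of_two {L : X.Modules} (hL : PicF.IsInvertible L) (p : ℕ) (hp : 0 < p)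
    (h1 : Eff (CohB1.tensorPow L p)) (h2 : Eff (CohB1.tensorPow L (p + 1))) (j : ℕ) (hj : p * p ≤ j) :
    Eff (CohB1.tensorPow L j) := by
  have hr : j % p < p := Nat.mod_lt _ hp
  have hq : p ≤ j / p := (Nat.le_div_iff_mul_le hp).2 hj
  have hdm : p * (j / p) + j % p = j := Nat.div_add_mod j p
  have hdecomp : j = p * (j / p - j % p) + (p + 1) * (j % p) := by
    have h3 : j / p - j % p + j % p = j / p := Nat.sub_add_cancel (by omega)
    have h4 : p * (j / p - j % p) + p * (j % p) = p * (j / p) := by rw [← Nat.mul_add, h3]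
    nlinarith
  have e1 := Eff.pow (isInvertible_tensorPow hL p) h1 (j / p - j % p)
  have e2 := Eff.pow (isInvertible_tensorPow hL (p + 1)) h2 (j % p)
  exact (Eff.tensor (isInvertible_tensorPow (isInvertible_tensorPow hL p) _) e1 e2).sub
    (sub_pow_pow hL p (p + 1) _ _ j hdecomp)

end eff

variable (k : Type u) [Field k] {X : Scheme.{u}} [X.Over (Spec (CommRingCat.of k))]
  [IsProper (X ↘ Spec (CommRingCat.of k))] [IsIntegral X]

include k in
/-- on an integral projective scheme there is an ample effective `A₁ = H^b` with `A₁ ⊗ L` effective too -/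
theorem exists_ample_eff {H : X.Modules} (hH : CohB1.IsAmple H) {L : X.Modules} (hL : PicF.IsInvertible L) :
    ∃ A₁ : X.Modules, CohB1.IsAmple A₁ ∧ Eff A₁ ∧ Eff (CohB1.tensorMod A₁ L) := by
  obtain ⟨n₁, hn₁, h1⟩ := exists_isAmple_isGloballyGenerated hH hL
  obtain ⟨n₂, -, h2⟩ := exists_isAmple_isGloballyGenerated hH
    (Groth.Agent.Lib.Helper28.AmpleUnit.isInvertible_structureModule X)
  set b := max n₁ n₂ with hb
  have hb0 : 0 < b := lt_of_lt_of_le hn₁ (le_max_left _ _)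
  obtain ⟨hA, hggL⟩ := h1 b (le_max_left _ _)
  obtain ⟨-, hgg⟩ := h2 b (le_max_right _ _)
  obtain ⟨u⟩ := Groth.Agent.Lib.Helper28.AmpleUnit.nonempty_tensor_unit_iso (CohB1.tensorPow H b)
  have hHb : PicF.IsInvertible (CohB1.tensorPow H b) := isInvertible_tensorPow hH.1 b
  have hgg' : Curv2.IsGloballyGenerated (CohB1.tensorPow H b) :=
    Groth.Agent.Lib.Helper8.GGKill.isGloballyGenerated_of_iso u hgg
  exact ⟨_, isAmple_tensorPow hH b hb0, sub_of_gg k _ hHb hgg', sub_of_gg k _ hA.1 hggL⟩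

include k in
/-- **big ⇒ exponent one** -/
theorem eff_eventually_of_big {H : X.Modules} (hH : CohB1.IsAmple H) {L : X.Modules} (hL : PicF.IsInvertible L)
    (hbig : ∀ A : X.Modules, CohB1.IsAmple A → ∃ m : ℕ, 0 < m ∧ Sub A (CohB1.tensorPow L m)) :
    ∃ (A₁ : X.Modules) (p : ℕ), CohB1.IsAmple A₁ ∧ 0 < p ∧ Sub A₁ (CohB1.tensorPow L p) ∧
      ∀ j : ℕ, p * p ≤ j → Eff (CohB1.tensorPow L j) := by
  obtain ⟨A₁, hA₁, hE1, hE2⟩ := exists_ample_eff k hH hL
  obtain ⟨p, hp, hsub⟩ := hbig A₁ hA₁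
  refine ⟨A₁, p, hA₁, hp, hsub, ?_⟩
  have e1 : Eff (CohB1.tensorPow L p) := hE1.sub hsub
  have e2 : Eff (CohB1.tensorPow L (p + 1)) :=
    hE2.sub (hsub.tensor_right L (isFlat_of_isInvertible _ hL))
  exact eff_of_two hL p hp e1 e2

/-- **big ⇒ `h⁰(L^m) ≥ m^n / N` for all large `m`** -/
theorem growth_of_big (n : ℕ) (hdim : topologicalKrullDim X = (n : WithBot ℕ∞))
    {H : X.Modules} (hH : CohB1.IsAmple H) {L : X.Modules} (hL : PicF.IsInvertible L)
    (hbig : ∀ A : X.Modules, CohB1.IsAmple A → ∃ m : ℕ, 0 < m ∧ Sub A (CohB1.tensorPow L m)) :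
    ∃ N m₁ : ℕ, 0 < N ∧ ∀ m : ℕ, m₁ ≤ m → m ^ n ≤ N * h0 k (CohB1.tensorPow L m) := by
  obtain ⟨A₁, p, hA₁, hp, hsub, heff⟩ := eff_eventually_of_big k hH hL hbig
  obtain ⟨N₁, μ₀, hN₁, hlb⟩ := lb_ample k n hdim A₁ hA₁
  refine ⟨(2 * p + p * p) ^ n * N₁, p * p + p * (μ₀ + 1) + p, by positivity, fun m hm => ?_⟩
  -- m = p μ + j with j ∈ [p², p² + p)
  set μ := (m - p * p) / p with hμ
  set j := m - p * μ with hjdef
  have h1 : p * μ ≤ m - p * p := Nat.mul_div_le _ _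
  have h2 : m - p * p < p * μ + p := by
    have := Nat.lt_div_mul_add (a := m - p * p) hp
    rw [Nat.mul_comm ((m - p * p) / p) p] at this
    exact this
  have hmj : m = p * μ + j := by omega
  have hj1 : p * p ≤ j := by omega
  have hj2 : j < p * p + p := by omega
  have hμ1 : μ₀ + 1 ≤ μ := by
    rw [hμ, Nat.le_div_iff_mul_le hp]
    have : (μ₀ + 1) * p = p * (μ₀ + 1) := Nat.mul_comm _ _
    omega
  have hLm := isInvertible_tensorPow hL m
  -- `A₁^μ ⊆ L^m`
  have s1 : Sub (CohB1.tensorPow A₁ μ) (CohB1.tensorPow (CohB1.tensorPow L p) μ) :=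
    hsub.pow hA₁.1 (isInvertible_tensorPow hL p) μ
  have s2 : Sub (CohB1.tensorPow A₁ μ)
      (CohB1.tensorMod (CohB1.tensorPow (CohB1.tensorPow L p) μ) (CohB1.tensorPow L j)) :=
    Sub.tensor_eff (isInvertible_tensorPow (isInvertible_tensorPow hL p) μ) s1 (heff j hj1)
  obtain ⟨ψ₁, -⟩ := exists_tensorPow_tensorPow_iso hL p μ (p * μ) rfl
  obtain ⟨ψ₃, -⟩ := exists_tensorPow_add_iso hL (p * μ) j m hmj
  have s3 : Sub (CohB1.tensorMod (CohB1.tensorPow (CohB1.tensorPow L p) μ) (CohB1.tensorPow L j))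
      (CohB1.tensorPow L m) :=
    ((Sub.of_iso ψ₁).tensor_right _ (isFlat_of_isInvertible _ (isInvertible_tensorPow hL j))).trans
      (Sub.of_iso ψ₃)
  have hle : h0 k (CohB1.tensorPow A₁ μ) ≤ h0 k (CohB1.tensorPow L m) :=
    (s2.trans s3).hh_le k (isCoh_of_isInvertible _ hLm)
  have hμn := hlb μ (by omega)
  have hmμ : m ≤ (2 * p + p * p) * μ := by
    have : (2 * p + p * p) * μ = p * μ + (p + p * p) * μ := by ring
    have h5 : p + p * p ≤ (p + p * p) * μ := Nat.le_mul_of_pos_right _ (by omega)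
    omega
  calc m ^ n ≤ ((2 * p + p * p) * μ) ^ n := Nat.pow_le_pow_left hmμ n
    _ = (2 * p + p * p) ^ n * μ ^ n := mul_pow _ _ _
    _ ≤ (2 * p + p * p) ^ n * (N₁ * h0 k (CohB1.tensorPow A₁ μ)) := Nat.mul_le_mul_left _ hμn
    _ ≤ (2 * p + p * p) ^ n * (N₁ * h0 k (CohB1.tensorPow L m)) :=
        Nat.mul_le_mul_left _ (Nat.mul_le_mul_left _ hle)
    _ = (2 * p + p * p) ^ n * N₁ * h0 k (CohB1.tensorPow L m) := by ring

/-- **an ample submodule of a power gives growth along multiples** -/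
theorem growth_of_sub (n : ℕ) (hdim : topologicalKrullDim X = (n : WithBot ℕ∞))
    {L : X.Modules} (hL : PicF.IsInvertible L) (ν : ℕ) (hν : 0 < ν) (A : X.Modules) (hA : CohB1.IsAmple A)
    (hsub : Sub A (CohB1.tensorPow L ν)) :
    ∃ ν' a : ℕ, 0 < ν' ∧ 0 < a ∧ ∀ μ : ℕ, 1 ≤ μ → μ ^ n ≤ a * h0 k (CohB1.tensorPow L (ν' * μ)) := by
  obtain ⟨N₁, μ₀, hN₁, hlb⟩ := lb_ample k n hdim A hA
  refine ⟨ν * (μ₀ + 1), N₁, by positivity, hN₁, fun μ hμ => ?_⟩
  set t := (μ₀ + 1) * μ with ht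
  have ht1 : μ₀ ≤ t := by
    have : μ₀ + 1 ≤ (μ₀ + 1) * μ := Nat.le_mul_of_pos_right _ (by omega)
    omega
  have hμt : μ ≤ t := Nat.le_mul_of_pos_left _ (by omega)
  have s1 : Sub (CohB1.tensorPow A t) (CohB1.tensorPow (CohB1.tensorPow L ν) t) :=
    hsub.pow hA.1 (isInvertible_tensorPow hL ν) t
  obtain ⟨ψ₁, -⟩ := exists_tensorPow_tensorPow_iso hL ν t (ν * (μ₀ + 1) * μ) (by rw [ht]; ring)
  have hle : h0 k (CohB1.tensorPow A t) ≤ h0 k (CohB1.tensorPow L (ν * (μ₀ + 1) * μ)) :=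
    (s1.trans (Sub.of_iso ψ₁)).hh_le k (isCoh_of_isInvertible _ (isInvertible_tensorPow hL _))
  calc μ ^ n ≤ t ^ n := Nat.pow_le_pow_left hμt n
    _ ≤ N₁ * h0 k (CohB1.tensorPow A t) := hlb t ht1
    _ ≤ N₁ * h0 k (CohB1.tensorPow L (ν * (μ₀ + 1) * μ)) := Nat.mul_le_mul_left _ hle

end Groth.Agent.Lib.Helper2.Kodaira
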