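import Mathlib
import Groth.Agent.Lib.Helper2.Kodaira3
set_option backward.isDefEq.respectTransparency.types false
set_option autoImplicit false
set_option linter.style.haveILetI false

/-!
# Helper2 — Kodaira4: growth of sections ⇒ every ample module embeds in a power (big), and real-number packaging
-/

universe u
open CategoryTheory CategoryTheory.Limits AlgebraicGeometry TopologicalSpace

namespace Groth.Agent.Lib.Helper2.Kodaira

open Groth.Agent.Lib.Helper2.KodSub Groth.Agent.Lib.Helper8.EulerK Groth.Agent.Lib.Helper2.KodUB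
  Groth.Agent.Lib.Helper6.K0Op Groth.Agent.Lib.Helper28.GenLocus

theorem freq_of_real_lb (f : ℕ → ℕ) (n : ℕ) (C : ℝ) (hC : 0 < C)
    (h : ∀ M₀ : ℕ, ∃ m, M₀ ≤ m ∧ C * (m : ℝ) ^ n ≤ (f m : ℝ)) :
    ∃ a : ℕ, ∀ M₀ : ℕ, ∃ m, M₀ ≤ m ∧ m ^ n ≤ a * f m := by
  obtain ⟨a, ha⟩ := exists_nat_gt (1 / C)
  refine ⟨a, fun M₀ => ?_⟩
  obtain ⟨m, hm, hle⟩ := h M₀
  refine ⟨m, hm, ?_⟩
  have h1 : (1 : ℝ) ≤ a * C := by
    rw [div_lt_iff₀ hC] at ha
    exact ha.le
  have h2 : (0 : ℝ) ≤ (m : ℝ) ^ n := by positivity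
  have h3 : ((m : ℝ)) ^ n ≤ (a : ℝ) * (f m : ℝ) := by
    calc (m : ℝ) ^ n = 1 * (m : ℝ) ^ n := (one_mul _).symm
      _ ≤ (a * C) * (m : ℝ) ^ n := mul_le_mul_of_nonneg_right h1 h2
      _ = a * (C * (m : ℝ) ^ n) := by ring
      _ ≤ a * (f m : ℝ) := mul_le_mul_of_nonneg_left hle (by positivity)
  exact_mod_cast h3

variable (k : Type u) [Field k] {X : Scheme.{u}} [X.Over (Spec (CommRingCat.of k))]
  [IsProper (X ↘ Spec (CommRingCat.of k))] [IsIntegral X]

/-- **growth of sections along infinitely many `m` implies that every ample module embeds in a power of `L`** -/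
theorem sub_of_growth (n : ℕ) (hdim : topologicalKrullDim X = (n : WithBot ℕ∞))
    {H : X.Modules} (hH : CohB1.IsAmple H) {L : X.Modules} (hL : PicF.IsInvertible L) (a : ℕ)
    (hfreq : ∀ M₀ : ℕ, ∃ m, M₀ ≤ m ∧ m ^ n ≤ a * h0 k (CohB1.tensorPow L m))
    (A : X.Modules) (hA : CohB1.IsAmple A) : ∃ m : ℕ, 0 < m ∧ Sub A (CohB1.tensorPow L m) := by
  obtain ⟨t, -, ht⟩ := exists_isAmple_isGloballyGenerated hA
    (Groth.Agent.Lib.Helper28.AmpleUnit.isInvertible_structureModule X)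
  have heff : ∀ j, t ≤ j → Eff (CohB1.tensorPow A j) := by
    intro j hj
    obtain ⟨-, hgg⟩ := ht j hj
    obtain ⟨u⟩ := Groth.Agent.Lib.Helper28.AmpleUnit.nonempty_tensor_unit_iso (CohB1.tensorPow A j)
    exact sub_of_gg k _ (isInvertible_tensorPow hA.1 j)
      (Groth.Agent.Lib.Helper8.GGKill.isGloballyGenerated_of_iso u hgg)
  obtain ⟨m, hm, hsub⟩ := kodaira k n hdim hH hL (CohB1.tensorPow A (t + 1))
    (isInvertible_tensorPow hA.1 (t + 1)) (heff (t + 1) (by omega)) a hfreq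
  obtain ⟨v⟩ := Groth.Agent.Lib.Helper28.InvQC.nonempty_unit_tensor_iso A
  have h1 : Sub A (CohB1.tensorPow A (t + 1)) :=
    (Sub.of_iso v.symm).trans ((heff t le_rfl).tensor_right A (isFlat_of_isInvertible _ hA.1))
  exact ⟨m, hm, h1.trans hsub⟩

end Groth.Agent.Lib.Helper2.Kodaira
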