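import Mathlib
import Groth.Agent.Lib.Helper2.GVSupp
import Groth.Agent.Lib.Helper2.Kodaira4
set_option backward.isDefEq.respectTransparency.types false
set_option autoImplicit false
set_option linter.style.haveILetI false

/-!
# Helper2 — AsympCoh1: top cohomology of powers of a big module vanishes eventually; real limsup ⇒ frequent growth
-/

universe u
open CategoryTheory CategoryTheory.Limits AlgebraicGeometry TopologicalSpace Filter

namespace Groth.Agent.Lib.Helper2.AsympCoh1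

open Groth.Agent.Lib.Helper2.KodSub Groth.Agent.Lib.Helper8.EulerK Groth.Agent.Lib.Helper2.KodUB
  Groth.Agent.Lib.Helper6.K0Op Groth.Agent.Lib.Helper2.GVSupp Groth.Agent.Lib.Helper28.GenLocus

/-- a positive real limsup of `f m · n! / m^n` gives frequent growth `m^n ≤ a · f m` -/
theorem freq_of_real_limsup_pos (f : ℕ → ℕ) (n : ℕ)
    (h : 0 < limsup (fun m : ℕ => (f m : ℝ) * (n.factorial : ℝ) / (m : ℝ) ^ n) atTop) :
    ∃ a : ℕ, ∀ M₀ : ℕ, ∃ m, M₀ ≤ m ∧ m ^ n ≤ a * f m := by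
  obtain ⟨c, hc0, hc⟩ := exists_between h
  have hu : IsCoboundedUnder (· ≤ ·) atTop (fun m : ℕ => (f m : ℝ) * (n.factorial : ℝ) / (m : ℝ) ^ n) :=
    isCoboundedUnder_le_of_le atTop (x := 0) (fun m => by positivity)
  have hfr := frequently_lt_of_lt_limsup hu hc
  rw [frequently_atTop] at hfr
  have hfac : (0 : ℝ) < (n.factorial : ℝ) := by exact_mod_cast Nat.factorial_pos n
  apply Groth.Agent.Lib.Helper2.Kodaira.freq_of_real_lb f n (c / (n.factorial : ℝ)) (by positivity)
  intro M₀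
  obtain ⟨m, hm, hlt⟩ := hfr (max M₀ 1)
  have hm1 : 1 ≤ m := (le_max_right _ _).trans hm
  refine ⟨m, (le_max_left _ _).trans hm, ?_⟩
  have hm0 : (0 : ℝ) < (m : ℝ) := by exact_mod_cast hm1
  have hmd : (0 : ℝ) < (m : ℝ) ^ n := by positivity
  rw [lt_div_iff₀ hmd] at hlt
  rw [div_mul_eq_mul_div, div_le_iff₀ hfac]
  exact hlt.le

variable (k : Type u) [Field k] {X : Scheme.{u}} [X.Over (Spec (CommRingCat.of k))]
  [IsProper (X ↘ Spec (CommRingCat.of k))]

/-- **the top cohomology of `L^m` vanishes for all large `m` when some power of `L` contains an ample module** -/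
theorem hh_top_eventually_zero [IsIntegral X] (d : ℕ)
    (hdim : topologicalKrullDim X = ((d + 1 : ℕ) : WithBot ℕ∞))
    {H : X.Modules} (hH : CohB1.IsAmple H) {L : X.Modules} (hL : PicF.IsInvertible L)
    (ν : ℕ) (hν : 0 < ν) (hsub : Sub H (CohB1.tensorPow L ν)) :
    ∃ m₁ : ℕ, ∀ m : ℕ, m₁ ≤ m → hh k (CohB1.tensorPow L m) (d + 1) = 0 := by
  have hv : ∀ j : ℕ, ∃ q₀ : ℕ, ∀ q : ℕ, q₀ ≤ q → ∀ p : ℕ, 0 < p →
      Subsingleton (Coh.HH X (CohB1.tensorMod (CohB1.tensorPow L j) (CohB1.tensorPow H q)) p) := fun j =>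
    Groth.Agent.Lib.Helper4.AmpleSerre.vanishing_of_isAmple k X (X ↘ Spec (CommRingCat.of k)) H hH _
      (isCoh_of_isInvertible _ (isInvertible_tensorPow hL j))
  choose q₀ hq₀ using hv
  set Q := (Finset.range ν).sup q₀ with hQ
  refine ⟨ν * (Q + 1), fun m hm => ?_⟩
  set q := m / ν with hq
  set j := m % ν with hj
  have hmq : ν * q + j = m := Nat.div_add_mod m ν
  have hjν : j < ν := Nat.mod_lt m hν
  have hqQ : Q + 1 ≤ q := by
    rw [hq, Nat.le_div_iff_mul_le hν, Nat.mul_comm]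
    exact hm
  have hq₀j : q₀ j ≤ q := by
    have : q₀ j ≤ Q := Finset.le_sup (f := q₀) (Finset.mem_range.2 hjν)
    omega
  have hLν := isInvertible_tensorPow hL ν
  have hLj := isInvertible_tensorPow hL j
  have hHq := isInvertible_tensorPow hH.1 q
  have s1 : Sub (CohB1.tensorPow H q) (CohB1.tensorPow (CohB1.tensorPow L ν) q) := hsub.pow hH.1 hLν q
  obtain ⟨ψ₁, -⟩ := exists_tensorPow_tensorPow_iso hL ν q (ν * q) rfl
  have s2 : Sub (CohB1.tensorPow H q) (CohB1.tensorPow L (ν * q)) := s1.trans (Sub.of_iso ψ₁)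
  have s3 : Sub (CohB1.tensorMod (CohB1.tensorPow L j) (CohB1.tensorPow H q))
      (CohB1.tensorMod (CohB1.tensorPow L j) (CohB1.tensorPow L (ν * q))) :=
    s2.tensor_left _ (isFlat_of_isInvertible _ hLj)
  obtain ⟨ψ₂, -⟩ := exists_tensorPow_add_iso hL j (ν * q) m (by omega)
  have s4 := s3.trans (Sub.of_iso ψ₂)
  have h1 := hh_top_le_of_mono k d hdim _ _ (isInvertible_tensorMod hLj hHq) (isInvertible_tensorPow hL m) s4
  haveI := hq₀ j q hq₀j (d + 1) (Nat.succ_pos d)
  have h2 : hh k (CohB1.tensorMod (CohB1.tensorPow L j) (CohB1.tensorPow H q)) (d + 1) = 0 :=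
    Module.finrank_zero_of_subsingleton
  omega

end Groth.Agent.Lib.Helper2.AsympCoh1
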