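import Mathlib
import Groth.Agent.Lib.Helper2.NefRR4
set_option backward.isDefEq.respectTransparency.types false
set_option autoImplicit false
set_option linter.style.haveILetI false

/-!
# Helper2 — GenRR1: the class of coherent modules `F` with `h^i(L^m ⊗ F) = O(m^(dim Supp F))` for all `i`
(`L` any invertible module); dévissage given the statement for integral schemes
-/

universe u
open CategoryTheory CategoryTheory.Limits AlgebraicGeometry TopologicalSpace
open Groth.Agent.Lib.Helper17.CohKer Groth.Agent.Lib.Helper17.StalkExact Groth.Agent.Lib.Helper28.QCohLoc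

namespace Groth.Agent.Lib.Helper2.GenRR1

open Groth.Agent.Lib.Helper2.KodSub Groth.Agent.Lib.Helper8.EulerK Groth.Agent.Lib.Helper2.KodUB
  Groth.Agent.Lib.Helper6.K0Op Groth.Agent.Lib.Helper6.DevCore Groth.Agent.Lib.Helper2.TensEq
  Groth.Agent.Lib.Helper2.NefRR1 Groth.Agent.Lib.Helper2.NefRR2 Groth.Agent.Lib.Helper2.NefRR3
  Groth.Agent.Lib.Helper2.KodDev Groth.Agent.Lib.Helper6.DevRed Groth.Agent.Lib.Helper6.DevStep
  Groth.Agent.Lib.Helper29.QCohStalk

variable (k : Type u) [Field k]

/-- the statement for integral schemes of dimension `r` -/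
def GInt (r : ℕ) : Prop :=
  ∀ (Z : Scheme.{u}) [Z.Over (Spec (CommRingCat.of k))] [IsProper (Z ↘ Spec (CommRingCat.of k))] [IsIntegral Z]
    (H L : Z.Modules), CohB1.IsAmple H → PicF.IsInvertible L →
    topologicalKrullDim Z = (r : WithBot ℕ∞) → ∀ i : ℕ,
    ∃ C : ℕ, ∀ m : ℕ, 1 ≤ m → hh k (CohB1.tensorPow L m) i ≤ C * m ^ r

variable {X : Scheme.{u}} [X.Over (Spec (CommRingCat.of k))] [IsProper (X ↘ Spec (CommRingCat.of k))]

/-- the class of modules whose cohomology after twisting by powers of `L` grows at most like `m^(dim Supp)`;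
only support dimensions `≤ R` are considered -/
def genClass (L : X.Modules) (R : ℕ) : ObjectProperty X.Modules := fun F =>
  ∀ r : ℕ, r ≤ R → topologicalKrullDim (CohB1.support F) ≤ r → ∀ i : ℕ,
    ∃ C : ℕ, ∀ m : ℕ, 1 ≤ m → hh k (CohB1.tensorMod (CohB1.tensorPow L m) F) i ≤ C * m ^ r

theorem genClass_of_iso (L : X.Modules) (R : ℕ) {F G : X.Modules} (e : F ≅ G) (h : genClass k L R F) :
    genClass k L R G := by
  intro r hrR hr i
  have hs : CohB1.support F ⊆ CohB1.support G := support_subset_of_mono e.hom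
  obtain ⟨C, hC⟩ := h r hrR ((dim_mono hs).trans hr) i
  refine ⟨C, fun m hm => ?_⟩
  have h1 := hh_congr k ((T (CohB1.tensorPow L m)).mapIso e) i
  change hh k (CohB1.tensorMod (CohB1.tensorPow L m) F) i = hh k (CohB1.tensorMod (CohB1.tensorPow L m) G) i at h1
  rw [← h1]
  exact hC m hm

instance (L : X.Modules) (R : ℕ) : (genClass k L R).IsClosedUnderIsomorphisms where
  of_iso e h := genClass_of_iso k L R e h

theorem genClass_of_isZero (L : X.Modules) (R : ℕ) (F : X.Modules) (hF : IsZero F) : genClass k L R F := by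
  intro r _ _ i
  refine ⟨0, fun m _ => ?_⟩
  have hz : IsZero ((T (CohB1.tensorPow L m)).obj F) := Functor.map_isZero _ hF
  have : hh k (CohB1.tensorMod (CohB1.tensorPow L m) F) i = 0 := hh_of_isZero k _ hz i
  rw [this]
  exact Nat.zero_le _

theorem genClass_ext (L : X.Modules) (hL : PicF.IsInvertible L) (R : ℕ) (S : ShortComplex X.Modules)
    (hS : S.ShortExact)
    (h₁ : Coh.IsCoh S.X₁) (h₂ : Coh.IsCoh S.X₂) (h₃ : Coh.IsCoh S.X₃)
    (k₁ : genClass k L R S.X₁) (k₃ : genClass k L R S.X₃) : genClass k L R S.X₂ := by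
  intro r hrR hr i
  haveI := hS.mono_f
  haveI := hS.epi_g
  obtain ⟨C₁, hC₁⟩ := k₁ r hrR ((dim_mono (support_subset_of_mono S.f)).trans hr) i
  obtain ⟨C₃, hC₃⟩ := k₃ r hrR ((dim_mono (support_subset_of_epi S.g)).trans hr) i
  refine ⟨C₁ + C₃, fun m hm => ?_⟩
  have hLm := Groth.Agent.Lib.Helper28.GenLocus.isInvertible_tensorPow hL m
  have hc := isCoh_of_isInvertible _ hLm
  have hS' := shortExact_tensor_of_flat _ (isFlat_of_isInvertible _ hLm) S hS
  have hle := hh₂_le k _ hS' (isCoh_tensorMod _ _ hc h₁) (isCoh_tensorMod _ _ hc h₂)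
    (isCoh_tensorMod _ _ hc h₃) i
  have e1 := hC₁ m hm
  have e3 := hC₃ m hm
  change hh k (CohB1.tensorMod (CohB1.tensorPow L m) S.X₂) i ≤
    hh k (CohB1.tensorMod (CohB1.tensorPow L m) S.X₁) i + hh k (CohB1.tensorMod (CohB1.tensorPow L m) S.X₃) i at hle
  calc _ ≤ _ := hle
    _ ≤ C₁ * m ^ r + C₃ * m ^ r := Nat.add_le_add e1 e3
    _ = (C₁ + C₃) * m ^ r := (Nat.add_mul _ _ _).symm

section main
variable {H : X.Modules} (hH : CohB1.IsAmple H) {L : X.Modules} (hL : PicF.IsInvertible L)
  (R : ℕ) (hB : ∀ r : ℕ, r ≤ R → GInt.{u} k r)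

include hH hL hB in
/-- the class contains the coherent submodules of `O_X / J_Z`, `Z` integral -/
theorem genClass_ideal (Z : Closeds X) (hirr : IsIrreducible (Z : Set X)) (y : X) (hy : closure {y} = (Z : Set X))
    (I : X.IdealSheafData) (hI : I = Scheme.IdealSheafData.vanishingIdeal Z)
    (IH : ∀ N : X.Modules, Coh.IsCoh N → CohB1.support N ⊆ (Z : Set X) → y ∉ CohB1.support N →
      genClass k L R N)
    (N : X.Modules) (j : N ⟶ ClSub.quotMod I) (hj : Mono j)
    (hN : Coh.IsCoh N) : genClass k L R N := by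
  intro r hrR hr i
  haveI : IsNoetherian X := Groth.Agent.Lib.Helper2.IntNum1.isNoetherian k X
  haveI : IsIntegral I.subscheme := by
    rw [hI]; exact Groth.Agent.Lib.Helper6.DevRed.isIntegral_subscheme_vanishingIdeal Z hirr
  have hy' : closure {y} = (I.support : Set X) := by
    rw [hI, Scheme.IdealSheafData.coe_support_vanishingIdeal]; exact hy
  by_cases hyN : y ∈ CohB1.support N
  · have hZN : (Z : Set X) ⊆ CohB1.support N := by
      rw [← hy]
      exact (isClosed_support N hN).closure_subset_iff.2 (Set.singleton_subset_iff.2 hyN)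
    have hdimZ : topologicalKrullDim (Z : Set X) ≤ r := (dim_mono hZN).trans hr
    obtain ⟨rZ, hrZ⟩ := Groth.Agent.Lib.Helper4.NM6.exists_dim_eq k (Z : Set X) hirr.nonempty
    have hrZr : rZ ≤ r := by
      rw [hrZ] at hdimZ
      exact_mod_cast hdimZ
    letI : I.subscheme.Over (Spec (CommRingCat.of k)) := ⟨I.subschemeι ≫ (X ↘ (Spec (CommRingCat.of k)))⟩
    haveI : IsProper (I.subscheme ↘ (Spec (CommRingCat.of k))) :=
      inferInstanceAs (IsProper (I.subschemeι ≫ (X ↘ (Spec (CommRingCat.of k)))))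
    haveI : CompactSpace I.subscheme :=
      QuasiCompact.compactSpace_of_compactSpace (I.subscheme ↘ Spec (CommRingCat.of k))
    have hdim' : topologicalKrullDim I.subscheme = (rZ : WithBot ℕ∞) := by
      have h1 := I.subschemeι.isClosedEmbedding.isEmbedding.toHomeomorph.isHomeomorph.topologicalKrullDim_eq
      rw [h1, I.range_subschemeι, hI, Scheme.IdealSheafData.coe_support_vanishingIdeal]
      exact hrZ
    have hHZ : CohB1.IsAmple ((Scheme.Modules.pullback I.subschemeι).obj H) :=
      Groth.Agent.Lib.Helper28.PullbackInv.isAmple_pullback_of_isEmbedding I.subschemeι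
        I.subschemeι.isClosedEmbedding.isEmbedding H hH
    have hLZ := Groth.Agent.Lib.Helper28.PullbackInv.isInvertible_pullback I.subschemeι hL
    obtain ⟨CZ, hCZ⟩ := hB rZ (hrZr.trans hrR) I.subscheme _ _ hHZ hLZ hdim' i
    have hQc : Coh.IsCoh (ClSub.quotMod I) := Groth.Agent.Lib.Helper6.DevRed.isCoh_quotMod I
    have e2 : ∀ m : ℕ, 1 ≤ m →
        hh k (CohB1.tensorMod (CohB1.tensorPow L m) (ClSub.quotMod I)) i ≤ CZ * m ^ r := by
      intro m hm
      rw [hh_tensorPow_quotMod k I L hL m i]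
      exact (hCZ m hm).trans (Nat.mul_le_mul_left _ (Nat.pow_le_pow_right hm hrZr))
    have hTc : Coh.IsCoh (cokernel j) := isCoh_cokernel j hN hQc
    have hS : (ShortComplex.mk j (cokernel.π j) (cokernel.condition j)).ShortExact :=
      { exact := ShortComplex.exact_of_g_is_cokernel _ (cokernelIsCokernel j)
        mono_f := hj
        epi_g := inferInstanceAs (Epi (cokernel.π j)) }
    rcases Nat.eq_zero_or_pos i with rfl | hipos
    · -- degree zero: sections of a submodule
      refine ⟨CZ, fun m hm => le_trans ?_ (e2 m hm)⟩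
      have hLm := Groth.Agent.Lib.Helper28.GenLocus.isInvertible_tensorPow hL m
      have hc := isCoh_of_isInvertible _ hLm
      have hS' := shortExact_tensor_of_flat _ (isFlat_of_isInvertible _ hLm) _ hS
      have hle0 := hh₁_zero_le k _ hS' (isCoh_tensorMod _ _ hc hQc)
      change hh k (CohB1.tensorMod (CohB1.tensorPow L m) N) 0 ≤
        hh k (CohB1.tensorMod (CohB1.tensorPow L m) (ClSub.quotMod I)) 0 at hle0
      exact hle0
    have hyT : y ∉ CohB1.support (cokernel j) := by
      subst hI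
      haveI := hj
      exact notMem_support_cokernel j y (stalkHom_surjective_of_mono_quotMod Z y hy N j hyN)
    have hTZ : CohB1.support (cokernel j) ⊆ (Z : Set X) := by
      refine (support_subset_of_epi (cokernel.π j)).trans ?_
      rw [Groth.Agent.Lib.Helper6.DevRed.support_quotMod, hI, Scheme.IdealSheafData.coe_support_vanishingIdeal]
    have hdT : topologicalKrullDim (CohB1.support (cokernel j)) + 1 ≤ (rZ : WithBot ℕ∞) := by
      rw [← hrZ]
      refine Groth.Agent.Lib.Helper24.ConnDimSub.dim_add_one_le hirr (isClosed_support _ hTc) hTZ ?_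
      intro h
      apply hyT
      rw [h, ← hy]
      exact subset_closure (Set.mem_singleton y)
    have hTb : ∃ CT : ℕ, ∀ m : ℕ, 1 ≤ m →
        hh k (CohB1.tensorMod (CohB1.tensorPow L m) (cokernel j)) (i - 1) ≤ CT * m ^ r := by
      rcases Nat.eq_zero_or_pos rZ with h0 | hpos
      · subst h0
        have hbot : topologicalKrullDim (CohB1.support (cokernel j)) = ⊥ := by
          by_contra hne
          obtain ⟨a, ha⟩ := WithBot.ne_bot_iff_exists.1 hne
          rw [← ha] at hdT
          have h1 : ((a + 1 : ℕ∞) : WithBot ℕ∞) ≤ ((0 : ℕ) : WithBot ℕ∞) := by exact_mod_cast hdT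
          have h2 : (a + 1 : ℕ∞) ≤ 0 := by exact_mod_cast h1
          simp at h2
        haveI := Groth.Agent.Lib.Helper2.Kodaira.isEmpty_of_dim_eq_bot hbot
        have hemp : CohB1.support (cokernel j) = ∅ := Set.isEmpty_coe_sort.1 inferInstance
        have hz : IsZero (cokernel j) := isZero_of_support_eq_empty _ hemp
        refine ⟨0, fun m _ => ?_⟩
        have hz' : IsZero ((T (CohB1.tensorPow L m)).obj (cokernel j)) := Functor.map_isZero _ hz
        have : hh k (CohB1.tensorMod (CohB1.tensorPow L m) (cokernel j)) (i - 1) = 0 := hh_of_isZero k _ hz' _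
        rw [this]
        exact Nat.zero_le _
      · obtain ⟨d, rfl⟩ : ∃ d, rZ = d + 1 := ⟨rZ - 1, by omega⟩
        have hdT' : topologicalKrullDim (CohB1.support (cokernel j)) ≤ (d : WithBot ℕ∞) :=
          Groth.Agent.Lib.Helper4.DimChain.le_of_add_one_le_succ _ d hdT
        obtain ⟨C, hC⟩ := IH _ hTc hTZ hyT d (by omega) hdT' (i - 1)
        exact ⟨C, fun m hm => (hC m hm).trans (Nat.mul_le_mul_left _ (Nat.pow_le_pow_right hm (by omega)))⟩
    obtain ⟨CT, hCT⟩ := hTb
    refine ⟨CT + CZ, fun m hm => ?_⟩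
    have hLm := Groth.Agent.Lib.Helper28.GenLocus.isInvertible_tensorPow hL m
    have hc := isCoh_of_isInvertible _ hLm
    have hS' := shortExact_tensor_of_flat _ (isFlat_of_isInvertible _ hLm) _ hS
    obtain ⟨i', rfl⟩ : ∃ i', i = i' + 1 := ⟨i - 1, by omega⟩
    have hle := hh₁_succ_le k _ hS' (isCoh_tensorMod _ _ hc hN) (isCoh_tensorMod _ _ hc hQc)
      (isCoh_tensorMod _ _ hc hTc) i'
    change hh k (CohB1.tensorMod (CohB1.tensorPow L m) N) (i' + 1) ≤
      hh k (CohB1.tensorMod (CohB1.tensorPow L m) (cokernel j)) i' +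
        hh k (CohB1.tensorMod (CohB1.tensorPow L m) (ClSub.quotMod I)) (i' + 1) at hle
    have e1 := hCT m hm
    rw [Nat.add_sub_cancel] at e1
    calc _ ≤ _ := hle
      _ ≤ CT * m ^ r + CZ * m ^ r := Nat.add_le_add e1 (e2 m hm)
      _ = (CT + CZ) * m ^ r := (Nat.add_mul _ _ _).symm
  · haveI := hj
    have hz := Groth.Agent.Lib.Helper6.DevExt.isZero_of_mono_quotMod I y hy' j hyN
    exact genClass_of_isZero k L R N hz r hrR hr i

include hH hL hB in
/-- **dévissage**: all coherent modules are in the class -/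
theorem genClass_all (F : X.Modules) (hF : Coh.IsCoh F) : genClass k L R F := by
  haveI : IsNoetherian X := Groth.Agent.Lib.Helper2.IntNum1.isNoetherian k X
  refine devissage_core (genClass k L R) (genClass_ext k L hL R) (genClass_of_isZero k L R) Set.univ ?_
    isClosed_univ F hF (Set.subset_univ _)
  intro Z hZc hZi _ y hy IH Q hQ hQZ hyQ
  exact Groth.Agent.Lib.Helper6.DevExt.step_ext (genClass k L R)
    (fun M N e h => genClass_of_iso k L R e.some h) (genClass_ext k L hL R) ⟨Z, hZc⟩ hZi y hy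
    (fun N j hj hN => genClass_ideal k hH hL R hB ⟨Z, hZc⟩ hZi y hy _ rfl IH N j hj hN) IH Q hQ hQZ hyQ

end main

end Groth.Agent.Lib.Helper2.GenRR1
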