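import Groth.Agent.Lib.Helper2.KL2
import Groth.Agent.Lib.Helper2.IntNum7
import Groth.Agent.Lib.Helper4.Snapper13
import Mathlib
set_option backward.isDefEq.respectTransparency.types false
set_option autoImplicit false
set_option linter.style.haveILetI false

/-!
# Intersection numbers, VIII: the mixed coefficient of the Snapper polynomial is `± χ(Π (1 - [M_i]) c)` (helper2)

Bridge between helper4's `inter` (top mixed difference of `n ↦ χ(Π [L_i]^{n_i} c)`) and `chi ∘ Psi`.
-/

universe u
open CategoryTheory CategoryTheory.Limits AlgebraicGeometry Opposite TopologicalSpace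

namespace Groth.Agent.Lib.Helper2.IntNum8
open Groth.Agent.Lib.Helper6.K0Filt Groth.Agent.Lib.Helper6.K0Len Groth.Agent.Lib.Helper6.K0Op
  Groth.Agent.Lib.Helper6.K0Tensor Groth.Agent.Lib.Helper4.Snapper Groth.Agent.Lib.Helper2.IntNum1
  Groth.Agent.Lib.Helper2.IntNum2 Groth.Agent.Lib.Helper2.IntNum4 Groth.Agent.Lib.Helper4.NumPoly

variable {X : Scheme.{u}}

theorem pair_list_prod {r : ℕ} (L : _root_.Fin r → X.Modules) (hL : ∀ i, PicF.IsInvertible (L i)) (c : K0 X)
    (l : List (_root_.Fin r)) :
    pair (fun n => W r L n c) ((l.map (fun i => (MvPolynomial.X i - 1 : MvPolynomial (_root_.Fin r) ℤ))).prod) =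
      ((l.map (fun i => Top (L i) - 1)).prod : AddMonoid.End (K0 X)) c := by
  induction l with
  | nil =>
    rw [List.map_nil, List.prod_nil, List.map_nil, List.prod_nil, pair_one, W_zero]
  | cons i l ih =>
    rw [List.map_cons, List.prod_cons, List.map_cons, List.prod_cons, mul_comm, pair_mul_X_sub_one]
    have hΔ : Δ i (fun n => W r L n c) = fun n => (Top (L i) - 1 : AddMonoid.End (K0 X)) (W r L n c) := by
      funext n
      show W r L (n + Pi.single i 1) c - W r L n c = _
      rw [W_add_single r L hL n i]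
      rfl
    rw [hΔ]
    let φ : K0 X →+ K0 X := (Top (L i) - 1 : AddMonoid.End (K0 X))
    refine (pair_comp φ (fun n => W r L n c) _).trans ?_
    rw [ih]
    rfl

theorem topDiff_eq {r : ℕ} (L : _root_.Fin r → X.Modules) (hL : ∀ i, PicF.IsInvertible (L i)) (c : K0 X) :
    topDiff r L c = (((List.finRange r).map (fun i => Top (L i) - 1)).prod : AddMonoid.End (K0 X)) c := by
  rw [← pair_list_prod L hL c]
  show pair (fun n => W r L n c) (Y fun _ => 1) = _
  congr 1
  unfold Y
  simp only [pow_one]
  exact Fin.prod_univ_def _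

theorem Psi_eq_neg_one_pow {r : ℕ} (L : _root_.Fin r → X.Modules) :
    Psi L = (-1 : AddMonoid.End (K0 X)) ^ r * ((List.finRange r).map (fun i => Top (L i) - 1)).prod := by
  unfold Psi
  have h : (List.finRange r).map (fun i => (1 - Top (L i) : AddMonoid.End (K0 X))) =
      ((List.finRange r).map (fun i => Top (L i) - 1)).map Neg.neg := by
    rw [List.map_map]
    apply List.map_congr_left
    intro i _
    simp
  rw [h]
  refine (List.prod_map_neg (M := AddMonoid.End (K0 X)) _).trans ?_
  rw [List.length_map, List.length_finRange]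

section field
variable (k : Type u) [Field k] (X : Scheme.{u}) [X.Over (Spec (CommRingCat.of k))]
    [IsProper (X ↘ (Spec (CommRingCat.of k)))]

theorem eulerHom_eq_chi : eulerHom k X = chi k X := rfl

/-- helper4's intersection functional is `(-1)^d χ(Π (1 - [L_i]) c)` -/
theorem inter_eq {d : ℕ} (L : _root_.Fin d → X.Modules) (hL : ∀ i, PicF.IsInvertible (L i)) (c : K0 X) :
    inter k X d L c = (-1) ^ d * chi k X (Psi L c) := by
  show eulerHom k X (topDiff d L c) = _
  rw [topDiff_eq L hL c, Psi_eq_neg_one_pow, eulerHom_eq_chi]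
  rcases Nat.even_or_odd d with hd | hd
  · rw [show ((-1 : AddMonoid.End (K0 X)) ^ d) = 1 from hd.neg_one_pow (α := AddMonoid.End (K0 X)),
      show ((-1 : ℤ) ^ d) = 1 from hd.neg_one_pow, one_mul, one_mul]
  · rw [show ((-1 : AddMonoid.End (K0 X)) ^ d) = -1 from hd.neg_one_pow (α := AddMonoid.End (K0 X)),
      show ((-1 : ℤ) ^ d) = -1 from hd.neg_one_pow, neg_one_mul]
    rw [show (-1 * ((List.finRange d).map (fun i => Top (L i) - 1)).prod : AddMonoid.End (K0 X)) =
      -((List.finRange d).map (fun i => Top (L i) - 1)).prod from neg_one_mul (α := AddMonoid.End (K0 X)) _]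
    change _ = - chi k X (- _)
    rw [map_neg, neg_neg]
    rfl

end field

end Groth.Agent.Lib.Helper2.IntNum8
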