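import Mathlib
import Groth.Agent.Lib.Helper2.NefRR4
import Groth.Agent.Lib.Helper2.IntNum8
set_option backward.isDefEq.respectTransparency.types false
set_option autoImplicit false
set_option linter.style.haveILetI false

/-!
# Helper2 — NefRR5: `h^i(L^m) = O(m^(n-1))` for `i ≥ 1`, `L` nef on an integral projective scheme of dimension `n`
-/

universe u
open CategoryTheory CategoryTheory.Limits AlgebraicGeometry TopologicalSpace

namespace Groth.Agent.Lib.Helper2.NefRR5

open Groth.Agent.Lib.Helper2.KodSub Groth.Agent.Lib.Helper8.EulerK Groth.Agent.Lib.Helper2.KodUB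
  Groth.Agent.Lib.Helper6.K0Op Groth.Agent.Lib.Helper6.DevCore Groth.Agent.Lib.Helper2.TensEq
  Groth.Agent.Lib.Helper2.NefRR1 Groth.Agent.Lib.Helper2.NefRR2 Groth.Agent.Lib.Helper2.NefRR3
  Groth.Agent.Lib.Helper2.NefRR4
  Groth.Agent.Lib.Helper2.KodDev Groth.Agent.Lib.Helper4.KLM4 Groth.Agent.Lib.Helper6.K0Len
  Groth.Agent.Lib.Helper4.Snapper Groth.Agent.Lib.Helper4.KLM1 Groth.Agent.Lib.Helper6.K0Filt
  Groth.Agent.Lib.Helper2.IntNum1

variable (k : Type u) [Field k] {X : Scheme.{u}} [X.Over (Spec (CommRingCat.of k))]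
  [IsProper (X ↘ Spec (CommRingCat.of k))]

include k in
/-- on classes of dimension `≤ n`, `(1 - [L⁻¹])^n = ([L] - 1)^n` -/
theorem one_sub_top_pow_apply {L L' : X.Modules} (hL : PicF.IsInvertible L)
    (e : CohB1.tensorMod L L' ≅ Coh.structureModule X) (n : ℕ) (c : K0 X) (hc : c ∈ Hlt X (n + 1)) :
    ((1 - Top L') ^ n) c = ((Top L - 1) ^ n) c := by
  haveI : IsNoetherian X := isNoetherian k X
  have hL' : PicF.IsInvertible L' := Groth.Agent.Lib.Helper6.K0Inv.isInvertible_of_tensor_iso L L' hL e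
  have h1 : Top L * Top L' = 1 := Groth.Agent.Lib.Helper2.IntNum2.Top_mul_Top_eq_one L L' hL e
  have hcomm : Top L' * Top L = Top L * Top L' := Top_comm L' L hL' hL
  have h2 : (1 - Top L' : AddMonoid.End (K0 X)) = Top L' * (Top L - 1) := by
    rw [mul_sub, mul_one, hcomm, h1]
  have hc2 : Commute (Top L') (Top L - 1) := by
    apply Commute.sub_right
    · exact hcomm
    · exact Commute.one_right _
  rw [h2, hc2.mul_pow]
  show (Top L' ^ n) (((Top L - 1) ^ n) c) = _
  apply top_pow_apply hL' n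
  have := ((Low.top_sub_one hL).pow n).map 1 c (by rw [Nat.add_comm]; exact hc)
  exact this

/-- **Kleiman**: the top self-intersection number of a nef module on an integral projective scheme is nonnegative -/
theorem chi_top_nonneg [IsIntegral X] (n : ℕ) (hdim : topologicalKrullDim X = (n : WithBot ℕ∞))
    {H : X.Modules} (hH : CohB1.IsAmple H) {L L' : X.Modules} (hL : PicF.IsInvertible L) (hnef : Nef k X L)
    (e : CohB1.tensorMod L L' ≅ Coh.structureModule X) :
    0 ≤ chi k X (((1 - Top L') ^ n) (cls (Coh.structureModule X))) := by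
  haveI : IsNoetherian X := isNoetherian k X
  have hO : Coh.IsCoh (Coh.structureModule X) := Groth.Agent.Lib.Helper6.DevRed.isCoh_structureModule
  have hc : cls (Coh.structureModule X) ∈ Hlt X (n + 1) := by
    apply cls_mem_Hlt _ hO n
    rw [← hdim]
    exact topologicalKrullDim_subspace_le X _
  rw [one_sub_top_pow_apply k hL e n _ hc]
  have h := kleiman k n X L H hL hnef hH hdim n le_rfl
  rw [Nat.sub_self, pow_zero, mul_one] at h
  exact h

include k in
/-- the Euler characteristic split into `h⁰ - h¹ +` the rest, on a scheme of dimension `≤ d + 1` -/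
theorem euler_split (d : ℕ) (hdim : topologicalKrullDim X ≤ ((d + 1 : ℕ) : WithBot ℕ∞)) (F : X.Modules) :
    Curv2.euler k X F = (hh k F 0 : ℤ) - (hh k F 1 : ℤ) +
      ∑ p ∈ Finset.range d, (-1 : ℤ) ^ p * (hh k F (p + 2) : ℤ) := by
  haveI : IsNoetherian X := isNoetherian k X
  haveI : NoetherianSpace ↑X.toTopCat := inferInstanceAs (NoetherianSpace X)
  rw [euler_eq_sum k X F (d + 2) (fun p hp =>
    Groth.Agent.Lib.Helper17.GV.grothendieck_vanishing (X := X.toTopCat) (d + 1) hdim (Coh.toAb F) p (by omega))]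
  rw [Finset.sum_range_succ', Finset.sum_range_succ']
  simp only [pow_zero, one_mul, zero_add, pow_one, neg_mul]
  have : ∀ p : ℕ, (-1 : ℤ) ^ (p + 1 + 1) = (-1) ^ p := fun p => by rw [pow_succ, pow_succ]; ring
  simp only [this]
  unfold hh
  ring

section step
variable [IsIntegral X] (d : ℕ) (hdim : topologicalKrullDim X = ((d + 1 : ℕ) : WithBot ℕ∞))
  {H : X.Modules} (hH : CohB1.IsAmple H) {L : X.Modules} (hL : PicF.IsInvertible L) (hnef : Nef k X L)
  (hA : ∀ F : X.Modules, Coh.IsCoh F → nefClass k L d F)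

include hdim hH hL hnef hA in
/-- degree `1` -/
theorem bound_one :
    ∃ C : ℕ, ∀ m : ℕ, 1 ≤ m → hh k (CohB1.tensorPow L m) 1 ≤ C * bd (d + 1) m := by
  have hOi := Groth.Agent.Lib.Helper28.AmpleUnit.isInvertible_structureModule X
  have hO : Coh.IsCoh (Coh.structureModule X) := Groth.Agent.Lib.Helper6.DevRed.isCoh_structureModule
  by_cases hB : ∃ m₀ : ℕ, 1 ≤ m₀ ∧ hh k (CohB1.tensorPow L m₀) 0 ≠ 0
  · obtain ⟨m₀, hm₀, hne⟩ := hB
    have hLm₀ := Groth.Agent.Lib.Helper28.GenLocus.isInvertible_tensorPow hL m₀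
    have hnt : Nontrivial (Coh.HH X (CohB1.tensorPow L m₀) 0) := by
      haveI := finite_HH k X _ (isCoh_of_isInvertible _ hLm₀) 0
      exact Module.finrank_pos_iff.1 (Nat.pos_of_ne_zero hne)
    obtain ⟨s, hs⟩ := Groth.Agent.Lib.Helper2.IntNum7.exists_hom_ne_zero_of_nontrivial_HH _ hnt
    have hsm : Mono s := Groth.Agent.Lib.Helper8.CurveInv.mono_of_ne_zero hOi hLm₀ s hs
    obtain ⟨hTc, hTd, hS⟩ := coker_of_mono k d hdim _ hLm₀ s hsm
    obtain ⟨C, hC⟩ := hA _ hTc d le_rfl hTd 1 le_rfl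
    apply rec_bound (fun m => hh k (CohB1.tensorPow L m) 1) m₀ hm₀ C d
    intro m hm
    have hLm := Groth.Agent.Lib.Helper28.GenLocus.isInvertible_tensorPow hL m
    have hP := (les_bounds k hLm₀ s hS hTc (CohB1.tensorPow L m) hLm 1).2
    obtain ⟨ψ, -⟩ := Groth.Agent.Lib.Helper28.GenLocus.exists_tensorPow_add_iso hL m m₀ (m + m₀) rfl
    rw [hh_congr k ψ 1] at hP
    exact hP.trans (Nat.add_le_add_left (hC m hm) _)
  · push Not at hB
    have h2 : ∀ p : ℕ, ∃ C : ℕ, ∀ m : ℕ, 1 ≤ m → hh k (CohB1.tensorPow L m) (p + 2) ≤ C * bd (d + 1) m :=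
      fun p => bound_ge_two k d hdim hH hL hA (p + 2) (by omega)
    choose Cp hCp using h2
    obtain ⟨c, hc, hctop⟩ := euler_tensorPow_eq k (d + 1) hdim.le L hL _ hO
    set L' := Groth.Agent.Lib.Helper28.HomMod.dual L with hL'
    obtain ⟨e0⟩ := Groth.Agent.Lib.Helper8.InvInverse.isInverseOf_dual hL
    have e : CohB1.tensorMod L L' ≅ Coh.structureModule X :=
      Groth.Agent.Lib.Helper6.K0Inv.braidIso L L' ≪≫ e0
    have hcn : 0 ≤ c (d + 1) := by
      rw [hctop]
      exact chi_top_nonneg k (d + 1) hdim hH hL hnef e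
    obtain ⟨C', hC'⟩ := Groth.Agent.Lib.Helper2.KodPoly.exists_ub d (fun j => - c j)
    refine ⟨C' + ∑ p ∈ Finset.range d, Cp p, fun m hm => ?_⟩
    have hLm := Groth.Agent.Lib.Helper28.GenLocus.isInvertible_tensorPow hL m
    obtain ⟨v⟩ := Groth.Agent.Lib.Helper28.InvQC.nonempty_unit_tensor_iso (CohB1.tensorPow L m)
    have heu := hc m
    rw [euler_congr k v, euler_split k d hdim.le, hB m hm, Finset.sum_range_succ] at heu
    have hub := hC' m hm
    have hrest : ∑ p ∈ Finset.range d, (-1 : ℤ) ^ p * (hh k (CohB1.tensorPow L m) (p + 2) : ℤ) ≤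
        ∑ p ∈ Finset.range d, ((Cp p * m ^ d : ℕ) : ℤ) := by
      apply Finset.sum_le_sum
      intro p _
      have h3 : (hh k (CohB1.tensorPow L m) (p + 2) : ℤ) ≤ ((Cp p * m ^ d : ℕ) : ℤ) := by
        exact_mod_cast hCp p m hm
      have h4 : (0 : ℤ) ≤ (hh k (CohB1.tensorPow L m) (p + 2) : ℤ) := Int.natCast_nonneg _
      rcases neg_one_pow_eq_or ℤ p with h5 | h5
      · rw [h5, one_mul]; exact h3
      · rw [h5]
        have : (0 : ℤ) ≤ ((Cp p * m ^ d : ℕ) : ℤ) := Int.natCast_nonneg _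
        linarith
    have hchoose : (0 : ℤ) ≤ c (d + 1) * ((m + (d + 1)).choose (d + 1) : ℤ) :=
      mul_nonneg hcn (Int.natCast_nonneg _)
    have hfin : (hh k (CohB1.tensorPow L m) 1 : ℤ) ≤
        ((C' + ∑ p ∈ Finset.range d, Cp p : ℕ) : ℤ) * (m : ℤ) ^ d := by
      have e1 : ∑ j ∈ Finset.range (d + 1), (- c j) * ((m + j).choose j : ℤ) =
          - ∑ j ∈ Finset.range (d + 1), c j * ((m + j).choose j : ℤ) := by
        rw [← Finset.sum_neg_distrib]
        apply Finset.sum_congr rfl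
        intro j _
        ring
      rw [e1] at hub
      have e2 : ∑ p ∈ Finset.range d, ((Cp p * m ^ d : ℕ) : ℤ) =
          ((∑ p ∈ Finset.range d, Cp p : ℕ) : ℤ) * (m : ℤ) ^ d := by
        push_cast
        rw [Finset.sum_mul]
      rw [e2] at hrest
      push_cast at hrest ⊢
      push_cast at heu
      nlinarith [hub, hrest, heu, hchoose]
    rw [bd_succ]
    exact_mod_cast hfin

include hdim hH hL hnef hA in
/-- all degrees `≥ 1` -/
theorem bound_all (i : ℕ) (hi : 1 ≤ i) :
    ∃ C : ℕ, ∀ m : ℕ, 1 ≤ m → hh k (CohB1.tensorPow L m) i ≤ C * bd (d + 1) m := by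
  rcases Nat.lt_or_ge 1 i with h | h
  · exact bound_ge_two k d hdim hH hL hA i h
  · obtain rfl : i = 1 := by omega
    exact bound_one k d hdim hH hL hnef hA

end step

/-- **the statement for integral schemes, in every dimension** -/
theorem bint_all : ∀ r : ℕ, BInt.{u} k r := by
  intro r
  induction r using Nat.strong_induction_on with
  | _ r IH =>
    intro Z _ _ _ H L hH hL hnef hdim i hi
    rcases Nat.eq_zero_or_pos r with rfl | hr
    · refine ⟨0, fun m _ => ?_⟩
      haveI : IsNoetherian Z := isNoetherian k Z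
      haveI : NoetherianSpace ↑Z.toTopCat := inferInstanceAs (NoetherianSpace Z)
      haveI : Subsingleton (Coh.HH Z (CohB1.tensorPow L m) i) :=
        Groth.Agent.Lib.Helper17.GV.grothendieck_vanishing (X := Z.toTopCat) 0 hdim.le
          (Coh.toAb (CohB1.tensorPow L m)) i (by omega)
      have : hh k (CohB1.tensorPow L m) i = 0 := Module.finrank_zero_of_subsingleton
      rw [this]
      exact Nat.zero_le _
    · obtain ⟨d, rfl⟩ : ∃ d, r = d + 1 := ⟨r - 1, by omega⟩
      exact bound_all k d hdim hH hL hnef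
        (fun F hF => nefClass_all k hH hL hnef d (fun r' hr' => IH r' (by omega)) F hF) i hi

end Groth.Agent.Lib.Helper2.NefRR5
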