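import Mathlib
import Groth.Agent.Lib.Helper2.GenRR1
import Groth.Agent.Lib.Helper2.NefRR5
set_option backward.isDefEq.respectTransparency.types false
set_option autoImplicit false
set_option linter.style.haveILetI false

/-!
# Helper2 — GenRR2: `h^i(F ⊗ L^m) = O(m^(dim Supp F))` for every `i`, every coherent `F` and every invertible `L`
on a projective scheme over a field
-/

universe u
open CategoryTheory CategoryTheory.Limits AlgebraicGeometry TopologicalSpace

namespace Groth.Agent.Lib.Helper2.GenRR2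

open Groth.Agent.Lib.Helper2.KodSub Groth.Agent.Lib.Helper8.EulerK Groth.Agent.Lib.Helper2.KodUB
  Groth.Agent.Lib.Helper6.K0Op Groth.Agent.Lib.Helper6.DevCore Groth.Agent.Lib.Helper2.TensEq
  Groth.Agent.Lib.Helper2.NefRR1 Groth.Agent.Lib.Helper2.NefRR2 Groth.Agent.Lib.Helper2.NefRR3
  Groth.Agent.Lib.Helper2.NefRR4 Groth.Agent.Lib.Helper2.GenRR1
  Groth.Agent.Lib.Helper2.KodDev Groth.Agent.Lib.Helper2.IntNum1

variable (k : Type u) [Field k] {X : Scheme.{u}} [X.Over (Spec (CommRingCat.of k))]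
  [IsProper (X ↘ Spec (CommRingCat.of k))]

section step
variable [IsIntegral X] (d : ℕ) (hdim : topologicalKrullDim X = ((d + 1 : ℕ) : WithBot ℕ∞))
  {H : X.Modules} (hH : CohB1.IsAmple H) {L : X.Modules} (hL : PicF.IsInvertible L)
  (hA : ∀ F : X.Modules, Coh.IsCoh F → genClass k L d F)

include hdim hH hL hA in
/-- degrees `≥ 1` on an integral scheme of dimension `d + 1` -/
theorem bound_pos (i : ℕ) (hi : 1 ≤ i) :
    ∃ C : ℕ, ∀ m : ℕ, 1 ≤ m → hh k (CohB1.tensorPow L m) i ≤ C * m ^ (d + 1) := by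
  have hOi := Groth.Agent.Lib.Helper28.AmpleUnit.isInvertible_structureModule X
  obtain ⟨n₁, -, h1⟩ := Groth.Agent.Lib.Helper28.GenLocus.exists_isAmple_isGloballyGenerated hH hL
  obtain ⟨n₂, -, h2⟩ := Groth.Agent.Lib.Helper28.GenLocus.exists_isAmple_isGloballyGenerated hH hOi
  set b := max n₁ n₂ with hb
  have hHb : PicF.IsInvertible (CohB1.tensorPow H b) :=
    Groth.Agent.Lib.Helper28.GenLocus.isInvertible_tensorPow hH.1 b
  obtain ⟨-, hgg1⟩ := h1 b (le_max_left _ _)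
  obtain ⟨-, hgg2⟩ := h2 b (le_max_right _ _)
  obtain ⟨u⟩ := Groth.Agent.Lib.Helper28.AmpleUnit.nonempty_tensor_unit_iso (CohB1.tensorPow H b)
  have hgg2' : Curv2.IsGloballyGenerated (CohB1.tensorPow H b) :=
    Groth.Agent.Lib.Helper8.GGKill.isGloballyGenerated_of_iso u hgg2
  have hM₁ : PicF.IsInvertible (CohB1.tensorMod L (CohB1.tensorPow H b)) :=
    Groth.Agent.Lib.Helper28.GenLocus.isInvertible_tensorMod hL hHb
  have hM₁' : PicF.IsInvertible (CohB1.tensorMod (CohB1.tensorPow H b) L) :=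
    Groth.Agent.Lib.Helper28.GenLocus.isInvertible_tensorMod hHb hL
  obtain ⟨s₁, hs₁⟩ := (sub_of_gg k _ hM₁' hgg1).trans
    (Sub.of_iso (Groth.Agent.Lib.Helper6.K0Inv.braidIso (CohB1.tensorPow H b) L))
  obtain ⟨s₂, hs₂⟩ := sub_of_gg k _ hHb hgg2'
  obtain ⟨hT₁c, hT₁d, hS₁⟩ := coker_of_mono k d hdim _ hM₁ s₁ hs₁
  obtain ⟨hT₂c, hT₂d, hS₂⟩ := coker_of_mono k d hdim _ hHb s₂ hs₂
  obtain ⟨C₁, hC₁⟩ := hA _ hT₁c d le_rfl hT₁d i
  obtain ⟨C₂, hC₂⟩ := hA _ hT₂c d le_rfl hT₂d (i - 1)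
  have hrec := rec_bound (fun m => hh k (CohB1.tensorPow L m) i) 1 le_rfl (C₂ * 2 ^ d + C₁) (d + 1) ?_
  · obtain ⟨C', hC'⟩ := hrec
    exact ⟨C', fun m hm => by have := hC' m hm; rwa [bd_succ] at this⟩
  intro m hm
  rw [bd_succ]
  obtain ⟨i', rfl⟩ : ∃ i', i = i' + 1 := ⟨i - 1, by omega⟩
  have hLm := Groth.Agent.Lib.Helper28.GenLocus.isInvertible_tensorPow hL m
  have hLm1 := Groth.Agent.Lib.Helper28.GenLocus.isInvertible_tensorPow hL (m + 1)
  have hP1 := (les_bounds k hHb s₂ hS₂ hT₂c (CohB1.tensorPow L (m + 1)) hLm1 i').1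
  have hP2 := (les_bounds k hM₁ s₁ hS₁ hT₁c (CohB1.tensorPow L m) hLm (i' + 1)).2
  have iso : hh k (CohB1.tensorMod (CohB1.tensorPow L (m + 1)) (CohB1.tensorPow H b)) (i' + 1) =
      hh k (CohB1.tensorMod (CohB1.tensorPow L m) (CohB1.tensorMod L (CohB1.tensorPow H b))) (i' + 1) :=
    hh_congr k (Groth.Agent.Lib.Helper16.TA.assocIso (CohB1.tensorPow L m) L (CohB1.tensorPow H b)) (i' + 1)
  have e1 := hC₁ m hm
  have e2 := hC₂ (m + 1) (by omega)
  rw [Nat.add_sub_cancel] at e2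
  have e3 : (m + 1) ^ d ≤ 2 ^ d * m ^ d := by
    calc (m + 1) ^ d ≤ (2 * m) ^ d := Nat.pow_le_pow_left (by omega) d
      _ = 2 ^ d * m ^ d := Nat.mul_pow 2 m d
  show hh k (CohB1.tensorPow L (m + 1)) (i' + 1) ≤ hh k (CohB1.tensorPow L m) (i' + 1) + (C₂ * 2 ^ d + C₁) * m ^ d
  rw [iso] at hP1
  calc hh k (CohB1.tensorPow L (m + 1)) (i' + 1)
      ≤ hh k (CohB1.tensorMod (CohB1.tensorPow L (m + 1)) (cokernel s₂)) i' +
          hh k (CohB1.tensorMod (CohB1.tensorPow L m) (CohB1.tensorMod L (CohB1.tensorPow H b))) (i' + 1) := hP1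
    _ ≤ C₂ * (m + 1) ^ d + (hh k (CohB1.tensorPow L m) (i' + 1) +
          hh k (CohB1.tensorMod (CohB1.tensorPow L m) (cokernel s₁)) (i' + 1)) := Nat.add_le_add e2 hP2
    _ ≤ C₂ * (2 ^ d * m ^ d) + (hh k (CohB1.tensorPow L m) (i' + 1) + C₁ * m ^ d) :=
        Nat.add_le_add (Nat.mul_le_mul_left _ e3) (Nat.add_le_add_left e1 _)
    _ = hh k (CohB1.tensorPow L m) (i' + 1) + (C₂ * 2 ^ d + C₁) * m ^ d := by ring

end step

/-- **the statement for integral schemes, in every dimension** -/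
theorem gint_all : ∀ r : ℕ, GInt.{u} k r := by
  intro r
  induction r using Nat.strong_induction_on with
  | _ r IH =>
    intro Z _ _ _ H L hH hL hdim i
    rcases Nat.eq_zero_or_pos i with rfl | hi
    · exact ub_integral k r hdim.le H hH L hL
    rcases Nat.eq_zero_or_pos r with rfl | hr
    · refine ⟨0, fun m _ => ?_⟩
      haveI : IsNoetherian Z := isNoetherian k Z
      haveI : NoetherianSpace ↑Z.toTopCat := inferInstanceAs (NoetherianSpace Z)
      haveI : Subsingleton (Coh.HH Z (CohB1.tensorPow L m) i) :=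
        Groth.Agent.Lib.Helper17.GV.grothendieck_vanishing (X := Z.toTopCat) 0 hdim.le
          (Coh.toAb (CohB1.tensorPow L m)) i (by omega)
      have : hh k (CohB1.tensorPow L m) i = 0 := Module.finrank_zero_of_subsingleton
      rw [this]
      exact Nat.zero_le _
    · obtain ⟨d, rfl⟩ : ∃ d, r = d + 1 := ⟨r - 1, by omega⟩
      exact bound_pos k d hdim hH hL
        (fun F hF => genClass_all k hH hL d (fun r' hr' => IH r' (by omega)) F hF) i hi

/-- **`h^i(F ⊗ L^m) = O(m^r)`** for `F` coherent with `dim Supp F ≤ r`, every `i` and every invertible `L`, on a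
projective scheme over a field -/
theorem hh_general {H : X.Modules} (hH : CohB1.IsAmple H) {L : X.Modules} (hL : PicF.IsInvertible L)
    (F : X.Modules) (hF : Coh.IsCoh F) (r : ℕ)
    (hr : topologicalKrullDim (CohB1.support F) ≤ r) (i : ℕ) :
    ∃ C : ℕ, ∀ m : ℕ, 1 ≤ m → hh k (CohB1.tensorMod F (CohB1.tensorPow L m)) i ≤ C * m ^ r := by
  obtain ⟨C, hC⟩ := genClass_all k hH hL r (fun r' _ => gint_all k r') F hF r le_rfl hr i
  refine ⟨C, fun m hm => ?_⟩
  rw [hh_congr k (Groth.Agent.Lib.Helper6.K0Inv.braidIso F (CohB1.tensorPow L m)) i]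
  exact hC m hm

end Groth.Agent.Lib.Helper2.GenRR2
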