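import Mathlib
import Groth.Agent.Lib.Helper2.GenRR2
import Groth.Prelude.Def_W4c5asymptcohfnACF
set_option backward.isDefEq.respectTransparency.types false
set_option autoImplicit false
set_option linter.style.haveILetI false

/-!
# Helper2 — AsympCoh2: asymptotic cohomological functions do not see modules with small support
-/

universe u
open CategoryTheory CategoryTheory.Limits AlgebraicGeometry TopologicalSpace Filter
open scoped Topology

namespace Groth.Agent.Lib.Helper2.AsympCoh2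

open Groth.Agent.Lib.Helper2.KodSub Groth.Agent.Lib.Helper8.EulerK Groth.Agent.Lib.Helper2.KodUB
  Groth.Agent.Lib.Helper6.K0Op Groth.Agent.Lib.Helper2.GenRR2 Groth.Agent.Lib.Helper28.GenLocus
  Groth.Agent.Lib.Helper2.NefRR2 Groth.Agent.Lib.Helper6.DevCore Groth.Agent.Lib.Helper2.TensEq

/-- two nonnegative bounded real sequences whose difference tends to zero have the same limsup -/
theorem limsup_le_of_abs_sub_le {u v w : ℕ → ℝ} (B : ℝ) (hu0 : ∀ m, 0 ≤ u m)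
    (hvB : ∀ᶠ m in atTop, v m ≤ B) (hv0 : ∀ m, 0 ≤ v m)
    (hw : Tendsto w atTop (𝓝 0)) (h : ∀ᶠ m in atTop, |u m - v m| ≤ w m) :
    limsup u atTop ≤ limsup v atTop := by
  apply le_of_forall_pos_le_add
  intro ε hε
  have hev : ∀ᶠ m in atTop, u m ≤ v m + ε := by
    have h1 : ∀ᶠ m in atTop, w m < ε := hw.eventually (gt_mem_nhds hε)
    filter_upwards [h, h1] with m hm1 hm2
    have := le_abs_self (u m - v m)
    linarith
  have hcob : IsCoboundedUnder (· ≤ ·) atTop u := isCoboundedUnder_le_of_le atTop (x := 0) hu0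
  have hcobv : IsCoboundedUnder (· ≤ ·) atTop v := isCoboundedUnder_le_of_le atTop (x := 0) hv0
  have hbv : IsBoundedUnder (· ≤ ·) atTop v := isBoundedUnder_of_eventually_le hvB
  have hbv' : IsBoundedUnder (· ≤ ·) atTop (fun m => v m + ε) :=
    isBoundedUnder_of_eventually_le (a := B + ε) (by filter_upwards [hvB] with m hm; linarith)
  calc limsup u atTop ≤ limsup (fun m => v m + ε) atTop := limsup_le_limsup hev hcob hbv'
    _ = limsup v atTop + ε := limsup_add_const atTop v ε hbv hcobv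

theorem limsup_eq_of_abs_sub_le {u v w : ℕ → ℝ} (B : ℝ) (hu0 : ∀ m, 0 ≤ u m) (hv0 : ∀ m, 0 ≤ v m)
    (huB : ∀ᶠ m in atTop, u m ≤ B) (hvB : ∀ᶠ m in atTop, v m ≤ B)
    (hw : Tendsto w atTop (𝓝 0)) (h : ∀ᶠ m in atTop, |u m - v m| ≤ w m) :
    limsup u atTop = limsup v atTop := by
  apply le_antisymm
  · exact limsup_le_of_abs_sub_le B hu0 hvB hv0 hw h
  · refine limsup_le_of_abs_sub_le B hv0 huB hu0 hw ?_
    filter_upwards [h] with m hm
    rwa [abs_sub_comm]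

theorem le_of_lt_succ_withBot (a : WithBot ℕ∞) (d : ℕ) (h : a < ((d + 1 : ℕ) : WithBot ℕ∞)) :
    a ≤ (d : WithBot ℕ∞) := by
  induction a using WithBot.recBotCoe with
  | bot => exact bot_le
  | coe a =>
    have h1 : (a : ℕ∞) < ((d + 1 : ℕ) : ℕ∞) := by exact_mod_cast h
    have h2 : a ≤ (d : ℕ∞) := by
      have h3 : a < (d : ℕ∞) + 1 := by exact_mod_cast h1
      exact (ENat.lt_add_one_iff (ENat.coe_ne_top d)).1 h3
    exact_mod_cast h2

variable (k : Type u) [Field k] {X : Scheme.{u}} [X.Over (Spec (CommRingCat.of k))]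
  [IsProper (X ↘ Spec (CommRingCat.of k))]

/-- abbreviation: `h^i(F ⊗ L^m)` -/
noncomputable def tw (F L : X.Modules) (i m : ℕ) : ℕ := hh k (CohB1.tensorMod F (CohB1.tensorPow L m)) i

/-- smallness: `h^j(A ⊗ L^m) · m ≤ D · m^n` -/
def Small (n : ℕ) (A L : X.Modules) : Prop :=
  ∀ j : ℕ, ∃ D : ℕ, ∀ m : ℕ, 1 ≤ m → tw k A L j m * m ≤ D * m ^ n

theorem small_of_dim_lt {H : X.Modules} (hH : CohB1.IsAmple H) {L : X.Modules} (hL : PicF.IsInvertible L)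
    (n : ℕ) (A : X.Modules) (hA : Coh.IsCoh A)
    (hdim : topologicalKrullDim (CohB1.support A) < (n : WithBot ℕ∞)) : Small k n A L := by
  intro j
  rcases Nat.eq_zero_or_pos n with rfl | hn
  · have hbot : topologicalKrullDim (CohB1.support A) = ⊥ := by
      by_contra hne
      obtain ⟨a, ha⟩ := WithBot.ne_bot_iff_exists.1 hne
      rw [← ha] at hdim
      have h1 : ((a : ℕ∞) : WithBot ℕ∞) < ((0 : ℕ∞) : WithBot ℕ∞) := by exact_mod_cast hdim
      have h2 : (a : ℕ∞) < 0 := by exact_mod_cast h1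
      simp at h2
    haveI := Groth.Agent.Lib.Helper2.Kodaira.isEmpty_of_dim_eq_bot hbot
    have hemp : CohB1.support A = ∅ := Set.isEmpty_coe_sort.1 inferInstance
    have hz : IsZero A := isZero_of_support_eq_empty _ hemp
    refine ⟨0, fun m _ => ?_⟩
    have hz' : IsZero ((T (CohB1.tensorPow L m)).obj A) := Functor.map_isZero _ hz
    have h0 : tw k A L j m = 0 := by
      unfold tw
      rw [hh_congr k (Groth.Agent.Lib.Helper6.K0Inv.braidIso A (CohB1.tensorPow L m)) j]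
      exact hh_of_isZero k _ hz' j
    rw [h0]
    simp
  · obtain ⟨d, rfl⟩ : ∃ d, n = d + 1 := ⟨n - 1, by omega⟩
    have hd : topologicalKrullDim (CohB1.support A) ≤ (d : WithBot ℕ∞) := le_of_lt_succ_withBot _ d hdim
    obtain ⟨C, hC⟩ := hh_general k hH hL A hA d hd j
    refine ⟨C, fun m hm => ?_⟩
    have := hC m hm
    calc tw k A L j m * m ≤ C * m ^ d * m := Nat.mul_le_mul_right _ this
      _ = C * m ^ (d + 1) := by ring

/-- the core: if `h^i(F ⊗ L^m)` and `h^i(G ⊗ L^m)` differ by `O(m^(n-1))` then the asymptotic functions agree -/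
theorem hhatF_eq_of_diff [IsIntegral X] {H : X.Modules} (hH : CohB1.IsAmple H) {L : X.Modules}
    (hL : PicF.IsInvertible L) (n : ℕ) (hn : topologicalKrullDim X = (n : WithBot ℕ∞))
    (F G : X.Modules) (hF : Coh.IsCoh F) (hG : Coh.IsCoh G) (i : ℕ) (D : ℕ)
    (hdiff : ∀ m : ℕ, 1 ≤ m → |(tw k F L i m : ℝ) - (tw k G L i m : ℝ)| * (m : ℝ) ≤ (D : ℝ) * (m : ℝ) ^ n) :
    W4c5asymptcohfn.hhatF k X n i F L = W4c5asymptcohfn.hhatF k X n i G L := by
  unfold W4c5asymptcohfn.hhatF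
  have hsF : topologicalKrullDim (CohB1.support F) ≤ (n : WithBot ℕ∞) := by
    rw [← hn]; exact topologicalKrullDim_subspace_le X _
  have hsG : topologicalKrullDim (CohB1.support G) ≤ (n : WithBot ℕ∞) := by
    rw [← hn]; exact topologicalKrullDim_subspace_le X _
  obtain ⟨CF, hCF⟩ := hh_general k hH hL F hF n hsF i
  obtain ⟨CG, hCG⟩ := hh_general k hH hL G hG n hsG i
  have hfac : (0 : ℝ) < (n.factorial : ℝ) := by exact_mod_cast Nat.factorial_pos n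
  have hb : ∀ (E : X.Modules) (C : ℕ), C ≤ max CF CG → (∀ m : ℕ, 1 ≤ m → tw k E L i m ≤ C * m ^ n) →
      ∀ᶠ m in atTop, W4c5asymptcohfn.cohSeq k X n i E L m ≤ ((max CF CG : ℕ) : ℝ) * (n.factorial : ℝ) := by
    intro E C hC hE
    rw [eventually_atTop]
    refine ⟨1, fun m hm => ?_⟩
    have hm0 : (0 : ℝ) < (m : ℝ) := by exact_mod_cast hm
    have hmn : (0 : ℝ) < (m : ℝ) ^ n := by positivity
    unfold W4c5asymptcohfn.cohSeq
    rw [div_le_iff₀ hmn]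
    have h1 : (tw k E L i m : ℝ) ≤ ((max CF CG : ℕ) : ℝ) * (m : ℝ) ^ n := by
      have := (hE m hm).trans (Nat.mul_le_mul_right _ hC)
      exact_mod_cast this
    have h2 : (tw k E L i m : ℝ) * (n.factorial : ℝ) ≤ ((max CF CG : ℕ) : ℝ) * (m : ℝ) ^ n * (n.factorial : ℝ) :=
      mul_le_mul_of_nonneg_right h1 hfac.le
    calc _ ≤ _ := h2
      _ = _ := by ring
  refine limsup_eq_of_abs_sub_le (w := fun m : ℕ => (D : ℝ) * (n.factorial : ℝ) / (m : ℝ))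
    (((max CF CG : ℕ) : ℝ) * (n.factorial : ℝ))
    (fun m => by unfold W4c5asymptcohfn.cohSeq; positivity)
    (fun m => by unfold W4c5asymptcohfn.cohSeq; positivity)
    (hb F CF (le_max_left _ _) hCF) (hb G CG (le_max_right _ _) hCG) ?_ ?_
  · exact tendsto_const_div_atTop_nhds_zero_nat _
  · rw [eventually_atTop]
    refine ⟨1, fun m hm => ?_⟩
    have hm0 : (0 : ℝ) < (m : ℝ) := by exact_mod_cast hm
    have hmn : (0 : ℝ) < (m : ℝ) ^ n := by positivity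
    unfold W4c5asymptcohfn.cohSeq
    have h1 := hdiff m hm
    have e1 : (tw k F L i m : ℝ) * (n.factorial : ℝ) / (m : ℝ) ^ n -
        (tw k G L i m : ℝ) * (n.factorial : ℝ) / (m : ℝ) ^ n =
        ((tw k F L i m : ℝ) - (tw k G L i m : ℝ)) * ((n.factorial : ℝ) / (m : ℝ) ^ n) := by ring
    show |(tw k F L i m : ℝ) * (n.factorial : ℝ) / (m : ℝ) ^ n -
        (tw k G L i m : ℝ) * (n.factorial : ℝ) / (m : ℝ) ^ n| ≤ _
    rw [e1, abs_mul, abs_of_pos (div_pos hfac hmn), le_div_iff₀ hm0]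
    have h2 : |(tw k F L i m : ℝ) - (tw k G L i m : ℝ)| * ((n.factorial : ℝ) / (m : ℝ) ^ n) * (m : ℝ) =
        (|(tw k F L i m : ℝ) - (tw k G L i m : ℝ)| * (m : ℝ)) * ((n.factorial : ℝ) / (m : ℝ) ^ n) := by ring
    rw [h2]
    calc _ ≤ ((D : ℝ) * (m : ℝ) ^ n) * ((n.factorial : ℝ) / (m : ℝ) ^ n) :=
          mul_le_mul_of_nonneg_right h1 (div_pos hfac hmn).le
      _ = (D : ℝ) * (n.factorial : ℝ) := by field_simp

/-- the long exact sequence inequalities for the twisted dimensions -/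
theorem tw_les (S : ShortComplex X.Modules) (hS : S.ShortExact)
    (h₁ : Coh.IsCoh S.X₁) (h₂ : Coh.IsCoh S.X₂) (h₃ : Coh.IsCoh S.X₃)
    {L : X.Modules} (hL : PicF.IsInvertible L) (m i : ℕ) :
    tw k S.X₂ L i m ≤ tw k S.X₁ L i m + tw k S.X₃ L i m ∧
    tw k S.X₃ L i m ≤ tw k S.X₂ L i m + tw k S.X₁ L (i + 1) m ∧
    tw k S.X₁ L (i + 1) m ≤ tw k S.X₃ L i m + tw k S.X₂ L (i + 1) m ∧
    tw k S.X₁ L 0 m ≤ tw k S.X₂ L 0 m := by
  have hLm := isInvertible_tensorPow hL m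
  have hc := isCoh_of_isInvertible _ hLm
  have hS' := shortExact_tensor_of_flat _ (isFlat_of_isInvertible _ hLm) S hS
  have c₁ := isCoh_tensorMod _ _ hc h₁
  have c₂ := isCoh_tensorMod _ _ hc h₂
  have c₃ := isCoh_tensorMod _ _ hc h₃
  have e : ∀ (F : X.Modules) (j : ℕ), tw k F L j m = hh k (CohB1.tensorMod (CohB1.tensorPow L m) F) j :=
    fun F j => hh_congr k (Groth.Agent.Lib.Helper6.K0Inv.braidIso F (CohB1.tensorPow L m)) j
  have a1 := hh₂_le k _ hS' c₁ c₂ c₃ i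
  have a2 := hh₃_le k _ hS' c₁ c₂ c₃ i
  have a3 := hh₁_succ_le k _ hS' c₁ c₂ c₃ i
  have a4 := hh₁_zero_le k _ hS' c₂
  change hh k (CohB1.tensorMod (CohB1.tensorPow L m) S.X₂) i ≤
    hh k (CohB1.tensorMod (CohB1.tensorPow L m) S.X₁) i + hh k (CohB1.tensorMod (CohB1.tensorPow L m) S.X₃) i at a1
  change hh k (CohB1.tensorMod (CohB1.tensorPow L m) S.X₃) i ≤
    hh k (CohB1.tensorMod (CohB1.tensorPow L m) S.X₂) i +
      hh k (CohB1.tensorMod (CohB1.tensorPow L m) S.X₁) (i + 1) at a2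
  change hh k (CohB1.tensorMod (CohB1.tensorPow L m) S.X₁) (i + 1) ≤
    hh k (CohB1.tensorMod (CohB1.tensorPow L m) S.X₃) i +
      hh k (CohB1.tensorMod (CohB1.tensorPow L m) S.X₂) (i + 1) at a3
  change hh k (CohB1.tensorMod (CohB1.tensorPow L m) S.X₁) 0 ≤
    hh k (CohB1.tensorMod (CohB1.tensorPow L m) S.X₂) 0 at a4
  rw [e, e, e, e, e, e, e]
  exact ⟨a1, a2, a3, a4⟩

/-- a module with small support on the left of a short exact sequence is invisible -/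
theorem hhatF_mid_eq_right [IsIntegral X] {H : X.Modules} (hH : CohB1.IsAmple H) {L : X.Modules}
    (hL : PicF.IsInvertible L) (n : ℕ) (hn : topologicalKrullDim X = (n : WithBot ℕ∞))
    (S : ShortComplex X.Modules) (hS : S.ShortExact)
    (h₁ : Coh.IsCoh S.X₁) (h₂ : Coh.IsCoh S.X₂) (h₃ : Coh.IsCoh S.X₃)
    (hsmall : Small k n S.X₁ L) (i : ℕ) :
    W4c5asymptcohfn.hhatF k X n i S.X₂ L = W4c5asymptcohfn.hhatF k X n i S.X₃ L := by
  obtain ⟨D₁, hD₁⟩ := hsmall i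
  obtain ⟨D₂, hD₂⟩ := hsmall (i + 1)
  refine hhatF_eq_of_diff k hH hL n hn _ _ h₂ h₃ i (D₁ + D₂) (fun m hm => ?_)
  obtain ⟨a1, a2, -, -⟩ := tw_les k S hS h₁ h₂ h₃ hL m i
  have b1 := hD₁ m hm
  have b2 := hD₂ m hm
  have hm0 : (0 : ℝ) ≤ (m : ℝ) := Nat.cast_nonneg m
  have habs : |(tw k S.X₂ L i m : ℝ) - (tw k S.X₃ L i m : ℝ)| ≤
      (tw k S.X₁ L i m : ℝ) + (tw k S.X₁ L (i + 1) m : ℝ) := by
    have a1' : (tw k S.X₂ L i m : ℝ) ≤ (tw k S.X₁ L i m : ℝ) + (tw k S.X₃ L i m : ℝ) := by exact_mod_cast a1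
    have a2' : (tw k S.X₃ L i m : ℝ) ≤ (tw k S.X₂ L i m : ℝ) + (tw k S.X₁ L (i + 1) m : ℝ) := by
      exact_mod_cast a2
    have p1 : (0 : ℝ) ≤ (tw k S.X₁ L i m : ℝ) := Nat.cast_nonneg _
    have p2 : (0 : ℝ) ≤ (tw k S.X₁ L (i + 1) m : ℝ) := Nat.cast_nonneg _
    rw [abs_le]
    constructor <;> linarith
  have b1' : (tw k S.X₁ L i m : ℝ) * (m : ℝ) ≤ (D₁ : ℝ) * (m : ℝ) ^ n := by exact_mod_cast b1
  have b2' : (tw k S.X₁ L (i + 1) m : ℝ) * (m : ℝ) ≤ (D₂ : ℝ) * (m : ℝ) ^ n := by exact_mod_cast b2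
  calc _ ≤ ((tw k S.X₁ L i m : ℝ) + (tw k S.X₁ L (i + 1) m : ℝ)) * (m : ℝ) :=
        mul_le_mul_of_nonneg_right habs hm0
    _ = (tw k S.X₁ L i m : ℝ) * (m : ℝ) + (tw k S.X₁ L (i + 1) m : ℝ) * (m : ℝ) := by ring
    _ ≤ (D₁ : ℝ) * (m : ℝ) ^ n + (D₂ : ℝ) * (m : ℝ) ^ n := add_le_add b1' b2'
    _ = ((D₁ + D₂ : ℕ) : ℝ) * (m : ℝ) ^ n := by push_cast; ring

/-- a module with small support on the right of a short exact sequence is invisible -/
theorem hhatF_left_eq_mid [IsIntegral X] {H : X.Modules} (hH : CohB1.IsAmple H) {L : X.Modules}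
    (hL : PicF.IsInvertible L) (n : ℕ) (hn : topologicalKrullDim X = (n : WithBot ℕ∞))
    (S : ShortComplex X.Modules) (hS : S.ShortExact)
    (h₁ : Coh.IsCoh S.X₁) (h₂ : Coh.IsCoh S.X₂) (h₃ : Coh.IsCoh S.X₃)
    (hsmall : Small k n S.X₃ L) (i : ℕ) :
    W4c5asymptcohfn.hhatF k X n i S.X₁ L = W4c5asymptcohfn.hhatF k X n i S.X₂ L := by
  obtain ⟨D₁, hD₁⟩ := hsmall i
  obtain ⟨D₂, hD₂⟩ := hsmall (i - 1)
  refine hhatF_eq_of_diff k hH hL n hn _ _ h₁ h₂ i (D₁ + D₂) (fun m hm => ?_)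
  obtain ⟨a1, -, -, a4⟩ := tw_les k S hS h₁ h₂ h₃ hL m i
  have a3 : tw k S.X₁ L i m ≤ tw k S.X₃ L (i - 1) m + tw k S.X₂ L i m := by
    rcases Nat.eq_zero_or_pos i with rfl | hi
    · exact a4.trans (Nat.le_add_left _ _)
    · obtain ⟨i', rfl⟩ : ∃ i', i = i' + 1 := ⟨i - 1, by omega⟩
      exact (tw_les k S hS h₁ h₂ h₃ hL m i').2.2.1
  have b1 := hD₁ m hm
  have b2 := hD₂ m hm
  have hm0 : (0 : ℝ) ≤ (m : ℝ) := Nat.cast_nonneg m
  have habs : |(tw k S.X₁ L i m : ℝ) - (tw k S.X₂ L i m : ℝ)| ≤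
      (tw k S.X₃ L i m : ℝ) + (tw k S.X₃ L (i - 1) m : ℝ) := by
    have a1' : (tw k S.X₂ L i m : ℝ) ≤ (tw k S.X₁ L i m : ℝ) + (tw k S.X₃ L i m : ℝ) := by exact_mod_cast a1
    have a3' : (tw k S.X₁ L i m : ℝ) ≤ (tw k S.X₃ L (i - 1) m : ℝ) + (tw k S.X₂ L i m : ℝ) := by
      exact_mod_cast a3
    have p1 : (0 : ℝ) ≤ (tw k S.X₃ L i m : ℝ) := Nat.cast_nonneg _
    have p2 : (0 : ℝ) ≤ (tw k S.X₃ L (i - 1) m : ℝ) := Nat.cast_nonneg _
    rw [abs_le]
    constructor <;> linarith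
  have b1' : (tw k S.X₃ L i m : ℝ) * (m : ℝ) ≤ (D₁ : ℝ) * (m : ℝ) ^ n := by exact_mod_cast b1
  have b2' : (tw k S.X₃ L (i - 1) m : ℝ) * (m : ℝ) ≤ (D₂ : ℝ) * (m : ℝ) ^ n := by exact_mod_cast b2
  calc _ ≤ ((tw k S.X₃ L i m : ℝ) + (tw k S.X₃ L (i - 1) m : ℝ)) * (m : ℝ) :=
        mul_le_mul_of_nonneg_right habs hm0
    _ = (tw k S.X₃ L i m : ℝ) * (m : ℝ) + (tw k S.X₃ L (i - 1) m : ℝ) * (m : ℝ) := by ring
    _ ≤ (D₁ : ℝ) * (m : ℝ) ^ n + (D₂ : ℝ) * (m : ℝ) ^ n := add_le_add b1' b2'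
    _ = ((D₁ + D₂ : ℕ) : ℝ) * (m : ℝ) ^ n := by push_cast; ring

end Groth.Agent.Lib.Helper2.AsympCoh2
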