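import Mathlib
import Groth.Prelude.Def_ega3
import Groth.Agent.Lib.Helper28.TensorGen
import Groth.Agent.Lib.Helper28.PullbackInv
import Groth.Agent.Lib.Helper17.TensorQC
import Groth.Agent.Lib.Helper17.PullbackBC
import Groth.Agent.Lib.Helper17.FlatBCM2

/-!
# Sections of `F ⊗_A M` over opens: the canonical map `Γ(V, F) ⊗_A M → Γ(V, F ⊗_A M)` (helper2)
-/

set_option backward.isDefEq.respectTransparency.types false
set_option autoImplicit false
universe u
open CategoryTheory CategoryTheory.Limits AlgebraicGeometry Opposite TopologicalSpace TensorProduct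
noncomputable section

namespace Groth.Agent.Lib.Helper2.BC1

open Groth.Agent.Lib.Helper28.QCohLoc Groth.Agent.Lib.Helper28.TensorGen
  Groth.Agent.Lib.Helper28.PullbackInv Groth.Agent.Lib.Helper17.FlatBCH1
  Groth.Agent.Lib.Helper17.FlatBCM2 Groth.Agent.Lib.Helper17.PullbackBC

/-- sections of `F` over `V`, to be regarded as an `A`-module -/
def Sec (_A : Type u) {X : Scheme.{u}} (F : X.Modules) (V : X.Opens) : Type u := Γ(F, V)

/-- the underlying section -/
def Sec.val {A : Type u} {X : Scheme.{u}} {F : X.Modules} {V : X.Opens} (x : Sec A F V) : Γ(F, V) := x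

/-- a section as an element of `Sec` -/
def Sec.mk (A : Type u) {X : Scheme.{u}} {F : X.Modules} {V : X.Opens} (x : Γ(F, V)) : Sec A F V := x

variable (A : Type u) [CommRing A] {X : Scheme.{u}} [X.Over (Spec (CommRingCat.of A))]

/-- the ring map `A → Γ(X, V)` -/
def algV (V : X.Opens) : A →+* Γ(X, V) := αU (Coh.toGlobal (X ↘ Spec (CommRingCat.of A))) V

theorem resO_algV {V V' : X.Opens} (h : V' ≤ V) (a : A) :
    resO h (algV A V a) = algV A V' a :=
  resO_resO (le_top : V ≤ ⊤) h _

instance (F : X.Modules) (V : X.Opens) : AddCommGroup (Sec A F V) :=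
  inferInstanceAs (AddCommGroup Γ(F, V))

instance (F : X.Modules) (V : X.Opens) : Module A (Sec A F V) :=
  Module.compHom Γ(F, V) (algV A V)

instance (F : X.Modules) (V : X.Opens) : Module Γ(X, V) (Sec A F V) :=
  inferInstanceAs (Module Γ(X, V) Γ(F, V))

theorem smul_def (F : X.Modules) (V : X.Opens) (a : A) (x : Sec A F V) :
    a • x = Sec.mk A (algV A V a • x.val) := rfl

/-- restriction as an `A`-linear map -/
def resL (F : X.Modules) {V V' : X.Opens} (h : V' ≤ V) : Sec A F V →ₗ[A] Sec A F V' where
  toFun x := Sec.mk A (res F h x.val)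
  map_add' x y := map_add (F.presheaf.map (homOfLE h).op).hom x.val y.val
  map_smul' a x := by
    change res F h (algV A V a • x.val) = algV A V' a • res F h x.val
    rw [res_smul, resO_algV]

theorem resL_apply (F : X.Modules) {V V' : X.Opens} (h : V' ≤ V) (x : Sec A F V) :
    (resL A F h x).val = res F h x.val := rfl

section Sigma

variable (M : Type u) [AddCommGroup M] [Module A M]

/-- the module `s^* M~` on `X` -/
abbrev pullTilde : X.Modules :=
  (Scheme.Modules.pullback (X ↘ Spec (CommRingCat.of A))).obj (tilde (ModuleCat.of A M))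

theorem tensorA_eq (F : X.Modules) :
    CohIII.tensorA A F M = CohB1.tensorMod F (pullTilde A (X := X) M) := rfl

/-- the section of `s^* M~` over `V` attached to `m` -/
def sigma (V : X.Opens) (m : M) : Γ(pullTilde A (X := X) M, V) :=
  res (pullTilde A M) le_top (sM A M (X ↘ Spec (CommRingCat.of A)) m)

theorem sigma_add (V : X.Opens) (m m' : M) :
    sigma A M V (m + m') = sigma A M V m + sigma A M V m' := by
  unfold sigma
  rw [map_add]
  exact map_add _ _ _

theorem sigma_res {V V' : X.Opens} (h : V' ≤ V) (m : M) :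
    res (pullTilde A M) h (sigma A M V m) = sigma A M V' m := by
  unfold sigma
  exact res_res _ _ _ _

theorem sigma_smul (V : X.Opens) (a : A) (m : M) :
    sigma A M V (a • m) = (algV A V a • sigma A M V m : Γ(pullTilde A (X := X) M, V)) := by
  unfold sigma
  rw [sM_smul, res_smul]
  rfl

theorem isBC_sigma {V : X.Opens} (hV : IsAffineOpen V) :
    IsBC (algV A V) (P := M) (T := Γ(pullTilde A (X := X) M, V)) (fun m => sigma A M V m) :=
  isBC_sM A M (X ↘ Spec (CommRingCat.of A)) hV

end Sigma

section Theta

variable (M : Type u) [AddCommGroup M] [Module A M] (F : X.Modules)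

/-- the bilinear map `(x, m) ↦ x ⊗ σ(m)` -/
def thetaBil (V : X.Opens) : Sec A F V →ₗ[A] M →ₗ[A] Sec A (CohIII.tensorA A F M) V :=
  LinearMap.mk₂ A (fun x m => Sec.mk A (tmulSec F (pullTilde A M) x.val (sigma A M V m)))
    (fun x x' m => tmulSec_add_left F (pullTilde A M) x.val x'.val (sigma A M V m))
    (fun a x m => tmulSec_smul_left F (pullTilde A M) (algV A V a) x.val (sigma A M V m))
    (fun x m m' => by
      change tmulSec F (pullTilde A M) x.val (sigma A M V (m + m')) = _
      rw [sigma_add, tmulSec_add_right]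
      rfl)
    (fun a x m => by
      change tmulSec F (pullTilde A M) x.val (sigma A M V (a • m)) = _
      rw [sigma_smul, tmulSec_smul_right]
      rfl)

/-- the canonical map `Γ(V, F) ⊗_A M → Γ(V, F ⊗_A M)` -/
def theta (V : X.Opens) : Sec A F V ⊗[A] M →ₗ[A] Sec A (CohIII.tensorA A F M) V :=
  TensorProduct.lift (thetaBil A M F V)

theorem theta_tmul (V : X.Opens) (x : Sec A F V) (m : M) :
    (theta A M F V (x ⊗ₜ[A] m)).val = tmulSec F (pullTilde A M) x.val (sigma A M V m) := rfl

/-- naturality of `theta` with respect to restriction -/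
theorem theta_res {V V' : X.Opens} (h : V' ≤ V) (z : Sec A F V ⊗[A] M) :
    resL A (CohIII.tensorA A F M) h (theta A M F V z) =
      theta A M F V' ((resL A F h).rTensor M z) := by
  induction z with
  | zero => simp
  | add x y hx hy => rw [map_add, map_add, hx, hy, map_add, map_add]
  | tmul x m =>
    change res (CohB1.tensorMod F (pullTilde A M)) h (tmulSec F (pullTilde A M) x.val (sigma A M V m)) =
      tmulSec F (pullTilde A M) (res F h x.val) (sigma A M V' m)
    rw [tmulSec_res, sigma_res]

end Theta

end Groth.Agent.Lib.Helper2.BC1
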