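import Groth.Agent.Lib.Helper2.BC1

/-!
# `Γ(V, F) ⊗_A M → Γ(V, F ⊗_A M)` is bijective on affine opens (helper2)
-/

set_option backward.isDefEq.respectTransparency.types false
set_option autoImplicit false
universe u
open CategoryTheory CategoryTheory.Limits AlgebraicGeometry Opposite TopologicalSpace TensorProduct
noncomputable section

namespace Groth.Agent.Lib.Helper2.BC2

open Groth.Agent.Lib.Helper28.QCohLoc Groth.Agent.Lib.Helper28.TensorGen
  Groth.Agent.Lib.Helper28.PullbackInv Groth.Agent.Lib.Helper17.FlatBCH1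
  Groth.Agent.Lib.Helper17.FlatBCM2 Groth.Agent.Lib.Helper17.PullbackBC
  Groth.Agent.Lib.Helper17.TensorQC Groth.Agent.Lib.Helper2.BC1

/-- algebra: `P₀ ⊗_A M → P₀ ⊗_R T` is bijective when `T` is the base change of `M` to `R`. -/
theorem bijective_of_isBC_right {A R : Type u} [CommRing A] [CommRing R] (α : A →+* R)
    {P₀ M T : Type u} [AddCommGroup P₀] [Module A P₀] [Module R P₀]
    (hP : ∀ (a : A) (p : P₀), a • p = α a • p)
    [AddCommGroup M] [Module A M] [AddCommGroup T] [Module R T] (c : M → T) (hc : IsBC α c)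
    (w : P₀ ⊗[A] M →+ P₀ ⊗[R] T) (hw : ∀ p m, w (p ⊗ₜ[A] m) = p ⊗ₜ[R] c m) :
    Function.Bijective w := by
  letI := α.toAlgebra
  haveI : IsScalarTower A R P₀ := ⟨fun a b p => by
    rw [hP a (b • p), ← mul_smul]; rfl⟩
  obtain ⟨e, he⟩ := (isBC_iff α c).mp hc
  let T1 : P₀ ⊗[R] T ≃ₗ[R] P₀ ⊗[R] (R ⊗[A] M) := TensorProduct.congr (LinearEquiv.refl R P₀) e
  let T2 : P₀ ⊗[R] (R ⊗[A] M) ≃ₗ[R] P₀ ⊗[A] M :=
    TensorProduct.AlgebraTensorModule.cancelBaseChange A R R P₀ M
  let Φ : P₀ ⊗[R] T → P₀ ⊗[A] M := fun z => T2 (T1 z)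
  have hΦ : Function.Bijective Φ := T2.bijective.comp T1.bijective
  have key : ∀ t, Φ (w t) = t := by
    intro t
    induction t using TensorProduct.induction_on with
    | zero => simp [Φ]
    | add x y hx hy =>
      change T2 (T1 (w (x + y))) = x + y
      rw [map_add, map_add, map_add]
      exact congrArg₂ (· + ·) hx hy
    | tmul p m =>
      rw [hw]
      change T2 (TensorProduct.congr (LinearEquiv.refl R P₀) e (p ⊗ₜ[R] c m)) = _
      rw [TensorProduct.congr_tmul, he]
      change TensorProduct.AlgebraTensorModule.cancelBaseChange A R R P₀ M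
        (p ⊗ₜ[R] ((1 : R) ⊗ₜ[A] m)) = _
      rw [TensorProduct.AlgebraTensorModule.cancelBaseChange_tmul, one_smul]
  have h1 : Function.Injective w := fun a b hab => by rw [← key a, ← key b, hab]
  have h2 : Function.Surjective w := by
    intro z
    refine ⟨Φ z, hΦ.1 ?_⟩
    rw [key]
  exact ⟨h1, h2⟩

variable (A : Type u) [CommRing A] {X : Scheme.{u}} [X.Over (Spec (CommRingCat.of A))]
  (M : Type u) [AddCommGroup M] [Module A M] (F : X.Modules)

instance : (pullTilde A (X := X) M).IsQuasicoherent := by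
  unfold pullTilde
  infer_instance

theorem theta_bijective [F.IsQuasicoherent] {V : X.Opens} (hV : IsAffineOpen V) :
    Function.Bijective (theta A M F V) := by
  let N := pullTilde A (X := X) M
  have hη : Function.Bijective (η F N (W := V)) := by
    constructor
    · intro a b hab
      have h0 : η F N (a - b) = 0 := by rw [η_sub, hab, sub_self]
      exact sub_eq_zero.mp (η_injective F N hV _ h0)
    · intro t
      exact η_surjective F N hV t
  let ηE : PT F N V ≃+ Γ(TT F N, V) :=
    AddEquiv.ofBijective (AddMonoidHom.mk' (η F N (W := V)) (η_add F N)) hη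
  let w₀ : Sec A F V ⊗[A] M →+ (Γ(F, V) ⊗[Γ(X, V)] Γ(N, V)) :=
    ηE.symm.toAddMonoidHom.comp (theta A M F V).toAddMonoidHom
  have hw₀ : Function.Bijective w₀ := by
    refine bijective_of_isBC_right (algV A V) (P₀ := Sec A F V) (fun a p => rfl)
      (fun m => sigma A M V m) (isBC_sigma A M hV) w₀ ?_
    intro p m
    change ηE.symm (theta A M F V (p ⊗ₜ[A] m)) = _
    exact ηE.symm_apply_apply (ptmul F N p.val (sigma A M V m))
  have : (theta A M F V : _ → _) = ηE ∘ w₀ := by
    funext t
    exact (ηE.apply_symm_apply _).symm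
  rw [this]
  exact ηE.bijective.comp hw₀

end Groth.Agent.Lib.Helper2.BC2
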