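import Mathlib

/-!
# Čech complexes and additive functors (helper2)

For an additive functor `Φ`, a comparison `Φ(Č(U, P)) ⟶ Č(U, P ⋙ Φ)`, which is an isomorphism when `Φ` preserves the
products occurring in the Čech complex.
-/

set_option autoImplicit false
set_option backward.isDefEq.respectTransparency false
universe w v v' v'' u u' u''

open CategoryTheory CategoryTheory.Limits Opposite Simplicial AlgebraicTopology

namespace Groth.Agent.Lib.Helper2.CechFun

variable {C : Type u} [Category.{v} C] {𝒜 : Type u'} [Category.{v'} 𝒜] {ℬ : Type u''} [Category.{v''} ℬ]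
  [HasProducts.{w} 𝒜] [HasProducts.{w} ℬ]

section Cosimp

variable (Φ : 𝒜 ⥤ ℬ) (E : SimplicialObject (FormalCoproduct.{w} C)) (P : Cᵒᵖ ⥤ 𝒜)

/-- the comparison of cosimplicial objects -/
noncomputable def cosimp :
    ((CosimplicialObject.whiskering 𝒜 ℬ).obj Φ).obj ((FormalCoproduct.cosimplicialObjectFunctor E).obj P) ⟶
    (FormalCoproduct.cosimplicialObjectFunctor E).obj (P ⋙ Φ) where
  app n := piComparison Φ (fun i : (E.obj (op n)).I => P.obj (op ((E.obj (op n)).obj i)))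
  naturality n m f := by
    apply Pi.hom_ext
    intro j
    simp only [FormalCoproduct.cosimplicialObjectFunctor, Functor.comp_obj, Functor.comp_map,
      CosimplicialObject.whiskering_obj_obj_obj, CosimplicialObject.whiskering_obj_obj_map,
      FormalCoproduct.evalOp_obj_obj, FormalCoproduct.evalOp_obj_map, Functor.whiskeringLeft_obj_obj,
      Functor.rightOp_obj, Functor.rightOp_map, unop_op, Quiver.Hom.unop_op, Category.assoc]
    rw [piComparison_comp_π, Pi.lift_π, ← Functor.map_comp, Pi.lift_π, Functor.map_comp,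
      piComparison_comp_π_assoc]

end Cosimp

section Alt

variable [Preadditive 𝒜] [Preadditive ℬ] (Φ : 𝒜 ⥤ ℬ) [Φ.Additive]

lemma obj_d {𝒟 : Type*} [Category 𝒟] [Preadditive 𝒟] (Y : CosimplicialObject 𝒟) (n : ℕ) :
    (AlternatingCofaceMapComplex.obj Y).d n (n + 1) = ∑ i : Fin (n + 2), (-1 : ℤ) ^ (i : ℕ) • Y.δ i :=
  CochainComplex.of_d (fun n => Y.obj ⦋n⦌) (AlternatingCofaceMapComplex.objD Y) n

/-- the chain map induced by a comparison of cosimplicial objects -/
noncomputable def altMap {Y : CosimplicialObject 𝒜} {Y' : CosimplicialObject ℬ}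
    (τ : ((CosimplicialObject.whiskering 𝒜 ℬ).obj Φ).obj Y ⟶ Y') :
    (Φ.mapHomologicalComplex (ComplexShape.up ℕ)).obj (AlternatingCofaceMapComplex.obj Y) ⟶
      AlternatingCofaceMapComplex.obj Y' where
  f n := τ.app ⦋n⦌
  comm' i j hij := by
    obtain rfl : i + 1 = j := hij
    change τ.app ⦋i⦌ ≫ (AlternatingCofaceMapComplex.obj Y').d i (i + 1) =
      Φ.map ((AlternatingCofaceMapComplex.obj Y).d i (i + 1)) ≫ τ.app ⦋i + 1⦌
    rw [obj_d, obj_d, Functor.map_sum, Preadditive.comp_sum, Preadditive.sum_comp]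
    refine Finset.sum_congr rfl fun k _ => ?_
    rw [Functor.map_zsmul, Preadditive.comp_zsmul, Preadditive.zsmul_comp]
    congr 1
    exact (τ.naturality (SimplexCategory.δ k)).symm

instance isIso_altMap {Y : CosimplicialObject 𝒜} {Y' : CosimplicialObject ℬ}
    (τ : ((CosimplicialObject.whiskering 𝒜 ℬ).obj Φ).obj Y ⟶ Y')
    [∀ n, IsIso (τ.app n)] : IsIso (altMap Φ τ) := by
  haveI : ∀ n, IsIso ((altMap Φ τ).f n) := fun n => inferInstanceAs (IsIso (τ.app ⦋n⦌))
  exact HomologicalComplex.Hom.isIso_of_components _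

end Alt

section Cech

variable [HasFiniteProducts C] [Preadditive 𝒜] [Preadditive ℬ] (Φ : 𝒜 ⥤ ℬ) [Φ.Additive]
  {ι : Type w} (U : ι → C) (P : Cᵒᵖ ⥤ 𝒜)

/-- the comparison `Φ(Č(U, P)) ⟶ Č(U, P ⋙ Φ)` -/
noncomputable def cechComparison :
    (Φ.mapHomologicalComplex (ComplexShape.up ℕ)).obj ((cechComplexFunctor U).obj P) ⟶
      (cechComplexFunctor U).obj (P ⋙ Φ) :=
  altMap Φ (cosimp Φ (FormalCoproduct.mk _ U).cech P)

theorem cechComparison_f (n : ℕ) :
    (cechComparison Φ U P).f n =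
      piComparison Φ (fun i : (((FormalCoproduct.mk _ U).cech).obj (op ⦋n⦌)).I =>
        P.obj (op ((((FormalCoproduct.mk _ U).cech).obj (op ⦋n⦌)).obj i))) := rfl

theorem isIso_cechComparison
    (h : ∀ n : ℕ, PreservesLimitsOfShape
      (Discrete (((FormalCoproduct.mk _ U).cech).obj (op ⦋n⦌)).I) Φ) :
    IsIso (cechComparison Φ U P) := by
  haveI : ∀ n, IsIso ((cosimp Φ (FormalCoproduct.mk _ U).cech P).app n) := by
    intro n
    induction n using SimplexCategory.rec with | _ n =>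
    haveI := h n
    change IsIso (piComparison Φ _)
    infer_instance
  unfold cechComparison
  exact isIso_altMap Φ _

theorem cechComparison_f_π (n : ℕ) (x : Fin (n + 1) → ι) :
    (cechComparison Φ U P).f n ≫
        Pi.π (fun x : Fin (n + 1) → ι => (P ⋙ Φ).obj (op (∏ᶜ (U ∘ x)))) x =
      Φ.map (Pi.π (fun x : Fin (n + 1) → ι => P.obj (op (∏ᶜ (U ∘ x)))) x) :=
  piComparison_comp_π Φ _ x

theorem cechMap_f_π {P Q : Cᵒᵖ ⥤ 𝒜} (τ : P ⟶ Q) (n : ℕ) (x : Fin (n + 1) → ι) :
    ((cechComplexFunctor U).map τ).f n ≫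
        Pi.π (fun x : Fin (n + 1) → ι => Q.obj (op (∏ᶜ (U ∘ x)))) x =
      Pi.π (fun x : Fin (n + 1) → ι => P.obj (op (∏ᶜ (U ∘ x)))) x ≫ τ.app (op (∏ᶜ (U ∘ x))) := by
  simp [cechComplexFunctor]
  exact Limits.Pi.map_π _ _

theorem cechMap_f {P Q : Cᵒᵖ ⥤ 𝒜} (τ : P ⟶ Q) (n : ℕ) :
    ((cechComplexFunctor U).map τ).f n =
      Limits.Pi.map (fun x : Fin (n + 1) → ι => τ.app (op (∏ᶜ (U ∘ x)))) := by
  apply Limits.Pi.hom_ext
  intro x
  exact (cechMap_f_π U τ n x).trans
    (Limits.Pi.map_π (fun x : Fin (n + 1) → ι => τ.app (op (∏ᶜ (U ∘ x)))) x).symm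

theorem isIso_cechMap {P Q : Cᵒᵖ ⥤ 𝒜} (τ : P ⟶ Q)
    (h : ∀ (n : ℕ) (x : Fin (n + 1) → ι), IsIso (τ.app (op (∏ᶜ (U ∘ x))))) :
    IsIso ((cechComplexFunctor U).map τ) := by
  haveI : ∀ n, IsIso (((cechComplexFunctor U).map τ).f n) := by
    intro n
    rw [cechMap_f]
    haveI := h n
    infer_instance
  exact HomologicalComplex.Hom.isIso_of_components _

/-- naturality of the comparison in the presheaf -/
theorem cechComparison_naturality {P P' : Cᵒᵖ ⥤ 𝒜} (τ : P ⟶ P') :
    (Φ.mapHomologicalComplex (ComplexShape.up ℕ)).map ((cechComplexFunctor U).map τ) ≫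
        cechComparison Φ U P' =
      cechComparison Φ U P ≫ (cechComplexFunctor U).map (Functor.whiskerRight τ Φ) := by
  ext n
  apply Limits.Pi.hom_ext
  intro x
  change (Φ.map (((cechComplexFunctor U).map τ).f n) ≫ (cechComparison Φ U P').f n) ≫
      Pi.π (fun x : Fin (n + 1) → ι => (P' ⋙ Φ).obj (op (∏ᶜ (U ∘ x)))) x =
    ((cechComparison Φ U P).f n ≫ ((cechComplexFunctor U).map (Functor.whiskerRight τ Φ)).f n) ≫
      Pi.π (fun x : Fin (n + 1) → ι => (P' ⋙ Φ).obj (op (∏ᶜ (U ∘ x)))) x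
  rw [Category.assoc, cechComparison_f_π, ← Functor.map_comp, cechMap_f_π, Category.assoc,
    cechMap_f_π, ← Category.assoc, cechComparison_f_π, Functor.map_comp]
  rfl

end Cech

end Groth.Agent.Lib.Helper2.CechFun
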