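import Groth.Agent.Lib.Helper2.BC2
import Groth.Agent.Lib.Helper2.CechFun
import Groth.Agent.Lib.Helper2.CechNat3

/-!
# The Čech complex of `F ⊗_A M` is the Čech complex of `F` tensored with `M` (helper2)
-/

set_option backward.isDefEq.respectTransparency.types false
set_option autoImplicit false
universe u
open CategoryTheory CategoryTheory.Limits AlgebraicGeometry Opposite TopologicalSpace TensorProduct
  MonoidalCategory
noncomputable section

namespace Groth.Agent.Lib.Helper2.BC3

open Groth.Agent.Lib.Helper28.QCohLoc Groth.Agent.Lib.Helper2.BC1 Groth.Agent.Lib.Helper2.BC2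
  Groth.Agent.Lib.Helper2.CechFun

variable (A : Type u) [CommRing A] {X : Scheme.{u}} [X.Over (Spec (CommRingCat.of A))]

/-- the presheaf of `A`-modules underlying `F` -/
def presA (F : X.Modules) : (Opens X)ᵒᵖ ⥤ ModuleCat.{u} A where
  obj V := ModuleCat.of A (Sec A F V.unop)
  map {V V'} f := ModuleCat.ofHom (resL A F (leOfHom f.unop))
  map_id V := by
    ext x
    exact res_self F (Sec.val x)
  map_comp f g := by
    ext x
    exact (res_res F _ _ (Sec.val x)).symm

/-- `- ⊗_A M` followed by the forgetful functor to abelian groups -/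
abbrev PhiM (M : Type u) [AddCommGroup M] [Module A M] : ModuleCat.{u} A ⥤ AddCommGrpCat.{u} :=
  tensorRight (ModuleCat.of A M) ⋙ forget₂ (ModuleCat.{u} A) AddCommGrpCat.{u}

variable (M : Type u) [AddCommGroup M] [Module A M] (F : X.Modules)

/-- `theta` as a morphism of presheaves of abelian groups -/
def thetaNat : presA A F ⋙ PhiM A M ⟶ (CohIII.tensorA A F M).presheaf where
  app V := AddCommGrpCat.ofHom (theta A M F V.unop).toAddMonoidHom
  naturality V V' f := by
    ext z
    exact (theta_res A M F (leOfHom f.unop) z).symm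

variable {ι : Type u} (U : ι → X.Opens)

/-- the Čech complex of `F` as a complex of `A`-modules -/
abbrev cechA : CochainComplex (ModuleCat.{u} A) ℕ := (cechComplexFunctor U).obj (presA A F)

/-- the comparison `Č(U, F) ⊗_A M ⟶ Č(U, F ⊗_A M)` (complexes of abelian groups) -/
def Psi : ((PhiM A M).mapHomologicalComplex (ComplexShape.up ℕ)).obj (cechA A F U) ⟶
    (cechComplexFunctor U).obj (CohIII.tensorA A F M).presheaf :=
  cechComparison (PhiM A M) U (presA A F) ≫ (cechComplexFunctor U).map (thetaNat A M F)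

theorem isIso_Psi [Finite ι] [F.IsQuasicoherent]
    (hU : ∀ (n : ℕ) (x : Fin (n + 1) → ι), IsAffineOpen (∏ᶜ (U ∘ x))) :
    IsIso (Psi A M F U) := by
  haveI h1 : IsIso (cechComparison (PhiM A M) U (presA A F)) := by
    refine isIso_cechComparison _ _ _ fun n => ?_
    change PreservesLimitsOfShape (Discrete (Fin (n + 1) → ι)) (PhiM A M)
    infer_instance
  haveI h2 : IsIso ((cechComplexFunctor U).map (thetaNat A M F)) := by
    refine isIso_cechMap U _ fun n x => ?_
    have hb := theta_bijective A M F (hU n x)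
    change IsIso (AddCommGrpCat.ofHom (theta A M F (∏ᶜ (U ∘ x))).toAddMonoidHom)
    exact (ConcreteCategory.isIso_iff_bijective _).2 hb
  unfold Psi
  infer_instance

theorem prod_eq_iInf {n : ℕ} (x : Fin (n + 1) → ι) : (∏ᶜ (U ∘ x) : X.Opens) = ⨅ k, U (x k) := by
  apply le_antisymm
  · exact le_iInf fun k => leOfHom (Pi.π (U ∘ x) k)
  · exact leOfHom (Pi.lift (f := U ∘ x) fun k => homOfLE (iInf_le (fun k => U (x k)) k))

theorem isAffineOpen_prod (hU : ∀ s : Finset ι, s.Nonempty → IsAffineOpen (⨅ i ∈ s, U i))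
    {n : ℕ} (x : Fin (n + 1) → ι) : IsAffineOpen (∏ᶜ (U ∘ x) : X.Opens) := by
  classical
  rw [prod_eq_iInf]
  have h1 := hU (Finset.univ.image x) (Finset.univ_nonempty.image x)
  have h2 : (⨅ i ∈ Finset.univ.image x, U i) = ⨅ k, U (x k) := by
    rw [Finset.iInf_finset_image]
    simp
  rwa [h2] at h1

/-- the homology of the image of a complex of modules under the forgetful functor -/
def forgetHomologyIso (D : CochainComplex (ModuleCat.{u} A) ℕ) (p : ℕ) :
    (((forget₂ (ModuleCat.{u} A) AddCommGrpCat.{u}).mapHomologicalComplex (ComplexShape.up ℕ)).obj D).homology p ≅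
      (forget₂ (ModuleCat.{u} A) AddCommGrpCat.{u}).obj (D.homology p) :=
  (D.sc p).mapHomologyIso (forget₂ (ModuleCat.{u} A) AddCommGrpCat.{u})

/-- **the Čech complex of `F`, tensored with `M`, computes the cohomology of `F ⊗_A M`**. -/
theorem nonempty_equiv_tensor [Finite ι] [F.IsQuasicoherent] (hcov : ⨆ i, U i = ⊤)
    (hU : ∀ s : Finset ι, s.Nonempty → IsAffineOpen (⨅ i ∈ s, U i)) (p : ℕ) :
    Nonempty (Coh.HH X (CohIII.tensorA A F M) p ≃+
      ((((tensorRight (ModuleCat.of A M)).mapHomologicalComplex (ComplexShape.up ℕ)).obj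
        (cechA A F U)).homology p : ModuleCat.{u} A)) := by
  haveI := isIso_Psi A M F U (fun n x => isAffineOpen_prod U hU x)
  obtain ⟨e, -⟩ := Groth.Agent.Lib.Helper2.CechNat3.exists_natural_equiv X U hcov hU p
  haveI hq : (CohIII.tensorA A F M).IsQuasicoherent := by
    rw [tensorA_eq]
    infer_instance
  have e1 := e (CohIII.tensorA A F M) hq
  let D := ((tensorRight (ModuleCat.of A M)).mapHomologicalComplex (ComplexShape.up ℕ)).obj (cechA A F U)
  have i1 : (((PhiM A M).mapHomologicalComplex (ComplexShape.up ℕ)).obj (cechA A F U)).homology p ≅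
      ((cechComplexFunctor U).obj (CohIII.tensorA A F M).presheaf).homology p :=
    (HomologicalComplex.homologyFunctor _ _ p).mapIso (asIso (Psi A M F U))
  have i2 : (((PhiM A M).mapHomologicalComplex (ComplexShape.up ℕ)).obj (cechA A F U)).homology p ≅
      (forget₂ (ModuleCat.{u} A) AddCommGrpCat.{u}).obj (D.homology p) := forgetHomologyIso A D p
  have e2 : (D.homology p : ModuleCat.{u} A) ≃+
      ((cechComplexFunctor U).obj (CohIII.tensorA A F M).presheaf).homology p :=
    (i2.symm ≪≫ i1).addCommGroupIsoToAddEquiv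
  exact ⟨(e2.trans e1).symm⟩

end Groth.Agent.Lib.Helper2.BC3
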