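import Groth.Agent.Lib.Helper2.BC3

/-!
# The Čech complex of `F` computes `H^p(X, F)` `A`-linearly (helper2)
-/

set_option backward.isDefEq.respectTransparency.types false
set_option autoImplicit false
universe u
open CategoryTheory CategoryTheory.Limits AlgebraicGeometry Opposite TopologicalSpace TensorProduct
  MonoidalCategory
noncomputable section

namespace Groth.Agent.Lib.Helper2.BC4

open Groth.Agent.Lib.Helper28.QCohLoc Groth.Agent.Lib.Helper2.BC1 Groth.Agent.Lib.Helper2.BC2
  Groth.Agent.Lib.Helper2.BC3 Groth.Agent.Lib.Helper2.CechFun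

variable (A : Type u) [CommRing A] {X : Scheme.{u}} [X.Over (Spec (CommRingCat.of A))]
  (F : X.Modules) {ι : Type u} (U : ι → X.Opens)

/-- the Čech functor is compatible with scalar multiplication -/
theorem cech_map_smul (a : A) :
    (cechComplexFunctor U).map (a • 𝟙 (presA A F)) = a • 𝟙 (cechA A F U) := by
  refine HomologicalComplex.hom_ext _ _ fun n => ?_
  apply Limits.Pi.hom_ext
  intro x
  refine (cechMap_f_π U (a • 𝟙 (presA A F)) n x).trans ?_
  change Pi.π (fun x : Fin (n + 1) → ι => (presA A F).obj (op (∏ᶜ (U ∘ x)))) x ≫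
      (a • 𝟙 ((presA A F).obj (op (∏ᶜ (U ∘ x))))) =
    (a • 𝟙 ((cechA A F U).X n)) ≫
      Pi.π (fun x : Fin (n + 1) → ι => (presA A F).obj (op (∏ᶜ (U ∘ x)))) x
  rw [Linear.comp_smul, Linear.smul_comp, Category.comp_id, Category.id_comp]
  rfl

/-- the underlying presheaf of abelian groups of `presA` -/
def presIso : presA A F ⋙ forget₂ (ModuleCat.{u} A) AddCommGrpCat.{u} ≅ F.presheaf :=
  NatIso.ofComponents (fun V => AddEquiv.toAddCommGrpIso (AddEquiv.refl _)) (by
    intro V V' f
    rfl)

theorem whisker_smul_presIso (a : A) :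
    Functor.whiskerRight (a • 𝟙 (presA A F)) (forget₂ (ModuleCat.{u} A) AddCommGrpCat.{u}) ≫
        (presIso A F).hom =
      (presIso A F).hom ≫ (Coh.smulAb F (Coh.toGlobal (X ↘ Spec (CommRingCat.of A)) a)).hom := by
  ext V x
  rfl

/-- the comparison of the Čech complex of `A`-modules with the Čech complex of abelian groups -/
def Psi0 : ((forget₂ (ModuleCat.{u} A) AddCommGrpCat.{u}).mapHomologicalComplex (ComplexShape.up ℕ)).obj
      (cechA A F U) ⟶ (cechComplexFunctor U).obj F.presheaf :=
  cechComparison (forget₂ (ModuleCat.{u} A) AddCommGrpCat.{u}) U (presA A F) ≫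
    (cechComplexFunctor U).map (presIso A F).hom

instance : IsIso (Psi0 A F U) := by
  haveI h1 : IsIso (cechComparison (forget₂ (ModuleCat.{u} A) AddCommGrpCat.{u}) U (presA A F)) := by
    refine isIso_cechComparison _ _ _ fun n => ?_
    infer_instance
  unfold Psi0
  infer_instance

theorem Psi0_smul (a : A) :
    ((forget₂ (ModuleCat.{u} A) AddCommGrpCat.{u}).mapHomologicalComplex (ComplexShape.up ℕ)).map
        (a • 𝟙 (cechA A F U)) ≫ Psi0 A F U =
      Psi0 A F U ≫ (cechComplexFunctor U).map
        (Coh.smulAb F (Coh.toGlobal (X ↘ Spec (CommRingCat.of A)) a)).hom := by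
  unfold Psi0
  rw [← cech_map_smul, ← Category.assoc, cechComparison_naturality, Category.assoc, Category.assoc,
    ← Functor.map_comp, ← Functor.map_comp, whisker_smul_presIso]
  rfl

theorem homologyMap_smul_id (D : CochainComplex (ModuleCat.{u} A) ℕ) (a : A) (p : ℕ) :
    HomologicalComplex.homologyMap (a • 𝟙 D) p = a • 𝟙 (D.homology p) := by
  have h : (HomologicalComplex.shortComplexFunctor (ModuleCat.{u} A) (ComplexShape.up ℕ) p).map (a • 𝟙 D) =
      a • 𝟙 (D.sc p) := by
    ext <;> rfl
  change ShortComplex.homologyMap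
    ((HomologicalComplex.shortComplexFunctor (ModuleCat.{u} A) (ComplexShape.up ℕ) p).map (a • 𝟙 D)) = _
  rw [h, ShortComplex.homologyMap_smul, ShortComplex.homologyMap_id]
  rfl

/-- **the Čech complex of `A`-modules computes cohomology `A`-linearly**. -/
theorem nonempty_linearEquiv [Finite ι] [F.IsQuasicoherent] (hcov : ⨆ i, U i = ⊤)
    (hU : ∀ s : Finset ι, s.Nonempty → IsAffineOpen (⨅ i ∈ s, U i)) (p : ℕ) :
    Nonempty (((cechA A F U).homology p : ModuleCat.{u} A) ≃ₗ[A] Coh.HH X F p) := by
  obtain ⟨e, he⟩ := Groth.Agent.Lib.Helper2.CechNat3.exists_natural_equiv X U hcov hU p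
  have hq : F.IsQuasicoherent := inferInstance
  let D := cechA A F U
  let G := forget₂ (ModuleCat.{u} A) AddCommGrpCat.{u}
  let i2 : ((G.mapHomologicalComplex (ComplexShape.up ℕ)).obj D).homology p ≅ G.obj (D.homology p) :=
    forgetHomologyIso A D p
  let i1 : ((G.mapHomologicalComplex (ComplexShape.up ℕ)).obj D).homology p ≅
      ((cechComplexFunctor U).obj F.presheaf).homology p :=
    (HomologicalComplex.homologyFunctor _ _ p).mapIso (asIso (Psi0 A F U))
  let e2 : (D.homology p : ModuleCat.{u} A) ≃+ ((cechComplexFunctor U).obj F.presheaf).homology p :=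
    (i2.symm ≪≫ i1).addCommGroupIsoToAddEquiv
  let E : (D.homology p : ModuleCat.{u} A) ≃+ Coh.HH X F p := e2.trans (e F hq)
  refine ⟨{ E with map_smul' := fun a x => ?_ }⟩
  -- naturality
  have n2 : G.map (HomologicalComplex.homologyMap (a • 𝟙 D) p) ≫ i2.inv =
      i2.inv ≫ HomologicalComplex.homologyMap
        ((G.mapHomologicalComplex (ComplexShape.up ℕ)).map (a • 𝟙 D)) p := by
    rw [Iso.comp_inv_eq, Category.assoc, Iso.eq_inv_comp]
    exact (ShortComplex.mapHomologyIso_hom_naturality
      ((HomologicalComplex.shortComplexFunctor (ModuleCat.{u} A) (ComplexShape.up ℕ) p).map (a • 𝟙 D)) G).symm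
  have n1 : HomologicalComplex.homologyMap
        ((G.mapHomologicalComplex (ComplexShape.up ℕ)).map (a • 𝟙 D)) p ≫ i1.hom =
      i1.hom ≫ HomologicalComplex.homologyMap ((cechComplexFunctor U).map
        (Coh.smulAb F (Coh.toGlobal (X ↘ Spec (CommRingCat.of A)) a)).hom) p := by
    change HomologicalComplex.homologyMap _ p ≫ HomologicalComplex.homologyMap (Psi0 A F U) p =
      HomologicalComplex.homologyMap (Psi0 A F U) p ≫ HomologicalComplex.homologyMap _ p
    rw [← HomologicalComplex.homologyMap_comp, ← HomologicalComplex.homologyMap_comp, Psi0_smul]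
    rfl
  have hx : a • x = (HomologicalComplex.homologyMap (a • 𝟙 D) p).hom x := by
    rw [homologyMap_smul_id]
    rfl
  have key : e2 (a • x) = Groth.Agent.Lib.Helper2.CechNat2.cechMap (X := X.toTopCat) U
      (Coh.smulAb F (Coh.toGlobal (X ↘ Spec (CommRingCat.of A)) a)) p (e2 x) := by
    rw [hx]
    have h3 := congrArg (fun φ => φ.hom x) (show G.map (HomologicalComplex.homologyMap (a • 𝟙 D) p) ≫
      i2.inv ≫ i1.hom = (i2.inv ≫ i1.hom) ≫ HomologicalComplex.homologyMap ((cechComplexFunctor U).map
        (Coh.smulAb F (Coh.toGlobal (X ↘ Spec (CommRingCat.of A)) a)).hom) p by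
        rw [← Category.assoc, n2, Category.assoc, n1, Category.assoc]; rfl)
    exact h3
  change e F hq (e2 (a • x)) = a • e F hq (e2 x)
  rw [key, he F F hq hq]
  rfl

end Groth.Agent.Lib.Helper2.BC4
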