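import Groth.Agent.Lib.Helper2.BC4
import Groth.Agent.Lib.Helper17.FlatDict

/-!
# Flatness of the terms of the Čech complex of a flat quasi-coherent module (helper2)
-/

set_option backward.isDefEq.respectTransparency.types false
set_option autoImplicit false
universe u
open CategoryTheory CategoryTheory.Limits AlgebraicGeometry Opposite TopologicalSpace TensorProduct
  MonoidalCategory
noncomputable section

namespace Groth.Agent.Lib.Helper2.BC5

open Groth.Agent.Lib.Helper28.QCohLoc Groth.Agent.Lib.Helper2.BC1 Groth.Agent.Lib.Helper2.BC2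
  Groth.Agent.Lib.Helper2.BC3 Groth.Agent.Lib.Helper2.CechFun Groth.Agent.Lib.Helper17.FlatBCH1

/-- flatness descends along a bijective ring map -/
theorem flat_compHom_of_bijective {A B N : Type u} [CommRing A] [CommRing B] [AddCommGroup N]
    [Module B N] (e : A →+* B) (he : Function.Bijective e) [Module.Flat B N] :
    @Module.Flat A N _ _ (Module.compHom N e) := by
  letI : Module A N := Module.compHom N e
  letI : Algebra A B := e.toAlgebra
  haveI : IsScalarTower A B N := ⟨fun a b n => by
    change (e a * b) • n = e a • (b • n)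
    rw [mul_smul]⟩
  haveI : Module.Flat A B := RingHom.Flat.of_bijective he
  exact Module.Flat.trans A B N

variable (A : Type u) [CommRing A] {X : Scheme.{u}} [X.Over (Spec (CommRingCat.of A))]

/-- sections of a flat quasi-coherent module over an affine open are flat over the base ring -/
theorem flat_sec (F : X.Modules) [F.IsQuasicoherent]
    (hfl : FlatMod.IsFlatOver (X ↘ Spec (CommRingCat.of A)) F) {V : X.Opens} (hV : IsAffineOpen V) :
    Module.Flat A (Sec A F V) := by
  have hle : V ≤ (X ↘ Spec (CommRingCat.of A)) ⁻¹ᵁ ⊤ := le_top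
  have h1 := (Groth.Agent.Lib.Helper17.FlatDict.isFlatOver_iff_flat_sections
    (X ↘ Spec (CommRingCat.of A)) F).1 hfl V ⊤ hle hV (isAffineOpen_top _)
  letI : Module Γ(Spec (CommRingCat.of A), ⊤) Γ(F, V) :=
    Module.compHom Γ(F, V) ((X ↘ Spec (CommRingCat.of A)).appLE ⊤ V hle).hom
  letI mA : Module A Γ(F, V) := Module.compHom Γ(F, V) (Scheme.ΓSpecIso (CommRingCat.of A)).inv.hom
  haveI h2 : Module.Flat A Γ(F, V) :=
    flat_compHom_of_bijective (N := Γ(F, V)) (Scheme.ΓSpecIso (CommRingCat.of A)).inv.hom
      (ConcreteCategory.bijective_of_isIso (Scheme.ΓSpecIso (CommRingCat.of A)).inv)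
  let e : Sec A F V ≃ₗ[A] Γ(F, V) :=
    { toFun := fun x => x.val
      invFun := fun x => Sec.mk A x
      left_inv := fun _ => rfl
      right_inv := fun _ => rfl
      map_add' := fun _ _ => rfl
      map_smul' := fun a x => by
        change algV A V a • x.val = _
        rfl }
  exact Module.Flat.of_linearEquiv e


/-- a finite product of flat modules is flat -/
theorem flat_pi {R : Type u} [CommRing R] {κ : Type u} [Finite κ] (N : κ → Type u)
    [∀ k, AddCommGroup (N k)] [∀ k, Module R (N k)] (h : ∀ k, Module.Flat R (N k)) :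
    Module.Flat R (∀ k, N k) := by
  classical
  haveI := Fintype.ofFinite κ
  exact Module.Flat.of_linearEquiv (DFinsupp.linearEquivFunOnFintype (R := R) (M := N)).symm

variable {ι : Type u} (U : ι → X.Opens)

/-- the terms of the Čech complex of a flat quasi-coherent module are flat -/
theorem flat_cechA_X [Finite ι] (F : X.Modules) [F.IsQuasicoherent]
    (hfl : FlatMod.IsFlatOver (X ↘ Spec (CommRingCat.of A)) F)
    (hU : ∀ s : Finset ι, s.Nonempty → IsAffineOpen (⨅ i ∈ s, U i)) (n : ℕ) :
    Module.Flat A ((cechA A F U).X n) := by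
  let Z : (Fin (n + 1) → ι) → ModuleCat.{u} A := fun x => (presA A F).obj (op (∏ᶜ (U ∘ x)))
  have e : (cechA A F U).X n ≅ ModuleCat.of A (∀ x, Z x) := ModuleCat.piIsoPi Z
  haveI : Module.Flat A (∀ x, Z x) :=
    flat_pi (R := A) (fun x => Z x) fun x => flat_sec A F hfl (isAffineOpen_prod U hU x)
  exact Module.Flat.of_linearEquiv e.toLinearEquiv

end Groth.Agent.Lib.Helper2.BC5
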