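import Groth.Agent.Lib.Helper2.BC2

/-!
# The natural (in `M`) comparison `Γ(V, F) ⊗_A M → Γ(V, s^* M~ ⊗ F)` (helper2)
-/

set_option backward.isDefEq.respectTransparency.types false
set_option autoImplicit false
universe u
open CategoryTheory CategoryTheory.Limits AlgebraicGeometry Opposite TopologicalSpace TensorProduct
noncomputable section

namespace Groth.Agent.Lib.Helper2.BN1

open Groth.Agent.Lib.Helper28.QCohLoc Groth.Agent.Lib.Helper28.TensorGen
  Groth.Agent.Lib.Helper28.PullbackInv Groth.Agent.Lib.Helper17.FlatBCH1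
  Groth.Agent.Lib.Helper17.FlatBCM2 Groth.Agent.Lib.Helper17.PullbackBC
  Groth.Agent.Lib.Helper17.TensorQC Groth.Agent.Lib.Helper2.BC1 Groth.Agent.Lib.Helper2.BC2

variable (A : Type u) [CommRing A] {X : Scheme.{u}} [X.Over (Spec (CommRingCat.of A))]

/-- the functor `M ↦ s^* M~` -/
abbrev pullT : ModuleCat.{u} A ⥤ X.Modules :=
  tilde.functor (CommRingCat.of A) ⋙ Scheme.Modules.pullback (X ↘ Spec (CommRingCat.of A))

theorem pullT_obj (M : ModuleCat.{u} A) : (pullT A (X := X)).obj M = pullTilde A (X := X) M := rfl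

variable (F : X.Modules)

theorem tensorAFunctor_obj (M : ModuleCat.{u} A) :
    (CohIII.tensorAFunctor A F).obj M = CohB1.tensorMod (pullTilde A (X := X) M) F := rfl

theorem tensorAFunctor_map {M N : ModuleCat.{u} A} (g : M ⟶ N) :
    (CohIII.tensorAFunctor A F).map g = LimSh.tensorModMap ((pullT A (X := X)).map g) F := rfl

/-- `s^*` of `g~` -/
def pullMap {M N : ModuleCat.{u} A} (g : M ⟶ N) : pullTilde A (X := X) M ⟶ pullTilde A (X := X) N :=
  (pullT A (X := X)).map g

theorem τM_map {M N : ModuleCat.{u} A} (g : M ⟶ N) (m : M) :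
    (tilde.map (R := CommRingCat.of A) g).app ⊤ (τM A M m) = τM A N (g.hom m) := by
  have h := tilde.toOpen_map_app (R := CommRingCat.of A) g ⊤
  exact congrArg (fun φ => φ.hom m) h

/-- naturality of `sigma` -/
theorem sigma_map {M N : ModuleCat.{u} A} (g : M ⟶ N) (V : X.Opens) (m : M) :
    (pullMap A (X := X) g).app V (sigma A M V m) = sigma A N V (g.hom m) := by
  unfold sigma
  refine (app_res (pullMap A (X := X) g) le_top _).trans ?_
  congr 1
  refine (app_res (pullMap A (X := X) g) _ _).trans ?_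
  congr 1
  rw [← τM_map]
  exact pbs_map (X ↘ Spec (CommRingCat.of A)) (tilde.map (R := CommRingCat.of A) g) ⊤ (τM A M m)


section Theta

variable (M : ModuleCat.{u} A)

/-- `s^* M~ ⊗ F`, the value of `CohIII.tensorAFunctor A F` at `M` -/
abbrev TA : X.Modules := CohB1.tensorMod (pullTilde A (X := X) M) F

/-- the bilinear map `(x, m) ↦ σ(m) ⊗ x` -/
def thetaBil' (V : X.Opens) : Sec A F V →ₗ[A] M →ₗ[A] Sec A (TA A F M) V :=
  LinearMap.mk₂ A (fun x m => Sec.mk A (tmulSec (pullTilde A M) F (sigma A M V m) x.val))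
    (fun x x' m => tmulSec_add_right (pullTilde A M) F (sigma A M V m) x.val x'.val)
    (fun a x m => tmulSec_smul_right (pullTilde A M) F (algV A V a) (sigma A M V m) x.val)
    (fun x m m' => by
      change tmulSec (pullTilde A M) F (sigma A M V (m + m')) x.val = _
      rw [sigma_add, tmulSec_add_left]
      rfl)
    (fun a x m => by
      change tmulSec (pullTilde A M) F (sigma A M V (a • m)) x.val = _
      rw [sigma_smul, tmulSec_smul_left]
      rfl)

/-- the canonical map `Γ(V, F) ⊗_A M → Γ(V, s^* M~ ⊗ F)` -/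
def theta' (V : X.Opens) : Sec A F V ⊗[A] M →ₗ[A] Sec A (TA A F M) V :=
  TensorProduct.lift (thetaBil' A F M V)

theorem theta'_tmul (V : X.Opens) (x : Sec A F V) (m : M) :
    (theta' A F M V (x ⊗ₜ[A] m)).val = tmulSec (pullTilde A M) F (sigma A M V m) x.val := rfl

/-- naturality of `theta'` with respect to restriction -/
theorem theta'_res {V V' : X.Opens} (h : V' ≤ V) (z : Sec A F V ⊗[A] M) :
    resL A (TA A F M) h (theta' A F M V z) =
      theta' A F M V' ((resL A F h).rTensor M z) := by
  induction z with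
  | zero => simp
  | add x y hx hy => rw [map_add, map_add, hx, hy, map_add, map_add]
  | tmul x m =>
    change res (CohB1.tensorMod (pullTilde A M) F) h (tmulSec (pullTilde A M) F (sigma A M V m) x.val) =
      tmulSec (pullTilde A M) F (sigma A M V' m) (res F h x.val)
    rw [tmulSec_res, sigma_res]

/-- naturality of `theta'` in the module -/
theorem theta'_map {N : ModuleCat.{u} A} (g : M ⟶ N) (V : X.Opens) (z : Sec A F V ⊗[A] M) :
    (LimSh.tensorModMap (pullMap A (X := X) g) F).app V (theta' A F M V z).val =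
      (theta' A F N V (g.hom.lTensor (Sec A F V) z)).val := by
  induction z with
  | zero =>
    rw [map_zero, map_zero]
    exact map_zero _
  | add x y hx hy =>
    rw [map_add, map_add, map_add]
    refine (map_add _ _ _).trans ?_
    exact congrArg₂ (· + ·) hx hy
  | tmul x m =>
    change (LimSh.tensorModMap (pullMap A (X := X) g) F).app V
      (tmulSec (pullTilde A M) F (sigma A M V m) x.val) =
        tmulSec (pullTilde A N) F (sigma A N V (g.hom m)) x.val
    rw [tensorModMap_tmulSec, sigma_map]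

theorem theta'_bijective [F.IsQuasicoherent] {V : X.Opens} (hV : IsAffineOpen V) :
    Function.Bijective (theta' A F M V) := by
  let N := pullTilde A (X := X) M
  have hη : Function.Bijective (η N F (W := V)) := by
    constructor
    · intro a b hab
      have h0 : η N F (a - b) = 0 := by rw [η_sub, hab, sub_self]
      exact sub_eq_zero.mp (η_injective N F hV _ h0)
    · intro t
      exact η_surjective N F hV t
  let ηE : PT N F V ≃+ Γ(TT N F, V) :=
    AddEquiv.ofBijective (AddMonoidHom.mk' (η N F (W := V)) (η_add N F)) hη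
  let cm : (Γ(N, V) ⊗[Γ(X, V)] Γ(F, V)) ≃+ (Γ(F, V) ⊗[Γ(X, V)] Γ(N, V)) :=
    (TensorProduct.comm Γ(X, V) Γ(N, V) Γ(F, V)).toAddEquiv
  let w₀ : Sec A F V ⊗[A] M →+ (Γ(N, V) ⊗[Γ(X, V)] Γ(F, V)) :=
    ηE.symm.toAddMonoidHom.comp (theta' A F M V).toAddMonoidHom
  let w₁ : Sec A F V ⊗[A] M →+ (Γ(F, V) ⊗[Γ(X, V)] Γ(N, V)) := cm.toAddMonoidHom.comp w₀
  have hw₁ : Function.Bijective w₁ := by
    refine bijective_of_isBC_right (algV A V) (P₀ := Sec A F V) (fun a p => rfl)
      (fun m => sigma A M V m) (isBC_sigma A M hV) w₁ ?_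
    intro p m
    change cm (ηE.symm (theta' A F M V (p ⊗ₜ[A] m))) = _
    have h1 : ηE.symm (theta' A F M V (p ⊗ₜ[A] m)) = ptmul N F (sigma A M V m) p.val :=
      ηE.symm_apply_apply (ptmul N F (sigma A M V m) p.val)
    rw [h1]
    rfl
  have hw₀ : Function.Bijective w₀ := by
    have : (w₀ : _ → _) = cm.symm ∘ w₁ := by
      funext t
      exact (cm.symm_apply_apply _).symm
    rw [this]
    exact cm.symm.bijective.comp hw₁
  have : (theta' A F M V : _ → _) = ηE ∘ w₀ := by
    funext t
    exact (ηE.apply_symm_apply _).symm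
  rw [this]
  exact ηE.bijective.comp hw₀

end Theta

end Groth.Agent.Lib.Helper2.BN1
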