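import Groth.Agent.Lib.Helper2.CechFun

/-!
# Čech complexes and additive functors: naturality in the functor (helper2)
-/

set_option autoImplicit false
set_option backward.isDefEq.respectTransparency false
universe w v v' v'' u u' u''

open CategoryTheory CategoryTheory.Limits Opposite Simplicial AlgebraicTopology

namespace Groth.Agent.Lib.Helper2.CechFun

variable {C : Type u} [Category.{v} C] {𝒜 : Type u'} [Category.{v'} 𝒜] {ℬ : Type u''} [Category.{v''} ℬ]
  [HasProducts.{w} 𝒜] [HasProducts.{w} ℬ]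
  [HasFiniteProducts C] [Preadditive 𝒜] [Preadditive ℬ]
  {ι : Type w} (U : ι → C) (P : Cᵒᵖ ⥤ 𝒜)

/-- naturality of the comparison in the functor -/
theorem cechComparison_natTrans {Φ Φ' : 𝒜 ⥤ ℬ} [Φ.Additive] [Φ'.Additive] (τ : Φ ⟶ Φ') :
    (NatTrans.mapHomologicalComplex τ (ComplexShape.up ℕ)).app ((cechComplexFunctor U).obj P) ≫
        cechComparison Φ' U P =
      cechComparison Φ U P ≫ (cechComplexFunctor U).map (Functor.whiskerLeft P τ) := by
  ext n
  apply Limits.Pi.hom_ext
  intro x
  change (τ.app _ ≫ (cechComparison Φ' U P).f n) ≫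
      Pi.π (fun x : Fin (n + 1) → ι => (P ⋙ Φ').obj (op (∏ᶜ (U ∘ x)))) x =
    ((cechComparison Φ U P).f n ≫ ((cechComplexFunctor U).map (Functor.whiskerLeft P τ)).f n) ≫
      Pi.π (fun x : Fin (n + 1) → ι => (P ⋙ Φ').obj (op (∏ᶜ (U ∘ x)))) x
  rw [Category.assoc, cechComparison_f_π, Category.assoc, cechMap_f_π, ← Category.assoc,
    cechComparison_f_π]
  exact (τ.naturality _).symm

end Groth.Agent.Lib.Helper2.CechFun
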