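import Groth.Agent.Lib.Helper2.BN1
import Groth.Agent.Lib.Helper2.BC4
import Groth.Agent.Lib.Helper2.CechFun2

/-!
# The natural (in `M`) identification of `H^p(X, s^* M~ ⊗ F)` with `H^p(Č(U, F) ⊗_A M)` (helper2)
-/

set_option backward.isDefEq.respectTransparency.types false
set_option autoImplicit false
universe u
open CategoryTheory CategoryTheory.Limits AlgebraicGeometry Opposite TopologicalSpace TensorProduct
  MonoidalCategory
noncomputable section

namespace Groth.Agent.Lib.Helper2.BN2

open Groth.Agent.Lib.Helper28.QCohLoc Groth.Agent.Lib.Helper2.BC1 Groth.Agent.Lib.Helper2.BC2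
  Groth.Agent.Lib.Helper2.BC3 Groth.Agent.Lib.Helper2.BN1 Groth.Agent.Lib.Helper2.CechFun


variable (A : Type u) [CommRing A] {X : Scheme.{u}} [X.Over (Spec (CommRingCat.of A))]
  (F : X.Modules) {ι : Type u} (U : ι → X.Opens)

/-- `theta'` as a morphism of presheaves of abelian groups -/
def thetaNat' (M : ModuleCat.{u} A) : presA A F ⋙ PhiM A M ⟶ (TA A F M).presheaf where
  app V := AddCommGrpCat.ofHom (theta' A F M V.unop).toAddMonoidHom
  naturality V V' f := by
    ext z
    exact (theta'_res A F M (leOfHom f.unop) z).symm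

/-- the comparison `Č(U, F) ⊗_A M ⟶ Č(U, s^* M~ ⊗ F)` (complexes of abelian groups) -/
def Psi' (M : ModuleCat.{u} A) :
    ((PhiM A M).mapHomologicalComplex (ComplexShape.up ℕ)).obj (cechA A F U) ⟶
      (cechComplexFunctor U).obj (TA A F M).presheaf :=
  cechComparison (PhiM A M) U (presA A F) ≫ (cechComplexFunctor U).map (thetaNat' A F M)

theorem isIso_cechComparison_PhiM [Finite ι] (M : Type u) [AddCommGroup M] [Module A M] :
    IsIso (cechComparison (PhiM A M) U (presA A F)) := by
  refine isIso_cechComparison _ _ _ fun n => ?_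
  change PreservesLimitsOfShape (Discrete (Fin (n + 1) → ι)) (PhiM A M)
  infer_instance

theorem isIso_Psi' [Finite ι] [F.IsQuasicoherent] (M : ModuleCat.{u} A)
    (hU : ∀ (n : ℕ) (x : Fin (n + 1) → ι), IsAffineOpen (∏ᶜ (U ∘ x))) :
    IsIso (Psi' A F U M) := by
  haveI h1 : IsIso (cechComparison (PhiM A M) U (presA A F)) := isIso_cechComparison_PhiM A F U M
  haveI h2 : IsIso ((cechComplexFunctor U).map (thetaNat' A F M)) := by
    refine isIso_cechMap U _ fun n x => ?_
    have hb := theta'_bijective A F M (hU n x)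
    change IsIso (AddCommGrpCat.ofHom (theta' A F M (∏ᶜ (U ∘ x))).toAddMonoidHom)
    exact (ConcreteCategory.isIso_iff_bijective _).2 hb
  unfold Psi'
  infer_instance

/-- the natural transformation `- ⊗ M ⟶ - ⊗ N` -/
def phiMap {M N : ModuleCat.{u} A} (g : M ⟶ N) : PhiM A M ⟶ PhiM A N :=
  Functor.whiskerRight ((tensoringRight (ModuleCat.{u} A)).map g)
    (forget₂ (ModuleCat.{u} A) AddCommGrpCat.{u})

/-- the map of abelian sheaves underlying `(tensorAFunctor A F).map g` -/
def abMap {M N : ModuleCat.{u} A} (g : M ⟶ N) : Coh.toAb (TA A F M) ⟶ Coh.toAb (TA A F N) :=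
  (SheafOfModules.toSheaf X.ringCatSheaf).map ((CohIII.tensorAFunctor A F).map g)

/-- the same, as a map of presheaves -/
def presMap {M N : ModuleCat.{u} A} (g : M ⟶ N) : (TA A F M).presheaf ⟶ (TA A F N).presheaf :=
  (abMap A F g).hom

theorem thetaNat'_naturality {M N : ModuleCat.{u} A} (g : M ⟶ N) :
    thetaNat' A F M ≫ presMap A F g =
      Functor.whiskerLeft (presA A F) (phiMap A g) ≫ thetaNat' A F N := by
  ext V z
  exact theta'_map A F M g V.unop z

theorem Psi'_naturality {M N : ModuleCat.{u} A} (g : M ⟶ N) :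
    (NatTrans.mapHomologicalComplex (phiMap A g) (ComplexShape.up ℕ)).app (cechA A F U) ≫
        Psi' A F U N =
      Psi' A F U M ≫ (cechComplexFunctor U).map (presMap A F g) := by
  have h1 : (cechComplexFunctor U).map (thetaNat' A F M) ≫ (cechComplexFunctor U).map (presMap A F g) =
      (cechComplexFunctor U).map (Functor.whiskerLeft (presA A F) (phiMap A g)) ≫
        (cechComplexFunctor U).map (thetaNat' A F N) :=
    ((cechComplexFunctor U).map_comp _ _).symm.trans
      ((congrArg (fun t => (cechComplexFunctor U).map t) (thetaNat'_naturality A F g)).trans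
        ((cechComplexFunctor U).map_comp _ _))
  have h2 := cechComparison_natTrans U (presA A F) (phiMap A g)
  unfold Psi'
  rw [Category.assoc, h1, ← Category.assoc, ← Category.assoc, h2]

end Groth.Agent.Lib.Helper2.BN2
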