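import Groth.Agent.Lib.Helper2.BN2

/-!
# The natural isomorphism `H^p(X, s^* (-)~ ⊗ F) ≅ H^p(Č(U, F) ⊗_A -)` (helper2)
-/

set_option backward.isDefEq.respectTransparency.types false
set_option autoImplicit false
universe u
open CategoryTheory CategoryTheory.Limits AlgebraicGeometry Opposite TopologicalSpace TensorProduct
  MonoidalCategory
noncomputable section

namespace Groth.Agent.Lib.Helper2.BN3

open Groth.Agent.Lib.Helper28.QCohLoc Groth.Agent.Lib.Helper2.BC1 Groth.Agent.Lib.Helper2.BC2
  Groth.Agent.Lib.Helper2.BC3 Groth.Agent.Lib.Helper2.BN1 Groth.Agent.Lib.Helper2.BN2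
  Groth.Agent.Lib.Helper2.CechFun

variable (A : Type u) [CommRing A] {X : Scheme.{u}} [X.Over (Spec (CommRingCat.of A))]
  (F : X.Modules) {ι : Type u} (U : ι → X.Opens)

instance (M : ModuleCat.{u} A) [F.IsQuasicoherent] : (TA A F M).IsQuasicoherent := by
  unfold TA
  infer_instance

/-- naturality of `forgetHomologyIso` -/
theorem forgetHomologyIso_naturality {D D' : CochainComplex (ModuleCat.{u} A) ℕ} (ψ : D ⟶ D') (p : ℕ) :
    HomologicalComplex.homologyMap
        (((forget₂ (ModuleCat.{u} A) AddCommGrpCat.{u}).mapHomologicalComplex (ComplexShape.up ℕ)).map ψ) p ≫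
        (forgetHomologyIso A D' p).hom =
      (forgetHomologyIso A D p).hom ≫
        (forget₂ (ModuleCat.{u} A) AddCommGrpCat.{u}).map (HomologicalComplex.homologyMap ψ p) :=
  ShortComplex.mapHomologyIso_hom_naturality
    ((HomologicalComplex.shortComplexFunctor (ModuleCat.{u} A) (ComplexShape.up ℕ) p).map ψ)
    (forget₂ (ModuleCat.{u} A) AddCommGrpCat.{u})

/-- **the natural form of "the Čech complex of `F`, tensored with `M`, computes `H^p(X, s^* M~ ⊗ F)`"** -/
theorem nonempty_natIso [Finite ι] [F.IsQuasicoherent] (hcov : ⨆ i, U i = ⊤)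
    (hU : ∀ s : Finset ι, s.Nonempty → IsAffineOpen (⨅ i ∈ s, U i)) (p : ℕ) :
    Nonempty (CohIII.tensorAFunctor A F ⋙ CohIII.HAb X p ≅
      CohIII.TFun (cechA A F U) p ⋙ forget₂ (ModuleCat.{u} A) AddCommGrpCat.{u}) := by
  obtain ⟨e, he⟩ := Groth.Agent.Lib.Helper2.CechNat3.exists_natural_equiv X U hcov hU p
  have hq : ∀ M : ModuleCat.{u} A, (TA A F M).IsQuasicoherent := fun M => inferInstance
  haveI : ∀ M : ModuleCat.{u} A, IsIso (Psi' A F U M) :=
    fun M => isIso_Psi' A F U M (fun n x => isAffineOpen_prod U hU x)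
  let C := cechA A F U
  let G := forget₂ (ModuleCat.{u} A) AddCommGrpCat.{u}
  let E : ∀ M : ModuleCat.{u} A, ((cechComplexFunctor U).obj (TA A F M).presheaf).homology p ≅
      (CohIII.tensorAFunctor A F ⋙ CohIII.HAb X p).obj M :=
    fun M => (e (TA A F M) (hq M)).toAddCommGrpIso
  have hE : ∀ {M N : ModuleCat.{u} A} (g : M ⟶ N),
      HomologicalComplex.homologyMap ((cechComplexFunctor U).map (presMap A F g)) p ≫ (E N).hom =
        (E M).hom ≫ (CohIII.tensorAFunctor A F ⋙ CohIII.HAb X p).map g := by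
    intro M N g
    ext x
    exact he (TA A F M) (TA A F N) (hq M) (hq N) (abMap A F g) x
  let j1 : ∀ M : ModuleCat.{u} A,
      (((PhiM A M).mapHomologicalComplex (ComplexShape.up ℕ)).obj C).homology p ≅
        ((cechComplexFunctor U).obj (TA A F M).presheaf).homology p :=
    fun M => (HomologicalComplex.homologyFunctor _ _ p).mapIso (asIso (Psi' A F U M))
  have hj1 : ∀ {M N : ModuleCat.{u} A} (g : M ⟶ N),
      HomologicalComplex.homologyMap
          ((NatTrans.mapHomologicalComplex (phiMap A g) (ComplexShape.up ℕ)).app C) p ≫ (j1 N).hom =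
        (j1 M).hom ≫
          HomologicalComplex.homologyMap ((cechComplexFunctor U).map (presMap A F g)) p := by
    intro M N g
    change HomologicalComplex.homologyMap _ p ≫ HomologicalComplex.homologyMap (Psi' A F U N) p =
      HomologicalComplex.homologyMap (Psi' A F U M) p ≫ HomologicalComplex.homologyMap _ p
    rw [← HomologicalComplex.homologyMap_comp, ← HomologicalComplex.homologyMap_comp,
      Psi'_naturality]
  let j2 : ∀ M : ModuleCat.{u} A,
      (((PhiM A M).mapHomologicalComplex (ComplexShape.up ℕ)).obj C).homology p ≅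
        G.obj ((CohIII.tensorObj C M).homology p) :=
    fun M => forgetHomologyIso A (CohIII.tensorObj C M) p
  have hj2 : ∀ {M N : ModuleCat.{u} A} (g : M ⟶ N),
      HomologicalComplex.homologyMap
          ((NatTrans.mapHomologicalComplex (phiMap A g) (ComplexShape.up ℕ)).app C) p ≫ (j2 N).hom =
        (j2 M).hom ≫ G.map (HomologicalComplex.homologyMap (CohIII.tensorMap C g) p) := by
    intro M N g
    exact forgetHomologyIso_naturality A (CohIII.tensorMap C g) p
  refine ⟨NatIso.ofComponents (fun M => (E M).symm ≪≫ (j1 M).symm ≪≫ j2 M) ?_⟩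
  intro M N g
  have h1 : (CohIII.tensorAFunctor A F ⋙ CohIII.HAb X p).map g ≫ (E N).inv =
      (E M).inv ≫ HomologicalComplex.homologyMap ((cechComplexFunctor U).map (presMap A F g)) p := by
    rw [Iso.comp_inv_eq, Category.assoc, Iso.eq_inv_comp]
    exact (hE g).symm
  have h2 : HomologicalComplex.homologyMap ((cechComplexFunctor U).map (presMap A F g)) p ≫ (j1 N).inv =
      (j1 M).inv ≫ HomologicalComplex.homologyMap
          ((NatTrans.mapHomologicalComplex (phiMap A g) (ComplexShape.up ℕ)).app C) p := by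
    rw [Iso.comp_inv_eq, Category.assoc, Iso.eq_inv_comp]
    exact (hj1 g).symm
  change (CohIII.tensorAFunctor A F ⋙ CohIII.HAb X p).map g ≫ (E N).inv ≫ (j1 N).inv ≫ (j2 N).hom =
    ((E M).inv ≫ (j1 M).inv ≫ (j2 M).hom) ≫
      G.map (HomologicalComplex.homologyMap (CohIII.tensorMap C g) p)
  rw [← Category.assoc, h1, Category.assoc, ← Category.assoc _ (j1 N).inv, h2, Category.assoc,
    hj2 g, Category.assoc, Category.assoc]

end Groth.Agent.Lib.Helper2.BN3
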