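import Mathlib
import Groth.Agent.Lib.Helper2.Kodaira4
import Groth.Agent.Lib.Helper7.SmoothProperFlatFin
import Groth.Prelude.Def_NumR
set_option backward.isDefEq.respectTransparency.types false
set_option autoImplicit false
set_option linter.style.haveILetI false

/-!
# Helper2 — BigCone: class calculus in `N¹(X)_ℝ` and the big cone as ample cone plus effective cone
-/

universe u
open CategoryTheory CategoryTheory.Limits AlgebraicGeometry TopologicalSpace

namespace Groth.Agent.Lib.Helper2.BigCone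

open Groth.Agent.Lib.Helper2.KodSub Groth.Agent.Lib.Helper2.KodUB Groth.Agent.Lib.Helper2.Kodaira
  Groth.Agent.Lib.Helper6.K0Op Groth.Agent.Lib.Helper28.GenLocus NumR

section classes
variable (k : Type u) [Field k] {X : Scheme.{u}} [X.Over (Spec (CommRingCat.of k))] [PicGrp.Law X]

theorem cls_congr {L M : X.Modules} (e : L ≅ M) (hL : PicF.IsInvertible L) (hM : PicF.IsInvertible M) :
    PicGrp.cls L hL = PicGrp.cls M hM := (PicGrp.cls_eq_cls_iff hL hM).2 ⟨e⟩

theorem cls_tensorMod {L M : X.Modules} (hL : PicF.IsInvertible L) (hM : PicF.IsInvertible M)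
    (hLM : PicF.IsInvertible (CohB1.tensorMod L M)) :
    PicGrp.cls (CohB1.tensorMod L M) hLM = PicGrp.cls L hL * PicGrp.cls M hM :=
  Subtype.ext (PicGrp.cls_mul_cls_val hL hM).symm

theorem cls_tensorPow {L : X.Modules} (hL : PicF.IsInvertible L) (n : ℕ)
    (hLn : PicF.IsInvertible (CohB1.tensorPow L n)) :
    PicGrp.cls (CohB1.tensorPow L n) hLn = PicGrp.cls L hL ^ n :=
  Subtype.ext (PicGrp.cls_pow_val hL n).symm

theorem clR_congr {L M : X.Modules} (e : L ≅ M) (hL : PicF.IsInvertible L) (hM : PicF.IsInvertible M) :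
    clR k X L hL = clR k X M hM := by
  unfold clR cl
  rw [cls_congr e hL hM]

theorem clR_tensorMod {L M : X.Modules} (hL : PicF.IsInvertible L) (hM : PicF.IsInvertible M)
    (hLM : PicF.IsInvertible (CohB1.tensorMod L M)) :
    clR k X (CohB1.tensorMod L M) hLM = clR k X L hL + clR k X M hM := by
  unfold clR cl
  rw [cls_tensorMod hL hM hLM, ofMul_mul, map_add, map_add]

theorem clR_tensorPow {L : X.Modules} (hL : PicF.IsInvertible L) (n : ℕ)
    (hLn : PicF.IsInvertible (CohB1.tensorPow L n)) :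
    clR k X (CohB1.tensorPow L n) hLn = (n : ℝ) • clR k X L hL := by
  unfold clR cl
  rw [cls_tensorPow hL n hLn, ofMul_pow, map_nsmul, map_nsmul, Nat.cast_smul_eq_nsmul]

theorem clR_unit (hO : PicF.IsInvertible (Coh.structureModule X)) :
    clR k X (Coh.structureModule X) hO = 0 := by
  unfold clR cl
  have : PicGrp.cls (Coh.structureModule X) hO = 1 := PicGrp.cls_structureModule_eq_one
  rw [this, ofMul_one, map_zero, map_zero]

theorem clR_of_isInverseOf {L L' : X.Modules} (hL : PicF.IsInvertible L) (hL' : PicF.IsInvertible L')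
    (h : ClSub.IsInverseOf L' L) : clR k X L' hL' = - clR k X L hL := by
  obtain ⟨e⟩ := h
  have hO := Groth.Agent.Lib.Helper28.AmpleUnit.isInvertible_structureModule X
  have h1 := clR_tensorMod k hL' hL (isInvertible_tensorMod hL' hL)
  rw [clR_congr k e (isInvertible_tensorMod hL' hL) hO, clR_unit k hO] at h1
  exact eq_neg_of_add_eq_zero_left h1.symm

end classes

section big
variable (k : Type u) [Field k] {X : Scheme.{u}} [X.Over (Spec (CommRingCat.of k))]
  [IsProper (X ↘ Spec (CommRingCat.of k))] [IsIntegral X]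

/-- the form of bigness used: every ample module embeds in a positive power -/
def BigP (L : X.Modules) : Prop :=
  ∀ A : X.Modules, CohB1.IsAmple A → ∃ (m : ℕ) (φ : A ⟶ CohB1.tensorPow L m), 0 < m ∧ Mono φ

theorem bigP_iff (L : X.Modules) :
    BigP L ↔ ∀ A : X.Modules, CohB1.IsAmple A → ∃ m : ℕ, 0 < m ∧ Sub A (CohB1.tensorPow L m) := by
  constructor
  · intro h A hA
    obtain ⟨m, φ, hm, hφ⟩ := h A hA
    exact ⟨m, hm, φ, hφ⟩
  · intro h A hA
    obtain ⟨m, hm, φ, hφ⟩ := h A hA
    exact ⟨m, φ, hm, hφ⟩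

include k in
theorem exists_dim : ∃ n : ℕ, topologicalKrullDim X = (n : WithBot ℕ∞) := by
  haveI : LocallyOfFiniteType (X ↘ Spec (CommRingCat.of k)) := inferInstance
  exact Groth.Agent.Lib.Helper7.SmoothProperFlatFin.exists_nat_dim k X

include k in
/-- ample modules are big -/
theorem bigP_of_isAmple {H : X.Modules} (hH : CohB1.IsAmple H) (A : X.Modules) (hA : CohB1.IsAmple A) :
    BigP A := by
  rw [bigP_iff]
  obtain ⟨n, hn⟩ := exists_dim k (X := X)
  obtain ⟨N, m₀, -, hlb⟩ := lb_ample k n hn A hA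
  exact sub_of_growth k n hn hH hA.1 N (fun M₀ => ⟨max M₀ m₀, le_max_left _ _, hlb _ (le_max_right _ _)⟩)

include k in
/-- ample tensor effective is big -/
theorem bigP_tensor_eff {H : X.Modules} (hH : CohB1.IsAmple H) (A : X.Modules) (hA : CohB1.IsAmple A)
    (E : X.Modules) (hE : PicF.IsInvertible E) (hs : Eff E) : BigP (CohB1.tensorMod A E) := by
  rw [bigP_iff]
  intro A' hA'
  obtain ⟨m, hm, hsub⟩ := (bigP_iff A).1 (bigP_of_isAmple k hH A hA) A' hA'
  have h1 : Sub A (CohB1.tensorMod A E) := Sub.tensor_eff hA.1 (Sub.refl _) hs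
  exact ⟨m, hm, hsub.trans (h1.pow hA.1 (isInvertible_tensorMod hA.1 hE) m)⟩

end big

section cone
variable (k : Type u) [Field k] {X : Scheme.{u}} [X.Over (Spec (CommRingCat.of k))]
  [IsProper (X ↘ Spec (CommRingCat.of k))] [IsIntegral X] [PicGrp.Law X]

theorem hasSection_iff_eff (E : X.Modules) (hE : PicF.IsInvertible E) : HasSection E ↔ Eff E := by
  constructor
  · rintro ⟨s, hs⟩
    exact ⟨s, Groth.Agent.Lib.Helper8.CurveInv.mono_of_ne_zero
      (Groth.Agent.Lib.Helper28.AmpleUnit.isInvertible_structureModule X) hE s hs⟩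
  · rintro ⟨s, hs⟩
    refine ⟨s, fun h0 => ?_⟩
    have hz : IsZero (Coh.structureModule X) := IsZero.of_mono_eq_zero s h0
    have h1 := Groth.Agent.Lib.Helper16.K0Supp.support_of_isZero hz
    rw [Groth.Agent.Lib.Helper4.Snapper.support_of_isInvertible _
      (Groth.Agent.Lib.Helper28.AmpleUnit.isInvertible_structureModule X)] at h1
    exact Set.univ_nonempty.ne_empty h1

/-- a big class is ample plus effective -/
theorem big_decomp {H : X.Modules} (hH : CohB1.IsAmple H) (L : X.Modules) (hL : PicF.IsInvertible L)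
    (hbig : BigP L) :
    ∃ (m : ℕ) (E : X.Modules) (hE : PicF.IsInvertible E), 0 < m ∧ HasSection E ∧
      (m : ℝ) • clR k X L hL = clR k X H hH.1 + clR k X E hE := by
  obtain ⟨m, φ, hm, hφ⟩ := hbig H hH
  set H' := Groth.Agent.Lib.Helper28.HomMod.dual H with hH'
  have hinv : ClSub.IsInverseOf H' H := Groth.Agent.Lib.Helper8.InvInverse.isInverseOf_dual hH.1
  have hH'i : PicF.IsInvertible H' := Groth.Agent.Lib.Helper28.HomMod.isInvertible_dual hH.1
  have hLm := isInvertible_tensorPow hL m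
  have hEi : PicF.IsInvertible (CohB1.tensorMod H' (CohB1.tensorPow L m)) := isInvertible_tensorMod hH'i hLm
  have hφ0 : φ ≠ 0 := by
    intro h0
    have hz : IsZero H := IsZero.of_mono_eq_zero φ h0
    have h1 := Groth.Agent.Lib.Helper16.K0Supp.support_of_isZero hz
    rw [Groth.Agent.Lib.Helper4.Snapper.support_of_isInvertible _ hH.1] at h1
    exact Set.univ_nonempty.ne_empty h1
  have hnt := (Groth.Agent.Lib.Helper2.TensEq.exists_hom_ne_zero_iff hinv (CohB1.tensorPow L m)).1 ⟨φ, hφ0⟩
  obtain ⟨s, hs⟩ := Groth.Agent.Lib.Helper2.IntNum7.exists_hom_ne_zero_of_nontrivial_HH _ hnt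
  refine ⟨m, _, hEi, hm, ⟨s, hs⟩, ?_⟩
  rw [clR_tensorMod k hH'i hLm hEi, clR_tensorPow k hL m hLm, clR_of_isInverseOf k hH.1 hH'i hinv]
  abel

end cone

end Groth.Agent.Lib.Helper2.BigCone
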