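import Mathlib
import Groth.Agent.Lib.Helper2.BigCone
set_option backward.isDefEq.respectTransparency.types false
set_option autoImplicit false
set_option linter.style.haveILetI false

/-!
# Helper2 — BigCone2: `Big(X) = Amp(X) + Eff(X)` in `N¹(X)_ℝ`
-/

universe u
open CategoryTheory CategoryTheory.Limits AlgebraicGeometry TopologicalSpace

namespace Groth.Agent.Lib.Helper2.BigCone

open Groth.Agent.Lib.Helper2.KodSub Groth.Agent.Lib.Helper2.KodUB Groth.Agent.Lib.Helper2.Kodaira
  Groth.Agent.Lib.Helper6.K0Op Groth.Agent.Lib.Helper28.GenLocus NumR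

variable (k : Type u) [Field k] {X : Scheme.{u}} [X.Over (Spec (CommRingCat.of k))]
  [IsProper (X ↘ Spec (CommRingCat.of k))] [IsIntegral X] [PicGrp.Law X]

/-- the big cone -/
noncomputable abbrev bigCone : ConvexCone ℝ (N1R k X) := coneOf k X (BigP (X := X))

theorem clR_mem_bigCone (L : X.Modules) (hL : PicF.IsInvertible L) (h : BigP L) :
    clR k X L hL ∈ bigCone k (X := X) :=
  ConvexCone.subset_hull ⟨L, hL, h, rfl⟩

theorem clR_mem_ampleCone (A : X.Modules) (hA : CohB1.IsAmple A) : clR k X A hA.1 ∈ ampleCone k X :=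
  ConvexCone.subset_hull ⟨A, hA.1, hA, rfl⟩

theorem clR_mem_effCone (E : X.Modules) (hE : PicF.IsInvertible E) (hs : HasSection E) :
    clR k X E hE ∈ effCone k X :=
  ConvexCone.subset_hull ⟨E, hE, hs, rfl⟩

/-- `Big ⊆ Amp + Eff` -/
theorem bigCone_le {H : X.Modules} (hH : CohB1.IsAmple H) :
    bigCone k (X := X) ≤ ampleCone k X + effCone k X := by
  apply ConvexCone.hull_min
  rintro x ⟨L, hL, hbig, rfl⟩
  obtain ⟨m, E, hE, hm, hs, heq⟩ := big_decomp k hH L hL hbig
  have hm0 : (0 : ℝ) < (m : ℝ) := by exact_mod_cast hm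
  have hinv : (0 : ℝ) < (m : ℝ)⁻¹ := inv_pos.2 hm0
  rw [SetLike.mem_coe, ConvexCone.mem_add]
  refine ⟨(m : ℝ)⁻¹ • clR k X H hH.1, (ampleCone k X).smul_mem hinv (clR_mem_ampleCone k H hH),
    (m : ℝ)⁻¹ • clR k X E hE, (effCone k X).smul_mem hinv (clR_mem_effCone k E hE hs), ?_⟩
  rw [← smul_add, ← heq, smul_smul, inv_mul_cancel₀ hm0.ne', one_smul]

/-- ample plus a positive multiple of an effective class is big -/
theorem clR_add_smul_mem {H : X.Modules} (hH : CohB1.IsAmple H) (A : X.Modules) (hA : CohB1.IsAmple A)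
    (E : X.Modules) (hE : PicF.IsInvertible E) (hs : HasSection E) (s : ℝ) (hs0 : 0 < s) :
    clR k X A hA.1 + s • clR k X E hE ∈ bigCone k (X := X) := by
  obtain ⟨N, hN⟩ := exists_nat_gt s
  have hN0 : (0 : ℝ) < (N : ℝ) := lt_trans hs0 hN
  have hEff : Eff E := (hasSection_iff_eff E hE).1 hs
  have hEN : PicF.IsInvertible (CohB1.tensorPow E N) := isInvertible_tensorPow hE N
  have hAE : PicF.IsInvertible (CohB1.tensorMod A (CohB1.tensorPow E N)) := isInvertible_tensorMod hA.1 hEN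
  have hb1 : clR k X A hA.1 ∈ bigCone k (X := X) := clR_mem_bigCone k A hA.1 (bigP_of_isAmple k hH A hA)
  have hb2 : clR k X (CohB1.tensorMod A (CohB1.tensorPow E N)) hAE ∈ bigCone k (X := X) :=
    clR_mem_bigCone k _ hAE (bigP_tensor_eff k hH A hA _ hEN (Eff.pow hE hEff N))
  rw [clR_tensorMod k hA.1 hEN hAE, clR_tensorPow k hE N hEN] at hb2
  have hc1 : (0 : ℝ) < 1 - s / N := by
    rw [sub_pos, div_lt_one hN0]; exact hN
  have hc2 : (0 : ℝ) < s / N := div_pos hs0 hN0
  have key : clR k X A hA.1 + s • clR k X E hE =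
      (1 - s / N) • clR k X A hA.1 + (s / N) • (clR k X A hA.1 + (N : ℝ) • clR k X E hE) := by
    rw [smul_add, smul_smul, div_mul_cancel₀ _ hN0.ne', ← add_assoc, ← add_smul, sub_add_cancel, one_smul]
  rw [key]
  exact (bigCone k (X := X)).add_mem ((bigCone k (X := X)).smul_mem hc1 hb1)
    ((bigCone k (X := X)).smul_mem hc2 hb2)

/-- the auxiliary cone `{a | ∀ s > 0, a + s v ∈ Big}` -/
def auxCone₂ (v : N1R k X) : ConvexCone ℝ (N1R k X) where
  carrier := {a | ∀ s : ℝ, 0 < s → a + s • v ∈ bigCone k (X := X)}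
  smul_mem' := by
    intro c hc a ha s hs
    have h1 := ha (s / c) (div_pos hs hc)
    have h2 := (bigCone k (X := X)).smul_mem hc h1
    rwa [smul_add, smul_smul, mul_div_cancel₀ _ hc.ne'] at h2
  add_mem' := by
    intro a ha b hb s hs
    have h1 := ha (s / 2) (by positivity)
    have h2 := hb (s / 2) (by positivity)
    have h3 := (bigCone k (X := X)).add_mem h1 h2
    have : a + (s / 2) • v + (b + (s / 2) • v) = a + b + s • v := by
      rw [add_add_add_comm, ← add_smul, add_halves]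
    rwa [this] at h3

/-- the auxiliary cone `{e | ∀ a ∈ Amp, a + e ∈ Big}` -/
def auxCone₁ : ConvexCone ℝ (N1R k X) where
  carrier := {e | ∀ a ∈ ampleCone k X, a + e ∈ bigCone k (X := X)}
  smul_mem' := by
    intro c hc e he a ha
    have h1 := he (c⁻¹ • a) ((ampleCone k X).smul_mem (inv_pos.2 hc) ha)
    have h2 := (bigCone k (X := X)).smul_mem hc h1
    rwa [smul_add, smul_smul, mul_inv_cancel₀ hc.ne', one_smul] at h2
  add_mem' := by
    intro e he f hf a ha
    have hhalf : (2 : ℝ)⁻¹ • a ∈ ampleCone k X := (ampleCone k X).smul_mem (by positivity) ha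
    have h1 := he _ hhalf
    have h2 := hf _ hhalf
    have h3 := (bigCone k (X := X)).add_mem h1 h2
    have : (2 : ℝ)⁻¹ • a + e + ((2 : ℝ)⁻¹ • a + f) = a + (e + f) := by
      rw [add_add_add_comm, ← add_smul]
      norm_num
    rwa [this] at h3

/-- `Amp + Eff ⊆ Big` -/
theorem add_le_bigCone {H : X.Modules} (hH : CohB1.IsAmple H) :
    ampleCone k X + effCone k X ≤ bigCone k (X := X) := by
  intro x hx
  rw [ConvexCone.mem_add] at hx
  obtain ⟨a, ha, e, he, rfl⟩ := hx
  have h1 : effCone k X ≤ auxCone₁ k (X := X) := by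
    apply ConvexCone.hull_min
    rintro v ⟨E, hE, hs, rfl⟩ a' ha'
    have h2 : ampleCone k X ≤ auxCone₂ k (clR k X E hE) := by
      apply ConvexCone.hull_min
      rintro w ⟨A, hAi, hA, rfl⟩ s hs0
      exact clR_add_smul_mem k hH A hA E hE hs s hs0
    have h3 := h2 ha' 1 one_pos
    rwa [one_smul] at h3
  exact h1 he a ha

theorem mem_bigCone_iff {H : X.Modules} (hH : CohB1.IsAmple H) (x : N1R k X) :
    x ∈ bigCone k (X := X) ↔ ∃ a ∈ ampleCone k X, x - a ∈ effCone k X := by
  constructor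
  · intro hx
    have h1 := bigCone_le k hH hx
    rw [ConvexCone.mem_add] at h1
    obtain ⟨a, ha, e, he, rfl⟩ := h1
    exact ⟨a, ha, by rwa [add_sub_cancel_left]⟩
  · rintro ⟨a, ha, he⟩
    apply add_le_bigCone k hH
    rw [ConvexCone.mem_add]
    exact ⟨a, ha, x - a, he, by abel⟩

end Groth.Agent.Lib.Helper2.BigCone
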