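import Mathlib
import Groth.Agent.Lib.Helper2.BigCone2
set_option backward.isDefEq.respectTransparency.types false
set_option autoImplicit false
set_option linter.style.haveILetI false

/-!
# Helper2 — BigCone3: the ample cone is open (finite-dimensional `N¹(X)_ℝ`), `Big = int Psef`, `Psef = closure Big`
-/

universe u
open CategoryTheory CategoryTheory.Limits AlgebraicGeometry TopologicalSpace
open scoped Topology

namespace Groth.Agent.Lib.Helper2.BigCone

open Groth.Agent.Lib.Helper2.KodSub Groth.Agent.Lib.Helper2.KodUB Groth.Agent.Lib.Helper2.Kodaira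
  Groth.Agent.Lib.Helper6.K0Op Groth.Agent.Lib.Helper28.GenLocus NumR

section topo
variable {V : Type*} [AddCommGroup V] [Module ℝ V] [TopologicalSpace V] [IsTopologicalAddGroup V]
  [ContinuousSMul ℝ V]

/-- the interior of a convex cone, as a convex cone -/
def intCone (C : ConvexCone ℝ V) : ConvexCone ℝ V where
  carrier := interior (C : Set V)
  smul_mem' := by
    intro c hc x hx
    have h1 : (fun y => c • y) '' interior (C : Set V) ⊆ interior (C : Set V) := by
      apply interior_maximal
      · rintro _ ⟨y, hy, rfl⟩; exact C.smul_mem hc (interior_subset hy)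
      · exact (isOpenMap_smul₀ hc.ne') _ isOpen_interior
    exact h1 ⟨x, hx, rfl⟩
  add_mem' := by
    intro x hx y hy
    have h1 : (fun z => z + y) '' interior (C : Set V) ⊆ interior (C : Set V) := by
      apply interior_maximal
      · rintro _ ⟨z, hz, rfl⟩; exact C.add_mem (interior_subset hz) (interior_subset hy)
      · exact (isOpenMap_add_right y) _ isOpen_interior
    exact h1 ⟨x, hx, rfl⟩

theorem isOpen_hull_of_subset_interior (S : Set V)
    (h : S ⊆ interior (ConvexCone.hull ℝ S : Set V)) : IsOpen (ConvexCone.hull ℝ S : Set V) := by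
  rw [← subset_interior_iff_isOpen]
  have h1 : ConvexCone.hull ℝ S ≤ intCone (ConvexCone.hull ℝ S) := ConvexCone.hull_min h
  exact h1

theorem sum_mem_cone (C : ConvexCone ℝ V) {ι : Type*} (s : Finset ι) (y : ι → V) (hy : ∀ i ∈ s, y i ∈ C)
    (x : V) (hx : x ∈ C) : x + ∑ i ∈ s, y i ∈ C := by
  classical
  induction s using Finset.induction_on with
  | empty => simpa using hx
  | insert i s hi ih =>
    rw [Finset.sum_insert hi, ← add_assoc, add_comm x, add_assoc]
    exact C.add_mem (hy i (Finset.mem_insert_self _ _))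
      (ih (fun j hj => hy j (Finset.mem_insert_of_mem hj)))

end topo

variable (k : Type u) [Field k] {X : Scheme.{u}} [X.Over (Spec (CommRingCat.of k))]
  [IsProper (X ↘ Spec (CommRingCat.of k))] [IsIntegral X] [PicGrp.Law X]

instance : IsTopologicalAddGroup (N1R k X) := IsModuleTopology.topologicalAddGroup ℝ (N1R k X)

/-- segments around an ample class inside the ample cone -/
theorem seg_mem_ampleCone (A : X.Modules) (hA : CohB1.IsAmple A) (L : X.Modules) (hL : PicF.IsInvertible L)
    (N : ℕ) (hN : 0 < N)
    (h1 : CohB1.IsAmple (CohB1.tensorMod (CohB1.tensorPow A N) L))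
    (h2 : CohB1.IsAmple (CohB1.tensorMod (CohB1.tensorPow A N) (Groth.Agent.Lib.Helper28.HomMod.dual L)))
    (s : ℝ) (hs : |s| < 1 / (N : ℝ)) :
    clR k X A hA.1 + s • clR k X L hL ∈ ampleCone k X := by
  have hN0 : (0 : ℝ) < (N : ℝ) := by exact_mod_cast hN
  have hAN := isInvertible_tensorPow hA.1 N
  have hL' : PicF.IsInvertible (Groth.Agent.Lib.Helper28.HomMod.dual L) :=
    Groth.Agent.Lib.Helper28.HomMod.isInvertible_dual hL
  have hinv : ClSub.IsInverseOf (Groth.Agent.Lib.Helper28.HomMod.dual L) L :=
    Groth.Agent.Lib.Helper8.InvInverse.isInverseOf_dual hL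
  have p := clR_mem_ampleCone k _ h1
  have q := clR_mem_ampleCone k _ h2
  rw [clR_tensorMod k hAN hL h1.1, clR_tensorPow k hA.1 N hAN] at p
  rw [clR_tensorMod k hAN hL' h2.1, clR_tensorPow k hA.1 N hAN, clR_of_isInverseOf k hL hL' hinv] at q
  have ha := clR_mem_ampleCone k A hA
  set a := clR k X A hA.1 with hadef
  set u := clR k X L hL with hudef
  rw [abs_lt] at hs
  rcases lt_trichotomy s 0 with hneg | hzero | hpos
  · have hc1 : (0 : ℝ) < 1 + s * N := by
      have : -(1 / (N : ℝ)) * N < s * N := mul_lt_mul_of_pos_right hs.1 hN0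
      rw [neg_mul, div_mul_cancel₀ _ hN0.ne'] at this
      linarith
    have hc2 : (0 : ℝ) < -s := by linarith
    have key : a + s • u = (1 + s * N) • a + (-s) • ((N : ℝ) • a + -u) := by
      module
    rw [key]
    exact (ampleCone k X).add_mem ((ampleCone k X).smul_mem hc1 ha) ((ampleCone k X).smul_mem hc2 q)
  · rw [hzero, zero_smul, add_zero]; exact ha
  · have hc1 : (0 : ℝ) < 1 - s * N := by
      have : s * N < (1 / (N : ℝ)) * N := mul_lt_mul_of_pos_right hs.2 hN0
      rw [div_mul_cancel₀ _ hN0.ne'] at this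
      linarith
    have key : a + s • u = (1 - s * N) • a + s • ((N : ℝ) • a + u) := by
      module
    rw [key]
    exact (ampleCone k X).add_mem ((ampleCone k X).smul_mem hc1 ha) ((ampleCone k X).smul_mem hpos p)

end Groth.Agent.Lib.Helper2.BigCone
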