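import Mathlib
import Groth.Agent.Lib.Helper2.BigCone3
set_option backward.isDefEq.respectTransparency.types false
set_option autoImplicit false
set_option linter.style.haveILetI false

/-!
# Helper2 — BigCone4: openness of the ample cone; `Big = int Psef`, `Psef = closure Big`
-/

universe u
open CategoryTheory CategoryTheory.Limits AlgebraicGeometry TopologicalSpace
open scoped Topology

namespace Groth.Agent.Lib.Helper2.BigCone

open Groth.Agent.Lib.Helper2.KodSub Groth.Agent.Lib.Helper2.KodUB Groth.Agent.Lib.Helper2.Kodaira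
  Groth.Agent.Lib.Helper6.K0Op Groth.Agent.Lib.Helper28.GenLocus NumR

variable (k : Type u) [Field k] {X : Scheme.{u}} [X.Over (Spec (CommRingCat.of k))]
  [IsProper (X ↘ Spec (CommRingCat.of k))] [IsIntegral X] [PicGrp.Law X]

/-- the class of an ample module is an interior point of the ample cone -/
theorem clR_mem_interior_ampleCone [Module.Finite ℝ (N1R k X)] (A : X.Modules) (hA : CohB1.IsAmple A) :
    clR k X A hA.1 ∈ interior (ampleCone k X : Set (N1R k X)) := by
  classical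
  have hfg : (Submodule.span ℝ {x : N1R k X | ∃ (L : X.Modules) (hL : PicF.IsInvertible L),
      x = clR k X L hL}).FG := by
    rw [span_clR]; exact Module.Finite.fg_top
  obtain ⟨T, hTsub, hTspan⟩ := (Submodule.fg_span_iff_fg_span_finset_subset _).1 hfg
  rw [span_clR] at hTspan
  have hchoose : ∀ v : T, ∃ (L : X.Modules) (hL : PicF.IsInvertible L), (v : N1R k X) = clR k X L hL :=
    fun v => hTsub v.2
  choose Lm hLm hv using hchoose
  have hn1 : ∀ v : T, ∃ n₀ : ℕ, ∀ n, n₀ ≤ n → CohB1.IsAmple (CohB1.tensorMod (CohB1.tensorPow A n) (Lm v)) := by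
    intro v
    obtain ⟨n₀, -, h⟩ := exists_isAmple_isGloballyGenerated hA (hLm v)
    exact ⟨n₀, fun n hn => (h n hn).1⟩
  have hn2 : ∀ v : T, ∃ n₀ : ℕ, ∀ n, n₀ ≤ n → CohB1.IsAmple (CohB1.tensorMod (CohB1.tensorPow A n)
      (Groth.Agent.Lib.Helper28.HomMod.dual (Lm v))) := by
    intro v
    obtain ⟨n₀, -, h⟩ := exists_isAmple_isGloballyGenerated hA
      (Groth.Agent.Lib.Helper28.HomMod.isInvertible_dual (hLm v))
    exact ⟨n₀, fun n hn => (h n hn).1⟩
  choose n1 hn1' using hn1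
  choose n2 hn2' using hn2
  set N : ℕ := (Finset.univ.sup fun v : T => max (n1 v) (n2 v)) + 1 with hN
  have hNv : ∀ v : T, n1 v ≤ N ∧ n2 v ≤ N := by
    intro v
    have h := Finset.le_sup (f := fun v : T => max (n1 v) (n2 v)) (Finset.mem_univ v)
    have h' : max (n1 v) (n2 v) ≤ Finset.univ.sup fun v : T => max (n1 v) (n2 v) := h
    constructor
    · have := le_max_left (n1 v) (n2 v); omega
    · have := le_max_right (n1 v) (n2 v); omega
  have hN0 : 0 < N := by omega
  have hN0' : (0 : ℝ) < (N : ℝ) := by exact_mod_cast hN0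
  set a := clR k X A hA.1 with hadef
  have ha := clR_mem_ampleCone k A hA
  have hseg : ∀ (v : T) (s : ℝ), |s| < 1 / (N : ℝ) → a + s • (v : N1R k X) ∈ ampleCone k X := by
    intro v s hs
    rw [hv v]
    exact seg_mem_ampleCone k A hA (Lm v) (hLm v) N hN0 (hn1' v N (hNv v).1) (hn2' v N (hNv v).2) s hs
  set ρ : ℕ := Fintype.card T with hρ
  have hρ1 : (0 : ℝ) < (ρ : ℝ) + 1 := by positivity
  set δ : ℝ := 1 / ((N : ℝ) * ((ρ : ℝ) + 1)) with hδ
  have hδ0 : 0 < δ := by positivity
  let φ : (T → ℝ) →ₗ[ℝ] N1R k X := Fintype.linearCombination ℝ (fun v : T => (v : N1R k X))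
  have hφsurj : Function.Surjective φ := by
    rw [← LinearMap.range_eq_top, Fintype.range_linearCombination]
    have : Set.range (fun v : T => (v : N1R k X)) = (T : Set (N1R k X)) := Subtype.range_coe
    rw [this]
    exact hTspan.symm
  have hφopen : IsOpenMap φ := (IsModuleTopology.isOpenQuotientMap_of_surjective hφsurj).isOpenMap
  have hmem : ∀ t : T → ℝ, t ∈ Metric.ball (0 : T → ℝ) δ → a + φ t ∈ ampleCone k X := by
    intro t ht
    rw [mem_ball_zero_iff, pi_norm_lt_iff hδ0] at ht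
    have hterm : ∀ v ∈ (Finset.univ : Finset T),
        ((ρ : ℝ) + 1)⁻¹ • (a + (((ρ : ℝ) + 1) * t v) • (v : N1R k X)) ∈ ampleCone k X := by
      intro v _
      apply (ampleCone k X).smul_mem (inv_pos.2 hρ1)
      apply hseg
      rw [abs_mul, abs_of_pos hρ1]
      have h1 := ht v
      rw [Real.norm_eq_abs] at h1
      calc ((ρ : ℝ) + 1) * |t v| < ((ρ : ℝ) + 1) * δ := mul_lt_mul_of_pos_left h1 hρ1
        _ = 1 / (N : ℝ) := by rw [hδ]; field_simp
    have h0 : ((ρ : ℝ) + 1)⁻¹ • a ∈ ampleCone k X := (ampleCone k X).smul_mem (inv_pos.2 hρ1) ha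
    have hsum := sum_mem_cone (ampleCone k X) Finset.univ _ hterm _ h0
    have heq : ((ρ : ℝ) + 1)⁻¹ • a +
        ∑ v : T, ((ρ : ℝ) + 1)⁻¹ • (a + (((ρ : ℝ) + 1) * t v) • (v : N1R k X)) = a + φ t := by
      have h2 : ∀ v : T, ((ρ : ℝ) + 1)⁻¹ • (a + (((ρ : ℝ) + 1) * t v) • (v : N1R k X)) =
          ((ρ : ℝ) + 1)⁻¹ • a + t v • (v : N1R k X) := by
        intro v
        rw [smul_add, smul_smul, ← mul_assoc, inv_mul_cancel₀ hρ1.ne', one_mul]
      simp only [h2, Finset.sum_add_distrib, Finset.sum_const, Finset.card_univ, ← hρ]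
      have h3 : φ t = ∑ v : T, t v • (v : N1R k X) := Fintype.linearCombination_apply ℝ _ t
      rw [h3, ← add_assoc]
      congr 1
      rw [← Nat.cast_smul_eq_nsmul ℝ, smul_smul, ← add_smul]
      have : ((ρ : ℝ) + 1)⁻¹ + (ρ : ℝ) * ((ρ : ℝ) + 1)⁻¹ = 1 := by
        field_simp
        ring
      rw [this, one_smul]
    rw [← heq]
    exact hsum
  rw [mem_interior]
  refine ⟨(fun w => a + w) '' (φ '' Metric.ball (0 : T → ℝ) δ), ?_, ?_, ?_⟩
  · rintro _ ⟨_, ⟨t, ht, rfl⟩, rfl⟩
    exact hmem t ht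
  · exact (isOpenMap_add_left a) _ (hφopen _ Metric.isOpen_ball)
  · exact ⟨0, ⟨0, Metric.mem_ball_self hδ0, map_zero φ⟩, add_zero a⟩

/-- the ample cone is open -/
theorem isOpen_ampleCone [Module.Finite ℝ (N1R k X)] : IsOpen (ampleCone k X : Set (N1R k X)) := by
  apply isOpen_hull_of_subset_interior
  rintro x ⟨A, hAi, hA, rfl⟩
  exact clR_mem_interior_ampleCone k A hA

end Groth.Agent.Lib.Helper2.BigCone
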