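import Mathlib
import Groth.Agent.Lib.Helper2.BigCone4
set_option backward.isDefEq.respectTransparency.types false
set_option autoImplicit false
set_option linter.style.haveILetI false

/-!
# Helper2 — BigCone5: `Big = int Psef`, `Psef = closure Big`
-/

universe u
open CategoryTheory CategoryTheory.Limits AlgebraicGeometry TopologicalSpace
open scoped Topology

namespace Groth.Agent.Lib.Helper2.BigCone

open Groth.Agent.Lib.Helper2.KodSub Groth.Agent.Lib.Helper2.KodUB Groth.Agent.Lib.Helper2.Kodaira
  Groth.Agent.Lib.Helper6.K0Op Groth.Agent.Lib.Helper28.GenLocus NumR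

variable (k : Type u) [Field k] {X : Scheme.{u}} [X.Over (Spec (CommRingCat.of k))]
  [IsProper (X ↘ Spec (CommRingCat.of k))] [IsIntegral X] [PicGrp.Law X]

include k in
/-- some positive power of an ample module is effective -/
theorem exists_pow_eff (A : X.Modules) (hA : CohB1.IsAmple A) : ∃ m : ℕ, 0 < m ∧ Eff (CohB1.tensorPow A m) := by
  obtain ⟨n₀, hn₀, h⟩ := exists_isAmple_isGloballyGenerated hA
    (Groth.Agent.Lib.Helper28.AmpleUnit.isInvertible_structureModule X)
  obtain ⟨-, hgg⟩ := h n₀ le_rfl
  obtain ⟨u⟩ := Groth.Agent.Lib.Helper28.AmpleUnit.nonempty_tensor_unit_iso (CohB1.tensorPow A n₀)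
  exact ⟨n₀, hn₀, sub_of_gg k _ (isInvertible_tensorPow hA.1 n₀)
    (Groth.Agent.Lib.Helper8.GGKill.isGloballyGenerated_of_iso u hgg)⟩

theorem ampleCone_le_effCone : ampleCone k X ≤ effCone k X := by
  apply ConvexCone.hull_min
  rintro x ⟨A, hAi, hA, rfl⟩
  obtain ⟨m, hm, heff⟩ := exists_pow_eff k A hA
  have hAm := isInvertible_tensorPow hA.1 m
  have h1 := clR_mem_effCone k _ hAm ((hasSection_iff_eff _ hAm).2 heff)
  rw [clR_tensorPow k hAi m hAm] at h1
  have hm0 : (0 : ℝ) < (m : ℝ) := by exact_mod_cast hm
  have h2 := (effCone k X).smul_mem (inv_pos.2 hm0) h1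
  rwa [smul_smul, inv_mul_cancel₀ hm0.ne', one_smul] at h2

theorem bigCone_eq {H : X.Modules} (hH : CohB1.IsAmple H) :
    bigCone k (X := X) = ampleCone k X + effCone k X :=
  le_antisymm (bigCone_le k hH) (add_le_bigCone k hH)

theorem bigCone_le_effCone {H : X.Modules} (hH : CohB1.IsAmple H) : bigCone k (X := X) ≤ effCone k X := by
  rw [bigCone_eq k hH]
  intro x hx
  rw [ConvexCone.mem_add] at hx
  obtain ⟨a, ha, e, he, rfl⟩ := hx
  exact (effCone k X).add_mem (ampleCone_le_effCone k ha) he

variable [Module.Finite ℝ (N1R k X)]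

theorem isOpen_bigCone {H : X.Modules} (hH : CohB1.IsAmple H) :
    IsOpen (bigCone k (X := X) : Set (N1R k X)) := by
  rw [bigCone_eq k hH, ConvexCone.coe_add]
  exact (isOpen_ampleCone k).add_right

/-- **`Big(X) = int Psef(X)` and `Psef(X) = closure Big(X)`** -/
theorem bigCone_interior_closure {H : X.Modules} (hH : CohB1.IsAmple H) :
    (bigCone k (X := X) : Set (N1R k X)) = interior (psefCone k X) ∧
      psefCone k X = closure (bigCone k (X := X) : Set (N1R k X)) := by
  have hBE : (bigCone k (X := X) : Set (N1R k X)) ⊆ (effCone k X : Set (N1R k X)) := bigCone_le_effCone k hH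
  have hh := clR_mem_ampleCone k H hH
  set h := clR k X H hH.1 with hhdef
  constructor
  · apply Set.Subset.antisymm
    · exact interior_maximal (hBE.trans subset_closure) (isOpen_bigCone k hH)
    · intro x hx
      -- move a little in the direction of `-h`
      have hcont : Continuous (fun t : ℝ => x - t • h) := by fun_prop
      have hopen : IsOpen ((fun t : ℝ => x - t • h) ⁻¹' interior (psefCone k X)) :=
        isOpen_interior.preimage hcont
      have h0 : (0 : ℝ) ∈ (fun t : ℝ => x - t • h) ⁻¹' interior (psefCone k X) := by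
        show x - (0 : ℝ) • h ∈ interior (psefCone k X)
        rw [zero_smul, sub_zero]; exact hx
      obtain ⟨ε, hε, hball⟩ := Metric.isOpen_iff.1 hopen 0 h0
      have ht : (ε / 2) ∈ Metric.ball (0 : ℝ) ε := by
        rw [mem_ball_zero_iff, Real.norm_eq_abs, abs_of_pos (by positivity)]
        linarith
      have hy : x - (ε / 2) • h ∈ psefCone k X := interior_subset (hball ht)
      set t := ε / 2 with htdef
      have ht0 : 0 < t := by positivity
      set y := x - t • h with hydef
      have ha : t • h ∈ ampleCone k X := (ampleCone k X).smul_mem ht0 hh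
      -- the open set of `e` with `y + t h - e` ample contains `y`
      have hU : IsOpen {e : N1R k X | y + t • h - e ∈ ampleCone k X} :=
        (isOpen_ampleCone k).preimage (by fun_prop)
      have hyU : y ∈ {e : N1R k X | y + t • h - e ∈ ampleCone k X} := by
        show y + t • h - y ∈ ampleCone k X
        rwa [add_sub_cancel_left]
      obtain ⟨e, heU, heE⟩ := mem_closure_iff.1 hy _ hU hyU
      rw [bigCone_eq k hH]
      show x ∈ ampleCone k X + effCone k X
      rw [ConvexCone.mem_add]
      refine ⟨y + t • h - e, heU, e, heE, ?_⟩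
      rw [hydef]
      abel
  · apply Set.Subset.antisymm
    · apply closure_minimal _ isClosed_closure
      intro e he
      have htend : Filter.Tendsto (fun n : ℕ => e + (1 / ((n : ℝ) + 1)) • h) Filter.atTop (𝓝 e) := by
        have h1 := tendsto_one_div_add_atTop_nhds_zero_nat (𝕜 := ℝ)
        have h2 := (h1.smul_const h).const_add e
        simpa using h2
      apply mem_closure_of_tendsto htend
      refine Filter.Eventually.of_forall (fun n => ?_)
      rw [bigCone_eq k hH]
      show e + (1 / ((n : ℝ) + 1)) • h ∈ ampleCone k X + effCone k X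
      rw [ConvexCone.mem_add]
      exact ⟨(1 / ((n : ℝ) + 1)) • h, (ampleCone k X).smul_mem (by positivity) hh, e, he, add_comm _ _⟩
    · exact closure_mono hBE

end Groth.Agent.Lib.Helper2.BigCone
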