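import Mathlib

/-!
# Abstract edge isomorphism (helper2)

For an adjunction `L ⊣ R` between abelian categories with `L` exact, objects `ZA`, `ZB` with
`c : ZA ≅ L ZB`, the *edge map* `Ext^p(ZB, R F) → Ext^p(ZA, F)` is natural in `F` and bijective on
every class of objects `P` which is stable under "cokernel of an embedding into an injective" and
on which `R` stays exact.
-/

universe w w' v v' u u'

open CategoryTheory Limits Abelian

namespace Groth.Agent.Lib.Helper2.Bridge1

variable {𝒜 : Type u} [Category.{v} 𝒜] [Abelian 𝒜] [HasExt.{w} 𝒜]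
  {ℬ : Type u'} [Category.{v'} ℬ] [Abelian ℬ] [HasExt.{w'} ℬ]
  (L : ℬ ⥤ 𝒜) (R : 𝒜 ⥤ ℬ) (adj : L ⊣ R)
  [L.Additive] [PreservesFiniteLimits L] [PreservesFiniteColimits L]
  {ZA : 𝒜} {ZB : ℬ} (c : ZA ⟶ L.obj ZB)

/-- the edge map `Ext^p(ZB, R F) → Ext^p(ZA, F)` -/
noncomputable def edge (F : 𝒜) (p : ℕ) (y : Ext ZB (R.obj F) p) : Ext ZA F p :=
  (Ext.mk₀ c).comp ((y.mapExactFunctor L).comp (Ext.mk₀ (adj.counit.app F)) (add_zero p))
    (zero_add p)

lemma edge_add (F : 𝒜) (p : ℕ) (y y' : Ext ZB (R.obj F) p) :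
    edge L R adj c F p (y + y') = edge L R adj c F p y + edge L R adj c F p y' := by
  unfold edge
  rw [Ext.mapExactFunctor_add, Ext.add_comp, Ext.comp_add]

lemma edge_zero (F : 𝒜) (p : ℕ) : edge L R adj c F p 0 = 0 := by
  unfold edge
  rw [Ext.mapExactFunctor_zero, Ext.zero_comp, Ext.comp_zero]

/-- naturality of the edge map -/
lemma edge_naturality {F F' : 𝒜} (g : F ⟶ F') (p : ℕ) (y : Ext ZB (R.obj F) p) :
    edge L R adj c F' p (y.comp (Ext.mk₀ (R.map g)) (add_zero p)) =
      (edge L R adj c F p y).comp (Ext.mk₀ g) (add_zero p) := by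
  unfold edge
  have hn : L.map (R.map g) ≫ adj.counit.app F' = adj.counit.app F ≫ g := adj.counit.naturality g
  rw [Ext.mapExactFunctor_comp, Ext.mapExactFunctor_mk₀]
  simp only [Ext.comp_assoc_of_third_deg_zero, Ext.mk₀_comp_mk₀, hn]

/-- compatibility of the edge map with Yoneda products -/
lemma edge_comp {F Q : 𝒜} (eR : Ext (R.obj Q) (R.obj F) 1) (eS : Ext Q F 1)
    (hnat : (eR.mapExactFunctor L).comp (Ext.mk₀ (adj.counit.app F)) (add_zero 1) =
      (Ext.mk₀ (adj.counit.app Q)).comp eS (zero_add 1))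
    (p : ℕ) (z : Ext ZB (R.obj Q) p) :
    edge L R adj c F (p + 1) (z.comp eR rfl) = (edge L R adj c Q p z).comp eS rfl := by
  unfold edge
  rw [Ext.mapExactFunctor_comp,
    Ext.comp_assoc (a₁ := p) (a₂ := 1) (a₃ := 0) (a₁₂ := p + 1) (a₂₃ := 1) (a := p + 1)
      _ _ _ rfl (add_zero 1) (by omega),
    hnat,
    ← Ext.comp_assoc (a₁ := p) (a₂ := 0) (a₃ := 1) (a₁₂ := p) (a₂₃ := 1) (a := p + 1)
      _ _ _ (add_zero p) (zero_add 1) (by omega),
    ← Ext.comp_assoc (a₁ := 0) (a₂ := p) (a₃ := 1) (a₁₂ := p) (a₂₃ := p + 1) (a := p + 1)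
      _ _ _ (zero_add p) rfl (by omega)]

lemma edge_mk₀ (F : 𝒜) (h : ZB ⟶ R.obj F) :
    edge L R adj c F 0 (Ext.mk₀ h) = Ext.mk₀ (c ≫ (adj.homEquiv _ _).symm h) := by
  unfold edge
  rw [Ext.mapExactFunctor_mk₀, Ext.mk₀_comp_mk₀, Ext.mk₀_comp_mk₀, Adjunction.homEquiv_counit]

lemma edge_zero_bijective [IsIso c] (F : 𝒜) : Function.Bijective (edge L R adj c F 0) := by
  constructor
  · intro y y' h
    obtain ⟨g, rfl⟩ := (Ext.mk₀_bijective _ _).2 y
    obtain ⟨g', rfl⟩ := (Ext.mk₀_bijective _ _).2 y'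
    rw [edge_mk₀, edge_mk₀] at h
    have h' := (Ext.mk₀_bijective _ _).1 h
    have h'' := (cancel_epi c).1 h'
    rw [(adj.homEquiv _ _).symm.injective h'']
  · intro x
    obtain ⟨g, rfl⟩ := (Ext.mk₀_bijective _ _).2 x
    refine ⟨Ext.mk₀ (adj.homEquiv _ _ (inv c ≫ g)), ?_⟩
    rw [edge_mk₀, Equiv.symm_apply_apply, IsIso.hom_inv_id_assoc]

variable [R.Additive]

/-- the naturality square of extension classes needed in `edge_comp` -/
lemma hnat_of_shortExact {F I Q : 𝒜} {i : F ⟶ I} {q : I ⟶ Q} {w : i ≫ q = 0}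
    (hS : (ShortComplex.mk i q w).ShortExact) {w' : R.map i ≫ R.map q = 0}
    (hRS : (ShortComplex.mk (R.map i) (R.map q) w').ShortExact) :
    ((show Ext (R.obj Q) (R.obj F) 1 from hRS.extClass).mapExactFunctor L).comp
        (Ext.mk₀ (adj.counit.app F)) (add_zero 1) =
      (Ext.mk₀ (adj.counit.app Q)).comp (show Ext Q F 1 from hS.extClass) (zero_add 1) := by
  let φ : (ShortComplex.mk (R.map i) (R.map q) w').map L ⟶ ShortComplex.mk i q w :=
    { τ₁ := adj.counit.app F
      τ₂ := adj.counit.app I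
      τ₃ := adj.counit.app Q
      comm₁₂ := (adj.counit_naturality i).symm
      comm₂₃ := (adj.counit_naturality q).symm }
  have h1 := ShortComplex.ShortExact.extClass_naturality (hRS.map_of_exact L) hS φ
  have h2 := Ext.mapExactFunctor_extClass L hRS
  exact (congrArg (fun e => Ext.comp e (Ext.mk₀ (adj.counit.app F)) (add_zero 1)) h2).trans h1

/-- **the edge map is bijective on `R`-acyclic objects** -/
theorem edge_bijective [IsIso c] (P : 𝒜 → Prop)
    (hP : ∀ F, P F → ∃ (I Q : 𝒜) (i : F ⟶ I) (q : I ⟶ Q) (w : i ≫ q = 0)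
      (w' : R.map i ≫ R.map q = 0),
      (ShortComplex.mk i q w).ShortExact ∧ Injective I ∧ Injective (R.obj I) ∧ P I ∧ P Q ∧
        (ShortComplex.mk (R.map i) (R.map q) w').ShortExact)
    (p : ℕ) : ∀ F, P F → Function.Bijective (edge L R adj c F p) := by
  induction p with
  | zero => exact fun F _ => edge_zero_bijective L R adj c F
  | succ p ih =>
    intro F hF
    obtain ⟨I, Q, i, q, w, w', hS, hI, hRI, hPI, hPQ, hRS⟩ := hP F hF
    have hnat := hnat_of_shortExact L R adj hS hRS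
    have hcompat := edge_comp L R adj c _ _ hnat p
    constructor
    · -- injectivity
      intro y y' hyy
      have hsub : edge L R adj c F (p + 1) (y - y') = 0 := by
        have := edge_add L R adj c F (p + 1) (y - y') y'
        rw [sub_add_cancel, hyy] at this
        exact (add_eq_right.1 this.symm)
      suffices hker : ∀ y₀ : Ext ZB (R.obj F) (p + 1), edge L R adj c F (p + 1) y₀ = 0 → y₀ = 0 by
        exact sub_eq_zero.1 (hker _ hsub)
      intro y₀ hy₀
      have h0 : y₀.comp (Ext.mk₀ (R.map i)) (add_zero (p + 1)) = 0 :=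
        @Ext.eq_zero_of_injective _ _ _ _ _ _ _ hRI _
      obtain ⟨z, hz⟩ := Ext.covariant_sequence_exact₁ ZB hRS y₀ h0 rfl
      have h1 : (edge L R adj c Q p z).comp hS.extClass rfl = 0 := by
        refine (hcompat z).symm.trans ?_
        refine Eq.trans ?_ hy₀
        exact congrArg (edge L R adj c F (p + 1)) hz
      obtain ⟨v, hv⟩ := Ext.covariant_sequence_exact₃ ZA hS _ rfl h1
      obtain ⟨v', rfl⟩ := (ih I hPI).2 v
      have h2 : edge L R adj c Q p (v'.comp (Ext.mk₀ (R.map q)) (add_zero p)) =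
          edge L R adj c Q p z := by
        rw [edge_naturality]
        exact hv
      have h3 := (ih Q hPQ).1 h2
      have h4 : (Ext.mk₀ (R.map q)).comp hRS.extClass (zero_add 1) = 0 := hRS.comp_extClass
      have h5 : (v'.comp (Ext.mk₀ (R.map q)) (add_zero p)).comp hRS.extClass rfl = 0 := by
        rw [Ext.comp_assoc_of_second_deg_zero]
        exact (congrArg (fun e => v'.comp e rfl) h4).trans (Ext.comp_zero _ _ _ _ _)
      refine hz.symm.trans ?_
      refine Eq.trans ?_ h5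
      exact congrArg (fun e => Ext.comp e hRS.extClass rfl) h3.symm
    · -- surjectivity
      intro x
      have h0 : x.comp (Ext.mk₀ i) (add_zero (p + 1)) = 0 :=
        @Ext.eq_zero_of_injective _ _ _ _ _ _ _ hI _
      obtain ⟨wq, hwq⟩ := Ext.covariant_sequence_exact₁ ZA hS x h0 rfl
      obtain ⟨z, rfl⟩ := (ih Q hPQ).2 wq
      exact ⟨z.comp hRS.extClass rfl, (hcompat z).trans hwq⟩

end Groth.Agent.Lib.Helper2.Bridge1
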