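import Groth.Agent.Lib.Helper17.GGStalk

/-!
# Global generation descends along a topological embedding (helper2)

If `i : X ⟶ Y` is a topological embedding (e.g. a closed immersion) and `i_* E` is globally
generated, then so is `E`.
-/

set_option autoImplicit false
set_option backward.isDefEq.respectTransparency.types false
universe u
open CategoryTheory CategoryTheory.Limits AlgebraicGeometry Opposite TopologicalSpace
noncomputable section

namespace Groth.Agent.Lib.Helper2.Bridge6

open Groth.Agent.Lib.Helper28 Groth.Agent.Lib.Helper28.QCohLoc Groth.Agent.Lib.Helper28.GenLocus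
  Groth.Agent.Lib.Helper17.GGStalk

variable {X Y : Scheme.{u}} (i : X ⟶ Y) (E : X.Modules)

theorem ggAt_of_ggAt_push (hi : Topology.IsInducing i.base) (x : X)
    (h : GGAt ((Scheme.Modules.pushforward i).obj E) (i.base x)) : GGAt E x := by
  intro U y hxU
  obtain ⟨U'', hU''o, hU''⟩ := (hi.isOpen_iff).1 U.2
  let U' : Y.Opens := ⟨U'', hU''o⟩
  have hUU' : i ⁻¹ᵁ U' = U := Opens.ext hU''
  have hle : i ⁻¹ᵁ U' ≤ U := hUU'.le
  have hxU' : i.base x ∈ U' := by
    have : x ∈ i ⁻¹ᵁ U' := hUU' ▸ hxU
    exact this
  let y' : Γ((Scheme.Modules.pushforward i).obj E, U') := res E hle y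
  obtain ⟨V', hV', hxV', hmem⟩ := h U' y' hxU'
  have hV : i ⁻¹ᵁ V' ≤ U := (i.preimage_mono hV').trans hle
  refine ⟨i ⁻¹ᵁ V', hV, hxV', ?_⟩
  have hres : (show Γ(E, i ⁻¹ᵁ V') from res ((Scheme.Modules.pushforward i).obj E) hV' y') =
      res E hV y := by
    show res E (i.preimage_mono hV') (res E hle y) = _
    rw [res_res]
  have key : ∀ z ∈ Submodule.span Γ(Y, V')
      (Set.range fun T : Γ((Scheme.Modules.pushforward i).obj E, ⊤) =>
        res ((Scheme.Modules.pushforward i).obj E) (le_top : V' ≤ ⊤) T),
      (show Γ(E, i ⁻¹ᵁ V') from z) ∈ Submodule.span Γ(X, i ⁻¹ᵁ V')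
        (Set.range fun T : Γ(E, ⊤) => res E (le_top : i ⁻¹ᵁ V' ≤ ⊤) T) := by
    intro z hz
    induction hz using Submodule.span_induction with
    | mem z hz =>
      obtain ⟨T, rfl⟩ := hz
      exact Submodule.subset_span ⟨T, rfl⟩
    | zero => exact Submodule.zero_mem _
    | add z z' _ _ hz hz' => exact Submodule.add_mem _ hz hz'
    | smul a z _ hz => exact Submodule.smul_mem _ (i.app V' a) hz
  have := key _ hmem
  rw [hres] at this
  exact this

/-- **global generation descends along an embedding** -/
theorem isGloballyGenerated_of_push (hi : Topology.IsInducing i.base)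
    (h : Curv2.IsGloballyGenerated ((Scheme.Modules.pushforward i).obj E)) :
    Curv2.IsGloballyGenerated E :=
  isGloballyGenerated_of_ggAt E fun x =>
    ggAt_of_ggAt_push i E hi x (ggAt_of_isGloballyGenerated _ h (i.base x))

end Groth.Agent.Lib.Helper2.Bridge6
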