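import Groth.Agent.Lib.Helper2.Bridge5
import Groth.Agent.Lib.Helper2.Bridge7
import Groth.Agent.Lib.Helper2.SerreVan
import Groth.Agent.Lib.Helper6.DevChev

/-!
# Transfer of a hyperplane-type sequence from a closed subscheme to `P^n` (helper2)
-/

set_option backward.isDefEq.respectTransparency.types false
set_option autoImplicit false
universe u
open CategoryTheory CategoryTheory.Limits AlgebraicGeometry Opposite TopologicalSpace

noncomputable section

namespace Groth.Agent.Lib.Helper2.Bridge8

open Groth.Agent.Lib.Helper2.SerreVan Groth.Agent.Lib.Helper2.Bridge5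

variable (k : Type u) [Field k] (n : ℕ)

/-- regularity is invariant under isomorphisms -/
theorem isMRegular_of_iso {A B : (CohB1.ProjSpace n k).Modules} (e : A ≅ B) (m : ℤ)
    (h : Curv2.IsMRegular k n B m) : Curv2.IsMRegular k n A m := by
  intro q hq hqn
  have h1 := h q hq hqn
  have e2 : (Tw n k (m - q)).obj A ≅ (Tw n k (m - q)).obj B := (Tw n k (m - q)).mapIso e
  exact @Equiv.subsingleton _ _ (HHlinEquiv k e2 q).toEquiv h1

variable {X : Scheme.{u}} [X.Over (Spec (CommRingCat.of k))] (i : X ⟶ CohB1.ProjSpace n k)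
  [IsClosedImmersion i]

/-- the direct image of an `m`-regular module on `X` is `m`-regular on `P^n` -/
theorem isMRegular_push (hi : i ≫ CohB1.ProjSpace.toSpec n k = X ↘ Spec (CommRingCat.of k))
    (G : X.Modules) [G.IsQuasicoherent] (m : ℤ)
    (h : ∀ q : ℕ, 1 ≤ q → Subsingleton (Coh.HH X (CohB1.tensorMod G
      ((Scheme.Modules.pullback i).obj (Twist.twistProjSpace n k (m - q)))) q)) :
    Curv2.IsMRegular k n ((Scheme.Modules.pushforward i).obj G) m := by
  intro q hq _
  obtain ⟨e⟩ := nonempty_twist_linearEquiv k n i hi G (m - q) q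
  exact @Equiv.subsingleton _ _ e.symm.toEquiv (h q hq)

/-- a short exact sequence `0 → F(-1) → F → G → 0` on `X` gives a monomorphism
`(i_* F)(-1) → i_* F` with cokernel `i_* G`. -/
theorem exists_mono_push (F G : X.Modules)
    (f : CohB1.tensorMod F ((Scheme.Modules.pullback i).obj (Twist.twistProjSpace n k (-1))) ⟶ F)
    (g : F ⟶ G) (hfg : f ≫ g = 0) (hS : (ShortComplex.mk f g hfg).ShortExact) :
    ∃ ι' : CohB1.tensorMod ((Scheme.Modules.pushforward i).obj F) (Twist.twistProjSpace n k (-1)) ⟶
        (Scheme.Modules.pushforward i).obj F,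
      Mono ι' ∧ Nonempty (cokernel ι' ≅ (Scheme.Modules.pushforward i).obj G) := by
  obtain ⟨ψ⟩ := Bridge4.exists_projection_iso i F _ (isInvertible_twist k n (-1))
  have hS' := Bridge7.shortExact_map_push i (IsClosedImmersion.base_closed (f := i)) _ hS
  have hm : Mono ((Scheme.Modules.pushforward i).map f) := hS'.mono_f
  refine ⟨ψ.hom ≫ (Scheme.Modules.pushforward i).map f,
    @mono_comp _ _ _ _ _ ψ.hom inferInstance _ hm, ?_⟩
  have h1 : cokernel (ψ.hom ≫ (Scheme.Modules.pushforward i).map f) ≅
      cokernel ((Scheme.Modules.pushforward i).map f) :=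
    cokernelEpiComp ψ.hom ((Scheme.Modules.pushforward i).map f)
  have h2 : cokernel ((Scheme.Modules.pushforward i).map f) ≅ (Scheme.Modules.pushforward i).obj G :=
    IsColimit.coconePointUniqueUpToIso (colimit.isColimit _) hS'.gIsCokernel
  exact ⟨h1 ≪≫ h2⟩

end Groth.Agent.Lib.Helper2.Bridge8
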