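import Groth.Agent.Lib.Helper2.SerreFin1

/-!
# Dévissage for dualizing pairs (helper2)

For `X` over `Spec A`, a module `ω` and a trace `t : H^r(X, ω) → A`, the classes of modules `F` for which
`φ ↦ t ∘ H^r(φ)` is injective / surjective on `Hom(F, ω)` are stable under quotients resp. finite sums.
-/

set_option backward.isDefEq.respectTransparency.types false
set_option autoImplicit false
universe u
open CategoryTheory CategoryTheory.Limits AlgebraicGeometry Opposite TopologicalSpace Abelian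

noncomputable section

namespace Groth.Agent.Lib.Helper2.Dual9

open Groth.Agent.Lib.Helper2.SerreFin1 Groth.Agent.Lib.Helper2.HLesLin Groth.Agent.Lib.Helper2.HLes

attribute [local instance] Abelian.hasFiniteBiproducts

variable {X : Scheme.{u}} (A : Type u) [CommRing A] [X.Over (Spec (CommRingCat.of A))]
  (r : ℕ) (ω : X.Modules) (t : Coh.HH X ω r →ₗ[A] A)

/-- the duality map is injective on `Hom(F, ω)`. -/
def DInj (F : X.Modules) : Prop :=
  ∀ φ : F ⟶ ω, (∀ x, t (Canon.HHlin A φ r x) = 0) → φ = 0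

/-- the duality map is surjective on `Hom(F, ω)`. -/
def DSurj (F : X.Modules) : Prop :=
  ∀ ψ : Coh.HH X F r →ₗ[A] A, ∃ φ : F ⟶ ω, ∀ x, ψ x = t (Canon.HHlin A φ r x)

variable {A r ω t}

theorem HHlin_sub_apply {F G : X.Modules} (φ φ' : F ⟶ G) (p : ℕ) (y : Coh.HH X F p) :
    Canon.HHlin A (φ - φ') p y = Canon.HHlin A φ p y - Canon.HHlin A φ' p y := by
  have h1 : (SheafOfModules.toSheaf X.ringCatSheaf).map (φ - φ' + φ') =
      (SheafOfModules.toSheaf X.ringCatSheaf).map (φ - φ') +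
        (SheafOfModules.toSheaf X.ringCatSheaf).map φ' :=
    Functor.map_add (F := SheafOfModules.toSheaf.{u} X.ringCatSheaf)
  have h2 : Canon.HHlin A (φ - φ' + φ') p y = Canon.HHlin A (φ - φ') p y + Canon.HHlin A φ' p y := by
    change Sheaf.H.map ((SheafOfModules.toSheaf X.ringCatSheaf).map (φ - φ' + φ')) p y =
      Sheaf.H.map ((SheafOfModules.toSheaf X.ringCatSheaf).map (φ - φ')) p y +
        Sheaf.H.map ((SheafOfModules.toSheaf X.ringCatSheaf).map φ') p y
    rw [h1, Sheaf.H.map_add_apply]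
  rw [sub_add_cancel] at h2
  rw [h2, add_sub_cancel_right]

theorem HHlin_zero_apply {F G : X.Modules} (p : ℕ) (y : Coh.HH X F p) :
    Canon.HHlin A (0 : F ⟶ G) p y = 0 := by
  have h := HHlin_sub_apply (A := A) (0 : F ⟶ G) 0 p y
  rwa [sub_self, sub_self] at h

/-- injectivity and surjectivity give existence and uniqueness. -/
theorem existsUnique_of {F : X.Modules} (hi : DInj A r ω t F) (hs : DSurj A r ω t F)
    (ψ : Coh.HH X F r →ₗ[A] A) :
    ∃! φ : F ⟶ ω, ∀ x, ψ x = t (Canon.HHlin A φ r x) := by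
  obtain ⟨φ, hφ⟩ := hs ψ
  refine ⟨φ, hφ, fun φ' hφ' => ?_⟩
  have h := hi (φ' - φ) (fun x => by
    rw [HHlin_sub_apply, map_sub, ← hφ x, ← hφ' x, sub_self])
  exact sub_eq_zero.mp h

theorem dinj_of_existsUnique {F : X.Modules}
    (h : ∀ ψ : Coh.HH X F r →ₗ[A] A, ∃! φ : F ⟶ ω, ∀ x, ψ x = t (Canon.HHlin A φ r x)) :
    DInj A r ω t F := by
  intro φ hφ
  obtain ⟨φ₀, -, huniq⟩ := h 0
  have h1 := huniq φ (fun x => by rw [hφ x]; rfl)
  have h2 := huniq 0 (fun x => by
    rw [HHlin_zero_apply, map_zero]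
    rfl)
  rw [h1, h2]

theorem dsurj_of_existsUnique {F : X.Modules}
    (h : ∀ ψ : Coh.HH X F r →ₗ[A] A, ∃! φ : F ⟶ ω, ∀ x, ψ x = t (Canon.HHlin A φ r x)) :
    DSurj A r ω t F := fun ψ => (h ψ).exists

/-- injectivity passes to quotients. -/
theorem dinj_of_epi {E F : X.Modules} (p : E ⟶ F) [Epi p] (hE : DInj A r ω t E) :
    DInj A r ω t F := by
  intro φ hφ
  have h1 : p ≫ φ = 0 := hE (p ≫ φ) (fun x => by
    rw [← HHlin_comp_apply]
    exact hφ _)
  rw [← cancel_epi p, h1, comp_zero]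

/-- surjectivity passes to quotients with good kernels. -/
theorem dsurj_of_shortExact (S : ShortComplex X.Modules)
    (hS : S.ShortExact) (hE : DSurj A r ω t S.X₂) (hK : DInj A r ω t S.X₁)
    (hsurj : Function.Surjective (Canon.HHlin A S.g r)) : DSurj A r ω t S.X₃ := by
  intro ψ
  obtain ⟨φ₀, hφ₀⟩ := hE (ψ.comp (Canon.HHlin A S.g r))
  have h1 : S.f ≫ φ₀ = 0 := hK (S.f ≫ φ₀) (fun x => by
    rw [← HHlin_comp_apply, ← hφ₀]
    change ψ (Canon.HHlin A S.g r (Canon.HHlin A S.f r x)) = 0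
    rw [HHlin_comp_apply, S.zero, HHlin_zero_apply, map_zero])
  have := hS.epi_g
  let φ : S.X₃ ⟶ ω := hS.exact.desc φ₀ h1
  have hφ : S.g ≫ φ = φ₀ := hS.exact.g_desc φ₀ h1
  refine ⟨φ, fun y => ?_⟩
  obtain ⟨x, rfl⟩ := hsurj y
  rw [HHlin_comp_apply, hφ, ← hφ₀]
  rfl

/-- injectivity for finite coproducts. -/
theorem dinj_sigma {k : ℕ} (E : Fin k → X.Modules) (h : ∀ i, DInj A r ω t (E i)) :
    DInj A r ω t (∐ E) := by
  intro φ hφ
  apply Sigma.hom_ext
  intro i
  rw [comp_zero]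
  exact h i (Sigma.ι E i ≫ φ) (fun x => by
    rw [← HHlin_comp_apply]
    exact hφ _)

/-- surjectivity for finite biproducts. -/
theorem dsurj_biproduct {k : ℕ} (E : Fin k → X.Modules) (h : ∀ i, DSurj A r ω t (E i)) :
    DSurj A r ω t (⨁ E) := by
  intro ψ
  choose φ hφ using fun i => h i (ψ.comp (Canon.HHlin A (biproduct.ι E i) r))
  refine ⟨biproduct.desc φ, fun x => ?_⟩
  have hx : x = ∑ i, Canon.HHlin A (biproduct.ι E i) r (Canon.HHlin A (biproduct.π E i) r x) := by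
    simp only [HHlin_comp_apply]
    rw [← HHlin_sum_apply, biproduct.total, HHlin_id_apply]
  conv_lhs => rw [hx]
  conv_rhs => rw [hx]
  rw [map_sum, map_sum, map_sum]
  refine Finset.sum_congr rfl (fun i _ => ?_)
  have h1 := hφ i (Canon.HHlin A (biproduct.π E i) r x)
  rw [LinearMap.comp_apply] at h1
  rw [h1, HHlin_comp_apply (A := A) (biproduct.ι E i) (biproduct.desc φ), biproduct.ι_desc]

theorem dsurj_of_iso {F G : X.Modules} (e : F ≅ G) (h : DSurj A r ω t F) : DSurj A r ω t G := by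
  intro ψ
  obtain ⟨φ, hφ⟩ := h (ψ.comp (Canon.HHlin A e.hom r))
  refine ⟨e.inv ≫ φ, fun x => ?_⟩
  have h1 := hφ (Canon.HHlin A e.inv r x)
  rw [LinearMap.comp_apply, HHlin_comp_apply, e.inv_hom_id, HHlin_id_apply] at h1
  rw [h1, HHlin_comp_apply]

/-- surjectivity for finite coproducts. -/
theorem dsurj_sigma {k : ℕ} (E : Fin k → X.Modules) (h : ∀ i, DSurj A r ω t (E i)) :
    DSurj A r ω t (∐ E) :=
  dsurj_of_iso (biproduct.isoCoproduct E) (dsurj_biproduct E h)

end Groth.Agent.Lib.Helper2.Dual9
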