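import Groth.Agent.Lib.Helper7.AffinePoints
import Groth.Agent.Lib.Helper4.DimChain
import Groth.Agent.Lib.Helper24.ConnDim.Subdim
import Groth.Prelude.Def_BlowUp2
import Mathlib
set_option backward.isDefEq.respectTransparency.types false
set_option autoImplicit false
set_option linter.style.haveILetI false

/-!
# The support of an effective Cartier divisor has dimension at most `dim X - 1` (helper2)
-/

universe u
open CategoryTheory CategoryTheory.Limits AlgebraicGeometry Opposite TopologicalSpace

namespace Groth.Agent.Lib.Helper2.EffDim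

section Top
variable {T : Type*} [TopologicalSpace T]

/-- a closed subset containing no irreducible component has dimension at most `dim T - 1` -/
theorem dim_le_of_no_component [QuasiSober T] (S : Set T) (hS : IsClosed S)
    (hno : ∀ C ∈ irreducibleComponents T, ¬ C ⊆ S) (e : ℕ)
    (hT : topologicalKrullDim T = ((e + 1 : ℕ) : WithBot ℕ∞)) :
    topologicalKrullDim S ≤ (e : WithBot ℕ∞) := by
  have h1 : topologicalKrullDim S ≤ ((e + 1 : ℕ) : WithBot ℕ∞) := by
    rw [← hT]; exact topologicalKrullDim_subspace_le T S
  by_contra h
  have h2 : topologicalKrullDim S = ((e + 1 : ℕ) : WithBot ℕ∞) := by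
    apply le_antisymm h1
    generalize topologicalKrullDim S = a at h h1 ⊢
    induction a using WithBot.recBotCoe with
    | bot => exact absurd bot_le h
    | coe a =>
      induction a using ENat.recTopCoe with
      | top => exact le_top
      | coe a =>
        have : ¬ a ≤ e := fun hle => h (by exact_mod_cast hle)
        have : e + 1 ≤ a := by omega
        exact_mod_cast this
  obtain ⟨η, hηS, hη⟩ := Groth.Agent.Lib.Helper4.DimChain.exists_mem_dim_closure_eq S hS (e + 1) h2
  have hsub : closure ({η} : Set T) ⊆ irreducibleComponent η :=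
    closure_minimal (Set.singleton_subset_iff.2 mem_irreducibleComponent) isClosed_irreducibleComponent
  have hne : closure ({η} : Set T) ≠ irreducibleComponent η := by
    intro heq
    apply hno _ (irreducibleComponent_mem_irreducibleComponents η)
    rw [← heq]
    exact closure_minimal (Set.singleton_subset_iff.2 hηS) hS
  have h3 := Groth.Agent.Lib.Helper24.ConnDimSub.dim_add_one_le isIrreducible_irreducibleComponent
    isClosed_closure hsub hne
  have h4 : topologicalKrullDim ↥(irreducibleComponent η) ≤ ((e + 1 : ℕ) : WithBot ℕ∞) := by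
    rw [← hT]; exact topologicalKrullDim_subspace_le T _
  rw [hη] at h3
  have h5 := h3.trans h4
  have : (e + 1 : ℕ) + 1 ≤ e + 1 := by exact_mod_cast h5
  omega

end Top

section Sch
variable {X : Scheme.{u}}

/-- no irreducible component lies in the support of an effective Cartier divisor -/
theorem not_component_subset_support (I : X.IdealSheafData) (hI : BlowUp.IsEffCartierIdeal I)
    (C : Set X) (hC : C ∈ irreducibleComponents X) : ¬ C ⊆ (I.support : Set X) := by
  intro hsub
  obtain ⟨ξ, hξ⟩ := QuasiSober.sober hC.1 (isClosed_of_mem_irreducibleComponents C hC)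
  have hξC : ξ ∈ C := hξ.mem
  have hmax : ∀ y : X, y ⤳ ξ → y = ξ := by
    intro y hy
    have h1 : C ⊆ closure ({y} : Set X) := by
      rw [← hξ.def]
      exact closure_minimal (Set.singleton_subset_iff.2 (specializes_iff_mem_closure.1 hy)) isClosed_closure
    have h2 : closure ({y} : Set X) ⊆ C := hC.2 isIrreducible_singleton.closure h1
    have h3 : ξ ⤳ y := by
      rw [specializes_iff_mem_closure, hξ.def]
      exact h2 (subset_closure rfl)
    exact (hy.antisymm h3).eq
  obtain ⟨U, hξU, f, hf, hIU⟩ := hI ξ
  have hmin := (Groth.Agent.Lib.Helper7.AffPts.forall_specializes_eq_iff U.2 ⟨ξ, hξU⟩).1 hmax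
  have hfP : f ∈ (U.2.primeIdealOf ⟨ξ, hξU⟩).asIdeal := by
    rw [Groth.Agent.Lib.Helper7.AffPts.mem_primeIdealOf_iff U.2 ⟨ξ, hξU⟩ f]
    have h1 : ξ ∈ I.support := hsub hξC
    rw [Scheme.IdealSheafData.mem_support_iff_of_mem (U := U) hξU, hIU, Scheme.zeroLocus_span,
      Scheme.zeroLocus_singleton] at h1
    exact h1
  exact Set.disjoint_left.mp (Ideal.disjoint_nonZeroDivisors_of_mem_minimalPrimes hmin) hfP hf

theorem dim_support_le (I : X.IdealSheafData) (hI : BlowUp.IsEffCartierIdeal I) (e : ℕ)
    (hX : topologicalKrullDim X = ((e + 1 : ℕ) : WithBot ℕ∞)) :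
    topologicalKrullDim (I.support : Set X) ≤ (e : WithBot ℕ∞) :=
  dim_le_of_no_component _ I.support.isClosed (not_component_subset_support I hI) e hX

end Sch

end Groth.Agent.Lib.Helper2.EffDim
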