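import Groth.Agent.Lib.Helper2.Fitting2
import Groth.Agent.Lib.Helper4.TFCurve2
set_option backward.isDefEq.respectTransparency.types false
set_option autoImplicit false
set_option linter.style.haveILetI false

/-!
# Extensions and direct summands of vector bundles on a smooth proper curve (helper2)

`ext_locFree`: an extension of locally free modules is locally free (rank and degree add).
`summand`: the summands of a decomposition `E ≅ E₁ ⊞ E₂` of a bundle are bundles (ranks and degrees add).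
-/

universe u
open CategoryTheory CategoryTheory.Limits AlgebraicGeometry Opposite TopologicalSpace

namespace Groth.Agent.Lib.Helper2.CurveExt
open Groth.Agent.Lib.Helper17.StalkExact Groth.Agent.Lib.Helper8.CurveTensor Groth.Agent.Lib.Helper4.GPRank
  Groth.Agent.Lib.Helper4.CurveVB Groth.Agent.Lib.Helper4.HilbPoly

variable (k : Type u) [Field k] (X : Scheme.{u}) [X.Over (Spec (CommRingCat.of k))] [IsIntegral X]
  [IsProper (X ↘ Spec (CommRingCat.of k))] [Smooth (X ↘ Spec (CommRingCat.of k))]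

include k in
/-- a coherent torsion submodule of a locally free module on a smooth proper integral curve vanishes -/
theorem isZero_of_torsion_sub (hdim : topologicalKrullDim X = 1) {T E : X.Modules} (j : T ⟶ E) [Mono j]
    (hT : Coh.IsCoh T) (hgen : genericPoint X ∉ CohB1.support T) {n : ℕ}
    (hE : FlatMod.IsFinLocFreeOfRank n E) : IsZero T := by
  haveI : IsLocallyNoetherian X := Groth.Agent.Lib.Helper8.EulerK.isLocallyNoetherian k X
  have h := isFinLocFreeOfRank_of_mono (X ↘ Spec (CommRingCat.of k)) hdim j hT hE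
  rw [grank_eq_zero X T hgen] at h
  exact isZero_of_rank_zero h

/-- an extension of locally free modules on a smooth proper integral curve is locally free -/
theorem ext_locFree (hdim : topologicalKrullDim X = 1) (S : ShortComplex X.Modules) (hS : S.ShortExact)
    {a c : ℕ} (h₁ : FlatMod.IsFinLocFreeOfRank a S.X₁) (h₃ : FlatMod.IsFinLocFreeOfRank c S.X₃) :
    FlatMod.IsFinLocFreeOfRank (a + c) S.X₂ ∧
      Curv2.deg k X S.X₂ (a + c) = Curv2.deg k X S.X₁ a + Curv2.deg k X S.X₃ c := by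
  haveI : IsLocallyNoetherian X := Groth.Agent.Lib.Helper8.EulerK.isLocallyNoetherian k X
  haveI : CompactSpace X := QuasiCompact.compactSpace_of_compactSpace (X ↘ Spec (CommRingCat.of k))
  haveI : IsNoetherian X := { }
  haveI := hS.mono_f
  haveI := hS.epi_g
  have h₁c := isCoh_of_isFinLocFreeOfRank _ h₁
  have h₃c := isCoh_of_isFinLocFreeOfRank _ h₃
  have h₂c : Coh.IsCoh S.X₂ := isCoh_of_shortExact S hS h₁c h₃c
  have hg := grank_add X S hS h₁c h₂c h₃c
  rw [grank_of_isFinLocFreeOfRank _ h₁, grank_of_isFinLocFreeOfRank _ h₃] at hg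
  refine ⟨?_, deg_add k X S hS h₁c h₂c h₃c a c⟩
  rw [← hg]
  apply Groth.Agent.Lib.Helper4.TFCurve.isFinLocFreeOfRank_of_pure (X ↘ Spec (CommRingCat.of k)) hdim S.X₂ h₂c
  intro T j hj hTc hgen
  haveI := hj
  -- the image of `T` in `S.X₃` is torsion, hence zero
  have hIc : Coh.IsCoh (Abelian.image (j ≫ S.g)) :=
    Groth.Agent.Lib.Helper6.DevCore.isCoh_image _ hTc h₃c
  have hKc : Coh.IsCoh (kernel (j ≫ S.g)) := Groth.Agent.Lib.Helper6.DevCore.isCoh_kernel _ hTc h₃c
  have hadd := grank_add X _ (Groth.Agent.Lib.Helper8.CurveVan.shortExact_kernel_image (j ≫ S.g)) hKc hTc hIc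
  dsimp only at hadd
  rw [grank_eq_zero X T hgen] at hadd
  have hI0 : grank X (Abelian.image (j ≫ S.g)) = 0 := by omega
  have hIz : IsZero (Abelian.image (j ≫ S.g)) :=
    isZero_of_torsion_sub k X hdim (Abelian.image.ι (j ≫ S.g)) hIc
      (notMem_support_of_grank_eq_zero X _ hIc hI0) h₃
  have hz : j ≫ S.g = 0 := by
    rw [← Abelian.image.fac (j ≫ S.g), hIz.eq_of_tgt (Abelian.factorThruImage (j ≫ S.g)) 0, zero_comp]
  set t : T ⟶ S.X₁ := hS.exact.lift j hz with ht
  have htf : t ≫ S.f = j := hS.exact.lift_f _ _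
  haveI : Mono t := by
    haveI : Mono (t ≫ S.f) := by rw [htf]; infer_instance
    exact mono_of_mono t S.f
  exact isZero_of_torsion_sub k X hdim t hTc hgen h₁

/-- an epi-mono factorisation identifies the middle object with the abelian image -/
noncomputable def isoImage {A B I : X.Modules} (π : A ⟶ I) (ι : I ⟶ B) [Epi π] [Mono ι] :
    I ≅ Abelian.image (π ≫ ι) :=
  haveI : StrongEpi π := strongEpi_of_epi π
  (image.isoStrongEpiMono π ι rfl) ≪≫ (Abelian.imageIsoImage (π ≫ ι)).symm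

/-- direct summands of a bundle on a smooth proper integral curve are bundles -/
theorem summand (hdim : topologicalKrullDim X = 1) {r : ℕ} {E E₁ E₂ : X.Modules}
    (hE : FlatMod.IsFinLocFreeOfRank r E) (e : E ≅ E₁ ⊞ E₂) :
    ∃ r₁ r₂ : ℕ, FlatMod.IsFinLocFreeOfRank r₁ E₁ ∧ FlatMod.IsFinLocFreeOfRank r₂ E₂ ∧ r₁ + r₂ = r ∧
      Curv2.deg k X E₁ r₁ + Curv2.deg k X E₂ r₂ = Curv2.deg k X E r ∧
      (¬ IsZero E₁ → 0 < r₁) ∧ (¬ IsZero E₂ → 0 < r₂) := by
  haveI : IsLocallyNoetherian X := Groth.Agent.Lib.Helper8.EulerK.isLocallyNoetherian k X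
  have hEc := isCoh_of_isFinLocFreeOfRank _ hE
  have h1c : Coh.IsCoh E₁ :=
    Groth.Agent.Lib.Helper6.DevCore.isCoh_of_iso
      (isoImage X (e.hom ≫ biprod.fst) (biprod.inl ≫ e.inv)).symm
      (Groth.Agent.Lib.Helper6.DevCore.isCoh_image _ hEc hEc)
  have h2c : Coh.IsCoh E₂ :=
    Groth.Agent.Lib.Helper6.DevCore.isCoh_of_iso
      (isoImage X (e.hom ≫ biprod.snd) (biprod.inr ≫ e.inv)).symm
      (Groth.Agent.Lib.Helper6.DevCore.isCoh_image _ hEc hEc)
  obtain ⟨r₁, hr₁, -, h10⟩ := sub_locFree k X hdim (biprod.inl ≫ e.inv) h1c hE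
  obtain ⟨r₂, hr₂, -, h20⟩ := sub_locFree k X hdim (biprod.inr ≫ e.inv) h2c hE
  let S : ShortComplex X.Modules := ShortComplex.mk (biprod.inl ≫ e.inv) (e.hom ≫ biprod.snd) (by simp)
  have hS : S.ShortExact := by
    refine ShortComplex.Splitting.shortExact
      { r := e.hom ≫ biprod.fst
        s := biprod.inr ≫ e.inv
        f_r := by simp [S]
        s_g := by simp [S]
        id := ?_ }
    show (e.hom ≫ biprod.fst) ≫ (biprod.inl ≫ e.inv) + (e.hom ≫ biprod.snd) ≫ (biprod.inr ≫ e.inv) = 𝟙 E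
    have h1 : (e.hom ≫ biprod.fst) ≫ (biprod.inl ≫ e.inv) + (e.hom ≫ biprod.snd) ≫ (biprod.inr ≫ e.inv) =
        e.hom ≫ (biprod.fst ≫ biprod.inl + biprod.snd ≫ biprod.inr) ≫ e.inv := by
      simp only [Preadditive.comp_add, Preadditive.add_comp, Category.assoc]
    rw [h1, biprod.total, Category.id_comp, Iso.hom_inv_id]
  have hg := grank_add X S hS h1c hEc h2c
  rw [grank_of_isFinLocFreeOfRank _ hr₁, grank_of_isFinLocFreeOfRank _ hr₂,
    grank_of_isFinLocFreeOfRank _ hE] at hg
  have hd := deg_add k X S hS h1c hEc h2c r₁ r₂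
  rw [← hg] at hd
  exact ⟨r₁, r₂, hr₁, hr₂, hg.symm, hd.symm, h10, h20⟩

include k in
/-- a nonzero morphism between line bundles (rank one bundles) is a monomorphism -/
theorem mono_of_ne_zero_rank_one (hdim : topologicalKrullDim X = 1) {A B : X.Modules}
    (hA : FlatMod.IsFinLocFreeOfRank 1 A) (hB : FlatMod.IsFinLocFreeOfRank 1 B) (f : A ⟶ B) (hf : f ≠ 0) :
    Mono f := by
  obtain ⟨rK, rI, hK, hI, hr', hIs, hdeg, hI0, hK0⟩ := ker_im k X hdim f hA hB
  have := hI0 hf
  have hK0' : rK = 0 := by omega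
  subst hK0'
  exact mono_of_isZero_kernel' X f (isZero_of_rank_zero hK)

/-- a sub line bundle of an extension `0 → L → E → M → 0` of line bundles either maps isomorphically
or with strictly smaller degree to `M`, or lies in `L` -/
theorem sub_line_cases (hdim : topologicalKrullDim X = 1) (S : ShortComplex X.Modules) (hS : S.ShortExact)
    (hL : FlatMod.IsFinLocFreeOfRank 1 S.X₁) (hM : FlatMod.IsFinLocFreeOfRank 1 S.X₃)
    (hns : ¬ IsSplitEpi S.g) {A : X.Modules} (hA : FlatMod.IsFinLocFreeOfRank 1 A) (i : A ⟶ S.X₂) [Mono i] :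
    (i ≫ S.g ≠ 0 ∧ Curv2.deg k X A 1 < Curv2.deg k X S.X₃ 1) ∨
      (i ≫ S.g = 0 ∧ Curv2.deg k X A 1 ≤ Curv2.deg k X S.X₁ 1) := by
  haveI := hS.mono_f
  by_cases hb : i ≫ S.g = 0
  · right
    refine ⟨hb, ?_⟩
    set t : A ⟶ S.X₁ := hS.exact.lift i hb with ht
    have htf : t ≫ S.f = i := hS.exact.lift_f _ _
    haveI : Mono t := by
      haveI : Mono (t ≫ S.f) := by rw [htf]; infer_instance
      exact mono_of_mono t S.f
    exact (deg_le_of_mono_of_rank_eq k X hdim.le t hA hL).1
  · left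
    refine ⟨hb, ?_⟩
    haveI := mono_of_ne_zero_rank_one k X hdim hA hM _ hb
    obtain ⟨h1, h2⟩ := deg_le_of_mono_of_rank_eq k X hdim.le (i ≫ S.g) hA hM
    rcases lt_or_eq_of_le h1 with h | h
    · exact h
    · exfalso
      haveI := h2 h
      exact hns ⟨⟨inv (i ≫ S.g) ≫ i, by rw [Category.assoc, IsIso.inv_hom_id]⟩⟩

section cat
variable {C : Type*} [Category C] [Abelian C]

/-- a morphism killed by the cokernel of a monomorphism factors through it -/
theorem exists_factor_of_comp_cokernel_zero {A B E : C} (i : A ⟶ E) [Mono i] (i' : B ⟶ E)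
    (h : i' ≫ cokernel.π i = 0) : ∃ t : B ⟶ A, t ≫ i = i' := by
  let S' : ShortComplex C := ShortComplex.mk i (cokernel.π i) (cokernel.condition i)
  have hS' : S'.Exact := ShortComplex.exact_of_g_is_cokernel _ (cokernelIsCokernel i)
  haveI : Mono S'.f := ‹Mono i›
  exact ⟨hS'.lift i' h, hS'.lift_f _ _⟩

/-- two subobjects contained in each other are isomorphic over the ambient object -/
theorem exists_iso_of_factor_both {A B E : C} (i : A ⟶ E) [Mono i] (i' : B ⟶ E) [Mono i']
    (t : B ⟶ A) (u : A ⟶ B) (ht : t ≫ i = i') (hu : u ≫ i' = i) : ∃ φ : A ≅ B, φ.hom ≫ i' = i := by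
  refine ⟨⟨u, t, ?_, ?_⟩, hu⟩
  · rw [← cancel_mono i, Category.assoc, ht, hu, Category.id_comp]
  · rw [← cancel_mono i', Category.assoc, hu, ht, Category.id_comp]

end cat

end Groth.Agent.Lib.Helper2.CurveExt
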