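import Groth.Agent.Lib.Helper4.CurveVB7
import Groth.Agent.Lib.Helper4.VanIdeal
import Groth.Agent.Lib.Helper8.CurveRR
import Groth.Agent.Lib.Helper4.ProperFinal

/-!
# Degrees of subsheaves of a vector bundle on a smooth proper curve are bounded above (helper2)

* `HHlin_zero_injective`: `H⁰` of a monomorphism is injective.
* `finrank_H0_le_of_mono`
* `deg_le_of_mono`: `deg F ≤ h⁰(E) - r' χ(O_X)` for `F ⊆ E` locally free of rank `r'`.
* `exists_deg_bound`
-/

set_option backward.isDefEq.respectTransparency.types false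
set_option autoImplicit false
set_option linter.style.haveILetI false
universe u
open CategoryTheory CategoryTheory.Limits AlgebraicGeometry Opposite TopologicalSpace

namespace Groth.Agent.Lib.Helper2.VBDeg

section h0
variable {X : Scheme.{u}} (k : Type u) [Field k] [X.Over (Spec (CommRingCat.of k))]

theorem HHlin_zero_injective {F E : X.Modules} (i : F ⟶ E) [Mono i] :
    Function.Injective (Canon.HHlin k i 0) := by
  intro x y hxy
  have hx := Sheaf.H.equiv₀_naturality (Limits.isTerminalTop (α := Opens X))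
    ((SheafOfModules.toSheaf X.ringCatSheaf).map i) x
  have hy := Sheaf.H.equiv₀_naturality (Limits.isTerminalTop (α := Opens X))
    ((SheafOfModules.toSheaf X.ringCatSheaf).map i) y
  have hxy' : Sheaf.H.map ((SheafOfModules.toSheaf X.ringCatSheaf).map i) 0 x =
      Sheaf.H.map ((SheafOfModules.toSheaf X.ringCatSheaf).map i) 0 y := hxy
  rw [hxy'] at hx
  have h2 := hx.trans hy.symm
  have h3 := Groth.Agent.Lib.Helper4.VanIdeal.app_injective_of_mono i ⊤ h2
  exact (Sheaf.H.equiv₀ _ _).injective h3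

theorem finrank_H0_le_of_mono {F E : X.Modules} (i : F ⟶ E) [Mono i]
    [Module.Finite k (Coh.HH X E 0)] :
    Module.finrank k (Coh.HH X F 0) ≤ Module.finrank k (Coh.HH X E 0) :=
  LinearMap.finrank_le_finrank_of_injective (HHlin_zero_injective k i)

end h0

section curve
open Groth.Agent.Lib.Helper4.CurveVB Groth.Agent.Lib.Helper8.CurveTensor Groth.Agent.Lib.Helper4.GPRank

variable (k : Type u) [Field k] (X : Scheme.{u}) [X.Over (Spec (CommRingCat.of k))] [IsIntegral X]
  [IsProper (X ↘ Spec (CommRingCat.of k))] [Smooth (X ↘ Spec (CommRingCat.of k))]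

/-- `deg F ≤ h⁰(E) - r' χ(O_X)` for a locally free `F ⊆ E` of rank `r'`, `E` coherent. -/
theorem deg_le_of_mono (hdim : topologicalKrullDim X = 1) {F E : X.Modules} (i : F ⟶ E) [Mono i]
    (hE : Coh.IsCoh E) {r' : ℕ} (hF : FlatMod.IsFinLocFreeOfRank r' F) :
    Curv2.deg k X F r' ≤ (Module.finrank k (Coh.HH X E 0) : ℤ) -
      r' * Curv2.euler k X (Coh.structureModule X) := by
  have hFc := isCoh_of_isFinLocFreeOfRank F hF
  haveI : Module.Finite k (Coh.HH X E 0) := Groth.Agent.Lib.Helper4.ProperFinal.finite_HH k X E hE 0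
  have h1 := finrank_H0_le_of_mono k i
  have h2 := Groth.Agent.Lib.Helper8.CurveRR.euler_eq_sub k X hdim.le F hFc.1
  unfold Curv2.deg
  rw [h2]
  have h3 : (Module.finrank k (Coh.HH X F 0) : ℤ) ≤ (Module.finrank k (Coh.HH X E 0) : ℤ) := by
    exact_mod_cast h1
  have h4 : (0 : ℤ) ≤ (Module.finrank k (Coh.HH X F 1) : ℤ) := Int.natCast_nonneg _
  linarith

/-- degrees of locally free subsheaves of a vector bundle are bounded above -/
theorem exists_deg_bound (hdim : topologicalKrullDim X = 1) {r : ℕ} (E : X.Modules)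
    (hE : FlatMod.IsFinLocFreeOfRank r E) :
    ∃ N : ℤ, ∀ (F : X.Modules) (r' : ℕ) (i : F ⟶ E), Mono i → FlatMod.IsFinLocFreeOfRank r' F →
      Curv2.deg k X F r' ≤ N := by
  have hEc := isCoh_of_isFinLocFreeOfRank E hE
  refine ⟨(Module.finrank k (Coh.HH X E 0) : ℤ) + r * |Curv2.euler k X (Coh.structureModule X)|,
    fun F r' i hi hF => ?_⟩
  haveI := hi
  have h1 := deg_le_of_mono k X hdim i hEc hF
  have h2 : r' ≤ r := rank_le_of_mono i hF hE
  have h3 : (r' : ℤ) ≤ r := by exact_mod_cast h2
  have h4 : (0 : ℤ) ≤ r' := Int.natCast_nonneg _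
  have h5 := neg_abs_le (Curv2.euler k X (Coh.structureModule X))
  have h6 := abs_nonneg (Curv2.euler k X (Coh.structureModule X))
  nlinarith

end curve

end Groth.Agent.Lib.Helper2.VBDeg
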