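import Groth.Agent.Lib.Helper2.SSDegZero
import Groth.Agent.Lib.Helper2.VBDeg
set_option backward.isDefEq.respectTransparency.types false
set_option autoImplicit false
set_option linter.style.haveILetI false

/-!
# Saturation of subbundles on a smooth proper curve (helper2)

`exists_saturation`: a subbundle `F ↪ E` of rank `r'` is contained in a subbundle `F' ↪ E` of the same rank,
of degree at least `deg F`, with locally free quotient `E/F'` of rank `r - r'`.
-/

universe u
open CategoryTheory CategoryTheory.Limits AlgebraicGeometry Opposite TopologicalSpace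

namespace Groth.Agent.Lib.Helper2.CurveSat
open Groth.Agent.Lib.Helper17.StalkExact Groth.Agent.Lib.Helper8.CurveTensor Groth.Agent.Lib.Helper4.GPRank
  Groth.Agent.Lib.Helper4.CurveVB Groth.Agent.Lib.Helper4.HilbPoly Groth.Agent.Lib.Helper4.ExactRank

variable (k : Type u) [Field k] (X : Scheme.{u}) [X.Over (Spec (CommRingCat.of k))] [IsIntegral X]
  [IsProper (X ↘ Spec (CommRingCat.of k))] [Smooth (X ↘ Spec (CommRingCat.of k))]

/-- the preimage in a bundle `E` of a coherent torsion submodule `T` of the quotient `E/F'`: a subbundle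
containing `F'` of the same rank and degree `deg F' + χ(T)` -/
theorem preimage_torsion (hdim : topologicalKrullDim X = 1) {r r' : ℕ} {E F' : X.Modules}
    (hE : FlatMod.IsFinLocFreeOfRank r E) (hF' : FlatMod.IsFinLocFreeOfRank r' F') (i' : F' ⟶ E) [Mono i']
    {T : X.Modules} (j : T ⟶ cokernel i') [Mono j] (hT : Coh.IsCoh T)
    (hgen : genericPoint X ∉ CohB1.support T) :
    ∃ (G' : X.Modules) (p₁ : G' ⟶ E) (a : F' ⟶ G'), Mono p₁ ∧ a ≫ p₁ = i' ∧
      FlatMod.IsFinLocFreeOfRank r' G' ∧ Curv2.deg k X G' r' = Curv2.deg k X F' r' + Curv2.euler k X T := by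
  haveI : IsLocallyNoetherian X := Groth.Agent.Lib.Helper8.EulerK.isLocallyNoetherian k X
  obtain ⟨G', p₁, a, p₂, w, hp₁, hap, -, hS'⟩ :=
    Groth.Agent.Lib.Helper4.TFCurve.preimage_shortExact i' (cokernel.π i') (cokernel.condition i')
      (shortExact_cokernel i') j
  haveI := hp₁
  have hAc := isCoh_of_isFinLocFreeOfRank _ hF'
  have hG'c : Coh.IsCoh G' := isCoh_of_shortExact _ hS' hAc hT
  have hloc := isFinLocFreeOfRank_of_mono (X ↘ Spec (CommRingCat.of k)) hdim p₁ hG'c hE
  have hg := grank_add X _ hS' hAc hG'c hT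
  dsimp only at hg
  rw [grank_of_isFinLocFreeOfRank _ hF', grank_eq_zero X T hgen, add_zero] at hg
  rw [hg] at hloc
  refine ⟨G', p₁, a, hp₁, hap, hloc, ?_⟩
  have hd := deg_add k X _ hS' hAc hG'c hT r' 0
  dsimp only at hd
  rw [add_zero, Groth.Agent.Lib.Helper4.TFCurve.deg_zero_rank] at hd
  exact hd

/-- saturation of a subbundle -/
theorem exists_saturation (hdim : topologicalKrullDim X = 1) {r r' : ℕ} {E F : X.Modules}
    (hE : FlatMod.IsFinLocFreeOfRank r E) (hF : FlatMod.IsFinLocFreeOfRank r' F) (i : F ⟶ E) [Mono i] :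
    ∃ (F' : X.Modules) (a : F ⟶ F') (i' : F' ⟶ E), Mono i' ∧ a ≫ i' = i ∧ FlatMod.IsFinLocFreeOfRank r' F' ∧
      Curv2.deg k X F r' ≤ Curv2.deg k X F' r' ∧ FlatMod.IsFinLocFreeOfRank (r - r') (cokernel i') ∧
      Curv2.deg k X F' r' + Curv2.deg k X (cokernel i') (r - r') = Curv2.deg k X E r ∧ r' ≤ r := by
  classical
  haveI : IsLocallyNoetherian X := Groth.Agent.Lib.Helper8.EulerK.isLocallyNoetherian k X
  haveI : CompactSpace X := QuasiCompact.compactSpace_of_compactSpace (X ↘ Spec (CommRingCat.of k))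
  haveI : IsNoetherian X := { }
  have hEc := isCoh_of_isFinLocFreeOfRank _ hE
  obtain ⟨N, hN⟩ := Groth.Agent.Lib.Helper2.VBDeg.exists_deg_bound k X hdim E hE
  let P : ℤ → Prop := fun d => ∃ (F' : X.Modules) (a : F ⟶ F') (i' : F' ⟶ E), Mono i' ∧ a ≫ i' = i ∧
    FlatMod.IsFinLocFreeOfRank r' F' ∧ Curv2.deg k X F' r' = d
  have hP0 : P (Curv2.deg k X F r') := ⟨F, 𝟙 F, i, inferInstance, Category.id_comp i, hF, rfl⟩
  obtain ⟨d₀, ⟨F', a, i', hi', hai, hF', hd₀⟩, hmax⟩ := Int.exists_greatest_of_bdd (P := P)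
    ⟨N, fun d ⟨F', a, i', hi', _, hF', hd⟩ => hd ▸ hN F' r' i' hi' hF'⟩ ⟨_, hP0⟩
  haveI := hi'
  have hF'c := isCoh_of_isFinLocFreeOfRank _ hF'
  have hQc : Coh.IsCoh (cokernel i') := Groth.Agent.Lib.Helper6.DevCore.isCoh_cokernel i' hF'c hEc
  have hrr := rank_le_of_mono i' hF' hE
  have hg := grank_add X _ (shortExact_cokernel i') hF'c hEc hQc
  dsimp only at hg
  rw [grank_of_isFinLocFreeOfRank _ hF', grank_of_isFinLocFreeOfRank _ hE] at hg
  have hgQ : grank X (cokernel i') = r - r' := by omega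
  have hloc : FlatMod.IsFinLocFreeOfRank (r - r') (cokernel i') := by
    rw [← hgQ]
    apply Groth.Agent.Lib.Helper4.TFCurve.isFinLocFreeOfRank_of_pure (X ↘ Spec (CommRingCat.of k)) hdim _ hQc
    intro T j hj hTc hgen
    haveI := hj
    obtain ⟨G', p₁, a', hp₁, hap, hG', hdG'⟩ := preimage_torsion k X hdim hE hF' i' j hTc hgen
    have h1 := hmax _ ⟨G', a ≫ a', p₁, hp₁, by rw [Category.assoc, hap, hai], hG', rfl⟩
    rw [hdG', hd₀] at h1
    exact Groth.Agent.Lib.Helper4.TFCurve.isZero_of_euler_nonpos k X hdim.le T hTc hgen (by omega)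
  have hda := deg_add k X _ (shortExact_cokernel i') hF'c hEc hQc r' (r - r')
  dsimp only at hda
  rw [show r' + (r - r') = r by omega] at hda
  refine ⟨F', a, i', hi', hai, hF', ?_, hloc, hda.symm, hrr⟩
  rw [hd₀]
  exact hmax _ hP0

/-- the kernel of an epimorphism of bundles -/
theorem kernel_of_epi (hdim : topologicalKrullDim X = 1) {r s : ℕ} {E F : X.Modules}
    (hE : FlatMod.IsFinLocFreeOfRank r E) (hF : FlatMod.IsFinLocFreeOfRank s F) (p : E ⟶ F) [Epi p] :
    s ≤ r ∧ FlatMod.IsFinLocFreeOfRank (r - s) (kernel p) ∧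
      Curv2.deg k X (kernel p) (r - s) + Curv2.deg k X F s = Curv2.deg k X E r := by
  haveI : IsLocallyNoetherian X := Groth.Agent.Lib.Helper8.EulerK.isLocallyNoetherian k X
  have hEc := isCoh_of_isFinLocFreeOfRank _ hE
  have hFc := isCoh_of_isFinLocFreeOfRank _ hF
  have hKc : Coh.IsCoh (kernel p) := Groth.Agent.Lib.Helper6.DevCore.isCoh_kernel p hEc hFc
  obtain ⟨rK, hK, -, -⟩ := sub_locFree k X hdim (kernel.ι p) hKc hE
  have hg := grank_add X _ (shortExact_kernel p) hKc hEc hFc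
  dsimp only at hg
  rw [grank_of_isFinLocFreeOfRank _ hK, grank_of_isFinLocFreeOfRank _ hE,
    grank_of_isFinLocFreeOfRank _ hF] at hg
  have hrK : rK = r - s := by omega
  subst hrK
  have hd := deg_add k X _ (shortExact_kernel p) hKc hEc hFc (r - s) s
  dsimp only at hd
  rw [show r - s + s = r by omega] at hd
  exact ⟨by omega, hK, hd.symm⟩

end Groth.Agent.Lib.Helper2.CurveSat
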