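import Groth.Agent.Lib.Helper2.EffDim2
import Groth.Agent.Lib.Helper17.AnnIdeal
import Groth.Agent.Lib.Helper17.AffineSurj
import Groth.Agent.Lib.Helper29.QCohExact
import Groth.Agent.Lib.Helper28.GenLocus
import Groth.Agent.Lib.Helper6.DevCore
import Groth.Agent.Lib.Helper6.DevRed
import Groth.Agent.Lib.Helper6.K0Op

/-!
# The divisor of zeros of a regular section of an invertible module (helper2)

For a monomorphism `s : O_X ⟶ L` into an invertible module, the annihilator ideal of `coker s` is an effective
Cartier divisor whose support is the support of `coker s`.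
-/

set_option backward.isDefEq.respectTransparency.types false
set_option autoImplicit false
universe u
open CategoryTheory CategoryTheory.Limits AlgebraicGeometry Opposite TopologicalSpace
noncomputable section

namespace Groth.Agent.Lib.Helper2.ZeroDiv

open Groth.Agent.Lib.Helper28 Groth.Agent.Lib.Helper28.QCohLoc Groth.Agent.Lib.Helper28.GenLocus
  Groth.Agent.Lib.Helper17.AnnIdeal

variable {X : Scheme.{u}}

theorem isCoh_cokernel (L : X.Modules) (hL : PicF.IsInvertible L) (s : Coh.structureModule X ⟶ L) :
    Coh.IsCoh (cokernel s) :=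
  Groth.Agent.Lib.Helper6.DevCore.isCoh_cokernel s Groth.Agent.Lib.Helper6.DevRed.isCoh_structureModule
    (Groth.Agent.Lib.Helper6.K0Op.isCoh_of_isInvertible L hL)

theorem shortExact_cokernel {L : X.Modules} (s : Coh.structureModule X ⟶ L) [Mono s] :
    (ShortComplex.mk s (cokernel.π s) (cokernel.condition s)).ShortExact :=
  { exact := ShortComplex.exact_of_g_is_cokernel _ (cokernelIsCokernel s)
    mono_f := inferInstanceAs (Mono s)
    epi_g := inferInstanceAs (Epi (cokernel.π s)) }

/-- the ideal of zeros of a section of an invertible module: the annihilator of its cokernel -/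
def zeroIdeal (L : X.Modules) (hL : PicF.IsInvertible L) (s : Coh.structureModule X ⟶ L) : X.IdealSheafData :=
  @annIdeal X (cokernel s) (isCoh_cokernel L hL s).1 (isCoh_cokernel L hL s).2

theorem support_zeroIdeal (L : X.Modules) (hL : PicF.IsInvertible L) (s : Coh.structureModule X ⟶ L) :
    ((zeroIdeal L hL s).support : Set X) = CohB1.support (cokernel s) := by
  exact @support_annIdeal X (cokernel s) (isCoh_cokernel L hL s).1 (isCoh_cokernel L hL s).2

/-- the annihilator of the cokernel of a regular section is an effective Cartier divisor -/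
theorem isEffCartier_zeroIdeal (L : X.Modules) (hL : PicF.IsInvertible L)
    (s : Coh.structureModule X ⟶ L) [Mono s] :
    BlowUp.IsEffCartierIdeal (zeroIdeal L hL s) := by
  intro x
  obtain ⟨U₀, g₀, hxU₀, hg₀⟩ := exists_isGen L hL x
  obtain ⟨W, hW, hxW, hWU⟩ := Opens.isBasis_iff_nbhd.mp X.isBasis_affineOpens hxU₀
  set g : Γ(L, W) := res L hWU g₀ with hgdef
  have hg : IsGen L W g := hg₀.res hWU
  have hbij := hg W le_rfl
  have hres : res L (le_rfl : W ≤ W) g = g := by
    rw [hgdef, res_res]
  simp only [hres] at hbij
  obtain ⟨r, hr⟩ := hbij.2 (s.app W (show Γ(Coh.structureModule X, W) from (1 : Γ(X, W))))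
  have hr' : s.app W (show Γ(Coh.structureModule X, W) from (1 : Γ(X, W))) = (r • g : Γ(L, W)) := hr.symm
  -- the formula for `s` on `W`
  have hs : ∀ c : Γ(X, W), s.app W (show Γ(Coh.structureModule X, W) from c) = ((c * r) • g : Γ(L, W)) := by
    intro c
    have h1 : (show Γ(Coh.structureModule X, W) from c) =
        (c • (show Γ(Coh.structureModule X, W) from (1 : Γ(X, W))) : Γ(Coh.structureModule X, W)) :=
      (mul_one c).symm
    calc s.app W (show Γ(Coh.structureModule X, W) from c)
        = s.app W (c • (show Γ(Coh.structureModule X, W) from (1 : Γ(X, W))) :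
            Γ(Coh.structureModule X, W)) := congrArg _ h1
      _ = (c • s.app W (show Γ(Coh.structureModule X, W) from (1 : Γ(X, W))) : Γ(L, W)) :=
          Scheme.Modules.Hom.app_smul s c _
      _ = (c • (r • g : Γ(L, W)) : Γ(L, W)) := by rw [hr']
      _ = ((c * r) • g : Γ(L, W)) := (mul_smul _ _ _).symm
  have hinj : Function.Injective (s.app W) :=
    Groth.Agent.Lib.Helper29.QCohStalk.injective_app_of_mono s inferInstance W
  have hT := shortExact_cokernel s
  haveI : (ShortComplex.mk s (cokernel.π s) (cokernel.condition s)).X₁.IsQuasicoherent :=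
    inferInstanceAs (Coh.structureModule X).IsQuasicoherent
  have hsurj : Function.Surjective ((cokernel.π s).app W) :=
    Groth.Agent.Lib.Helper17.AffineSurj.surjective_app_of_shortExact _ hT hW
  have hker : ∀ m : Γ(L, W), (cokernel.π s).app W m = 0 → ∃ c : Γ(X, W), ((c * r) • g : Γ(L, W)) = m := by
    intro m hm
    obtain ⟨c, hc⟩ := Groth.Agent.Lib.Helper29.QCohStalk.exists_app_eq_of_shortExact _ hT W m hm
    exact ⟨c, (hs c).symm.trans hc⟩
  have hzero : ∀ c : Γ(X, W), (cokernel.π s).app W ((c * r) • g : Γ(L, W)) = 0 := by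
    intro c
    rw [← hs c]
    have := Groth.Agent.Lib.Helper17.AffineSurj.app_comp_zero
      (ShortComplex.mk s (cokernel.π s) (cokernel.condition s)) W (show Γ(Coh.structureModule X, W) from c)
    exact this
  refine ⟨⟨W, hW⟩, hxW, r, ?_, ?_⟩
  · rw [mem_nonZeroDivisors_iff_right]
    intro c hc
    have h1 : s.app W (show Γ(Coh.structureModule X, W) from c) = 0 := by
      rw [hs c, hc, zero_smul]
    have h2 : (show Γ(Coh.structureModule X, W) from c) = 0 := hinj (h1.trans (map_zero _).symm)
    exact h2
  · show Module.annihilator Γ(X, W) Γ(cokernel s, W) = _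
    ext a
    rw [Module.mem_annihilator, Ideal.mem_span_singleton']
    constructor
    · intro ha
      have h1 := ha ((cokernel.π s).app W g)
      rw [← Scheme.Modules.Hom.app_smul] at h1
      obtain ⟨c, hc⟩ := hker _ h1
      refine ⟨c, ?_⟩
      apply hbij.1
      exact hc
    · rintro ⟨c, rfl⟩ q
      obtain ⟨m, rfl⟩ := hsurj q
      obtain ⟨c', rfl⟩ := hbij.2 m
      rw [← Scheme.Modules.Hom.app_smul]
      have : ((c * r) • ((c' • g : Γ(L, W))) : Γ(L, W)) = (((c * c') * r) • g : Γ(L, W)) := by
        rw [← mul_smul]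
        congr 1
        ring
      rw [this]
      exact hzero _

end Groth.Agent.Lib.Helper2.ZeroDiv
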