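import Groth.Agent.Lib.Helper2.IntNum7
import Groth.Agent.Lib.Helper2.ZeroDiv
import Groth.Agent.Lib.Helper2.IntNum6
import Groth.Agent.Lib.Helper2.SerreFin1
import Groth.Agent.Lib.Helper28.TwistGenDAmple
import Groth.Agent.Lib.Helper28.VeryAmpleImm
import Groth.Agent.Lib.Helper8.H0Field
import Groth.Agent.Lib.Helper6.InvDual

/-!
# Positivity of the degree of an invertible module with a section vanishing somewhere (helper2)

* `finrank_HH_of_iso`: isomorphic modules have cohomology of the same dimension.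
* `finrank_H0_eq_one_of_isAlgClosed`: `h⁰(O_X) = 1` for `X` integral and proper over an algebraically closed field.
* `intNum_pos_of_section`: on an integral closed subscheme `X ⊆ P^n_k` of dimension `s + 1`, if `σ : O_X ⟶ L` is a
  nonzero section of an invertible module whose cokernel is nonzero, then `(L · H^s) > 0`.
-/

set_option backward.isDefEq.respectTransparency.types false
set_option autoImplicit false
set_option linter.style.haveILetI false
universe u
open CategoryTheory CategoryTheory.Limits AlgebraicGeometry Opposite TopologicalSpace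

namespace Groth.Agent.Lib.Helper2.SecPos

section iso
variable {X : Scheme.{u}} (A : Type u) [CommRing A] [X.Over (Spec (CommRingCat.of A))]

theorem finrank_HH_of_iso {F G : X.Modules} (e : F ≅ G) (p : ℕ) :
    Module.finrank A (Coh.HH X F p) = Module.finrank A (Coh.HH X G p) := by
  refine LinearEquiv.finrank_eq (LinearEquiv.ofLinear (Canon.HHlin A e.hom p) (Canon.HHlin A e.inv p)
    ?_ ?_)
  · ext y
    exact (Groth.Agent.Lib.Helper2.SerreFin1.HHlin_comp_apply A e.inv e.hom p y).trans
      (by rw [e.inv_hom_id]; exact Groth.Agent.Lib.Helper2.SerreFin1.HHlin_id_apply A p y)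
  · ext y
    exact (Groth.Agent.Lib.Helper2.SerreFin1.HHlin_comp_apply A e.hom e.inv p y).trans
      (by rw [e.hom_inv_id]; exact Groth.Agent.Lib.Helper2.SerreFin1.HHlin_id_apply A p y)

end iso

section h0
open Groth.Agent.Lib.Helper8.PtSupp Groth.Agent.Lib.Helper8.EulerK Groth.Agent.Lib.Helper8.H0Field

variable (k : Type u) [Field k] [IsAlgClosed k] (X : Scheme.{u}) [X.Over (Spec (CommRingCat.of k))]
  [IsIntegral X] [IsProper (X ↘ Spec (CommRingCat.of k))]

/-- `h⁰(O_X) = 1` for an integral proper scheme over an algebraically closed field -/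
theorem finrank_H0_eq_one_of_isAlgClosed :
    Module.finrank k (Coh.HH X (Coh.structureModule X) 0) = 1 := by
  letI alg : Algebra k Γ(X, ⊤) := (toΓ k X).toAlgebra
  haveI : Nonempty (⊤ : X.Opens) := ⟨⟨Classical.arbitrary X, trivial⟩⟩
  haveI : IsDomain Γ(X, ⊤) := inferInstance
  let O := Coh.structureModule X
  have hcO : Coh.IsCoh O := Groth.Agent.Lib.Helper6.DevRed.isCoh_structureModule
  haveI := finite_HH k X O hcO 0
  let E : Coh.HH X O 0 ≃ₗ[k] Γ(X, ⊤) :=
    { e0 O with
      map_smul' := fun c x => by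
        have h := e0_smulΓ O (Coh.toGlobal (X ↘ Spec (CommRingCat.of k)) c) x
        exact h }
  haveI : Module.Finite k Γ(X, ⊤) := Module.Finite.equiv E
  haveI : Algebra.IsIntegral k Γ(X, ⊤) := Algebra.IsIntegral.of_finite k _
  have hsurj : Function.Surjective (algebraMap k Γ(X, ⊤)) :=
    IsAlgClosed.algebraMap_bijective_of_isIntegral.2
  rw [E.finrank_eq]
  refine finrank_eq_one_iff'.2 ⟨1, one_ne_zero, fun w => ?_⟩
  obtain ⟨c, hc⟩ := hsurj w
  exact ⟨c, by rw [Algebra.smul_def, mul_one]; exact hc⟩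

end h0

section pos

/-- a monomorphism with vanishing cokernel support is an isomorphism -/
theorem isIso_of_support_cokernel_empty {X : Scheme.{u}} {F G : X.Modules} (σ : F ⟶ G) [Mono σ]
    (hemp : CohB1.support (cokernel σ) = ∅) : IsIso σ := by
  have hz : IsZero (cokernel σ) := Groth.Agent.Lib.Helper6.DevCore.isZero_of_support_eq_empty _ hemp
  haveI : Epi σ := Preadditive.epi_of_isZero_cokernel σ hz
  exact isIso_of_mono_of_epi σ

/-- **positivity of the degree of a section vanishing somewhere**: `(L · H^s) > 0` on `X ⊆ P^n` integral of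
dimension `s + 1` when `L` has a nonzero section with nonzero cokernel -/
theorem intNum_pos_of_section (k : Type u) [Field k] (n : ℕ) (X : Scheme.{u}) [X.Over (Spec (CommRingCat.of k))]
    (i : X ⟶ CohB1.ProjSpace n k) [IsClosedImmersion i]
    (hi : i ≫ CohB1.ProjSpace.toSpec n k = X ↘ Spec (CommRingCat.of k))
    [IsIntegral X] (s : ℕ) (hdim : topologicalKrullDim X = (s + 1 : ℕ))
    (L L' : X.Modules) (hL : PicF.IsInvertible L) (eL : CohB1.tensorMod L L' ≅ Coh.structureModule X)
    (σ : Coh.structureModule X ⟶ L) (hσ : σ ≠ 0) (hne : (CohB1.support (cokernel σ)).Nonempty) :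
    0 < FGA.intNum k X (s + 1)
      (Matrix.vecCons L' (fun _ : Fin s => (Scheme.Modules.pullback i).obj (Twist.twistProjSpace n k (-1))))
      (Coh.structureModule X) := by
  classical
  haveI : IsProper (X ↘ Spec (CommRingCat.of k)) := by
    rw [← hi]
    haveI := Groth.Agent.Lib.Helper28.ProjSpaceBasic.isProper_toSpec n k
    infer_instance
  haveI : IsNoetherian X := Groth.Agent.Lib.Helper2.IntNum1.isNoetherian k X
  haveI : LocallyOfFiniteType (X ↘ Spec (CommRingCat.of k)) := inferInstance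
  haveI : CompactSpace X := QuasiCompact.compactSpace_of_compactSpace (X ↘ Spec (CommRingCat.of k))
  haveI : CompactSpace (Proj (CohB1.polyGrading n k)) := by
    haveI : IsProper ((CohB1.ProjSpace n k) ↘ (Spec (CommRingCat.of k))) :=
      Groth.Agent.Lib.Helper28.ProjSpaceBasic.isProper_toSpec n k
    haveI : IsNoetherian (CohB1.ProjSpace n k) :=
      Groth.Agent.Lib.Helper4.Snapper.isNoetherian_of_proper k
    exact inferInstanceAs (CompactSpace (CohB1.ProjSpace n k))
  have hcov := Groth.Agent.Lib.Helper28.VeryAmpleImm.projSpace_cover n k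
  have hO1 : CohB1.IsAmple (Twist.twistProjSpace n k ((1 : ℕ) : ℤ)) :=
    Groth.Agent.Lib.Helper28.TwistGenD.isAmple_twist_of_cover (CohB1.polyGrading n k) 1 one_pos hcov
  have hHamp : CohB1.IsAmple ((Scheme.Modules.pullback i).obj (Twist.twistProjSpace n k 1)) :=
    Groth.Agent.Lib.Helper28.PullbackInv.isAmple_pullback_of_isEmbedding i i.isEmbedding _ hO1
  have hH' : PicF.IsInvertible ((Scheme.Modules.pullback i).obj (Twist.twistProjSpace n k (-1))) :=
    Groth.Agent.Lib.Helper28.PullbackInv.isInvertible_pullback i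
      (Groth.Agent.Lib.Helper2.Bridge5.isInvertible_twist k n (-1))
  have heH := Groth.Agent.Lib.Helper2.IntNum6.nonempty_pullback_twist_tensor_iso k n i 1 (-1) (by norm_num)
  have hL' : PicF.IsInvertible L' := Groth.Agent.Lib.Helper6.K0Inv.isInvertible_of_tensor_iso L L' hL eL
  have hdim' : topologicalKrullDim X ≤ ((s + 1 : ℕ) : WithBot ℕ∞) := hdim.le
  have hO : Coh.IsCoh (Coh.structureModule X) := Groth.Agent.Lib.Helper6.DevRed.isCoh_structureModule
  have hOi := Groth.Agent.Lib.Helper28.AmpleUnit.isInvertible_structureModule X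
  have hLc : Coh.IsCoh L := Groth.Agent.Lib.Helper6.K0Op.isCoh_of_isInvertible L hL
  set H := (Scheme.Modules.pullback i).obj (Twist.twistProjSpace n k 1) with hHdef
  set H' := (Scheme.Modules.pullback i).obj (Twist.twistProjSpace n k (-1)) with hH'def
  set cO := Groth.Agent.Lib.Helper6.K0Len.cls (Coh.structureModule X) with hcO
  set cL := Groth.Agent.Lib.Helper6.K0Len.cls L with hcL
  set u : AddMonoid.End (Groth.Agent.Lib.Helper4.Snapper.K0 X) := 1 - Groth.Agent.Lib.Helper6.K0Op.Top H' with hu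
  haveI hsm : Mono σ := Groth.Agent.Lib.Helper8.CurveInv.mono_of_ne_zero hOi hL σ hσ
  have hC : Coh.IsCoh (cokernel σ) := Groth.Agent.Lib.Helper2.ZeroDiv.isCoh_cokernel L hL σ
  have hT := Groth.Agent.Lib.Helper2.ZeroDiv.shortExact_cokernel σ
  have hdimQ : topologicalKrullDim (CohB1.support (cokernel σ)) = ((s : ℕ) : WithBot ℕ∞) := by
    have h1 := Groth.Agent.Lib.Helper2.EffDim.dim_support_eq k
      (Groth.Agent.Lib.Helper2.ZeroDiv.zeroIdeal L hL σ)
      (Groth.Agent.Lib.Helper2.ZeroDiv.isEffCartier_zeroIdeal L hL σ)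
      (by rw [Groth.Agent.Lib.Helper2.ZeroDiv.support_zeroIdeal]; exact hne) s hdim
    rw [Groth.Agent.Lib.Helper2.ZeroDiv.support_zeroIdeal] at h1
    exact h1
  set cQ := Groth.Agent.Lib.Helper6.K0Len.cls (cokernel σ) with hcQ
  have hcl1 : cL = cO + cQ := Groth.Agent.Lib.Helper16.K0Db.clSub_shortExact _ _ hT hO hLc hC
  have hLO : cL = Groth.Agent.Lib.Helper6.K0Op.Top L cO := by
    obtain ⟨eu⟩ := Groth.Agent.Lib.Helper28.AmpleUnit.nonempty_tensor_unit_iso L
    rw [Groth.Agent.Lib.Helper6.K0Op.Top_cls L hL _ hO]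
    exact (Groth.Agent.Lib.Helper6.K0Op.cls_iso eu
      (Groth.Agent.Lib.Helper6.K0Op.isCoh_tensorMod _ _ hLc hO)).symm
  have hTT := Groth.Agent.Lib.Helper2.IntNum2.Top_mul_Top_eq_one L L' hL eL
  have hTT' : Groth.Agent.Lib.Helper6.K0Op.Top L' * Groth.Agent.Lib.Helper6.K0Op.Top L = 1 := by
    rw [Groth.Agent.Lib.Helper4.Snapper.Top_comm L' L hL' hL]; exact hTT
  -- (1 - [L'])[O] = [L'][Q]
  have h1 : (1 - Groth.Agent.Lib.Helper6.K0Op.Top L') cO = Groth.Agent.Lib.Helper6.K0Op.Top L' cQ := by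
    have h2 : cQ = Groth.Agent.Lib.Helper6.K0Op.Top L cO - cO := by
      rw [← hLO, hcl1]; abel
    rw [h2, map_sub]
    change _ = (Groth.Agent.Lib.Helper6.K0Op.Top L' * Groth.Agent.Lib.Helper6.K0Op.Top L) cO - _
    rw [hTT']
    rfl
  have hQmem : cQ ∈ Groth.Agent.Lib.Helper6.K0Len.Hlt X (s + 1) :=
    Groth.Agent.Lib.Helper4.Snapper.cls_mem_Hlt _ hC s hdimQ.le
  have hcommL' : ∀ j : ℕ, Commute (1 - Groth.Agent.Lib.Helper6.K0Op.Top L') (u ^ j) := fun j =>
    ((Commute.one_left _).sub_left ((Commute.one_right _).sub_right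
      (Groth.Agent.Lib.Helper4.Snapper.Top_comm L' H' hL' hH'))).pow_right j
  have hcommT : ∀ j : ℕ, Commute (Groth.Agent.Lib.Helper6.K0Op.Top L') (u ^ j) := fun j =>
    ((Commute.one_right _).sub_right
      (Groth.Agent.Lib.Helper4.Snapper.Top_comm L' H' hL' hH')).pow_right j
  have hinv : ∀ j, PicF.IsInvertible ((Matrix.vecCons L' (fun _ : Fin s => H') : Fin (s + 1) → X.Modules) j) := by
    intro j
    refine Fin.cases ?_ (fun j' => ?_) j
    · simpa using hL'
    · simpa using hH'
  rw [Groth.Agent.Lib.Helper2.IntNum1.intNum_eq k X (s + 1) hdim' _ hinv _ hO]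
  have hP : Groth.Agent.Lib.Helper2.IntNum1.Psi
      (Matrix.vecCons L' (fun _ : Fin s => H') : Fin (s + 1) → X.Modules) =
      (1 - Groth.Agent.Lib.Helper6.K0Op.Top L') * u ^ s := by
    change Groth.Agent.Lib.Helper2.IntNum1.Psi (Fin.cons L' (fun _ : Fin s => H') : Fin (s + 1) → X.Modules) = _
    rw [Groth.Agent.Lib.Helper2.IntNum1.Psi_cons, Groth.Agent.Lib.Helper2.IntNum1.Psi_const]
  have hval : Groth.Agent.Lib.Helper2.IntNum1.Psi
      (Matrix.vecCons L' (fun _ : Fin s => H') : Fin (s + 1) → X.Modules) cO = (u ^ s) cQ := by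
    rw [hP, (hcommL' s).eq]
    change (u ^ s) ((1 - Groth.Agent.Lib.Helper6.K0Op.Top L') cO) = _
    rw [h1]
    change (u ^ s * Groth.Agent.Lib.Helper6.K0Op.Top L') cQ = _
    rw [← (hcommT s).eq]
    change Groth.Agent.Lib.Helper6.K0Op.Top L' ((u ^ s) cQ) = _
    apply Groth.Agent.Lib.Helper2.IntNum4.Top_apply_of_mem_Hlt_one L' hL'
    apply Groth.Agent.Lib.Helper2.IntNum1.pow_sub_Top_mem_Hlt H' hH' 1 s
    rw [add_comm]; exact hQmem
  rw [hval]
  have hpos := Groth.Agent.Lib.Helper2.IntNum5.pos k X (fun _ : Fin s => H) (fun _ : Fin s => H')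
    (fun _ => hHamp) (fun _ => heH) (cokernel σ) hC hdimQ
  rw [Groth.Agent.Lib.Helper2.IntNum1.Psi_const] at hpos
  exact hpos

end pos

end Groth.Agent.Lib.Helper2.SecPos
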