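import Mathlib
import Groth.Agent.Lib.Helper2.TensEq
import Groth.Agent.Lib.Helper2.CurveExt
import Groth.Agent.Lib.Helper2.CurveSat
import Groth.Agent.Lib.Helper2.SecPos
import Groth.Agent.Lib.Helper8.DegGroup
import Groth.Agent.Lib.Helper8.DegVan
import Groth.Agent.Lib.Helper8.Descend
import Groth.Agent.Lib.helper19.BertiniGlue

/-!
# Helper2 — CurveSub: invertible subsheaves of rank-two bundles on curves.
-/

set_option autoImplicit false
set_option backward.isDefEq.respectTransparency.types false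
universe u
open CategoryTheory CategoryTheory.Limits AlgebraicGeometry Opposite TopologicalSpace

namespace Groth.Agent.Lib.Helper2.CurveSub
open Groth.Agent.Lib.Helper8.CurveTensor Groth.Agent.Lib.Helper4.GPRank
  Groth.Agent.Lib.Helper4.CurveVB Groth.Agent.Lib.Helper4.HilbPoly Groth.Agent.Lib.Helper8.EulerK

variable (k : Type u) [Field k] (X : Scheme.{u}) [X.Over (Spec (CommRingCat.of k))] [IsIntegral X]
  [IsProper (X ↘ Spec (CommRingCat.of k))]

/-- `χ(O) = 1 - g` -/
theorem euler_structureModule [IsAlgClosed k] (hdim : topologicalKrullDim X = 1) :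
    Curv2.euler k X (Coh.structureModule X) = 1 - (Curv2.genus k X : ℤ) := by
  have hOc : Coh.IsCoh (Coh.structureModule X) := Groth.Agent.Lib.Helper6.DevRed.isCoh_structureModule
  have hχO := Groth.Agent.Lib.Helper8.CurveRR.euler_eq_sub k X hdim.le _ hOc.1
  have h0O := Groth.Agent.Lib.Helper2.SecPos.finrank_H0_eq_one_of_isAlgClosed k X
  rw [h0O] at hχO
  rw [hχO]
  rfl

/-- invertible modules of every degree on an integral proper curve over an algebraically closed field -/
theorem exists_invertible_of_deg [IsAlgClosed k] (hdim : topologicalKrullDim X = 1) (n : ℤ) :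
    ∃ N : X.Modules, PicF.IsInvertible N ∧ Curv2.deg k X N 1 = n := by
  haveI : IsLocallyNoetherian X := isLocallyNoetherian k X
  obtain ⟨⟨L, hL, a0, a1⟩, ⟨N, hN, b0, b1⟩⟩ := Groth.Agent.Lib.Helper8.Descend.exists_h0_h1 k X hdim
  have hLc := Groth.Agent.Lib.Helper6.K0Op.isCoh_of_isInvertible _ hL
  have hNc := Groth.Agent.Lib.Helper6.K0Op.isCoh_of_isInvertible _ hN
  have hχL := Groth.Agent.Lib.Helper8.CurveRR.euler_eq_sub k X hdim.le _ hLc.1
  have hχN := Groth.Agent.Lib.Helper8.CurveRR.euler_eq_sub k X hdim.le _ hNc.1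
  unfold hh at a0 a1 b0 b1
  rw [a0, a1] at hχL
  rw [b0, b1] at hχN
  have h1 : (1 : ℤ) ∈ Groth.Agent.Lib.Helper8.DegGroup.degSubgroup k X hdim.le := by
    have hl := Groth.Agent.Lib.Helper8.DegGroup.mem_degSubgroup k X hdim.le hL
    have hn := Groth.Agent.Lib.Helper8.DegGroup.mem_degSubgroup k X hdim.le hN
    have hd : Curv2.deg k X L 1 - Curv2.deg k X N 1 = 1 := by
      unfold Curv2.deg
      rw [hχL, hχN]
      push_cast
      ring
    rw [← hd]
    exact AddSubgroup.sub_mem _ hl hn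
  have hn : n ∈ Groth.Agent.Lib.Helper8.DegGroup.degSubgroup k X hdim.le := by
    have := AddSubgroup.zsmul_mem _ h1 n
    simpa using this
  obtain ⟨M, hM, hdeg⟩ := hn
  exact ⟨M, hM, hdeg⟩

variable [Smooth (X ↘ Spec (CommRingCat.of k))]

include k in
/-- a nonzero morphism from a line bundle to a vector bundle is a monomorphism -/
theorem mono_of_ne_zero (hdim : topologicalKrullDim X = 1) {A B : X.Modules} {s : ℕ}
    (hA : FlatMod.IsFinLocFreeOfRank 1 A) (hB : FlatMod.IsFinLocFreeOfRank s B) (f : A ⟶ B) (hf : f ≠ 0) :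
    Mono f := by
  obtain ⟨rK, rI, hK, hI, hr', hIs, hdeg, hI0, hK0⟩ := ker_im k X hdim f hA hB
  have := hI0 hf
  have hK0' : rK = 0 := by omega
  subst hK0'
  exact mono_of_isZero_kernel' X f (isZero_of_rank_zero hK)

/-- a non-split extension of an invertible module by an invertible module: `deg X₁ - deg X₃ ≤ 2g - 2` -/
theorem deg_sub_le_of_not_isSplitEpi [IsAlgClosed k] (hdim : topologicalKrullDim X = 1)
    (S : ShortComplex X.Modules) (hS : S.ShortExact) (h₁ : PicF.IsInvertible S.X₁)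
    (h₃ : PicF.IsInvertible S.X₃) (hns : ¬ IsSplitEpi S.g) :
    Curv2.deg k X S.X₁ 1 - Curv2.deg k X S.X₃ 1 ≤ 2 * (Curv2.genus k X : ℤ) - 2 := by
  haveI : IsLocallyNoetherian X := isLocallyNoetherian k X
  obtain ⟨M', hM'i, hM'⟩ := Groth.Agent.Lib.Helper8.InvInverse.exists_isInverseOf h₃
  have hdegM' := Groth.Agent.Lib.Helper8.DegGroup.deg_inverse_eq_neg k X hdim.le h₃ hM'i hM'
  have hdegT := Groth.Agent.Lib.Helper8.DegGroup.deg_tensorMod k X hdim.le hM'i h₁
  have hNinv : PicF.IsInvertible (CohB1.tensorMod M' S.X₁) :=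
    Groth.Agent.Lib.Helper28.GenLocus.isInvertible_tensorMod hM'i h₁
  have hNc := Groth.Agent.Lib.Helper6.K0Op.isCoh_of_isInvertible _ hNinv
  by_contra hcon
  push Not at hcon
  have hv := Groth.Agent.Lib.Helper8.DegVan.hh_one_eq_zero k X hdim _ hNinv (by rw [hdegT, hdegM']; omega)
  unfold hh at hv
  haveI := finite_HH k X _ hNc 1
  have hsub : Subsingleton (Coh.HH X (CohB1.tensorMod M' S.X₁) 1) := Module.finrank_zero_iff.1 hv
  exact hns (Groth.Agent.Lib.Helper2.TensEq.isSplitEpi_of_H1 S hS h₃ M' hM' hsub)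

end Groth.Agent.Lib.Helper2.CurveSub
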