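import Groth.Agent.Lib.Helper2.CurveExt
import Groth.Agent.Lib.Helper4.ExactRank
import Groth.Agent.Lib.Helper8.KillA
import Groth.Agent.Lib.Helper17.GrVan
set_option backward.isDefEq.respectTransparency.types false
set_option autoImplicit false
set_option linter.style.haveILetI false

/-!
# Sections of semistable bundles of degree zero (helper2)

`h0_le`: on a smooth proper integral curve, a semistable bundle of rank `r` and degree `0` has
`h⁰ ≤ r · h⁰(O)`.
-/

universe u
open CategoryTheory CategoryTheory.Limits AlgebraicGeometry Opposite TopologicalSpace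

namespace Groth.Agent.Lib.Helper2.SSDegZero
open Groth.Agent.Lib.Helper17.StalkExact Groth.Agent.Lib.Helper8.CurveTensor Groth.Agent.Lib.Helper4.GPRank
  Groth.Agent.Lib.Helper4.CurveVB Groth.Agent.Lib.Helper4.HilbPoly Groth.Agent.Lib.Helper4.ExactRank

variable (k : Type u) [Field k] (X : Scheme.{u}) [X.Over (Spec (CommRingCat.of k))] [IsIntegral X]
  [IsProper (X ↘ Spec (CommRingCat.of k))] [Smooth (X ↘ Spec (CommRingCat.of k))]

theorem deg_structureModule : Curv2.deg k X (Coh.structureModule X) 1 = 0 := by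
  unfold Curv2.deg
  simp

include k in
/-- a nonzero section of a bundle is a monomorphism -/
theorem mono_of_section_ne_zero (hdim : topologicalKrullDim X = 1) {r : ℕ} {G : X.Modules}
    (hG : FlatMod.IsFinLocFreeOfRank r G) (φ : Coh.structureModule X ⟶ G) (hφ : φ ≠ 0) : Mono φ := by
  have hO1 := Groth.Agent.Lib.Helper6.K0Op.isFinLocFreeOfRank_one_of_isInvertible _
    (Groth.Agent.Lib.Helper28.AmpleUnit.isInvertible_structureModule X)
  obtain ⟨rK, rI, hK, hI, hr', hIs, hdeg, hI0, hK0⟩ := ker_im k X hdim φ hO1 hG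
  have := hI0 hφ
  have hK0' : rK = 0 := by omega
  subst hK0'
  exact mono_of_isZero_kernel' X φ (isZero_of_rank_zero hK)

/-- the quotient of a semistable bundle of degree zero by a nonzero section -/
theorem quotient_section (hdim : topologicalKrullDim X = 1) {r : ℕ} {G : X.Modules}
    (hG : FlatMod.IsFinLocFreeOfRank (r + 1) G) (hdeg : Curv2.deg k X G (r + 1) = 0)
    (hss : ∀ (H : X.Modules) (r' : ℕ) (i : H ⟶ G), Mono i → 0 < r' → FlatMod.IsFinLocFreeOfRank r' H →
      Curv2.deg k X H r' * ((r + 1 : ℕ) : ℤ) ≤ Curv2.deg k X G (r + 1) * (r' : ℤ))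
    (φ : Coh.structureModule X ⟶ G) [Mono φ] :
    FlatMod.IsFinLocFreeOfRank r (cokernel φ) ∧ Curv2.deg k X (cokernel φ) r = 0 ∧
      ∀ (H : X.Modules) (r' : ℕ) (i : H ⟶ cokernel φ), Mono i → 0 < r' → FlatMod.IsFinLocFreeOfRank r' H →
        Curv2.deg k X H r' * (r : ℤ) ≤ Curv2.deg k X (cokernel φ) r * (r' : ℤ) := by
  haveI : IsLocallyNoetherian X := Groth.Agent.Lib.Helper8.EulerK.isLocallyNoetherian k X
  haveI : CompactSpace X := QuasiCompact.compactSpace_of_compactSpace (X ↘ Spec (CommRingCat.of k))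
  haveI : IsNoetherian X := { }
  have hO1 := Groth.Agent.Lib.Helper6.K0Op.isFinLocFreeOfRank_one_of_isInvertible _
    (Groth.Agent.Lib.Helper28.AmpleUnit.isInvertible_structureModule X)
  have hOc := isCoh_of_isFinLocFreeOfRank _ hO1
  have hGc := isCoh_of_isFinLocFreeOfRank _ hG
  have hQc : Coh.IsCoh (cokernel φ) := Groth.Agent.Lib.Helper6.DevCore.isCoh_cokernel φ hOc hGc
  let S : ShortComplex X.Modules := ShortComplex.mk φ (cokernel.π φ) (cokernel.condition φ)
  have hS : S.ShortExact := shortExact_cokernel φ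
  have hdO := deg_structureModule k X
  have hr1 : (0 : ℤ) < ((r + 1 : ℕ) : ℤ) := by exact_mod_cast Nat.succ_pos r
  -- ranks
  have hg := grank_add X S hS hOc hGc hQc
  rw [show grank X S.X₁ = 1 from grank_of_isFinLocFreeOfRank _ hO1,
    show grank X S.X₂ = r + 1 from grank_of_isFinLocFreeOfRank _ hG] at hg
  have hgQ : grank X (cokernel φ) = r := by
    have : grank X S.X₃ = grank X (cokernel φ) := rfl
    omega
  -- purity
  have hloc : FlatMod.IsFinLocFreeOfRank r (cokernel φ) := by
    rw [← hgQ]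
    apply Groth.Agent.Lib.Helper4.TFCurve.isFinLocFreeOfRank_of_pure (X ↘ Spec (CommRingCat.of k)) hdim _ hQc
    intro T j hj hTc hgen
    obtain ⟨G', p₁, hp₁, hG', hdG'⟩ :=
      Groth.Agent.Lib.Helper4.TFCurve.preimage_locFree k X hdim S hS hO1 hG j hj hTc
    rw [grank_eq_zero X T hgen] at hG' hdG'
    have h1 := hss G' (1 + 0) p₁ hp₁ (by norm_num) hG'
    rw [hdeg, hdG', zero_mul] at h1
    have h2 : Curv2.deg k X T 0 ≤ 0 := by
      have h3 : Curv2.deg k X S.X₁ 1 = 0 := hdO
      rw [h3, zero_add] at h1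
      by_contra hcon
      push Not at hcon
      have := mul_pos hcon hr1
      omega
    rw [Groth.Agent.Lib.Helper4.TFCurve.deg_zero_rank] at h2
    exact Groth.Agent.Lib.Helper4.TFCurve.isZero_of_euler_nonpos k X hdim.le T hTc hgen h2
  have hda := deg_add k X S hS hOc hGc hQc 1 r
  have hdQ : Curv2.deg k X (cokernel φ) r = 0 := by
    have h3 : Curv2.deg k X S.X₁ 1 = 0 := hdO
    have h4 : Curv2.deg k X S.X₂ (1 + r) = 0 := by rw [Nat.add_comm]; exact hdeg
    have h5 : Curv2.deg k X S.X₃ r = Curv2.deg k X (cokernel φ) r := rfl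
    omega
  refine ⟨hloc, hdQ, ?_⟩
  intro H r' i hi hr' hH
  have hHc := isCoh_of_isFinLocFreeOfRank _ hH
  obtain ⟨G', p₁, hp₁, hG', hdG'⟩ :=
    Groth.Agent.Lib.Helper4.TFCurve.preimage_locFree k X hdim S hS hO1 hG i hi hHc
  rw [grank_of_isFinLocFreeOfRank _ hH] at hG' hdG'
  have h1 := hss G' (1 + r') p₁ hp₁ (by omega) hG'
  rw [hdeg, hdG', zero_mul] at h1
  have h3 : Curv2.deg k X S.X₁ 1 = 0 := hdO
  rw [h3, zero_add] at h1
  have h2 : Curv2.deg k X H r' ≤ 0 := by
    by_contra hcon
    push Not at hcon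
    have := mul_pos hcon hr1
    omega
  rw [hdQ, zero_mul]
  exact mul_nonpos_of_nonpos_of_nonneg h2 (by positivity)

/-- a semistable bundle of rank `r` and degree zero has `h⁰ ≤ r · h⁰(O)` -/
theorem h0_le (hdim : topologicalKrullDim X = 1) : ∀ (r : ℕ) (G : X.Modules),
    FlatMod.IsFinLocFreeOfRank r G → Curv2.deg k X G r = 0 →
    (∀ (H : X.Modules) (r' : ℕ) (i : H ⟶ G), Mono i → 0 < r' → FlatMod.IsFinLocFreeOfRank r' H →
      Curv2.deg k X H r' * (r : ℤ) ≤ Curv2.deg k X G r * (r' : ℤ)) →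
    hh k G 0 ≤ r * hh k (Coh.structureModule X) 0 := by
  intro r
  induction r with
  | zero =>
    intro G hG _ _
    haveI := Groth.Agent.Lib.Helper17.Graded.subsingleton_HH_of_isZero G (isZero_of_rank_zero hG) 0
    unfold hh
    rw [Module.finrank_zero_of_subsingleton]
    omega
  | succ r ih =>
    intro G hG hdeg hss
    by_cases h0 : hh k G 0 = 0
    · rw [h0]; exact Nat.zero_le _
    · have hO1 := Groth.Agent.Lib.Helper6.K0Op.isFinLocFreeOfRank_one_of_isInvertible _
        (Groth.Agent.Lib.Helper28.AmpleUnit.isInvertible_structureModule X)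
      have hOc := isCoh_of_isFinLocFreeOfRank _ hO1
      have hGc := isCoh_of_isFinLocFreeOfRank _ hG
      haveI := finiteDimensional k G hGc 0
      have hnt : Nontrivial (Coh.HH X G 0) := by
        by_contra hcon
        rw [not_nontrivial_iff_subsingleton] at hcon
        apply h0
        unfold hh
        exact Module.finrank_zero_of_subsingleton
      obtain ⟨q, hq⟩ := exists_ne (0 : Coh.HH X G 0)
      obtain ⟨φ, hφ⟩ := Groth.Agent.Lib.Helper8.KillA.exists_hom_of_H0 G q
      have hφ0 : φ ≠ 0 := by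
        rintro rfl
        rw [Groth.Agent.Lib.Helper8.KillA.HHmap_zero_unitH] at hφ
        exact hq hφ.symm
      haveI := mono_of_section_ne_zero k X hdim hG φ hφ0
      obtain ⟨hQ, hdQ, hQss⟩ := quotient_section k X hdim hG hdeg hss φ
      have hQc := isCoh_of_isFinLocFreeOfRank _ hQ
      have h1 := ih (cokernel φ) hQ hdQ hQss
      have h2 := hh₂_le k (ShortComplex.mk φ (cokernel.π φ) (cokernel.condition φ))
        (shortExact_cokernel φ) hOc hGc hQc 0
      dsimp only at h2
      calc hh k G 0 ≤ hh k (Coh.structureModule X) 0 + hh k (cokernel φ) 0 := h2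
        _ ≤ hh k (Coh.structureModule X) 0 + r * hh k (Coh.structureModule X) 0 := by omega
        _ = (r + 1) * hh k (Coh.structureModule X) 0 := by ring

end Groth.Agent.Lib.Helper2.SSDegZero
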