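import Groth.Agent.Lib.Helper2.Horr3
import Groth.Agent.Lib.Helper2.Bridge5

/-!
# Horrocks' splitting criterion on `P^n_k` (helper2)
-/

set_option backward.isDefEq.respectTransparency.types false
set_option autoImplicit false
universe u
open CategoryTheory CategoryTheory.Limits AlgebraicGeometry Opposite TopologicalSpace Abelian

noncomputable section
namespace Groth.Agent.Lib.Helper2.Horr4

open Groth.Agent.Lib.Helper2.ProjCoh3 Groth.Agent.Lib.Helper2.ProjCoh4 Groth.Agent.Lib.Helper2.ProjCoh5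
  Groth.Agent.Lib.Helper2.SerreVan Groth.Agent.Lib.Helper2.Kos13 Groth.Agent.Lib.Helper2.Horr1
  Groth.Agent.Lib.Helper2.Horr2 Groth.Agent.Lib.Helper2.Horr3 Groth.Agent.Lib.Helper2.SerreFin2

section Abs

variable {C : Type*} [Category C] [Abelian C]

theorem nonempty_sigma_cons_iso {r : ℕ} (f : Fin (r + 1) → C) :
    Nonempty ((f 0 ⊞ ∐ fun i : Fin r => f i.succ) ≅ ∐ f) := by
  let c₁ : Cofan fun i : Fin r => f i.succ := Cofan.mk (∐ fun i : Fin r => f i.succ) (Sigma.ι _)
  have t₁ : IsColimit c₁ := coproductIsCoproduct _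
  let c₂ : BinaryCofan (f 0) c₁.pt := BinaryBicone.toCocone (BinaryBiproduct.bicone (f 0) c₁.pt)
  have t₂ : IsColimit c₂ := BinaryBiproduct.isColimit (f 0) c₁.pt
  have t := extendCofanIsColimit f t₁ t₂
  exact ⟨t.coconePointUniqueUpToIso (coproductIsCoproduct f)⟩

theorem isZero_sigma_fin_zero (f : Fin 0 → C) : IsZero (∐ f) := by
  rw [IsZero.iff_id_eq_zero]
  apply Sigma.hom_ext
  intro j
  exact Fin.elim0 j

end Abs

variable {n : ℕ} {k : Type u} [Field k]

theorem isLocallyNoetherian : IsLocallyNoetherian (CohB1.ProjSpace n k) := by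
  haveI : IsNoetherian (Proj (gr n k)) := Groth.Agent.S2357.result (gr n k)
  exact (inferInstance : IsLocallyNoetherian (Proj (gr n k)))

/-- the inductive splitting. -/
theorem exists_iso_sigma_aux (hn : 1 ≤ n) (T : ℤ) : ∀ (N : ℕ) (F : (CohB1.ProjSpace n k).Modules),
    Coh.IsCoh F → HorrCond F → Curv2.IsMRegular k n F T →
    Module.finrank k (Coh.HH (CohB1.ProjSpace n k)
      (CohB1.tensorMod F (Twist.twistProjSpace n k T)) 0) ≤ N →
    ∃ (r : ℕ) (a : Fin r → ℤ), Nonempty (F ≅ ∐ fun j => Twist.twistProjSpace n k (a j)) := by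
  haveI := isLocallyNoetherian (n := n) (k := k)
  -- the splitting step, common to both cases of the induction
  have step : ∀ (F : (CohB1.ProjSpace n k).Modules), Coh.IsCoh F → HorrCond F →
      Curv2.IsMRegular k n F T → ¬ IsZero F →
      ∃ (m₀ : ℤ) (K : (CohB1.ProjSpace n k).Modules), Coh.IsCoh K ∧ HorrCond K ∧
        Curv2.IsMRegular k n K T ∧
        Module.finrank k (Coh.HH (CohB1.ProjSpace n k)
          (CohB1.tensorMod K (Twist.twistProjSpace n k T)) 0) + 1 ≤
        Module.finrank k (Coh.HH (CohB1.ProjSpace n k)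
          (CohB1.tensorMod F (Twist.twistProjSpace n k T)) 0) ∧
        Nonempty (F ≅ K ⊞ Twist.twistProjSpace n k (-m₀)) := by
    intro F hF hH hT hz
    obtain ⟨m₀, hle, σ, ρ, hσρ⟩ := exists_split_off hn F hF hz hH T hT
    let S : ShortComplex (CohB1.ProjSpace n k).Modules :=
      ShortComplex.mk (kernel.ι ρ) ρ (kernel.condition ρ)
    haveI : Epi ρ := epi_of_epi_fac hσρ
    have hS : S.ShortExact := { exact := ShortComplex.exact_kernel ρ }
    let sp : S.Splitting := ShortComplex.Splitting.ofExactOfSection S hS.exact σ hσρ hS.mono_f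
    have hfr : kernel.ι ρ ≫ sp.r = 𝟙 (kernel ρ) := sp.f_r
    have hK : Coh.IsCoh (kernel ρ) :=
      Groth.Agent.Lib.Helper6.DevCore.isCoh_kernel ρ hF (isCoh_twist n k (-m₀))
    refine ⟨m₀, kernel ρ, hK, hH.of_retract _ _ hfr, isMRegular_of_retract _ _ hfr T hT, ?_,
      ⟨sp.isoBinaryBiproduct⟩⟩
    -- the count
    have hST : (S.map (Tw n k T)).ShortExact := shortExact_map_Tw n k T S hS
    haveI : Module.Finite k (Coh.HH (CohB1.ProjSpace n k) (S.map (Tw n k T)).X₂ 0) :=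
      finite_HH n k (n + 1) 0 (by omega) _ (isCoh_Tw n k T F hF)
    have h1 := finrank_HH_zero_of_split k (S.map (Tw n k T)) hST ((Tw n k T).map σ)
      (by
        change (Tw n k T).map σ ≫ (Tw n k T).map ρ = 𝟙 _
        rw [← Functor.map_comp, hσρ, CategoryTheory.Functor.map_id])
    obtain ⟨D, hD⟩ := Int.eq_ofNat_of_zero_le (by omega : (0 : ℤ) ≤ T - m₀)
    obtain ⟨e₀⟩ := nonempty_Tw_twist_iso n k (-m₀) T
    obtain ⟨e₁⟩ := nonempty_twist_iso_of_eq n k (-m₀ + T) (D : ℤ) (by omega)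
    have h2 : 1 ≤ Module.finrank k (Coh.HH (CohB1.ProjSpace n k) (S.map (Tw n k T)).X₃ 0) := by
      have := LinearEquiv.finrank_eq
        (Groth.Agent.Lib.Helper2.Bridge5.HHlinEquiv k (e₀ ≪≫ e₁) 0)
      change Module.finrank k (Coh.HH (CohB1.ProjSpace n k)
        ((Tw n k T).obj (Twist.twistProjSpace n k (-m₀))) 0) = _ at this
      change 1 ≤ Module.finrank k (Coh.HH (CohB1.ProjSpace n k)
        ((Tw n k T).obj (Twist.twistProjSpace n k (-m₀))) 0)
      rw [this]
      exact finrank_HH_zero_twist_pos D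
    change Module.finrank k (Coh.HH (CohB1.ProjSpace n k) (S.map (Tw n k T)).X₁ 0) + 1 ≤
      Module.finrank k (Coh.HH (CohB1.ProjSpace n k) (S.map (Tw n k T)).X₂ 0)
    omega
  -- assembling an isomorphism with a sum of twists
  have assemble : ∀ (F K : (CohB1.ProjSpace n k).Modules) (m₀ : ℤ),
      Nonempty (F ≅ K ⊞ Twist.twistProjSpace n k (-m₀)) →
      (∃ (r : ℕ) (a : Fin r → ℤ), Nonempty (K ≅ ∐ fun j => Twist.twistProjSpace n k (a j))) →
      ∃ (r : ℕ) (a : Fin r → ℤ), Nonempty (F ≅ ∐ fun j => Twist.twistProjSpace n k (a j)) := by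
    rintro F K m₀ ⟨e⟩ ⟨r, a, ⟨eK⟩⟩
    refine ⟨r + 1, Fin.cons (-m₀) a, ?_⟩
    obtain ⟨e₂⟩ := nonempty_sigma_cons_iso
      (fun j : Fin (r + 1) => Twist.twistProjSpace n k ((Fin.cons (-m₀) a : Fin (r + 1) → ℤ) j))
    have e₃ : (∐ fun j : Fin r => Twist.twistProjSpace n k (a j)) ≅
        ∐ fun i : Fin r => Twist.twistProjSpace n k
          ((Fin.cons (-m₀) a : Fin (r + 1) → ℤ) i.succ) :=
      Sigma.mapIso (fun i => eqToIso (by rw [Fin.cons_succ]))
    have e₄ : Twist.twistProjSpace n k (-m₀) ≅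
        Twist.twistProjSpace n k ((Fin.cons (-m₀) a : Fin (r + 1) → ℤ) 0) :=
      eqToIso (by rw [Fin.cons_zero])
    exact ⟨e ≪≫ biprod.braiding _ _ ≪≫ biprod.mapIso e₄ (eK ≪≫ e₃) ≪≫ e₂⟩
  intro N
  induction N with
  | zero =>
    intro F hF hH hT hN
    by_cases hz : IsZero F
    · exact ⟨0, Fin.elim0, ⟨hz.iso (isZero_sigma_fin_zero _)⟩⟩
    · obtain ⟨m₀, K, -, -, -, hcount, -⟩ := step F hF hH hT hz
      omega
  | succ N ih =>
    intro F hF hH hT hN
    by_cases hz : IsZero F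
    · exact ⟨0, Fin.elim0, ⟨hz.iso (isZero_sigma_fin_zero _)⟩⟩
    · obtain ⟨m₀, K, hK, hHK, hTK, hcount, he⟩ := step F hF hH hT hz
      exact assemble F K m₀ he (ih K hK hHK hTK (by omega))

/-- **Horrocks' criterion**, the nontrivial direction. -/
theorem exists_iso_sigma (hn : 1 ≤ n) (F : (CohB1.ProjSpace n k).Modules) (hF : Coh.IsCoh F)
    (hH : HorrCond F) :
    ∃ (r : ℕ) (a : Fin r → ℤ), Nonempty (F ≅ ∐ fun j => Twist.twistProjSpace n k (a j)) := by
  obtain ⟨d₀, hd₀⟩ := serre_vanishing n k F hF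
  have hT : Curv2.IsMRegular k n F (d₀ + n) := by
    intro i hi1 hi2
    exact hd₀ _ (by omega) i (by omega)
  exact exists_iso_sigma_aux hn (d₀ + n) _ F hF hH hT le_rfl

end Groth.Agent.Lib.Helper2.Horr4
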