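import Groth.Agent.Lib.Helper2.Kos12
import Groth.Agent.Lib.Helper2.SD4

/-!
# `m`-regularity via one step of a linear resolution (helper2)
-/

set_option backward.isDefEq.respectTransparency.types false
set_option autoImplicit false
universe u
open CategoryTheory CategoryTheory.Limits AlgebraicGeometry Opposite TopologicalSpace Abelian

noncomputable section
namespace Groth.Agent.Lib.Helper2.Kos13

open Groth.Agent.Lib.Helper2.ProjCoh3 Groth.Agent.Lib.Helper2.ProjCoh4 Groth.Agent.Lib.Helper2.ProjCoh5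
  Groth.Agent.Lib.Helper2.SerreFin1 Groth.Agent.Lib.Helper2.SerreFin2 Groth.Agent.Lib.Helper2.HLesLin
  Groth.Agent.Lib.Helper2.HLes Groth.Agent.Lib.Helper2.DualE2 Groth.Agent.Lib.Helper2.TwEq2
  Groth.Agent.Lib.Helper2.SerreVan Groth.Agent.Lib.Helper2.SD4

section General

variable {X : Scheme.{u}}

/-- `H^{p+1}(X₁) = 0` from `H^p(X₃) = 0` and `H^{p+1}(X₂) = 0`. -/
theorem subsingleton_X₁ (S : ShortComplex (SheafOfModules.{u} X.ringCatSheaf)) (hS : S.ShortExact) (p : ℕ)
    (h₃ : Subsingleton (Coh.HH X S.X₃ p)) (h₂ : Subsingleton (Coh.HH X S.X₂ (p + 1))) :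
    Subsingleton (Coh.HH X S.X₁ (p + 1)) := by
  refine ⟨fun a b => ?_⟩
  have key : ∀ x : Coh.HH X S.X₁ (p + 1), x = 0 := by
    intro x
    obtain ⟨x₃, rfl⟩ := exact₁ (shortExact_Sab S hS) p x (@Subsingleton.elim _ h₂ _ _)
    rw [@Subsingleton.elim _ h₃ x₃ 0]
    exact map_zero _
  rw [key a, key b]

/-- `H^{p+1}(X₁) = 0` from `H^p(X₂) → H^p(X₃)` surjective and `H^{p+1}(X₂) = 0`. -/
theorem subsingleton_X₁_of_surjective (S : ShortComplex (SheafOfModules.{u} X.ringCatSheaf)) (hS : S.ShortExact) (p : ℕ)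
    (h₃ : ∀ x₃ : Coh.HH X S.X₃ p, ∃ x₂ : Coh.HH X S.X₂ p,
      Sheaf.H.map ((SheafOfModules.toSheaf X.ringCatSheaf).map S.g) p x₂ = x₃)
    (h₂ : Subsingleton (Coh.HH X S.X₂ (p + 1))) :
    Subsingleton (Coh.HH X S.X₁ (p + 1)) := by
  refine ⟨fun a b => ?_⟩
  have key : ∀ x : Coh.HH X S.X₁ (p + 1), x = 0 := by
    intro x
    obtain ⟨x₃, rfl⟩ := exact₁ (shortExact_Sab S hS) p x (@Subsingleton.elim _ h₂ _ _)
    obtain ⟨x₂, rfl⟩ := h₃ x₃
    exact δ_map_g (shortExact_Sab S hS) p x₂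
  rw [key a, key b]

/-- global sections as `H^0` (typed in `X.Modules`). -/
def h0' (P : X.Modules) : (Coh.structureModule X ⟶ P) ≃+ Coh.HH X P 0 := h0 P

theorem h0'_naturality {P P' : X.Modules} (g : P ⟶ P') (φ : Coh.structureModule X ⟶ P) :
    h0' P' (φ ≫ g) =
      Sheaf.H.map ((SheafOfModules.toSheaf X.ringCatSheaf).map g) 0 (h0' P φ) :=
  h0_naturality g φ

/-- lifting morphisms out of `O_X` is the same as surjectivity on `H^0`. -/
theorem exists_lift_iff {P P' : X.Modules} (g : P ⟶ P') :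
    (∀ y : Coh.structureModule X ⟶ P', ∃ z : Coh.structureModule X ⟶ P, z ≫ g = y) ↔
      ∀ x' : Coh.HH X P' 0, ∃ x : Coh.HH X P 0,
        Sheaf.H.map ((SheafOfModules.toSheaf X.ringCatSheaf).map g) 0 x = x' := by
  constructor
  · intro h x'
    obtain ⟨z, hz⟩ := h ((h0' P').symm x')
    refine ⟨h0' P z, ?_⟩
    rw [← h0'_naturality, hz, AddEquiv.apply_symm_apply]
  · intro h y
    obtain ⟨x, hx⟩ := h (h0' P' y)
    refine ⟨(h0' P).symm x, ?_⟩
    apply (h0' P').injective
    rw [h0'_naturality, AddEquiv.apply_symm_apply, hx]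

end General

variable {n : ℕ} {k : Type u} [Field k]

/-- cohomology of a twisted sum of twists. -/
theorem subsingleton_HH_Tw_sigma (b : ℕ) (a d : ℤ) (p : ℕ) (h₀ : 0 < p)
    (hn : p = n → -((n : ℤ) + 1) < a + d) :
    Subsingleton (Coh.HH (CohB1.ProjSpace n k)
      (CohB1.tensorMod (∐ fun _ : Fin b => Twist.twistProjSpace n k a)
        (Twist.twistProjSpace n k d)) p) := by
  obtain ⟨e⟩ := nonempty_Tw_sigma_iso n k b a d
  refine subsingleton_HH_of_iso k e.symm p ?_
  refine subsingleton_HH_sigma k _ p (fun _ => ?_)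
  exact subsingleton_HH n k (a + d) p (fun h0 => by omega) (fun h0 => by have := hn h0.1; omega)

/-- `X₁` `(m+1)`-regular and `X₂` `m`-regular imply `X₃` `m`-regular. -/
theorem isMRegular_X₃ (S : ShortComplex (CohB1.ProjSpace n k).Modules) (hS : S.ShortExact)
    (h₁ : Coh.IsCoh S.X₁) (m : ℤ)
    (hreg₁ : Curv2.IsMRegular k n S.X₁ (m + 1)) (hreg₂ : Curv2.IsMRegular k n S.X₂ m) :
    Curv2.IsMRegular k n S.X₃ m := by
  intro i hi1 hin
  let ST : ShortComplex (CohB1.ProjSpace n k).Modules := S.map (Tw n k (m - i))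
  have hST : ST.ShortExact := shortExact_map_Tw n k (m - i) S hS
  have h2 : Subsingleton (Coh.HH (CohB1.ProjSpace n k) ST.X₂ i) := hreg₂ i hi1 hin
  have h1 : Subsingleton (Coh.HH (CohB1.ProjSpace n k) ST.X₁ (i + 1)) := by
    by_cases hin' : i + 1 ≤ n
    · have := hreg₁ (i + 1) (by omega) hin'
      have e : m + 1 - ((i + 1 : ℕ) : ℤ) = m - i := by push_cast; ring
      rw [e] at this
      exact this
    · haveI : Coh.IsQCoh ST.X₁ := (isCoh_Tw n k (m - i) S.X₁ h₁).1
      exact Groth.Agent.S0022.result n k _ (i + 1) (by omega)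
  exact subsingleton_X₃ (shortExact_Sab ST hST) i h2 h1

end Groth.Agent.Lib.Helper2.Kos13

namespace Groth.Agent.Lib.Helper2.Kos13

open Groth.Agent.Lib.Helper2.ProjCoh3 Groth.Agent.Lib.Helper2.ProjCoh4 Groth.Agent.Lib.Helper2.ProjCoh5
  Groth.Agent.Lib.Helper2.SerreFin1 Groth.Agent.Lib.Helper2.SerreFin2 Groth.Agent.Lib.Helper2.HLesLin
  Groth.Agent.Lib.Helper2.HLes Groth.Agent.Lib.Helper2.DualE2 Groth.Agent.Lib.Helper2.TwEq2
  Groth.Agent.Lib.Helper2.SerreVan Groth.Agent.Lib.Helper2.SD4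

section Lift

variable {X : Scheme.{u}}

/-- every morphism `O_X ⟶ P'` lifts along `g`. -/
def HasLift {P P' : X.Modules} (g : P ⟶ P') : Prop :=
  ∀ y : Coh.structureModule X ⟶ P', ∃ z : Coh.structureModule X ⟶ P, z ≫ g = y

theorem HasLift.comp {P P' P'' : X.Modules} {g : P ⟶ P'} {g' : P' ⟶ P''} (h : HasLift g)
    (h' : HasLift g') : HasLift (g ≫ g') := by
  intro y
  obtain ⟨z', hz'⟩ := h' y
  obtain ⟨z, hz⟩ := h z'
  exact ⟨z, by rw [← Category.assoc, hz, hz']⟩

theorem hasLift_of_isIso {P P' : X.Modules} (g : P ⟶ P') [hg : IsIso g] : HasLift g :=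
  fun y => ⟨y ≫ inv g, by rw [Category.assoc, IsIso.inv_hom_id, Category.comp_id]⟩

/-- a morphism from a finite free module onto a globally generated module which lifts all global
sections is an epimorphism. -/
theorem epi_of_hasLift {G P : X.Modules} (hG : Curv2.IsGloballyGenerated G) (φ' : P ⟶ G)
    (h : HasLift φ') : Epi φ' := by
  obtain ⟨ι, p, hp⟩ := hG
  have h1 : p ≫ cokernel.π φ' = 0 := by
    apply Cofan.IsColimit.hom_ext (SheafOfModules.isColimitFreeCofan (R := X.ringCatSheaf) ι)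
    intro i
    let ιi : Coh.structureModule X ⟶ (SheafOfModules.free ι : X.Modules) :=
      (SheafOfModules.freeCofan (R := X.ringCatSheaf) ι).inj i
    obtain ⟨z, hz⟩ := h (ιi ≫ p)
    show ιi ≫ p ≫ cokernel.π φ' = ιi ≫ 0
    rw [← Category.assoc, ← hz, Category.assoc, cokernel.condition, comp_zero, comp_zero]
  have h2 : cokernel.π φ' = 0 := by
    haveI := hp
    exact (cancel_epi p).1 (h1.trans comp_zero.symm)
  exact Abelian.epi_of_cokernel_π_eq_zero φ' h2

end Lift

variable {n : ℕ} {k : Type u} [Field k]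

theorem isCoh_sigma_twist (b : ℕ) (a : ℤ) :
    Coh.IsCoh (∐ fun _ : Fin b => Twist.twistProjSpace n k a) :=
  Groth.Agent.Lib.Helper6.DevPow.isCoh_sigma_fin b _ (fun _ => isCoh_twist n k a)

/-- the sum of twists `O(-m)^b` is `m`-regular. -/
theorem isMRegular_sigma_twist (b : ℕ) (m : ℤ) :
    Curv2.IsMRegular k n (∐ fun _ : Fin b => Twist.twistProjSpace n k (-m)) m := by
  intro i hi1 _
  exact subsingleton_HH_Tw_sigma b (-m) (m - i) i (by omega) (fun _ => by omega)

/-- **one step of a linear resolution** (existence). -/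
theorem exists_epi_of_isMRegular (F : (CohB1.ProjSpace n k).Modules) (hF : Coh.IsCoh F) (m : ℤ)
    (h : Curv2.IsMRegular k n F m) :
    ∃ (b : ℕ) (φ : (∐ fun _ : Fin b => Twist.twistProjSpace n k (-m)) ⟶ F),
      Epi φ ∧ Curv2.IsMRegular k n (kernel φ) (m + 1) := by
  haveI : IsNoetherian (Proj (gr n k)) := Groth.Agent.S2357.result (gr n k)
  haveI : IsLocallyNoetherian (CohB1.ProjSpace n k) :=
    (inferInstance : IsLocallyNoetherian (Proj (gr n k)))
  let T := Tw n k m
  let G : (CohB1.ProjSpace n k).Modules := T.obj F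
  have hG : Coh.IsCoh G := isCoh_Tw n k m F hF
  have hgg : Curv2.IsGloballyGenerated G :=
    Groth.Agent.Lib.Helper2.Kos12.isGloballyGenerated_of_isMRegular F hF m h
  haveI hfin : Module.Finite k (Coh.HH (CohB1.ProjSpace n k) G 0) :=
    finite_HH n k (n + 1) 0 (by omega) G hG
  obtain ⟨b, v, hv⟩ := Module.Finite.exists_fin (R := k) (M := Coh.HH (CohB1.ProjSpace n k) G 0)
  let U : (CohB1.ProjSpace n k).Modules := ∐ fun _ : Fin b => Coh.structureModule (CohB1.ProjSpace n k)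
  let y : Fin b → (Coh.structureModule (CohB1.ProjSpace n k) ⟶ G) := fun j => (h0' G).symm (v j)
  let φ' : U ⟶ G := Sigma.desc y
  -- `φ'` is surjective on `H^0`
  have hsurj : ∀ x' : Coh.HH (CohB1.ProjSpace n k) G 0, ∃ x : Coh.HH (CohB1.ProjSpace n k) U 0,
      Sheaf.H.map ((SheafOfModules.toSheaf (CohB1.ProjSpace n k).ringCatSheaf).map φ') 0 x = x' := by
    intro x'
    have hx' : x' ∈ LinearMap.range (Canon.HHlin k φ' 0) := by
      have hle : Submodule.span k (Set.range v) ≤ LinearMap.range (Canon.HHlin k φ' 0) := by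
        rw [Submodule.span_le]
        rintro _ ⟨j, rfl⟩
        refine ⟨h0' U (Sigma.ι (fun _ : Fin b => Coh.structureModule (CohB1.ProjSpace n k)) j), ?_⟩
        have h1 := h0'_naturality φ' (Sigma.ι (fun _ : Fin b => Coh.structureModule (CohB1.ProjSpace n k)) j)
        have h2 : Sigma.ι (fun _ : Fin b => Coh.structureModule (CohB1.ProjSpace n k)) j ≫ φ' = y j :=
          Sigma.ι_desc _ _
        refine h1.symm.trans ?_
        exact (congrArg (h0' G) h2).trans (AddEquiv.apply_symm_apply (h0' G) (v j))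
      exact hle (by rw [hv]; trivial)
    obtain ⟨x, hx⟩ := hx'
    exact ⟨x, hx⟩
  have hlift' : HasLift φ' := (exists_lift_iff φ').2 hsurj
  have hepi' : Epi φ' := epi_of_hasLift hgg φ' hlift'
  -- untwisting
  let e := T.asEquivalence
  let E : (CohB1.ProjSpace n k).Modules := ∐ fun _ : Fin b => Twist.twistProjSpace n k (-m)
  obtain ⟨τ₁⟩ := nonempty_Tw_sigma_iso n k b (-m) m
  obtain ⟨τ₂⟩ := nonempty_twist_iso_unit n k (-m + m) (by ring)
  let τ : T.obj E ≅ U := τ₁ ≪≫ Sigma.mapIso (fun _ => τ₂)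
  let cU : T.obj (e.inverse.obj U) ≅ U := e.counitIso.app U
  let cG : T.obj (e.inverse.obj G) ≅ G := e.counitIso.app G
  let uF : F ≅ e.inverse.obj (T.obj F) := e.unitIso.app F
  let uE : E ≅ e.inverse.obj (T.obj E) := e.unitIso.app E
  let α : E ≅ e.inverse.obj U := uE ≪≫ e.inverse.mapIso τ
  let φ : E ⟶ F := α.hom ≫ e.inverse.map φ' ≫ uF.inv
  haveI : Epi (e.inverse.map φ') := e.inverse.map_epi φ'
  have hepi : Epi φ := by
    show Epi (α.hom ≫ e.inverse.map φ' ≫ uF.inv)
    infer_instance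
  have hn : T.map (e.inverse.map φ') ≫ cG.hom = cU.hom ≫ φ' := e.counitIso.hom.naturality φ'
  have hTφ : T.map φ = T.map α.hom ≫ (cU.hom ≫ φ' ≫ cG.inv) ≫ T.map uF.inv := by
    show T.map (α.hom ≫ e.inverse.map φ' ≫ uF.inv) = _
    rw [Functor.map_comp, Functor.map_comp]
    congr 2
    exact ((Iso.eq_comp_inv cG).2 hn).trans (Category.assoc _ _ _)
  have hliftT : HasLift (T.map φ) := by
    rw [hTφ]
    exact (hasLift_of_isIso (T.map α.hom)).comp
      (((hasLift_of_isIso cU.hom).comp (hlift'.comp (hasLift_of_isIso cG.inv))).comp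
        (hasLift_of_isIso (T.map uF.inv)))
  refine ⟨b, φ, hepi, ?_⟩
  -- the kernel is `(m+1)`-regular
  have hE : Coh.IsCoh E := isCoh_sigma_twist b (-m)
  have hK : Coh.IsCoh (kernel φ) := Groth.Agent.Lib.Helper6.DevCore.isCoh_kernel φ hE hF
  let S : ShortComplex (CohB1.ProjSpace n k).Modules :=
    ShortComplex.mk (kernel.ι φ) φ (kernel.condition φ)
  have hS : S.ShortExact :=
    { exact := ShortComplex.exact_kernel φ
      mono_f := inferInstanceAs (Mono (kernel.ι φ))
      epi_g := hepi }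
  intro i hi1 hin
  obtain ⟨i', rfl⟩ : ∃ i', i = i' + 1 := ⟨i - 1, by omega⟩
  let ST : ShortComplex (CohB1.ProjSpace n k).Modules := S.map (Tw n k (m + 1 - ((i' + 1 : ℕ) : ℤ)))
  have hST : ST.ShortExact := shortExact_map_Tw n k _ S hS
  have h2 : Subsingleton (Coh.HH (CohB1.ProjSpace n k) ST.X₂ (i' + 1)) :=
    subsingleton_HH_Tw_sigma b (-m) (m + 1 - ((i' + 1 : ℕ) : ℤ)) (i' + 1) (by omega)
      (fun _ => by push_cast; omega)
  cases i' with
  | zero =>
    have e1 : m + 1 - ((0 + 1 : ℕ) : ℤ) = m := by norm_num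
    have h3 : ∀ x₃ : Coh.HH (CohB1.ProjSpace n k) ST.X₃ 0, ∃ x₂ : Coh.HH (CohB1.ProjSpace n k) ST.X₂ 0,
        Sheaf.H.map ((SheafOfModules.toSheaf (CohB1.ProjSpace n k).ringCatSheaf).map ST.g) 0 x₂ = x₃ := by
      have hg : HasLift ST.g := by
        show HasLift ((Tw n k (m + 1 - ((0 + 1 : ℕ) : ℤ))).map φ)
        rw [e1]
        exact hliftT
      exact (exists_lift_iff ST.g).1 hg
    exact subsingleton_X₁_of_surjective ST hST 0 h3 h2
  | succ i'' =>
    have h3 : Subsingleton (Coh.HH (CohB1.ProjSpace n k) ST.X₃ (i'' + 1)) := by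
      have := h (i'' + 1) (by omega) (by omega)
      have e1 : m - ((i'' + 1 : ℕ) : ℤ) = m + 1 - ((i'' + 1 + 1 : ℕ) : ℤ) := by push_cast; ring
      rw [e1] at this
      exact this
    exact subsingleton_X₁ ST hST (i'' + 1) h3 h2

/-- **`m`-regularity via one step of a linear resolution**. -/
theorem isMRegular_iff_exists_epi (F : (CohB1.ProjSpace n k).Modules) (hF : Coh.IsCoh F) (m : ℤ) :
    Curv2.IsMRegular k n F m ↔
      ∃ (b : ℕ) (φ : (∐ fun _ : Fin b => Twist.twistProjSpace n k (-m)) ⟶ F),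
        Epi φ ∧ Curv2.IsMRegular k n (kernel φ) (m + 1) := by
  constructor
  · exact exists_epi_of_isMRegular F hF m
  · rintro ⟨b, φ, hφ, hK⟩
    haveI : IsNoetherian (Proj (gr n k)) := Groth.Agent.S2357.result (gr n k)
    haveI : IsLocallyNoetherian (CohB1.ProjSpace n k) :=
      (inferInstance : IsLocallyNoetherian (Proj (gr n k)))
    let S : ShortComplex (CohB1.ProjSpace n k).Modules :=
      ShortComplex.mk (kernel.ι φ) φ (kernel.condition φ)
    have hS : S.ShortExact :=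
      { exact := ShortComplex.exact_kernel φ
        mono_f := inferInstanceAs (Mono (kernel.ι φ))
        epi_g := hφ }
    have hcK : Coh.IsCoh (kernel φ) :=
      Groth.Agent.Lib.Helper6.DevCore.isCoh_kernel φ (isCoh_sigma_twist b (-m)) hF
    exact isMRegular_X₃ S hS hcK m hK (isMRegular_sigma_twist b m)

end Groth.Agent.Lib.Helper2.Kos13
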