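import Groth.Agent.Lib.Helper16.RS12
import Groth.Agent.Lib.Helper16.LocFree5
import Groth.Agent.Lib.Helper6.K0Op
import Groth.Agent.Lib.Helper25.LimLocFreeRank
import Groth.Agent.Lib.Helper2.Horr4
import Groth.Agent.Lib.Helper2.Bridge5
import Groth.Agent.Lib.Helper2.Kos13

/-!
# Ranks of sums of line bundles; projective space is nonempty (helper2)
-/

set_option backward.isDefEq.respectTransparency.types false
set_option autoImplicit false
universe u
open CategoryTheory CategoryTheory.Limits AlgebraicGeometry Opposite TopologicalSpace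

noncomputable section

namespace Groth.Agent.Lib.Helper2.GSplit4

open Groth.Agent.Lib.Helper16.RS Groth.Agent.Lib.Helper16.LocFree Groth.Agent.Lib.Helper2.Horr4

section General

variable {X : Scheme.{u}}

attribute [local instance] preservesBinaryBiproducts_of_preservesBinaryCoproducts in
theorem isFinLocFreeOfRank_biprod (M N : X.Modules) {a b : ℕ}
    (hM : FlatMod.IsFinLocFreeOfRank a M) (hN : FlatMod.IsFinLocFreeOfRank b N) :
    FlatMod.IsFinLocFreeOfRank (a + b) (M ⊞ N) := by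
  intro x
  obtain ⟨V₁, hx₁, ⟨e₁⟩⟩ := hM x
  obtain ⟨V₂, hx₂, ⟨e₂⟩⟩ := hN x
  obtain ⟨e₁'⟩ := restrict_free_of_le M (inf_le_left : V₁ ⊓ V₂ ≤ V₁) a e₁
  obtain ⟨e₂'⟩ := restrict_free_of_le N (inf_le_right : V₁ ⊓ V₂ ≤ V₂) b e₂
  refine ⟨V₁ ⊓ V₂, ⟨hx₁, hx₂⟩, ⟨?_⟩⟩
  exact (Scheme.Modules.restrictFunctor (V₁ ⊓ V₂).ι).mapBiprod M N ≪≫ biprod.mapIso e₁' e₂' ≪≫
    freeModBiprodIso _ a b

theorem isFinLocFreeOfRank_zero (M : X.Modules) (hM : IsZero M) :
    FlatMod.IsFinLocFreeOfRank 0 M := by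
  intro x
  refine ⟨⊤, trivial, ⟨?_⟩⟩
  have h1 : IsZero ((Scheme.Modules.restrictFunctor (⊤ : X.Opens).ι).obj M) :=
    Functor.map_isZero _ hM
  exact h1.iso (isZero_sigma_fin_zero _)

theorem isFinLocFreeOfRank_sigma : ∀ (r : ℕ) (f : Fin r → X.Modules),
    (∀ j, FlatMod.IsFinLocFreeOfRank 1 (f j)) → FlatMod.IsFinLocFreeOfRank r (∐ f)
  | 0, f, _ => isFinLocFreeOfRank_zero _ (isZero_sigma_fin_zero f)
  | r + 1, f, hf => by
    obtain ⟨e⟩ := nonempty_sigma_cons_iso f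
    have h1 := isFinLocFreeOfRank_biprod (f 0) (∐ fun i : Fin r => f i.succ) (hf 0)
      (isFinLocFreeOfRank_sigma r _ (fun j => hf j.succ))
    rw [add_comm] at h1
    exact isFinLocFreeOfRank_of_iso e h1

theorem subsingleton_hom_of_isEmpty [IsEmpty X] (M P : X.Modules) : Subsingleton (M ⟶ P) := by
  refine ⟨fun f g => ?_⟩
  apply Scheme.Modules.hom_ext
  intro U
  ext s
  haveI : Subsingleton Γ(X, U) := inferInstance
  haveI : Subsingleton Γ(P, U) := Module.subsingleton Γ(X, U) Γ(P, U)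
  exact Subsingleton.elim _ _

theorem rank_eq_of_iso [Nonempty X] {M N : X.Modules} (e : M ≅ N) {a b : ℕ}
    (hM : FlatMod.IsFinLocFreeOfRank a M) (hN : FlatMod.IsFinLocFreeOfRank b N) : a = b := by
  obtain ⟨x⟩ := ‹Nonempty X›
  have hN' := isFinLocFreeOfRank_of_iso e hM
  obtain ⟨U, hxU, ⟨e1⟩⟩ := hN' x
  obtain ⟨U', hxU', ⟨e2⟩⟩ := hN x
  exact Groth.Agent.Lib.Helper25.LimLocFreeRank.rank_unique N x hxU hxU' e1 e2

end General

variable (n : ℕ) (k : Type u) [Field k]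

theorem nonempty_projSpace : Nonempty (CohB1.ProjSpace n k) := by
  by_contra hne
  haveI : IsEmpty (CohB1.ProjSpace n k) := not_nonempty_iff.1 hne
  have h1 := Groth.Agent.Lib.Helper2.Horr2.finrank_HH_zero_twist_pos (n := n) (k := k) 0
  haveI : Subsingleton (Coh.structureModule (CohB1.ProjSpace n k) ⟶
      Twist.twistProjSpace n k ((0 : ℕ) : ℤ)) := subsingleton_hom_of_isEmpty _ _
  haveI : Subsingleton (Coh.HH (CohB1.ProjSpace n k) (Twist.twistProjSpace n k ((0 : ℕ) : ℤ)) 0) :=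
    (Groth.Agent.Lib.Helper2.Kos13.h0' _).symm.injective.subsingleton
  have h2 : Module.finrank k
      (Coh.HH (CohB1.ProjSpace n k) (Twist.twistProjSpace n k ((0 : ℕ) : ℤ)) 0) = 0 :=
    Module.finrank_zero_of_subsingleton
  omega

instance : Nonempty (CohB1.ProjSpace n k) := nonempty_projSpace n k

theorem isFinLocFreeOfRank_sigma_twist {r : ℕ} (a : Fin r → ℤ) :
    FlatMod.IsFinLocFreeOfRank r (∐ fun j => Twist.twistProjSpace n k (a j)) :=
  isFinLocFreeOfRank_sigma r _ (fun j =>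
    Groth.Agent.Lib.Helper6.K0Op.isFinLocFreeOfRank_one_of_isInvertible _
      (Groth.Agent.Lib.Helper2.Bridge5.isInvertible_twist k n (a j)))

/-- the number of summands is the rank. -/
theorem rank_eq {E : (CohB1.ProjSpace n k).Modules} {r r' : ℕ}
    (hE : FlatMod.IsFinLocFreeOfRank r E) (a : Fin r' → ℤ)
    (e : E ≅ ∐ fun j => Twist.twistProjSpace n k (a j)) : r = r' :=
  rank_eq_of_iso e hE (isFinLocFreeOfRank_sigma_twist n k a)

end Groth.Agent.Lib.Helper2.GSplit4
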