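import Mathlib
import Groth.Agent.Lib.Helper2.GGVec
import Groth.Agent.Lib.Helper2.GSplit4
import Groth.Agent.Lib.Helper2.DualE2
import Groth.Agent.Lib.Helper2.Dual9
import Groth.Agent.Lib.Helper2.GSplit2
import Groth.Agent.Lib.Helper2.SerreFin1
import Groth.Agent.Lib.Helper2.SecPos
import Groth.Agent.Lib.Helper4.Higgs5
import Groth.Agent.Lib.Helper4.MaxSub
import Groth.Agent.Lib.Helper4.CurveVB6

/-!
# Helper2 — TrivBun: trivial bundles (iterated direct sums of copies of `O_X`) on a smooth proper curve: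
rank, degree, sections, kernels of non-zero functionals, and positivity of quotient bundles.
-/

set_option autoImplicit false
set_option backward.isDefEq.respectTransparency.types false
universe u
open CategoryTheory CategoryTheory.Limits AlgebraicGeometry Opposite TopologicalSpace

namespace Groth.Agent.Lib.Helper2.TrivBun

open Groth.Agent.Lib.Helper8.EulerK Groth.Agent.Lib.Helper8.KillA Groth.Agent.Lib.Helper8.KillB
  Groth.Agent.Lib.Helper8.GGKill Groth.Agent.Lib.Helper2.QuotBig Groth.Agent.Lib.Helper2.HLes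
  Groth.Agent.Lib.Helper2.HLesLin

/-- `A` is a direct sum of `n` copies of the structure sheaf (built up one summand at a time) -/
inductive IsTriv {X : Scheme.{u}} : ℕ → X.Modules → Prop
  | zero (A : X.Modules) : IsZero A → IsTriv 0 A
  | succ (n : ℕ) (A B : X.Modules) : IsTriv n B → Nonempty (A ≅ B ⊞ Coh.structureModule X) → IsTriv (n + 1) A

section general

variable {X : Scheme.{u}}

theorem isTriv_of_iso {n : ℕ} {A A' : X.Modules} (e : A ≅ A') (h : IsTriv n A) : IsTriv n A' := by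
  cases h with
  | zero _ h0 => exact IsTriv.zero _ (h0.of_iso e.symm)
  | succ n _ B hB e' => exact IsTriv.succ n _ B hB ⟨e.symm ≪≫ e'.some⟩

/-- cohomology of a binary biproduct -/
theorem hh_biprod (k : Type u) [Field k] [X.Over (Spec (CommRingCat.of k))] (A B : X.Modules) (p : ℕ)
    [Module.Finite k (Coh.HH X A p)] [Module.Finite k (Coh.HH X B p)] :
    Module.finrank k (Coh.HH X (A ⊞ B) p) =
      Module.finrank k (Coh.HH X A p) + Module.finrank k (Coh.HH X B p) := by
  let f : Coh.HH X (A ⊞ B) p →ₗ[k] (Coh.HH X A p × Coh.HH X B p) :=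
    (Canon.HHlin k (biprod.fst : A ⊞ B ⟶ A) p).prod (Canon.HHlin k (biprod.snd : A ⊞ B ⟶ B) p)
  have hf : ∀ y, f y = (Canon.HHlin k (biprod.fst : A ⊞ B ⟶ A) p y,
      Canon.HHlin k (biprod.snd : A ⊞ B ⟶ B) p y) := fun y => rfl
  have htot : ∀ y : Coh.HH X (A ⊞ B) p,
      Canon.HHlin k (biprod.inl : A ⟶ A ⊞ B) p (Canon.HHlin k biprod.fst p y) +
        Canon.HHlin k (biprod.inr : B ⟶ A ⊞ B) p (Canon.HHlin k biprod.snd p y) = y := by
    intro y
    have h1 := Groth.Agent.Lib.Helper2.SerreFin1.HHlin_comp_apply k (biprod.fst : A ⊞ B ⟶ A) (biprod.inl : A ⟶ A ⊞ B) p y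
    have h2 := Groth.Agent.Lib.Helper2.SerreFin1.HHlin_comp_apply k (biprod.snd : A ⊞ B ⟶ B) (biprod.inr : B ⟶ A ⊞ B) p y
    have h3 := Groth.Agent.Lib.Helper2.GSplit2.HHlin_add_apply k
      ((biprod.fst : A ⊞ B ⟶ A) ≫ (biprod.inl : A ⟶ A ⊞ B)) ((biprod.snd : A ⊞ B ⟶ B) ≫ (biprod.inr : B ⟶ A ⊞ B)) p y
    rw [biprod.total, Groth.Agent.Lib.Helper2.SerreFin1.HHlin_id_apply] at h3
    rw [h1, h2]
    exact h3.symm
  have hinj : Function.Injective f := by
    intro y y' hyy'
    rw [hf, hf] at hyy'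
    have e1 := congrArg Prod.fst hyy'
    have e2 := congrArg Prod.snd hyy'
    simp only at e1 e2
    rw [← htot y, ← htot y', e1, e2]
  have hsurj : Function.Surjective f := by
    rintro ⟨a, b⟩
    refine ⟨Canon.HHlin k (biprod.inl : A ⟶ A ⊞ B) p a + Canon.HHlin k (biprod.inr : B ⟶ A ⊞ B) p b, ?_⟩
    have h1 := Groth.Agent.Lib.Helper2.SerreFin1.HHlin_comp_apply k (biprod.inl : A ⟶ A ⊞ B) (biprod.fst : A ⊞ B ⟶ A) p a
    have h2 := Groth.Agent.Lib.Helper2.SerreFin1.HHlin_comp_apply k (biprod.inr : B ⟶ A ⊞ B) (biprod.fst : A ⊞ B ⟶ A) p b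
    have h3 := Groth.Agent.Lib.Helper2.SerreFin1.HHlin_comp_apply k (biprod.inl : A ⟶ A ⊞ B) (biprod.snd : A ⊞ B ⟶ B) p a
    have h4 := Groth.Agent.Lib.Helper2.SerreFin1.HHlin_comp_apply k (biprod.inr : B ⟶ A ⊞ B) (biprod.snd : A ⊞ B ⟶ B) p b
    rw [biprod.inl_fst, Groth.Agent.Lib.Helper2.SerreFin1.HHlin_id_apply] at h1
    rw [biprod.inr_fst, Groth.Agent.Lib.Helper2.Dual9.HHlin_zero_apply] at h2
    rw [biprod.inl_snd, Groth.Agent.Lib.Helper2.Dual9.HHlin_zero_apply] at h3
    rw [biprod.inr_snd, Groth.Agent.Lib.Helper2.SerreFin1.HHlin_id_apply] at h4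
    rw [hf, map_add, map_add, h1, h2, h3, h4, add_zero, zero_add]
  rw [LinearEquiv.finrank_eq (LinearEquiv.ofBijective f ⟨hinj, hsurj⟩), Module.finrank_prod]

/-- a mono/epi pair with the lifting property of a kernel is short exact -/
theorem shortExact_of_lift {C : Type*} [Category C] [Abelian C] {A₁ A B : C} (ι : A₁ ⟶ A) (l : A ⟶ B)
    (w : ι ≫ l = 0) [Mono ι] [Epi l]
    (h : ∀ {T : C} (t : T ⟶ A), t ≫ l = 0 → ∃ u : T ⟶ A₁, u ≫ ι = t) :
    (ShortComplex.mk ι l w).ShortExact := by
  have hlim : IsLimit (KernelFork.ofι ι w) :=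
    KernelFork.IsLimit.ofι' ι w (fun t ht => ⟨(h t ht).choose, (h t ht).choose_spec⟩)
  exact { exact := ShortComplex.exact_of_f_is_kernel _ hlim }

end general

section curve

variable (k : Type u) [Field k] [IsAlgClosed k] (X : Scheme.{u}) [X.Over (Spec (CommRingCat.of k))]
  [IsIntegral X] [IsProper (X ↘ Spec (CommRingCat.of k))] [Smooth (X ↘ Spec (CommRingCat.of k))]

theorem locFree_O : FlatMod.IsFinLocFreeOfRank 1 (Coh.structureModule X) :=
  Groth.Agent.Lib.Helper6.K0Op.isFinLocFreeOfRank_one_of_isInvertible _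
    (Groth.Agent.Lib.Helper28.AmpleUnit.isInvertible_structureModule X)

include k in
theorem deg_O : Curv2.deg k X (Coh.structureModule X) 1 = 0 := by
  unfold Curv2.deg
  push_cast
  ring

/-- rank, degree and sections of a trivial bundle -/
theorem isTriv_data (hdim : topologicalKrullDim X = 1) : ∀ {n : ℕ} {A : X.Modules}, IsTriv n A →
    FlatMod.IsFinLocFreeOfRank n A ∧ Curv2.deg k X A n = 0 ∧ Module.finrank k (Coh.HH X A 0) = n := by
  intro n A h
  induction h with
  | zero A h0 =>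
    refine ⟨Groth.Agent.Lib.Helper2.GSplit4.isFinLocFreeOfRank_zero A h0,
      Groth.Agent.Lib.Helper4.CurveVB.deg_of_isZero k X h0, ?_⟩
    have : Subsingleton (Coh.HH X A 0) := by
      refine ⟨fun a b => ?_⟩
      have key : ∀ y : Coh.HH X A 0, y = 0 := by
        intro y
        have h1 := Groth.Agent.Lib.Helper2.SerreFin1.HHlin_id_apply k 0 y
        rw [h0.eq_of_src (𝟙 A) 0, Groth.Agent.Lib.Helper2.Dual9.HHlin_zero_apply] at h1
        exact h1.symm
      rw [key a, key b]
    exact Module.finrank_zero_of_subsingleton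
  | succ n A B hB e ih =>
    obtain ⟨e⟩ := e
    obtain ⟨ihr, ihd, ihh⟩ := ih
    have hO := locFree_O X
    have hr := Groth.Agent.Lib.Helper2.GSplit4.isFinLocFreeOfRank_biprod B (Coh.structureModule X) ihr hO
    have hrA := Groth.Agent.Lib.Helper4.CurveVB.isFinLocFreeOfRank_of_iso e.symm hr
    refine ⟨hrA, ?_, ?_⟩
    · rw [Groth.Agent.Lib.Helper4.CurveVB.deg_congr k X e (n + 1)]
      have hS := (ShortComplex.Splitting.ofHasBinaryBiproduct B (Coh.structureModule X)).shortExact
      have h := (Groth.Agent.Lib.Helper2.CurveExt.ext_locFree k X hdim _ hS ihr hO).2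
      dsimp only at h
      rw [h, ihd, deg_O k X, add_zero]
    · have hBc := Groth.Agent.Lib.Helper8.CurveTensor.isCoh_of_isFinLocFreeOfRank _ ihr
      have hOc : Coh.IsCoh (Coh.structureModule X) := Groth.Agent.Lib.Helper6.DevRed.isCoh_structureModule
      haveI := finite_HH k X _ hBc 0
      haveI := finite_HH k X _ hOc 0
      have h1 := hh_congr k e 0
      unfold hh at h1
      rw [h1, hh_biprod k B (Coh.structureModule X) 0, ihh,
        Groth.Agent.Lib.Helper2.SecPos.finrank_H0_eq_one_of_isAlgClosed k X]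

/-- quotient bundles of a trivial bundle have non-negative degree, and those of degree zero map non-trivially to
`O_X` -/
theorem isTriv_quot (hdim : topologicalKrullDim X = 1) : ∀ {n : ℕ} {A : X.Modules}, IsTriv n A →
    ∀ (Q : X.Modules) (q : ℕ) (p : A ⟶ Q), Epi p → 0 < q → FlatMod.IsFinLocFreeOfRank q Q →
      0 ≤ Curv2.deg k X Q q ∧
        (Curv2.deg k X Q q = 0 → ∃ φ : Q ⟶ Coh.structureModule X, φ ≠ 0) := by
  intro n A h
  induction h with
  | zero A h0 =>
    intro Q q p hp hq hQ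
    exfalso
    haveI := hp
    exact Groth.Agent.Lib.Helper4.CurveVB.not_isZero_of_rank_pos hq hQ
      (IsZero.of_epi_eq_zero p (h0.eq_of_src p 0))
  | succ n A B hB e ih =>
    obtain ⟨e⟩ := e
    intro Q q p hp hq hQ
    haveI := hp
    have hO := locFree_O X
    set p' : B ⊞ Coh.structureModule X ⟶ Q := e.inv ≫ p with hp'
    haveI : Epi p' := epi_comp _ _
    by_cases h2 : biprod.inr ≫ p' = 0
    · have hfac : p' = (biprod.fst : B ⊞ Coh.structureModule X ⟶ B) ≫ (biprod.inl ≫ p') := by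
        apply biprod.hom_ext'
        · rw [biprod.inl_fst_assoc]
        · rw [biprod.inr_fst_assoc, zero_comp, h2]
      haveI : Epi ((biprod.fst : B ⊞ Coh.structureModule X ⟶ B) ≫ (biprod.inl ≫ p')) := by
        rw [← hfac]; infer_instance
      exact ih Q q (biprod.inl ≫ p')
        (epi_of_epi (biprod.fst : B ⊞ Coh.structureModule X ⟶ B) (biprod.inl ≫ p')) hq hQ
    · haveI : Mono (biprod.inr ≫ p') :=
        Groth.Agent.Lib.Helper2.CurveSub.mono_of_ne_zero k X hdim hO hQ _ h2
      obtain ⟨N, a, i', hi', hai, hN, hdegle, hcok, hdegadd, hle⟩ :=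
        Groth.Agent.Lib.Helper2.CurveSat.exists_saturation k X hdim hQ hO (biprod.inr ≫ p')
      haveI := hi'
      rw [deg_O k X] at hdegle
      have ha : a ≠ 0 := by
        intro h0
        apply h2
        rw [← hai, h0, zero_comp]
      have hπ : p' ≫ cokernel.π i' =
          (biprod.fst : B ⊞ Coh.structureModule X ⟶ B) ≫ (biprod.inl ≫ p' ≫ cokernel.π i') := by
        apply biprod.hom_ext'
        · rw [biprod.inl_fst_assoc]
        · rw [biprod.inr_fst_assoc, zero_comp, ← Category.assoc, ← hai, Category.assoc, cokernel.condition,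
            comp_zero]
      haveI : Epi ((biprod.fst : B ⊞ Coh.structureModule X ⟶ B) ≫ (biprod.inl ≫ p' ≫ cokernel.π i')) := by
        rw [← hπ]; infer_instance
      have hepi : Epi (biprod.inl ≫ p' ≫ cokernel.π i') :=
        epi_of_epi (biprod.fst : B ⊞ Coh.structureModule X ⟶ B) (biprod.inl ≫ p' ≫ cokernel.π i')
      obtain ⟨q', rfl⟩ : ∃ q', q = q' + 1 := ⟨q - 1, by omega⟩
      have hq'eq : q' + 1 - 1 = q' := by omega
      rw [hq'eq] at hcok hdegadd
      rcases Nat.eq_zero_or_pos q' with rfl | hq'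
      · have hz := Groth.Agent.Lib.Helper4.CurveVB.isZero_of_rank_zero hcok
        rw [Groth.Agent.Lib.Helper4.CurveVB.deg_of_isZero k X hz, add_zero] at hdegadd
        haveI : Epi i' := Preadditive.epi_of_cokernel_zero (hz.eq_of_tgt _ _)
        haveI : IsIso i' := isIso_of_mono_of_epi i'
        refine ⟨by rw [← hdegadd]; exact hdegle, fun hd0 => ?_⟩
        have hdN : Curv2.deg k X (Coh.structureModule X) 1 = Curv2.deg k X N 1 := by
          rw [deg_O k X, hdegadd, hd0]
        haveI : IsIso a := Groth.Agent.Lib.Helper4.Higgs.isIso_of_ne_zero_of_deg_eq k X hdim hO hN hdN a ha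
        refine ⟨inv i' ≫ inv a, fun h0 => ?_⟩
        apply Groth.Agent.Lib.Helper4.CurveVB.not_isZero_of_rank_pos hq hQ
        rw [IsZero.iff_id_eq_zero]
        have : 𝟙 Q = (inv i' ≫ inv a) ≫ a ≫ i' := by simp
        rw [this, h0, zero_comp]
      · obtain ⟨h1, h2'⟩ := ih (cokernel i') q' (biprod.inl ≫ p' ≫ cokernel.π i') hepi hq' hcok
        refine ⟨by rw [← hdegadd]; linarith, fun hd0 => ?_⟩
        obtain ⟨φ, hφ⟩ := h2' (by linarith)
        refine ⟨cokernel.π i' ≫ φ, fun h0 => hφ ?_⟩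
        rw [← cancel_epi (cokernel.π i'), h0, comp_zero]

include k in
/-- the kernel of a non-zero functional on a trivial bundle is trivial of rank one less -/
theorem isTriv_kernel (hdim : topologicalKrullDim X = 1) : ∀ {n : ℕ} {A : X.Modules}, IsTriv n A →
    ∀ (l : A ⟶ Coh.structureModule X), l ≠ 0 →
      ∃ (m : ℕ) (A₁ : X.Modules) (ι : A₁ ⟶ A) (w : ι ≫ l = 0), n = m + 1 ∧ IsTriv m A₁ ∧
        (ShortComplex.mk ι l w).ShortExact := by
  intro n A h
  induction h with
  | zero A h0 =>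
    intro l hl
    exact absurd (h0.eq_of_src l 0) hl
  | succ n A B hB e ih =>
    obtain ⟨e⟩ := e
    intro l hl
    have hO := locFree_O X
    set l' : B ⊞ Coh.structureModule X ⟶ Coh.structureModule X := e.inv ≫ l with hl'
    have hl'l : e.hom ≫ l' = l := by rw [hl', e.hom_inv_id_assoc]
    have hdec : l' = biprod.fst ≫ (biprod.inl ≫ l') + biprod.snd ≫ (biprod.inr ≫ l') := by
      apply biprod.hom_ext'
      · rw [Preadditive.comp_add, biprod.inl_fst_assoc, biprod.inl_snd_assoc, zero_comp, add_zero]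
      · rw [Preadditive.comp_add, biprod.inr_fst_assoc, biprod.inr_snd_assoc, zero_comp, zero_add]
    by_cases h2 : biprod.inr ≫ l' = 0
    · rw [h2, comp_zero, add_zero] at hdec
      have h1 : biprod.inl ≫ l' ≠ 0 := by
        intro h1
        apply hl
        rw [← hl'l, hdec, h1, comp_zero, comp_zero]
      obtain ⟨m, B₁, ι₁, w₁, hnm, hB₁, hS₁⟩ := ih (biprod.inl ≫ l') h1
      haveI : Mono ι₁ := hS₁.mono_f
      haveI : Epi (biprod.inl ≫ l') := hS₁.epi_g
      have w : (biprod.map ι₁ (𝟙 (Coh.structureModule X)) ≫ e.inv) ≫ l = 0 := by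
        rw [Category.assoc, ← hl', hdec]
        apply biprod.hom_ext'
        · rw [biprod.inl_map_assoc, biprod.inl_fst_assoc, comp_zero]
          exact w₁
        · rw [biprod.inr_map_assoc, biprod.inr_fst_assoc, zero_comp, comp_zero, comp_zero]
      haveI : Mono (biprod.map ι₁ (𝟙 (Coh.structureModule X))) := by
        refine ⟨fun {T} t t' htt' => ?_⟩
        apply biprod.hom_ext
        · rw [← cancel_mono ι₁]
          have := congrArg (fun z => z ≫ biprod.fst) htt'
          simpa using this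
        · have := congrArg (fun z => z ≫ biprod.snd) htt'
          simpa using this
      haveI : Mono (biprod.map ι₁ (𝟙 (Coh.structureModule X)) ≫ e.inv) := mono_comp _ _
      haveI : Epi l := by
        rw [← hl'l, hdec]
        infer_instance
      refine ⟨m + 1, B₁ ⊞ Coh.structureModule X, biprod.map ι₁ (𝟙 _) ≫ e.inv, w, by omega,
        IsTriv.succ m _ B₁ hB₁ ⟨Iso.refl _⟩, ?_⟩
      apply shortExact_of_lift
      intro T t ht
      have ht' : (t ≫ e.hom ≫ biprod.fst) ≫ (biprod.inl ≫ l') = 0 := by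
        rw [← hl'l, hdec] at ht
        simpa using ht
      have hu : ∃ u : T ⟶ B₁, u ≫ ι₁ = t ≫ e.hom ≫ biprod.fst :=
        ⟨hS₁.exact.lift (t ≫ e.hom ≫ biprod.fst) ht', hS₁.exact.lift_f _ _⟩
      obtain ⟨u, hu⟩ := hu
      refine ⟨biprod.lift u (t ≫ e.hom ≫ biprod.snd), ?_⟩
      rw [← cancel_mono e.hom]
      simp only [Category.assoc, e.inv_hom_id, Category.comp_id]
      apply biprod.hom_ext
      · simp [hu]
      · simp
    · haveI : IsIso (biprod.inr ≫ l') :=
        Groth.Agent.Lib.Helper4.Higgs.isIso_of_ne_zero_of_deg_eq k X hdim hO hO rfl _ h2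
      set l₁ := biprod.inl ≫ l' with hl₁
      set l₂ := biprod.inr ≫ l' with hl₂
      have w : (biprod.lift (𝟙 B) (-(l₁ ≫ inv l₂)) ≫ e.inv) ≫ l = 0 := by
        rw [Category.assoc, ← hl', hdec]
        simp
      haveI : Mono (biprod.lift (𝟙 B) (-(l₁ ≫ inv l₂))) := mono_of_mono_fac (biprod.lift_fst _ _)
      haveI : Mono (biprod.lift (𝟙 B) (-(l₁ ≫ inv l₂)) ≫ e.inv) := mono_comp _ _
      haveI : Epi l' := epi_of_epi_fac (f := biprod.inr) (g := l') (h := l₂) rfl
      haveI : Epi l := by rw [← hl'l]; infer_instance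
      refine ⟨n, B, biprod.lift (𝟙 B) (-(l₁ ≫ inv l₂)) ≫ e.inv, w, rfl, hB, ?_⟩
      apply shortExact_of_lift
      intro T t ht
      refine ⟨t ≫ e.hom ≫ biprod.fst, ?_⟩
      rw [← cancel_mono e.hom]
      simp only [Category.assoc, e.inv_hom_id, Category.comp_id]
      have ht' : (t ≫ e.hom ≫ biprod.fst) ≫ l₁ + (t ≫ e.hom ≫ biprod.snd) ≫ l₂ = 0 := by
        rw [← hl'l, hdec] at ht
        simpa using ht
      have hs0 : (t ≫ e.hom ≫ biprod.snd) ≫ l₂ = -((t ≫ e.hom ≫ biprod.fst) ≫ l₁) :=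
        eq_neg_of_add_eq_zero_right ht'
      have hs : t ≫ e.hom ≫ biprod.snd = -((t ≫ e.hom ≫ biprod.fst) ≫ l₁ ≫ inv l₂) := by
        have h3 : t ≫ e.hom ≫ biprod.snd = ((t ≫ e.hom ≫ biprod.snd) ≫ l₂) ≫ inv l₂ := by
          rw [Category.assoc, IsIso.hom_inv_id, Category.comp_id]
        rw [h3, hs0, Preadditive.neg_comp, Category.assoc]
      apply biprod.hom_ext
      · simp
      · simp only [Category.assoc, biprod.lift_snd, Preadditive.comp_neg]
        rw [hs]
        simp

end curve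

end Groth.Agent.Lib.Helper2.TrivBun
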