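import Mathlib
import Groth.Agent.Lib.Helper2.TrivBun

/-!
# Helper2 — Butler: on a curve of genus one, the kernel of a map `O^m ⟶ F` which is injective on global sections,
with `F` semistable of slope `> 1`, has all its subbundles of slope `≤ -d/(d-s)` (Butler's theorem; duality-free).
-/

set_option autoImplicit false
set_option backward.isDefEq.respectTransparency.types false
universe u
open CategoryTheory CategoryTheory.Limits AlgebraicGeometry Opposite TopologicalSpace

namespace Groth.Agent.Lib.Helper2.Butler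

open Groth.Agent.Lib.Helper8.EulerK Groth.Agent.Lib.Helper8.KillA Groth.Agent.Lib.Helper8.KillB
  Groth.Agent.Lib.Helper8.GGKill Groth.Agent.Lib.Helper2.QuotBig Groth.Agent.Lib.Helper2.HLes
  Groth.Agent.Lib.Helper2.HLesLin Groth.Agent.Lib.Helper2.TrivBun

variable (k : Type u) [Field k] [IsAlgClosed k] (X : Scheme.{u}) [X.Over (Spec (CommRingCat.of k))]
  [IsIntegral X] [IsProper (X ↘ Spec (CommRingCat.of k))] [Smooth (X ↘ Spec (CommRingCat.of k))]

/-- slope semistability in the submodule form -/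
def SS (F : X.Modules) (s : ℕ) : Prop :=
  ∀ (G : X.Modules) (r' : ℕ) (i : G ⟶ F), Mono i → 0 < r' → FlatMod.IsFinLocFreeOfRank r' G →
    Curv2.deg k X G r' * (s : ℤ) ≤ Curv2.deg k X F s * (r' : ℤ)

theorem butler_aux (hdim : topologicalKrullDim X = 1) (hg : Curv2.genus k X = 1)
    (F : X.Modules) (s : ℕ) (hs : 0 < s) (hF : FlatMod.IsFinLocFreeOfRank s F)
    (hds : (s : ℤ) < Curv2.deg k X F s) (hss : SS k X F s) :
    ∀ (m : ℕ) (A : X.Modules), IsTriv m A → ∀ (α : A ⟶ F), Function.Injective (Canon.HHlin k α 0) →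
      ∀ (G : X.Modules) (a : ℕ) (j : G ⟶ A), Mono j → 0 < a → FlatMod.IsFinLocFreeOfRank a G → j ≫ α = 0 →
        Curv2.deg k X G a * (Curv2.deg k X F s - s) ≤ -((a : ℤ) * Curv2.deg k X F s) := by
  classical
  haveI : IsLocallyNoetherian X := isLocallyNoetherian k X
  set d := Curv2.deg k X F s with hd
  intro m
  induction m using Nat.strong_induction_on with
  | _ m IH =>
  intro A hA α hα G a j hj ha hG hjα
  haveI := hj
  by_contra hcon
  push_neg at hcon
  obtain ⟨hAr, hAd, hAh⟩ := isTriv_data k X hdim hA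
  -- the kernel and the image of `α`
  obtain ⟨rK, rI, hK, hI, hsum, hIs, hdegKI, hfne, hKne⟩ :=
    Groth.Agent.Lib.Helper4.CurveVB.ker_im k X hdim α hAr hF
  rw [hAd] at hdegKI
  have hjK : kernel.lift α j hjα ≫ kernel.ι α = j := kernel.lift_ι _ _ _
  haveI : Mono (kernel.lift α j hjα) := mono_of_mono_fac hjK
  have haK : a ≤ rK := Groth.Agent.Lib.Helper4.GPRank.rank_le_of_mono (kernel.lift α j hjα) hG hK
  have hrK : 0 < rK := lt_of_lt_of_le ha haK
  -- a subbundle of maximal slope of the kernel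
  obtain ⟨G₁, a₁, i₁, hi₁, ha₁, hG₁, hmax, -⟩ :=
    Groth.Agent.Lib.Helper4.MaxSub.exists_maxSub k X hdim rK hrK (kernel α) hK
  haveI := hi₁
  have hmaxG := hmax G a (kernel.lift α j hjα) inferInstance ha hG
  -- saturate it in `A`
  obtain ⟨G₂, b, j₂, hj₂, hbj, hG₂, hdeg12, hcok, hdegadd, hle⟩ :=
    Groth.Agent.Lib.Helper2.CurveSat.exists_saturation k X hdim hAr hG₁ (i₁ ≫ kernel.ι α)
  haveI := hj₂
  rw [hAd] at hdegadd
  haveI : Mono b := mono_of_mono_fac hbj
  have hj₂α : j₂ ≫ α = 0 := by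
    by_contra hne
    obtain ⟨rK', rI', hK', -, hsum', -, -, hfne', -⟩ :=
      Groth.Agent.Lib.Helper4.CurveVB.ker_im k X hdim (j₂ ≫ α) hG₂ hF
    have hb0 : b ≫ j₂ ≫ α = 0 := by
      rw [← Category.assoc, hbj, Category.assoc, kernel.condition, comp_zero]
    have hbK : kernel.lift (j₂ ≫ α) b hb0 ≫ kernel.ι (j₂ ≫ α) = b := kernel.lift_ι _ _ _
    haveI : Mono (kernel.lift (j₂ ≫ α) b hb0) := mono_of_mono_fac hbK
    have := Groth.Agent.Lib.Helper4.GPRank.rank_le_of_mono (kernel.lift (j₂ ≫ α) b hb0) hG₁ hK'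
    have := hfne' hne
    omega
  have hjK₂ : kernel.lift α j₂ hj₂α ≫ kernel.ι α = j₂ := kernel.lift_ι _ _ _
  haveI : Mono (kernel.lift α j₂ hj₂α) := mono_of_mono_fac hjK₂
  have hmax₂ := hmax G₂ a₁ (kernel.lift α j₂ hj₂α) inferInstance ha₁ hG₂
  have ha₁K : a₁ ≤ rK := Groth.Agent.Lib.Helper4.GPRank.rank_le_of_mono (kernel.lift α j₂ hj₂α) hG₂ hK
  have hmaxK := hmax (kernel α) rK (𝟙 _) inferInstance hrK hK
  have hdeg21 : Curv2.deg k X G₂ a₁ = Curv2.deg k X G₁ a₁ := by
    have h1 : (0 : ℤ) < a₁ := by exact_mod_cast ha₁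
    have h2 : Curv2.deg k X G₂ a₁ ≤ Curv2.deg k X G₁ a₁ := le_of_mul_le_mul_right hmax₂ h1
    omega
  rw [← hdeg21] at hmaxG hmaxK
  -- the destabilising inequality for `G₂`
  have hcon₂ : -((a₁ : ℤ) * d) < Curv2.deg k X G₂ a₁ * (d - s) := by
    have h1 : (0 : ℤ) < a := by exact_mod_cast ha
    have h2 : (0 : ℤ) < d - s := by linarith
    have h3 : Curv2.deg k X G a * (d - s) * a₁ ≤ Curv2.deg k X G₂ a₁ * (d - s) * a := by nlinarith
    have h4 : -((a₁ : ℤ) * d) * a < Curv2.deg k X G₂ a₁ * (d - s) * a := by nlinarith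
    exact lt_of_mul_lt_mul_right h4 h1.le
  have hSC := Groth.Agent.Lib.Helper4.HilbPoly.shortExact_cokernel j₂
  by_cases hφ : ∃ φ : cokernel j₂ ⟶ Coh.structureModule X, φ ≠ 0
  · obtain ⟨φ, hφ⟩ := hφ
    have hl : cokernel.π j₂ ≫ φ ≠ 0 := fun h0 =>
      hφ (by rw [← cancel_epi (cokernel.π j₂), h0, comp_zero])
    obtain ⟨m', A₁, ι, w, hm, hA₁, hSE⟩ := isTriv_kernel k X hdim hA (cokernel.π j₂ ≫ φ) hl
    have hj₂l : j₂ ≫ cokernel.π j₂ ≫ φ = 0 := by rw [cokernel.condition_assoc, zero_comp]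
    haveI : Mono ι := hSE.mono_f
    have hfac : hSE.exact.lift j₂ hj₂l ≫ ι = j₂ := hSE.exact.lift_f _ _
    haveI : Mono (hSE.exact.lift j₂ hj₂l) := mono_of_mono_fac hfac
    have hinj : Function.Injective (Canon.HHlin k (ι ≫ α) 0) := by
      intro x y hxy
      rw [← Groth.Agent.Lib.Helper2.SerreFin1.HHlin_comp_apply,
        ← Groth.Agent.Lib.Helper2.SerreFin1.HHlin_comp_apply] at hxy
      exact Groth.Agent.Lib.Helper2.DualE2.HHlin_f_injective_zero _ hSE k (hα hxy)
    have := IH m' (by omega) A₁ hA₁ (ι ≫ α) hinj G₂ a₁ (hSE.exact.lift j₂ hj₂l) inferInstance ha₁ hG₂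
      (by rw [← Category.assoc, hfac, hj₂α])
    linarith
  · push_neg at hφ
    rcases Nat.eq_zero_or_pos (m - a₁) with hc0 | hcpos
    · rw [hc0] at hcok
      have hz := Groth.Agent.Lib.Helper4.CurveVB.isZero_of_rank_zero hcok
      haveI : Epi j₂ := Preadditive.epi_of_cokernel_zero (hz.eq_of_tgt _ _)
      have hα0 : α = 0 := by rw [← cancel_epi j₂, hj₂α, comp_zero]
      have hsub : Subsingleton (Coh.HH X A 0) :=
        ⟨fun x y => hα (by rw [hα0, Groth.Agent.Lib.Helper2.Dual9.HHlin_zero_apply,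
          Groth.Agent.Lib.Helper2.Dual9.HHlin_zero_apply])⟩
      have : Module.finrank k (Coh.HH X A 0) = 0 := Module.finrank_zero_of_subsingleton
      omega
    · obtain ⟨c', hc'⟩ : ∃ c', m - a₁ = c' + 1 := ⟨m - a₁ - 1, by omega⟩
      rw [hc'] at hcok hdegadd
      have hQB : QB k X (cokernel j₂) := by
        intro Q q π hπ hq hQ
        haveI := hπ
        obtain ⟨h1, h2⟩ := isTriv_quot k X hdim hA Q q (cokernel.π j₂ ≫ π) (epi_comp _ _) hq hQ
        rw [hg]
        have hne : Curv2.deg k X Q q ≠ 0 := by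
          intro h0
          obtain ⟨φ, hφ'⟩ := h2 h0
          apply hφ'
          have h3 := hφ (π ≫ φ)
          rw [← cancel_epi π, h3, comp_zero]
        have : (0 : ℤ) < Curv2.deg k X Q q := lt_of_le_of_ne h1 (Ne.symm hne)
        push_cast
        linarith
      have hH1 := h1_of_QB k X hdim c' (cokernel j₂) hcok hQB
      have hCc := Groth.Agent.Lib.Helper8.CurveTensor.isCoh_of_isFinLocFreeOfRank _ hcok
      have hG₂c := Groth.Agent.Lib.Helper8.CurveTensor.isCoh_of_isFinLocFreeOfRank _ hG₂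
      have hχC := Groth.Agent.Lib.Helper8.CurveRR.euler_eq_sub k X hdim.le _ hCc.1
      have hχO := Groth.Agent.Lib.Helper2.CurveSub.euler_structureModule k X hdim
      rw [hg] at hχO
      have hdC : Curv2.deg k X (cokernel j₂) (c' + 1) =
          Curv2.euler k X (cokernel j₂) - ((c' + 1 : ℕ) : ℤ) * Curv2.euler k X (Coh.structureModule X) := rfl
      have hh1 : Module.finrank k (Coh.HH X (cokernel j₂) 1) = 0 := Module.finrank_zero_of_subsingleton
      rw [hh1] at hχC
      -- `H⁰(G₂) = 0`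
      have hG₂0 : ∀ y : Coh.HH X G₂ 0, y = 0 := by
        intro y
        have h1 : Canon.HHlin k α 0 (Canon.HHlin k j₂ 0 y) = Canon.HHlin k α 0 0 := by
          rw [Groth.Agent.Lib.Helper2.SerreFin1.HHlin_comp_apply, hj₂α,
            Groth.Agent.Lib.Helper2.Dual9.HHlin_zero_apply, map_zero]
        have h2 : Canon.HHlin k j₂ 0 y = Canon.HHlin k j₂ 0 0 := by rw [hα h1, map_zero]
        exact Groth.Agent.Lib.Helper2.DualE2.HHlin_f_injective_zero _ hSC k h2
      have hinjπ : Function.Injective (Canon.HHlin k (cokernel.π j₂) 0) := by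
        rw [← LinearMap.ker_eq_bot, ← range_eq_ker₂ _ hSC k 0, LinearMap.range_eq_bot]
        exact LinearMap.ext fun y => by rw [hG₂0 y, map_zero]; rfl
      haveI := finite_HH k X _ hCc 0
      have hmle := LinearMap.finrank_le_finrank_of_injective hinjπ
      rw [hAh] at hmle
      -- numerics
      have hmle' : (m : ℤ) ≤ (Module.finrank k (Coh.HH X (cokernel j₂) 0) : ℤ) := by exact_mod_cast hmle
      have hdI : 0 < rI → Curv2.deg k X (Abelian.image α) rI * (s : ℤ) ≤ d * (rI : ℤ) := fun hrI =>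
        hss (Abelian.image α) rI (Abelian.image.ι α) inferInstance hrI hI
      have hdI0 : rI = 0 → Curv2.deg k X (Abelian.image α) rI = 0 := by
        intro h0
        subst h0
        exact Groth.Agent.Lib.Helper4.CurveVB.deg_of_isZero k X
          (Groth.Agent.Lib.Helper4.CurveVB.isZero_of_rank_zero hI)
      set x := Curv2.deg k X G₂ a₁ with hx
      set y := Curv2.deg k X (Abelian.image α) rI with hy
      set h := (Module.finrank k (Coh.HH X (cokernel j₂) 0) : ℤ) with hh'
      have hxh : x = -h := by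
        rw [hdC, hχC, hχO] at hdegadd
        push_cast at hdegadd
        linarith
      have hK' : Curv2.deg k X (kernel α) rK = -y := by linarith
      rw [hK'] at hmaxK
      have hrKm : (rK : ℤ) + rI = m := by exact_mod_cast hsum
      have ha₁' : (0 : ℤ) < a₁ := by exact_mod_cast ha₁
      have ha₁K' : (a₁ : ℤ) ≤ rK := by exact_mod_cast ha₁K
      have hs' : (0 : ℤ) < s := by exact_mod_cast hs
      have hrI0 : (0 : ℤ) ≤ rI := by positivity
      have hd0 : (0 : ℤ) < d := by linarith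
      -- `e₂ = h ≥ m ≥ rK ≥ a₁ ≥ 1`
      have hhm : (rK : ℤ) + rI ≤ h := by linarith
      have hhpos : 0 < h := by linarith
      -- `y ≥ h`
      have hyh : h ≤ y := by
        have h1 : h * a₁ ≤ y * a₁ := by
          have : h * a₁ ≤ h * rK := by nlinarith
          nlinarith
        exact le_of_mul_le_mul_right h1 ha₁'
      -- `rI * d < h * s`
      have hkey : (rI : ℤ) * d < h * s := by
        have h1 : h * (d - s) < a₁ * d := by
          rw [hxh] at hcon₂
          linarith
        have h2 : (a₁ : ℤ) * d ≤ (h - rI) * d := by nlinarith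
        nlinarith
      have hys : h * s ≤ y * s := by nlinarith
      rcases Nat.eq_zero_or_pos rI with h0 | hpos
      · have hy0 : y = 0 := hdI0 h0
        have hrI0' : (rI : ℤ) = 0 := by exact_mod_cast h0
        rw [hy0] at hys
        rw [hrI0'] at hkey
        nlinarith
      · have := hdI hpos
        nlinarith

end Groth.Agent.Lib.Helper2.Butler
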