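import Mathlib
import Groth.Agent.Lib.Helper2.Butler

/-!
# Helper2 — Butler2: the evaluation map `H⁰(F) ⊗ O ⟶ F` (as a map from a trivial bundle, injective on `H⁰`),
and the semistable kernel bundle on a curve of genus one.
-/

set_option autoImplicit false
set_option backward.isDefEq.respectTransparency.types false
universe u
open CategoryTheory CategoryTheory.Limits AlgebraicGeometry Opposite TopologicalSpace
open scoped ZeroObject

namespace Groth.Agent.Lib.Helper2.Butler

open Groth.Agent.Lib.Helper8.EulerK Groth.Agent.Lib.Helper8.KillA Groth.Agent.Lib.Helper8.KillB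
  Groth.Agent.Lib.Helper8.GGKill Groth.Agent.Lib.Helper2.QuotBig Groth.Agent.Lib.Helper2.HLes
  Groth.Agent.Lib.Helper2.HLesLin Groth.Agent.Lib.Helper2.TrivBun

variable (k : Type u) [Field k] [IsAlgClosed k] (X : Scheme.{u}) [X.Over (Spec (CommRingCat.of k))]
  [IsIntegral X] [IsProper (X ↘ Spec (CommRingCat.of k))] [Smooth (X ↘ Spec (CommRingCat.of k))]

theorem HHlin_eq_HHmap {M N : X.Modules} (φ : M ⟶ N) (p : ℕ) (y : Coh.HH X M p) :
    Canon.HHlin k φ p y = HHmap φ p y := rfl

include k in
theorem unitH_ne_zero : unitH X ≠ 0 := by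
  intro h0
  have hfr := Groth.Agent.Lib.Helper2.SecPos.finrank_H0_eq_one_of_isAlgClosed k X
  have : Subsingleton (Coh.HH X (Coh.structureModule X) 0) := by
    refine ⟨fun a b => ?_⟩
    have key : ∀ q : Coh.HH X (Coh.structureModule X) 0, q = 0 := by
      intro q
      obtain ⟨φ, hφ⟩ := exists_hom_of_H0 (Coh.structureModule X) q
      rw [← hφ, h0, map_zero]
    rw [key a, key b]
  rw [Module.finrank_zero_of_subsingleton] at hfr
  exact absurd hfr (by norm_num)

theorem exists_smul_unitH (q : Coh.HH X (Coh.structureModule X) 0) : ∃ c : k, c • unitH X = q := by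
  have hfr := Groth.Agent.Lib.Helper2.SecPos.finrank_H0_eq_one_of_isAlgClosed k X
  exact (finrank_eq_one_iff_of_nonzero' (unitH X) (unitH_ne_zero k X)).1 hfr q

/-- maps from trivial bundles of every rank `j ≤ h⁰(F)` which are injective on global sections -/
theorem exists_eval (hdim : topologicalKrullDim X = 1) (F : X.Modules) [Module.Finite k (Coh.HH X F 0)] :
    ∀ j : ℕ, j ≤ Module.finrank k (Coh.HH X F 0) →
      ∃ (A : X.Modules) (α : A ⟶ F), IsTriv j A ∧ Function.Injective (Canon.HHlin k α 0) := by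
  classical
  haveI : IsLocallyNoetherian X := isLocallyNoetherian k X
  intro j
  induction j with
  | zero =>
    intro _
    have hA : IsTriv 0 (0 : X.Modules) := IsTriv.zero _ (isZero_zero _)
    refine ⟨0, 0, hA, ?_⟩
    have h0 := (isTriv_data k X hdim hA).2.2
    have hAc := Groth.Agent.Lib.Helper8.CurveTensor.isCoh_of_isFinLocFreeOfRank _ (isTriv_data k X hdim hA).1
    haveI := finite_HH k X _ hAc 0
    haveI : Subsingleton (Coh.HH X (0 : X.Modules) 0) := Module.finrank_zero_iff.1 h0
    intro a b _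
    exact Subsingleton.elim a b
  | succ j ih =>
    intro hj
    obtain ⟨A, α, hA, hα⟩ := ih (Nat.le_of_succ_le hj)
    obtain ⟨hAr, hAd, hAh⟩ := isTriv_data k X hdim hA
    have hAc := Groth.Agent.Lib.Helper8.CurveTensor.isCoh_of_isFinLocFreeOfRank _ hAr
    haveI := finite_HH k X _ hAc 0
    -- the range of `α` on sections is a proper subspace
    have hrange : LinearMap.range (Canon.HHlin k α 0) ≠ ⊤ := by
      intro htop
      have h1 := LinearMap.finrank_range_of_inj hα
      rw [htop, finrank_top, hAh] at h1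
      omega
    obtain ⟨q, hq⟩ : ∃ q : Coh.HH X F 0, q ∉ LinearMap.range (Canon.HHlin k α 0) := by
      by_contra hcon
      push_neg at hcon
      exact hrange (eq_top_iff.2 fun q _ => hcon q)
    obtain ⟨φ, hφ⟩ := exists_hom_of_H0 F q
    refine ⟨A ⊞ Coh.structureModule X, biprod.desc α φ, IsTriv.succ j _ A hA ⟨Iso.refl _⟩, ?_⟩
    rw [injective_iff_map_eq_zero]
    intro x hx
    set x₁ := Canon.HHlin k (biprod.fst : A ⊞ Coh.structureModule X ⟶ A) 0 x with hx₁
    set x₂ := Canon.HHlin k (biprod.snd : A ⊞ Coh.structureModule X ⟶ Coh.structureModule X) 0 x with hx₂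
    have htot : Canon.HHlin k (biprod.inl : A ⟶ A ⊞ Coh.structureModule X) 0 x₁ + Canon.HHlin k (biprod.inr : Coh.structureModule X ⟶ A ⊞ Coh.structureModule X) 0 x₂ = x := by
      have h1 := Groth.Agent.Lib.Helper2.SerreFin1.HHlin_comp_apply k (biprod.fst : A ⊞ Coh.structureModule X ⟶ A) (biprod.inl : A ⟶ A ⊞ Coh.structureModule X) 0 x
      have h2 := Groth.Agent.Lib.Helper2.SerreFin1.HHlin_comp_apply k (biprod.snd : A ⊞ Coh.structureModule X ⟶ Coh.structureModule X) (biprod.inr : Coh.structureModule X ⟶ A ⊞ Coh.structureModule X) 0 x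
      have h3 := Groth.Agent.Lib.Helper2.GSplit2.HHlin_add_apply k
        ((biprod.fst : A ⊞ Coh.structureModule X ⟶ A) ≫ (biprod.inl : A ⟶ A ⊞ Coh.structureModule X)) ((biprod.snd : A ⊞ Coh.structureModule X ⟶ Coh.structureModule X) ≫ (biprod.inr : Coh.structureModule X ⟶ A ⊞ Coh.structureModule X)) 0 x
      rw [biprod.total, Groth.Agent.Lib.Helper2.SerreFin1.HHlin_id_apply] at h3
      rw [h1, h2]
      exact h3.symm
    have himg : Canon.HHlin k α 0 x₁ + Canon.HHlin k φ 0 x₂ = 0 := by
      have h1 := Groth.Agent.Lib.Helper2.SerreFin1.HHlin_comp_apply k (biprod.inl : A ⟶ A ⊞ Coh.structureModule X) (biprod.desc α φ) 0 x₁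
      have h2 := Groth.Agent.Lib.Helper2.SerreFin1.HHlin_comp_apply k (biprod.inr : Coh.structureModule X ⟶ A ⊞ Coh.structureModule X) (biprod.desc α φ) 0 x₂
      rw [biprod.inl_desc] at h1
      rw [biprod.inr_desc] at h2
      rw [← h1, ← h2, ← map_add, htot, hx]
    obtain ⟨c, hc⟩ := exists_smul_unitH k X x₂
    have hφx : Canon.HHlin k φ 0 x₂ = c • q := by
      rw [← hc, map_smul, HHlin_eq_HHmap, hφ]
    have hc0 : c = 0 := by
      by_contra hne
      apply hq
      refine ⟨(-c⁻¹) • x₁, ?_⟩
      rw [map_smul]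
      have : Canon.HHlin k α 0 x₁ = -(c • q) := by
        rw [← hφx]
        exact eq_neg_of_add_eq_zero_left himg
      rw [this, neg_smul, smul_neg, neg_neg, smul_smul, inv_mul_cancel₀ hne, one_smul]
    have hx₂0 : x₂ = 0 := by rw [← hc, hc0, zero_smul]
    have hx₁0 : x₁ = 0 := by
      apply hα
      rw [map_zero]
      rw [hφx, hc0, zero_smul, add_zero] at himg
      exact himg
    rw [← htot, hx₁0, hx₂0, map_zero, map_zero, add_zero]

/-- for a globally generated `F`, a surjection from the trivial bundle of rank `h⁰(F)` which is injective on global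
sections -/
theorem exists_eval_epi (hdim : topologicalKrullDim X = 1) (F : X.Modules) [Module.Finite k (Coh.HH X F 0)]
    (hgg : Curv2.IsGloballyGenerated F) :
    ∃ (A : X.Modules) (α : A ⟶ F), IsTriv (Module.finrank k (Coh.HH X F 0)) A ∧
      Function.Injective (Canon.HHlin k α 0) ∧ Epi α := by
  classical
  haveI : IsLocallyNoetherian X := isLocallyNoetherian k X
  obtain ⟨A, α, hA, hα⟩ := exists_eval k X hdim F _ le_rfl
  refine ⟨A, α, hA, hα, ?_⟩
  obtain ⟨hAr, hAd, hAh⟩ := isTriv_data k X hdim hA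
  have hAc := Groth.Agent.Lib.Helper8.CurveTensor.isCoh_of_isFinLocFreeOfRank _ hAr
  haveI := finite_HH k X _ hAc 0
  have hsurj : Function.Surjective (Canon.HHlin k α 0) :=
    (LinearMap.injective_iff_surjective_of_finrank_eq_finrank hAh).1 hα
  have hK : Kills (cokernel.π α) := by
    intro s
    apply hom_eq_of_HHmap_unitH_eq
    obtain ⟨y, hy⟩ := hsurj (HHmap s 0 (unitH X))
    rw [HHmap_comp, ← hy, HHlin_eq_HHmap, ← HHmap_comp, cokernel.condition, HHmap_zero_unitH]
    have := Groth.Agent.Lib.Helper2.Dual9.HHlin_zero_apply (A := k) (F := A) (G := cokernel α) 0 y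
    exact this
  have h0 := kills_eq_zero_of_gg hgg (cokernel.π α) hK
  exact Preadditive.epi_of_cokernel_zero h0

end Groth.Agent.Lib.Helper2.Butler
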