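import Mathlib
import Groth.Agent.Lib.Helper2.Butler2

/-!
# Helper2 — Butler3: the semistable kernel bundle `M_F = ker (H⁰(F) ⊗ O ⟶ F)` on a curve of genus one.
-/

set_option autoImplicit false
set_option backward.isDefEq.respectTransparency.types false
universe u
open CategoryTheory CategoryTheory.Limits AlgebraicGeometry Opposite TopologicalSpace
open scoped ZeroObject

namespace Groth.Agent.Lib.Helper2.Butler

open Groth.Agent.Lib.Helper8.EulerK Groth.Agent.Lib.Helper8.KillA Groth.Agent.Lib.Helper8.KillB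
  Groth.Agent.Lib.Helper8.GGKill Groth.Agent.Lib.Helper2.QuotBig Groth.Agent.Lib.Helper2.HLes
  Groth.Agent.Lib.Helper2.HLesLin Groth.Agent.Lib.Helper2.TrivBun

variable (k : Type u) [Field k] [IsAlgClosed k] (X : Scheme.{u}) [X.Over (Spec (CommRingCat.of k))]
  [IsIntegral X] [IsProper (X ↘ Spec (CommRingCat.of k))] [Smooth (X ↘ Spec (CommRingCat.of k))]

/-- quotient bundles of a semistable bundle of slope `> 1` have slope `> 1` -/
theorem quot_slope (hdim : topologicalKrullDim X = 1) (F : X.Modules) (s : ℕ) (hs : 0 < s)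
    (hF : FlatMod.IsFinLocFreeOfRank s F) (hds : (s : ℤ) < Curv2.deg k X F s) (hss : SS k X F s)
    (Q : X.Modules) (q : ℕ) (π : F ⟶ Q) (hπ : Epi π) (hq : 0 < q) (hQ : FlatMod.IsFinLocFreeOfRank q Q) :
    (q : ℤ) < Curv2.deg k X Q q := by
  haveI := hπ
  obtain ⟨hqs, hK, hdeg⟩ := Groth.Agent.Lib.Helper2.CurveSat.kernel_of_epi k X hdim hF hQ π
  set d := Curv2.deg k X F s with hd
  by_cases h0 : s - q = 0
  · have hz := Groth.Agent.Lib.Helper4.CurveVB.isZero_of_rank_zero (h0 ▸ hK)
    have hdz := Groth.Agent.Lib.Helper4.CurveVB.deg_of_isZero k X hz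
    rw [h0, hdz, zero_add] at hdeg
    rw [hdeg]
    have : (q : ℤ) ≤ s := by exact_mod_cast hqs
    omega
  · have hpos : 0 < s - q := Nat.pos_of_ne_zero h0
    have h1 := hss (kernel π) (s - q) (kernel.ι π) inferInstance hpos hK
    rw [← hd] at h1
    have hcast : ((s - q : ℕ) : ℤ) = (s : ℤ) - q := by
      rw [Nat.cast_sub hqs]
    rw [hcast] at h1
    have hsZ : (0 : ℤ) < s := by exact_mod_cast hs
    have hqZ : (0 : ℤ) < q := by exact_mod_cast hq
    -- deg Q * s = d s - deg K * s ≥ d q > s q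
    have h2 : Curv2.deg k X Q q * s ≥ d * q := by
      have : Curv2.deg k X Q q = d - Curv2.deg k X (kernel π) (s - q) := by linarith
      rw [this]
      nlinarith
    have h3 : d * q > s * q := by nlinarith
    by_contra hcon
    push_neg at hcon
    have : Curv2.deg k X Q q * s ≤ q * s := by nlinarith
    nlinarith

/-- the kernel bundle of a semistable bundle of slope `> 1` on a curve of genus one -/
theorem exists_kernel_bundle (hdim : topologicalKrullDim X = 1) (hg : Curv2.genus k X = 1)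
    (F : X.Modules) (s : ℕ) (hs : 0 < s) (hF : FlatMod.IsFinLocFreeOfRank s F)
    (hds : (s : ℤ) < Curv2.deg k X F s) (hss : SS k X F s) :
    ∃ (M : X.Modules) (r : ℕ), (r : ℤ) + s = Curv2.deg k X F s ∧ FlatMod.IsFinLocFreeOfRank r M ∧
      Curv2.deg k X M r = - Curv2.deg k X F s ∧
      ∀ (G : X.Modules) (a : ℕ) (j : G ⟶ M), Mono j → 0 < a → FlatMod.IsFinLocFreeOfRank a G →
        Curv2.deg k X G a * r ≤ Curv2.deg k X M r * a := by
  classical
  haveI : IsLocallyNoetherian X := isLocallyNoetherian k X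
  obtain ⟨s', rfl⟩ : ∃ s', s = s' + 1 := ⟨s - 1, by omega⟩
  set d := Curv2.deg k X F (s' + 1) with hd
  have hFc := Groth.Agent.Lib.Helper8.CurveTensor.isCoh_of_isFinLocFreeOfRank _ hF
  haveI := finite_HH k X _ hFc 0
  have hQB : QB k X F := by
    intro Q q π hπ hq hQ
    have := quot_slope k X hdim F (s' + 1) hs hF hds hss Q q π hπ hq hQ
    rw [hg]
    have hqZ : (0 : ℤ) < q := by exact_mod_cast hq
    push_cast
    linarith
  have hQB' : Groth.Agent.Lib.Helper2.GGVec.QB' k X F := by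
    intro Q q π hπ hq hQ
    have := quot_slope k X hdim F (s' + 1) hs hF hds hss Q q π hπ hq hQ
    rw [hg]
    push_cast
    linarith
  haveI hH1 := h1_of_QB k X hdim s' F hF hQB
  have hgg := Groth.Agent.Lib.Helper2.GGVec.gg_of_QB' k X hdim s' F hF hQB'
  -- `h⁰(F) = d`
  have hh0 : (Module.finrank k (Coh.HH X F 0) : ℤ) = d := by
    have h1 := Groth.Agent.Lib.Helper8.CurveRR.euler_eq_sub k X hdim.le F hFc.1
    have h2 := Groth.Agent.Lib.Helper2.CurveSub.euler_structureModule k X hdim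
    rw [hg] at h2
    have h3 : d = Curv2.euler k X F - ((s' + 1 : ℕ) : ℤ) * Curv2.euler k X (Coh.structureModule X) := rfl
    have h4 : Module.finrank k (Coh.HH X F 1) = 0 := Module.finrank_zero_of_subsingleton
    rw [h3, h2, h1, h4]
    push_cast
    ring
  obtain ⟨A, α, hA, hα, hαe⟩ := exists_eval_epi k X hdim F hgg
  haveI := hαe
  set n := Module.finrank k (Coh.HH X F 0) with hn
  obtain ⟨hAr, hAd, hAh⟩ := isTriv_data k X hdim hA
  obtain ⟨hsn, hK, hdeg⟩ := Groth.Agent.Lib.Helper2.CurveSat.kernel_of_epi k X hdim hAr hF α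
  rw [hAd, ← hd] at hdeg
  have hcast : ((n - (s' + 1) : ℕ) : ℤ) = (n : ℤ) - ((s' + 1 : ℕ) : ℤ) := by
    rw [Nat.cast_sub hsn]
  refine ⟨kernel α, n - (s' + 1), by rw [hcast, hh0]; ring, hK, by linarith, ?_⟩
  intro G a j hj ha hG
  haveI := hj
  have hb := butler_aux k X hdim hg F (s' + 1) hs hF hds hss n A hA α hα G a (j ≫ kernel.ι α)
    inferInstance ha hG (by rw [Category.assoc, kernel.condition, comp_zero])
  rw [← hd] at hb
  have hM : Curv2.deg k X (kernel α) (n - (s' + 1)) = -d := by linarith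
  rw [hM, hcast, hh0]
  linarith

end Groth.Agent.Lib.Helper2.Butler
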