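import Mathlib
import Groth.Agent.Lib.Helper2.Butler3
import Groth.Agent.Lib.Helper4.TwistInv
import Groth.Agent.Lib.Helper8.InvInverse

/-!
# Helper2 — Butler4: existence of semistable bundles of every rank and degree on a curve of genus one.
-/

set_option autoImplicit false
set_option backward.isDefEq.respectTransparency.types false
universe u
open CategoryTheory CategoryTheory.Limits AlgebraicGeometry Opposite TopologicalSpace
open scoped ZeroObject

namespace Groth.Agent.Lib.Helper2.Butler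

open Groth.Agent.Lib.Helper8.EulerK Groth.Agent.Lib.Helper8.KillA Groth.Agent.Lib.Helper8.KillB
  Groth.Agent.Lib.Helper8.GGKill Groth.Agent.Lib.Helper2.QuotBig Groth.Agent.Lib.Helper2.HLes
  Groth.Agent.Lib.Helper2.HLesLin Groth.Agent.Lib.Helper2.TrivBun

variable (k : Type u) [Field k] [IsAlgClosed k] (X : Scheme.{u}) [X.Over (Spec (CommRingCat.of k))]
  [IsIntegral X] [IsProper (X ↘ Spec (CommRingCat.of k))] [Smooth (X ↘ Spec (CommRingCat.of k))]

/-- twisting a semistable bundle by a line bundle of degree `e` -/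
theorem exists_twist (hdim : topologicalKrullDim X = 1) (M : X.Modules) (r : ℕ)
    (hM : FlatMod.IsFinLocFreeOfRank r M) (hss : SS k X M r) (e : ℤ) :
    ∃ M' : X.Modules, FlatMod.IsFinLocFreeOfRank r M' ∧ Curv2.deg k X M' r = Curv2.deg k X M r + r * e ∧
      SS k X M' r := by
  classical
  haveI : IsLocallyNoetherian X := isLocallyNoetherian k X
  obtain ⟨N, hN, hNd⟩ := Groth.Agent.Lib.Helper2.CurveSub.exists_invertible_of_deg k X hdim e
  obtain ⟨N', hN', hNN'⟩ := Groth.Agent.Lib.Helper8.InvInverse.exists_isInverseOf hN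
  have hN1 := Groth.Agent.Lib.Helper6.K0Op.isFinLocFreeOfRank_one_of_isInvertible N hN
  have hT := Groth.Agent.Lib.Helper4.TwistInv.isFinLocFreeOfRank_tensorMod M N hM hN1
  have hTd := Groth.Agent.S7637.result k X hdim.le r 1 M N hM hN1
  rw [mul_one] at hT hTd
  rw [hNd] at hTd
  refine ⟨CohB1.tensorMod M N, hT, by rw [hTd]; push_cast; ring, ?_⟩
  intro G a j hj ha hG
  haveI := hj
  obtain ⟨G', j', hj', hG', hG'd⟩ := Groth.Agent.Lib.Helper4.TwistInv.exists_untwist k X hdim hN hN' hNN' M hG j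
  have h1 := hss G' a j' hj' ha hG'
  rw [hG'd, hNd] at h1
  rw [hTd]
  push_cast
  linarith

theorem exists_isTriv : ∀ r : ℕ, ∃ A : X.Modules, IsTriv r A := by
  intro r
  induction r with
  | zero => exact ⟨0, IsTriv.zero _ (isZero_zero _)⟩
  | succ r ih =>
    obtain ⟨A, hA⟩ := ih
    exact ⟨A ⊞ Coh.structureModule X, IsTriv.succ r _ A hA ⟨Iso.refl _⟩⟩

/-- trivial bundles are semistable -/
theorem ss_of_isTriv (hdim : topologicalKrullDim X = 1) {r : ℕ} {A : X.Modules} (hA : IsTriv r A) :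
    SS k X A r := by
  classical
  haveI : IsLocallyNoetherian X := isLocallyNoetherian k X
  obtain ⟨hAr, hAd, hAh⟩ := isTriv_data k X hdim hA
  intro G a j hj ha hG
  haveI := hj
  obtain ⟨G₂, b, j₂, hj₂, hbj, hG₂, hdeg12, hcok, hdegadd, hle⟩ :=
    Groth.Agent.Lib.Helper2.CurveSat.exists_saturation k X hdim hAr hG j
  haveI := hj₂
  rw [hAd] at hdegadd ⊢
  rw [zero_mul]
  have hrZ : (0 : ℤ) ≤ r := by exact_mod_cast Nat.zero_le r
  suffices h : Curv2.deg k X G₂ a ≤ 0 by nlinarith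
  by_cases h0 : r - a = 0
  · have hz := Groth.Agent.Lib.Helper4.CurveVB.isZero_of_rank_zero (h0 ▸ hcok)
    have hdz := Groth.Agent.Lib.Helper4.CurveVB.deg_of_isZero k X hz
    rw [h0, hdz, add_zero] at hdegadd
    rw [hdegadd]
  · have hpos : 0 < r - a := Nat.pos_of_ne_zero h0
    have := (isTriv_quot k X hdim hA (cokernel j₂) (r - a) (cokernel.π j₂) inferInstance hpos hcok).1
    linarith

/-- existence of semistable bundles of every rank and degree on a curve of genus one -/
theorem exists_semistable (hdim : topologicalKrullDim X = 1) (hg : Curv2.genus k X = 1) :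
    ∀ (r : ℕ), 0 < r → ∀ d : ℤ, ∃ F : X.Modules, FlatMod.IsFinLocFreeOfRank r F ∧
      Curv2.deg k X F r = d ∧ SS k X F r := by
  classical
  intro r
  induction r using Nat.strong_induction_on with
  | _ r IH =>
  intro hr d
  have hrZ : (0 : ℤ) < r := by exact_mod_cast hr
  set q' := (-d) / (r : ℤ) with hq'
  set ρ := (-d) % (r : ℤ) with hρ
  have hdiv : (r : ℤ) * q' + ρ = -d := Int.mul_ediv_add_emod (-d) r
  have hρ0 : 0 ≤ ρ := Int.emod_nonneg _ (ne_of_gt hrZ)
  have hρr : ρ < r := Int.emod_lt_of_pos _ hrZ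
  by_cases hzero : ρ = 0
  · obtain ⟨A, hA⟩ := exists_isTriv X r
    obtain ⟨hAr, hAd, -⟩ := isTriv_data k X hdim hA
    obtain ⟨M', hM', hM'd, hM'ss⟩ := exists_twist k X hdim A r hAr (ss_of_isTriv k X hdim hA) (-q')
    refine ⟨M', hM', ?_, hM'ss⟩
    rw [hM'd, hAd]
    linarith
  · obtain ⟨s, hs⟩ : ∃ s : ℕ, (s : ℤ) = ρ := ⟨ρ.toNat, Int.toNat_of_nonneg hρ0⟩
    have hs0 : 0 < s := by
      rcases Nat.eq_zero_or_pos s with h | h
      · exfalso; apply hzero; rw [← hs, h]; rfl
      · exact h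
    have hsr : s < r := by exact_mod_cast (hs ▸ hρr : (s : ℤ) < r)
    obtain ⟨F', hF', hF'd, hF'ss⟩ := IH s hsr hs0 ((r : ℤ) + s)
    have hds : (s : ℤ) < Curv2.deg k X F' s := by rw [hF'd]; linarith
    obtain ⟨M, r₁, hr₁, hM, hMd, hMss⟩ := exists_kernel_bundle k X hdim hg F' s hs0 hF' hds hF'ss
    rw [hF'd] at hr₁ hMd
    have hrr : r₁ = r := by
      have : (r₁ : ℤ) = r := by linarith
      exact_mod_cast this
    subst hrr
    obtain ⟨M', hM', hM'd, hM'ss⟩ := exists_twist k X hdim M r₁ hM hMss (1 - q')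
    refine ⟨M', hM', ?_, hM'ss⟩
    rw [hM'd, hMd]
    linarith

end Groth.Agent.Lib.Helper2.Butler
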