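import Mathlib
import Groth.Agent.Lib.Helper2.LCCech4

/-!
# Ideal-torsion subcomplexes and the localisation short exact sequence
-/

set_option autoImplicit false
universe u

open CategoryTheory CategoryTheory.Limits CochainComplex DerCA

namespace Groth.Agent.Lib.Helper2.LCTorI

open Groth.Agent.Lib.Helper2.LCInj1 Groth.Agent.Lib.Helper2.LCInj2 Groth.Agent.Lib.Helper2.LCInj3
  Groth.Agent.Lib.Helper2.LCCech3

variable {R : Type u} [CommRing R]

/-- the submodule of elements killed by a power of `J`. -/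
def torSubI (J : Ideal R) (X : Type u) [AddCommGroup X] [Module R X] : Submodule R X where
  carrier := {x | ∃ k, Kills J k x}
  add_mem' := by
    rintro x y ⟨a, ha⟩ ⟨b, hb⟩
    refine ⟨max a b, fun c hc => ?_⟩
    rw [smul_add, ha.mono J (le_max_left a b) c hc, hb.mono J (le_max_right a b) c hc, add_zero]
  zero_mem' := ⟨0, fun c _ => smul_zero c⟩
  smul_mem' := by
    rintro c x ⟨a, ha⟩
    exact ⟨a, fun e he => by rw [smul_comm, ha e he, smul_zero]⟩

theorem mem_torSubI {J : Ideal R} {X : Type u} [AddCommGroup X] [Module R X] {x : X} :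
    x ∈ torSubI J X ↔ ∃ k, Kills J k x := Iff.rfl

theorem torSubI_map {J : Ideal R} {X Y : Type u} [AddCommGroup X] [Module R X] [AddCommGroup Y]
    [Module R Y] (φ : X →ₗ[R] Y) {x : X} (hx : x ∈ torSubI J X) : φ x ∈ torSubI J Y := by
  obtain ⟨k, hk⟩ := hx
  exact ⟨k, fun a ha => by rw [← map_smul, hk a ha, map_zero]⟩

theorem torSubI_mono {J J' : Ideal R} (h : J ≤ J') (X : Type u) [AddCommGroup X] [Module R X] :
    torSubI J' X ≤ torSubI J X := by
  rintro x ⟨k, hk⟩
  exact ⟨k, fun a ha => hk a (Ideal.pow_right_mono h k ha)⟩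

theorem mem_torSubI_sup {J : Ideal R} {b : R} {X : Type u} [AddCommGroup X] [Module R X] {x : X} :
    x ∈ torSubI (J ⊔ Ideal.span {b}) X ↔ x ∈ torSubI J X ∧ ∃ m : ℕ, b ^ m • x = 0 := by
  constructor
  · rintro ⟨k, hk⟩
    obtain ⟨h1, h2⟩ := kills_of_sup hk
    exact ⟨⟨k, h1⟩, k, h2⟩
  · rintro ⟨⟨a, ha⟩, m, hm⟩
    exact ⟨a + m, kills_sup ha hm⟩

/-- the `J`-power-torsion subcomplex. -/
noncomputable def torI (J : Ideal R) (K : DRing.Cx R) : DRing.Cx R :=
  subCx K (fun n => torSubI J (K.X n)) (fun i j _ hx => torSubI_map (K.d i j).hom hx)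

theorem torI_d_eq_zero_iff (J : Ideal R) (K : DRing.Cx R) (i j : ℤ) (x : torSubI J (K.X i)) :
    ((torI J K).d i j).hom x = 0 ↔ (K.d i j).hom x.1 = 0 := by
  change (⟨(K.d i j).hom x.1, torSubI_map (K.d i j).hom x.2⟩ : torSubI J (K.X j)) = 0 ↔ _
  rw [Submodule.mk_eq_zero]

theorem torI_d_eq_iff (J : Ideal R) (K : DRing.Cx R) (i j : ℤ) (x : torSubI J (K.X i))
    (y : torSubI J (K.X j)) :
    ((torI J K).d i j).hom x = y ↔ (K.d i j).hom x.1 = y.1 := by
  change (⟨(K.d i j).hom x.1, torSubI_map (K.d i j).hom x.2⟩ : torSubI J (K.X j)) = y ↔ _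
  rw [Subtype.ext_iff]

/-- the inclusion `Γ_{J'} K ⟶ Γ_J K` for `J ≤ J'`. -/
noncomputable def torIIncl {J J' : Ideal R} (h : J ≤ J') (K : DRing.Cx R) : torI J' K ⟶ torI J K where
  f n := ModuleCat.ofHom (Submodule.inclusion (torSubI_mono h (K.X n)))
  comm' i j _ := by
    ext x
    rfl

/-- functoriality of the torsion subcomplex. -/
noncomputable def torIMap (J : Ideal R) {K L : DRing.Cx R} (φ : K ⟶ L) : torI J K ⟶ torI J L where
  f n := ModuleCat.ofHom ((φ.f n).hom.restrict (fun _ hx => torSubI_map (φ.f n).hom hx))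
  comm' i j _ := by
    ext x
    apply Subtype.ext
    have := congrArg (fun g => g.hom x.1) (φ.comm i j)
    exact this

/-- divisibility condition on a complex (ideal version). -/
def DivI (K : DRing.Cx R) : Prop :=
  ∀ (J : Ideal R) (f : R) (n : ℤ) (x : K.X n), x ∈ torSubI J (K.X n) → ∀ N : ℕ,
    ∃ y ∈ torSubI J (K.X n), ∃ c : ℕ, f ^ (N + c) • y = f ^ c • x

/-- the short complex `0 → Γ_{J+(b)} K → Γ_J K → (Γ_J K)_b → 0`. -/
noncomputable def torISC (J : Ideal R) (b : R) (K : DRing.Cx R) : ShortComplex (DRing.Cx R) :=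
  ShortComplex.mk (torIIncl (le_sup_left : J ≤ J ⊔ Ideal.span {b}) K)
    (locCxUnit (Submonoid.powers b) (torI J K)) (by
    ext n x
    obtain ⟨-, m, hm⟩ := mem_torSubI_sup.1 x.2
    change LocalizedModule.mkLinearMap (Submonoid.powers b) _
      (Submodule.inclusion (torSubI_mono le_sup_left (K.X n)) x) = 0
    rw [← LinearMap.mem_ker, LocalizedModule.mem_ker_mkLinearMap_iff]
    refine ⟨b ^ m, ⟨m, rfl⟩, ?_⟩
    apply Subtype.ext
    exact hm)

theorem torISC_shortExact {K : DRing.Cx R} (hK : DivI K) (J : Ideal R) (b : R) :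
    (torISC J b K).ShortExact := by
  apply HomologicalComplex.shortExact_of_degreewise_shortExact
  intro n
  refine ShortComplex.ShortExact.mk' ?_ ?_ ?_
  · rw [ShortComplex.moduleCat_exact_iff]
    intro x hx
    change LocalizedModule.mkLinearMap (Submonoid.powers b) _ x = 0 at hx
    rw [← LinearMap.mem_ker, LocalizedModule.mem_ker_mkLinearMap_iff] at hx
    obtain ⟨r, ⟨m, rfl⟩, hr⟩ := hx
    have hx' : x.1 ∈ torSubI (J ⊔ Ideal.span {b}) (K.X n) :=
      mem_torSubI_sup.2 ⟨x.2, m, congrArg Subtype.val hr⟩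
    exact ⟨⟨x.1, hx'⟩, rfl⟩
  · rw [ModuleCat.mono_iff_injective]
    intro x y hxy
    apply Subtype.ext
    exact congrArg (fun z : torSubI J (K.X n) => (z : K.X n)) hxy
  · rw [ModuleCat.epi_iff_surjective]
    exact mkLinearMap_surjective_of_div b (torSubI J (K.X n)) (hK J b n)

theorem divI_cochainComplex [IsNoetherianRing R] {M : ModuleCat.{u} R}
    (Res : InjectiveResolution M) : DivI Res.cochainComplex := by
  intro J f n x hx N
  obtain ⟨k, hk⟩ := hx
  have hinj : CategoryTheory.Injective (ModuleCat.of R (Res.cochainComplex.X n)) :=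
    inferInstanceAs (CategoryTheory.Injective (Res.cochainComplex.X n))
  have : Module.Injective R (Res.cochainComplex.X n) :=
    Module.injective_module_of_injective_object R (Res.cochainComplex.X n)
  obtain ⟨e', K, c, he', hdiv⟩ := exists_div J f (Res.cochainComplex.X n) x k hk N
  exact ⟨e', ⟨K, he'⟩, c, hdiv⟩

end Groth.Agent.Lib.Helper2.LCTorI
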