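import Mathlib
import Groth.Agent.Lib.Helper2.LCTorI
import Groth.Agent.Lib.Helper2.LCHom
import Groth.Prelude.Def_DualLC

/-!
# The explicit comparison `H^n(Γ_J E) ≃ H^n_J(M)` and its compatibilities
-/

set_option autoImplicit false
universe u

open CategoryTheory CategoryTheory.Limits Opposite

namespace Groth.Agent.Lib.Helper2.LCPhi

open Groth.Agent.Lib.helper11.LCKit Groth.Agent.Lib.helper11.ExtBridge
  Groth.Agent.Lib.Helper2.LCInj1 Groth.Agent.Lib.Helper2.LCCech4
  Groth.Agent.Lib.Helper2.LCTorI Groth.Agent.Lib.Helper2.LCHom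

variable {R : Type u} [CommRing R]

section Phi

variable (J : Ideal R) {M : ModuleCat.{u} R} (Res : InjectiveResolution M) (n : ℕ)

theorem hd_of_mem_Zc (z : Zc (torI J Res.cochainComplex) n) :
    (Res.cochainComplex.d n (n + 1)).hom z.1.1 = 0 :=
  (torI_d_eq_zero_iff J Res.cochainComplex n (n + 1) z.1).1 (LinearMap.mem_ker.1 z.2)

/-- the class of a cocycle of the torsion subcomplex. -/
noncomputable def phiFun (z : Zc (torI J Res.cochainComplex) n) : (localCohomology J n).obj M :=
  clsZ J Res n (Classical.choose z.1.2) z.1.1 (Classical.choose_spec z.1.2) (hd_of_mem_Zc J Res n z)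

theorem phiFun_eq (z : Zc (torI J Res.cochainComplex) n) (k : ℕ) (hk : Kills J k z.1.1) :
    phiFun J Res n z = clsZ J Res n k z.1.1 hk (hd_of_mem_Zc J Res n z) := by
  unfold phiFun
  set k₀ := Classical.choose z.1.2
  have hk₀ : Kills J k₀ z.1.1 := Classical.choose_spec z.1.2
  rw [← clsZ_mono J Res n (le_max_left k₀ k) z.1.1 hk₀,
    ← clsZ_mono J Res n (le_max_right k₀ k) z.1.1 hk]

/-- the linear map from cocycles of the torsion subcomplex to local cohomology. -/
noncomputable def phi : Zc (torI J Res.cochainComplex) n →ₗ[R] (localCohomology J n).obj M where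
  toFun := phiFun J Res n
  map_add' z w := by
    obtain ⟨a, ha⟩ := z.1.2
    obtain ⟨b, hb⟩ := w.1.2
    have ha' := ha.mono _ (le_max_left a b)
    have hb' := hb.mono _ (le_max_right a b)
    have hab : Kills J (max a b) (z + w).1.1 := by
      intro c hc
      change c • (z.1.1 + w.1.1) = 0
      rw [smul_add, ha' c hc, hb' c hc, add_zero]
    rw [phiFun_eq J Res n z _ ha', phiFun_eq J Res n w _ hb', phiFun_eq J Res n (z + w) _ hab]
    exact clsZ_add _ Res n _ z.1.1 w.1.1 ha' hb' _ _ _ _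
  map_smul' c z := by
    obtain ⟨a, ha⟩ := z.1.2
    have hca : Kills J a (c • z).1.1 := by
      intro e he
      change e • c • z.1.1 = 0
      rw [smul_comm, ha e he, smul_zero]
    rw [phiFun_eq J Res n z _ ha, phiFun_eq J Res n (c • z) _ hca]
    exact clsZ_smul _ Res n _ c z.1.1 ha _ _ _

theorem phi_apply (z : Zc (torI J Res.cochainComplex) n) (k : ℕ) (hk : Kills J k z.1.1) :
    phi J Res n z = clsZ J Res n k z.1.1 hk (hd_of_mem_Zc J Res n z) :=
  phiFun_eq J Res n z k hk

theorem phi_surjective : Function.Surjective (phi J Res n) := by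
  intro ξ
  obtain ⟨k, x, hx, hd, rfl⟩ := clsZ_surjective _ Res n ξ
  have hmem : (⟨x, ⟨k, hx⟩⟩ : torSubI J (Res.cochainComplex.X n)) ∈
      Zc (torI J Res.cochainComplex) n :=
    (torI_d_eq_zero_iff J Res.cochainComplex n (n + 1) _).2 hd
  refine ⟨⟨⟨x, ⟨k, hx⟩⟩, hmem⟩, ?_⟩
  exact phiFun_eq J Res n _ k hx

theorem phi_eq_zero_iff (z : Zc (torI J Res.cochainComplex) n) :
    phi J Res n z = 0 ↔
      ∃ y : (torI J Res.cochainComplex).X ((n : ℤ) - 1),
        ((torI J Res.cochainComplex).d ((n : ℤ) - 1) n).hom y = z.1 := by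
  obtain ⟨a, ha⟩ := z.1.2
  rw [phi_apply J Res n z _ ha, clsZ_eq_zero_iff]
  constructor
  · rintro ⟨l, y, hy, hyx⟩
    exact ⟨⟨y, ⟨l, hy⟩⟩, (torI_d_eq_iff J Res.cochainComplex _ _ ⟨y, ⟨l, hy⟩⟩ z.1).2 hyx⟩
  · rintro ⟨y, hy⟩
    obtain ⟨l, hl⟩ := y.2
    exact ⟨l, y.1, hl, (torI_d_eq_iff J Res.cochainComplex _ _ y z.1).1 hy⟩

/-- local cohomology is the cohomology of the torsion subcomplex of an injective resolution. -/
noncomputable def Phi : (torI J Res.cochainComplex).homology n ≃ₗ[R] (localCohomology J n).obj M :=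
  equivOfPhi _ _ (phi J Res n) (phi_surjective J Res n) (phi_eq_zero_iff J Res n)

theorem Phi_toH (z : Zc (torI J Res.cochainComplex) n) :
    Phi J Res n (toH _ _ z) = phi J Res n z :=
  equivOfPhi_toH _ _ _ _ _ z

end Phi

section Hmap

variable {I I' : Ideal R} (h : I ≤ I') (i : ℕ) (M : ModuleCat.{u} R)

/-- the surjection `R/I^k → R/I'^k`. -/
noncomputable def qmap (k : ℕ) : Q I k ⟶ Q I' k :=
  ModuleCat.ofHom (Submodule.mapQ (I ^ k) (I' ^ k) LinearMap.id (Ideal.pow_right_mono h k))

theorem HmapOfLE_ιE (k : ℕ) (y : Abelian.Ext (Q I' k) M i) :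
    ((Dual2.HmapOfLE h i).app M).hom (ιE I' i M k y) =
      ιE I i M k ((Abelian.Ext.mk₀ (qmap h k)).comp y (zero_add i)) := by
  have hw := ι_colimMap (Functor.whiskerRight (NatTrans.op (Dual2.quotMapOfLE h))
    (Ext R (ModuleCat.{u} R) i)) (op (op k))
  have hw' : (colimit.ι (Dg I' i) (op (op k))).app M ≫ (Dual2.HmapOfLE h i).app M =
      ((Ext R (ModuleCat.{u} R) i).map (qmap h k).op).app M ≫
        (colimit.ι (Dg I i) (op (op k))).app M := by
    have := congrArg (fun α => α.app M) hw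
    exact this
  rw [ιE_apply, ιE_apply]
  set y' := (extBridge (Q I' k) M i).symm y with hy'
  have h1 := extBridge_map_left (qmap h k) M i y'
  rw [hy', LinearEquiv.apply_symm_apply] at h1
  rw [← h1, LinearEquiv.symm_apply_apply]
  have := congrArg (fun g => g.hom y') hw'
  exact this

variable {M}

include h in
theorem kills_of_le {k : ℕ} {E : Type u} [AddCommGroup E] [Module R E] {x : E}
    (hx : Kills I' k x) : Kills I k x :=
  fun a ha => hx a (Ideal.pow_right_mono h k ha)

theorem HmapOfLE_clsZ (Res : InjectiveResolution M) (n k : ℕ) (x : Res.cochainComplex.X n)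
    (hx : Kills I' k x) (hd : (Res.cochainComplex.d n (n + 1)).hom x = 0) :
    ((Dual2.HmapOfLE h n).app M).hom (clsZ I' Res n k x hx hd) =
      clsZ I Res n k x (kills_of_le h hx) hd := by
  unfold clsZ
  rw [HmapOfLE_ιE, mk₀_comp_extMkZ]
  congr 1
  apply extMkZ_congr
  apply hom_ext_Q
  rw [ModuleCat.hom_comp, LinearMap.comp_apply, toE_one]
  exact toE_one I' k x hx

theorem Phi_natural_le (Res : InjectiveResolution M) (n : ℕ)
    (x : (torI I' Res.cochainComplex).homology n) :
    Phi I Res n ((HomologicalComplex.homologyMap (torIIncl h Res.cochainComplex) n).hom x) =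
      ((Dual2.HmapOfLE h n).app M).hom (Phi I' Res n x) := by
  obtain ⟨z, rfl⟩ := toH_surjective _ _ x
  obtain ⟨k, hk⟩ := z.1.2
  rw [homologyMap_toH, Phi_toH, Phi_toH, phi_apply I' Res n z k hk, HmapOfLE_clsZ]
  exact phi_apply I Res n _ k (kills_of_le h hk)

end Hmap

end Groth.Agent.Lib.Helper2.LCPhi
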