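import Mathlib
import Groth.Agent.Lib.Helper2.LCPhi

/-!
# The long exact sequence for `J ⊆ J + (b)`
-/

set_option autoImplicit false
universe u

open CategoryTheory CategoryTheory.Limits Opposite DerCA

namespace Groth.Agent.Lib.Helper2.LCLes

open Groth.Agent.Lib.helper11.LCKit
  Groth.Agent.Lib.Helper2.LCInj1 Groth.Agent.Lib.Helper2.LCCech4
  Groth.Agent.Lib.Helper2.LCTorI Groth.Agent.Lib.Helper2.LCHom Groth.Agent.Lib.Helper2.LCPhi

variable {R : Type u} [CommRing R] [IsNoetherianRing R]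

variable (J : Ideal R) (b : R) (M : ModuleCat.{u} R)

/-- the comparison map `H^i_{J+(b)}(M) → H^i_J(M)`. -/
noncomputable abbrev cmp (i : ℕ) :
    (localCohomology (J ⊔ Ideal.span {b}) i).obj M →ₗ[R] (localCohomology J i).obj M :=
  ((Dual2.HmapOfLE (le_sup_left : J ≤ J ⊔ Ideal.span {b}) i).app M).hom

/-- the image of the comparison map is the `b`-power torsion. -/
theorem mem_range_cmp_iff (i : ℕ) (x : (localCohomology J i).obj M) :
    x ∈ LinearMap.range (cmp J b M i) ↔ ∃ n : ℕ, b ^ n • x = 0 := by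
  let Res : InjectiveResolution M := injectiveResolution M
  have hS := torISC_shortExact (divI_cochainComplex Res) J b
  have hex := hS.homology_exact₂ (i : ℤ)
  rw [ShortComplex.moduleCat_exact_iff] at hex
  have hloc := Groth.Agent.S9265.isLocalizedModule_homologyMap (Submonoid.powers b)
    (torI J Res.cochainComplex) (i : ℤ)
  obtain ⟨x', rfl⟩ := (Phi J Res i).surjective x
  have h1 : Phi J Res i x' ∈ LinearMap.range (cmp J b M i) ↔
      (HomologicalComplex.homologyMap (locCxUnit (Submonoid.powers b) (torI J Res.cochainComplex))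
        (i : ℤ)).hom x' = 0 := by
    constructor
    · rintro ⟨y, hy⟩
      obtain ⟨y', rfl⟩ := (Phi (J ⊔ Ideal.span {b}) Res i).surjective y
      rw [← Phi_natural_le] at hy
      have hxy := (Phi J Res i).injective hy
      rw [← hxy]
      have := congrArg (fun g => g.hom y')
        ((torISC J b Res.cochainComplex).map
          (HomologicalComplex.homologyFunctor _ _ (i : ℤ))).zero
      exact this
    · intro hx
      obtain ⟨y', hy'⟩ := hex x' hx
      refine ⟨Phi (J ⊔ Ideal.span {b}) Res i y', ?_⟩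
      change ((Dual2.HmapOfLE _ i).app M).hom _ = _
      rw [← Phi_natural_le]
      exact congrArg _ hy'
  rw [h1, IsLocalizedModule.eq_zero_iff (Submonoid.powers b)]
  constructor
  · rintro ⟨⟨_, n, rfl⟩, hs⟩
    refine ⟨n, ?_⟩
    rw [← map_smul]
    have : b ^ n • x' = 0 := hs
    rw [this, map_zero]
  · rintro ⟨n, hn⟩
    refine ⟨⟨b ^ n, n, rfl⟩, ?_⟩
    rw [← map_smul] at hn
    exact (Phi J Res i).injective (hn.trans (map_zero _).symm)

/-- the kernel of the comparison map in degree `i + 1` is the cokernel of the localisation map of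
`H^i_J(M)` at `b`. -/
theorem ker_cmp_equiv (i : ℕ) {L : Type u} [AddCommGroup L] [Module R L]
    (ℓ : (localCohomology J i).obj M →ₗ[R] L) [IsLocalizedModule (Submonoid.powers b) ℓ] :
    Nonempty (LinearMap.ker (cmp J b M (i + 1)) ≃ₗ[R] (L ⧸ LinearMap.range ℓ)) := by
  let Res : InjectiveResolution M := injectiveResolution M
  have hS := torISC_shortExact (divI_cochainComplex Res) J b
  have hij : (ComplexShape.up ℤ).Rel (i : ℤ) ((i + 1 : ℕ) : ℤ) := by
    change (i : ℤ) + 1 = ((i + 1 : ℕ) : ℤ)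
    push_cast
    rfl
  have ex1 := hS.homology_exact₁ (i : ℤ) _ hij
  have ex3 := hS.homology_exact₃ (i : ℤ) _ hij
  rw [ShortComplex.moduleCat_exact_iff_range_eq_ker] at ex1 ex3
  have hloc := Groth.Agent.S9265.isLocalizedModule_homologyMap (Submonoid.powers b)
    (torI J Res.cochainComplex) (i : ℤ)
  set Hf := (HomologicalComplex.homologyMap (torISC J b Res.cochainComplex).f
    ((i + 1 : ℕ) : ℤ)).hom with hHf
  set Hg := (HomologicalComplex.homologyMap (torISC J b Res.cochainComplex).g (i : ℤ)).hom with hHg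
  set δ := (hS.δ (i : ℤ) _ hij).hom with hδ
  -- (a)
  let Φ₁ : (torISC J b Res.cochainComplex).X₁.homology ((i + 1 : ℕ) : ℤ) ≃ₗ[R]
      (localCohomology (J ⊔ Ideal.span {b}) (i + 1)).obj M := Phi (J ⊔ Ideal.span {b}) Res (i + 1)
  let Φ₂ : (torISC J b Res.cochainComplex).X₂.homology ((i + 1 : ℕ) : ℤ) ≃ₗ[R]
      (localCohomology J (i + 1)).obj M := Phi J Res (i + 1)
  let Φ₂' : (torISC J b Res.cochainComplex).X₂.homology (i : ℤ) ≃ₗ[R]
      (localCohomology J i).obj M := Phi J Res i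
  have hnat : ∀ x, cmp J b M (i + 1) (Φ₁ x) = Φ₂ (Hf x) :=
    fun x => (Phi_natural_le _ Res (i + 1) x).symm
  have hmap : (LinearMap.ker Hf).map Φ₁.toLinearMap = LinearMap.ker (cmp J b M (i + 1)) := by
    ext y
    constructor
    · rintro ⟨x, hx, rfl⟩
      change cmp J b M (i + 1) (Φ₁ x) = 0
      rw [hnat]
      have : Hf x = 0 := hx
      rw [this, map_zero]
    · intro hy
      obtain ⟨x, rfl⟩ := Φ₁.surjective y
      refine ⟨x, ?_, rfl⟩
      change Hf x = 0
      have h2 : cmp J b M (i + 1) (Φ₁ x) = 0 := hy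
      rw [hnat] at h2
      exact Φ₂.injective (h2.trans (map_zero _).symm)
  let ea : LinearMap.ker (cmp J b M (i + 1)) ≃ₗ[R] LinearMap.ker Hf :=
    ((Φ₁.submoduleMap (LinearMap.ker Hf)).trans (LinearEquiv.ofEq _ _ hmap)).symm
  -- (b), (c)
  let eb : LinearMap.ker Hf ≃ₗ[R] (_ ⧸ LinearMap.ker δ) :=
    (LinearEquiv.ofEq _ _ ex1.symm).trans (LinearMap.quotKerEquivRange δ).symm
  let ec : (_ ⧸ LinearMap.ker δ) ≃ₗ[R] (_ ⧸ LinearMap.range Hg) :=
    Submodule.quotEquivOfEq _ _ ex3.symm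
  -- (d)
  have : IsLocalizedModule (Submonoid.powers b) Hg := hloc
  let ε := IsLocalizedModule.linearEquiv (Submonoid.powers b) Hg
    (ℓ ∘ₗ Φ₂'.toLinearMap)
  have hε : (LinearMap.range Hg).map (ε : _ →ₗ[R] L) = LinearMap.range ℓ := by
    ext y
    constructor
    · rintro ⟨_, ⟨x, rfl⟩, rfl⟩
      refine ⟨Φ₂' x, ?_⟩
      exact (IsLocalizedModule.linearEquiv_apply (Submonoid.powers b) Hg
        (ℓ ∘ₗ Φ₂'.toLinearMap) x).symm
    · rintro ⟨x, rfl⟩
      obtain ⟨x', rfl⟩ := Φ₂'.surjective x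
      refine ⟨Hg x', ⟨x', rfl⟩, ?_⟩
      exact IsLocalizedModule.linearEquiv_apply (Submonoid.powers b) Hg
        (ℓ ∘ₗ Φ₂'.toLinearMap) x'
  let ed : (_ ⧸ LinearMap.range Hg) ≃ₗ[R] (L ⧸ LinearMap.range ℓ) :=
    Submodule.Quotient.equiv _ _ ε hε
  exact ⟨ea.trans (eb.trans (ec.trans ed))⟩

end Groth.Agent.Lib.Helper2.LCLes
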