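import Mathlib
import Groth.Agent.Lib.Helper2.LCLes
import Groth.Agent.Lib.Helper2.LCBaseExt

/-!
# Comparison maps `H^i_{I'}(M) → H^i_I(M)`: composition, radical invariance, and the
surjectivity / injectivity criteria in terms of local vanishing.
-/

set_option autoImplicit false
universe u

open CategoryTheory CategoryTheory.Limits Opposite DerCA TensorProduct

namespace Groth.Agent.Lib.Helper2.LCCompare

open Groth.Agent.Lib.helper11.LCKit
  Groth.Agent.Lib.Helper2.LCInj1 Groth.Agent.Lib.Helper2.LCInj3 Groth.Agent.Lib.Helper2.LCCech4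
  Groth.Agent.Lib.Helper2.LCTorI Groth.Agent.Lib.Helper2.LCPhi Groth.Agent.Lib.Helper2.LCLes

variable {R : Type u} [CommRing R]

section Basic

variable {M : ModuleCat.{u} R}

/-- variant of `clsZ_eq_zero_iff` with a flexible index. -/
theorem clsZ_eq_zero_iff' (J : Ideal R) (Res : InjectiveResolution M) (n k : ℕ)
    (x : Res.cochainComplex.X n) (hx : Kills J k x)
    (hd : (Res.cochainComplex.d n (n + 1)).hom x = 0) (m : ℤ) (hm : m + 1 = n) :
    clsZ J Res n k x hx hd = 0 ↔
      ∃ (l : ℕ) (y : Res.cochainComplex.X m), Kills J l y ∧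
        (Res.cochainComplex.d m n).hom y = x := by
  obtain rfl : m = (n : ℤ) - 1 := by omega
  exact clsZ_eq_zero_iff J Res n k x hx hd

theorem HmapOfLE_comp {I I' I'' : Ideal R} (h₁ : I ≤ I') (h₂ : I' ≤ I'') (n : ℕ)
    (x : (localCohomology I'' n).obj M) :
    ((Dual2.HmapOfLE h₁ n).app M).hom (((Dual2.HmapOfLE h₂ n).app M).hom x) =
      ((Dual2.HmapOfLE (h₁.trans h₂) n).app M).hom x := by
  let Res : InjectiveResolution M := injectiveResolution M
  obtain ⟨k, y, hy, hd, rfl⟩ := clsZ_surjective I'' Res n x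
  rw [HmapOfLE_clsZ, HmapOfLE_clsZ, HmapOfLE_clsZ]

theorem HmapOfLE_refl {I : Ideal R} (h : I ≤ I) (n : ℕ) (x : (localCohomology I n).obj M) :
    ((Dual2.HmapOfLE h n).app M).hom x = x := by
  let Res : InjectiveResolution M := injectiveResolution M
  obtain ⟨k, y, hy, hd, rfl⟩ := clsZ_surjective I Res n x
  rw [HmapOfLE_clsZ]

theorem kills_of_pow_le {J J' : Ideal R} {m : ℕ} (hm : J' ^ m ≤ J) {E : Type u} [AddCommGroup E]
    [Module R E] {x : E} {k : ℕ} (hx : Kills J k x) : Kills J' (m * k) x := by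
  intro a ha
  apply hx
  rw [pow_mul] at ha
  exact Ideal.pow_right_mono hm k ha

/-- radical invariance of local cohomology. -/
theorem HmapOfLE_bijective_of_le_radical [IsNoetherianRing R] {J J' : Ideal R} (h : J ≤ J')
    (h' : J' ≤ J.radical) (n : ℕ) :
    Function.Bijective ((Dual2.HmapOfLE h n).app M).hom := by
  let Res : InjectiveResolution M := injectiveResolution M
  obtain ⟨m0, hm0⟩ := Ideal.exists_pow_le_of_le_radical_of_fg h' (IsNoetherian.noetherian J')
  obtain ⟨m, hm, hm1⟩ : ∃ m : ℕ, J' ^ m ≤ J ∧ 1 ≤ m :=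
    ⟨m0 + 1, (Ideal.pow_le_pow_right (Nat.le_succ m0)).trans hm0, by omega⟩
  constructor
  · rw [injective_iff_map_eq_zero]
    intro x hx
    obtain ⟨k, y, hy, hd, rfl⟩ := clsZ_surjective J' Res n x
    rw [HmapOfLE_clsZ, clsZ_eq_zero_iff] at hx
    obtain ⟨l, w, hw, hwy⟩ := hx
    rw [clsZ_eq_zero_iff]
    exact ⟨m * l, w, kills_of_pow_le hm hw, hwy⟩
  · intro x
    obtain ⟨k, y, hy, hd, rfl⟩ := clsZ_surjective J Res n x
    refine ⟨clsZ J' Res n (m * k) y (kills_of_pow_le hm hy) hd, ?_⟩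
    rw [HmapOfLE_clsZ]
    exact clsZ_mono J Res n (Nat.le_mul_of_pos_left k hm1) y hy hd

/-- the comparison map is injective in degree `0`. -/
theorem HmapOfLE_zero_injective {I I' : Ideal R} (h : I ≤ I') :
    Function.Injective ((Dual2.HmapOfLE h 0).app M).hom := by
  let Res : InjectiveResolution M := injectiveResolution M
  rw [injective_iff_map_eq_zero]
  intro x hx
  obtain ⟨k, y, hy, hd, rfl⟩ := clsZ_surjective I' Res 0 x
  rw [HmapOfLE_clsZ, clsZ_eq_zero_iff] at hx
  obtain ⟨l, w, hw, hwy⟩ := hx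
  rw [clsZ_eq_zero_iff]
  have hzero : IsZero (Res.cochainComplex.X (((0 : ℕ) : ℤ) - 1)) :=
    CochainComplex.isZero_of_isStrictlyGE _ 0 _ (by norm_num)
  have hsub : Subsingleton (Res.cochainComplex.X (((0 : ℕ) : ℤ) - 1)) :=
    ModuleCat.subsingleton_of_isZero hzero
  refine ⟨0, w, ?_, hwy⟩
  intro a _
  exact hsub.elim _ _

end Basic

section Local

variable [IsNoetherianRing R]

theorem maximalIdeal_le_radical_map (J p : Ideal R) [p.IsPrime] (hp : p ∈ J.minimalPrimes) :
    IsLocalRing.maximalIdeal (Localization.AtPrime p) ≤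
      (Ideal.map (algebraMap R (Localization.AtPrime p)) J).radical := by
  rw [Ideal.radical_eq_sInf]
  apply le_sInf
  rintro Q ⟨hJQ, hQ⟩
  have hq : (Q.comap (algebraMap R (Localization.AtPrime p))).IsPrime := Ideal.comap_isPrime _ _
  have h1 : J ≤ Q.comap (algebraMap R (Localization.AtPrime p)) := Ideal.map_le_iff_le_comap.1 hJQ
  have h2 : Q.comap (algebraMap R (Localization.AtPrime p)) ≤ p := by
    have hle := IsLocalRing.le_maximalIdeal hQ.ne_top
    calc Q.comap (algebraMap R (Localization.AtPrime p))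
        ≤ (IsLocalRing.maximalIdeal (Localization.AtPrime p)).comap
          (algebraMap R (Localization.AtPrime p)) := Ideal.comap_mono hle
      _ = p := Localization.AtPrime.comap_maximalIdeal
  have h3 : p ≤ Q.comap (algebraMap R (Localization.AtPrime p)) := hp.2 ⟨hq, h1⟩ h2
  have h4 : Q.comap (algebraMap R (Localization.AtPrime p)) = p := le_antisymm h2 h3
  rw [← Localization.AtPrime.map_eq_maximalIdeal]
  calc Ideal.map (algebraMap R (Localization.AtPrime p)) p
      ≤ Ideal.map (algebraMap R (Localization.AtPrime p))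
        (Q.comap (algebraMap R (Localization.AtPrime p))) := Ideal.map_mono h3
    _ = Q := IsLocalization.map_comap p.primeCompl (Localization.AtPrime p) Q

theorem map_le_maximalIdeal (J p : Ideal R) [p.IsPrime] (hJ : J ≤ p) :
    Ideal.map (algebraMap R (Localization.AtPrime p)) J ≤
      IsLocalRing.maximalIdeal (Localization.AtPrime p) := by
  rw [← Localization.AtPrime.map_eq_maximalIdeal]
  exact Ideal.map_mono hJ

/-- if `p` is minimal over `J` and `H^j_{pA_p}(M_p) = 0`, every element of `H^j_J(M)` is killed by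
an element outside `p`. -/
theorem exists_smul_eq_zero_of_minimal (J p : Ideal R) [p.IsPrime] (hp : p ∈ J.minimalPrimes)
    (M : Type u) [AddCommGroup M] [Module R M] (j : ℕ)
    (hv : Subsingleton (LocCoh.H (IsLocalRing.maximalIdeal (Localization.AtPrime p)) j
      (LocalizedModule p.primeCompl M)))
    (x : LocCoh.H J j M) : ∃ g : R, g ∉ p ∧ g • x = 0 := by
  haveI : IsNoetherianRing (Localization.AtPrime p) :=
    IsLocalization.isNoetherianRing p.primeCompl (Localization.AtPrime p) inferInstance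
  haveI : Module.Flat R (Localization.AtPrime p) :=
    IsLocalization.flat (Localization.AtPrime p) p.primeCompl
  obtain ⟨e1⟩ := Groth.Agent.Lib.Helper2.LCBaseExt.H_ext_equiv (R' := Localization.AtPrime p) J M j
  let e2 : (Localization.AtPrime p) ⊗[R] M ≃ₗ[Localization.AtPrime p]
      LocalizedModule p.primeCompl M :=
    (IsLocalizedModule.isBaseChange p.primeCompl (Localization.AtPrime p)
      (LocalizedModule.mkLinearMap p.primeCompl M)).equiv
  let e3 := ((localCohomology (Ideal.map (algebraMap R (Localization.AtPrime p)) J) j).mapIso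
    e2.toModuleIso).toLinearEquiv
  have hbij := HmapOfLE_bijective_of_le_radical
    (M := ModuleCat.of (Localization.AtPrime p) (LocalizedModule p.primeCompl M))
    (map_le_maximalIdeal J p hp.1.2) (maximalIdeal_le_radical_map J p hp) j
  have s1 : Subsingleton (LocCoh.H (Ideal.map (algebraMap R (Localization.AtPrime p)) J) j
      (LocalizedModule p.primeCompl M)) := hbij.surjective.subsingleton
  have s2 : Subsingleton (LocCoh.H (Ideal.map (algebraMap R (Localization.AtPrime p)) J) j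
      ((Localization.AtPrime p) ⊗[R] M)) := e3.toEquiv.subsingleton
  have hsub : Subsingleton ((Localization.AtPrime p) ⊗[R] LocCoh.H J j M) :=
    e1.toEquiv.subsingleton
  haveI hloc : IsLocalizedModule p.primeCompl
      (TensorProduct.mk R (Localization.AtPrime p) (LocCoh.H J j M) 1) :=
    (isLocalizedModule_iff_isBaseChange p.primeCompl (Localization.AtPrime p) _).2
      (TensorProduct.isBaseChange R _ (Localization.AtPrime p))
  have h0 : TensorProduct.mk R (Localization.AtPrime p) (LocCoh.H J j M) 1 x = 0 :=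
    hsub.elim _ _
  obtain ⟨s, hs⟩ := (IsLocalizedModule.eq_zero_iff p.primeCompl _).1 h0
  exact ⟨s, s.2, hs⟩

end Local

section Main

variable [IsNoetherianRing R]

/-- the key step for injectivity: a class of `H^{j+1}_{K+(f)}(M)` dying in `H^{j+1}_K(M)` dies
already in `H^{j+1}_{K+(fg)}(M)` for a suitable `g`. -/
theorem inj_step (K : Ideal R) (f : R) (M : ModuleCat.{u} R) (j : ℕ) (P : R → Prop)
    (hP : ∀ η : (localCohomology K j).obj M, ∃ g, P g ∧ g • η = 0)
    (ξ : (localCohomology (K ⊔ Ideal.span {f}) (j + 1)).obj M)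
    (hξ : ((Dual2.HmapOfLE (le_sup_left : K ≤ K ⊔ Ideal.span {f}) (j + 1)).app M).hom ξ = 0) :
    ∃ g, P g ∧ ∀ hle : K ⊔ Ideal.span {f * g} ≤ K ⊔ Ideal.span {f},
      ((Dual2.HmapOfLE hle (j + 1)).app M).hom ξ = 0 := by
  let Res : InjectiveResolution M := injectiveResolution M
  obtain ⟨k, x, hx, hd, rfl⟩ := clsZ_surjective (K ⊔ Ideal.span {f}) Res (j + 1) ξ
  rw [HmapOfLE_clsZ, clsZ_eq_zero_iff' K Res (j + 1) k x _ hd (j : ℤ) (by push_cast; rfl)] at hξ
  obtain ⟨l, y, hy, hyx⟩ := hξ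
  obtain ⟨hxK, hfx⟩ := kills_of_sup hx
  have hc : Kills K l (f ^ k • y) := fun a ha => by rw [smul_comm, hy a ha, smul_zero]
  have hdc : (Res.cochainComplex.d (j : ℕ) ((j : ℕ) + 1)).hom (f ^ k • y) = 0 := by
    have h0 : (Res.cochainComplex.d (j : ℤ) ((j + 1 : ℕ) : ℤ)).hom (f ^ k • y) = 0 := by
      rw [map_smul, hyx, hfx]
    exact h0
  obtain ⟨g, hPg, hgη⟩ := hP (clsZ K Res j l (f ^ k • y) hc hdc)
  refine ⟨g, hPg, ?_⟩
  intro hle
  have hgc : Kills K l (g • f ^ k • y) := fun a ha => by rw [smul_comm, hc a ha, smul_zero]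
  have hdgc : (Res.cochainComplex.d (j : ℕ) ((j : ℕ) + 1)).hom (g • f ^ k • y) = 0 := by
    rw [map_smul, hdc, smul_zero]
  rw [← clsZ_smul K Res j l g _ hc hgc hdc hdgc, clsZ_eq_zero_iff] at hgη
  obtain ⟨l', w, hw, hwd⟩ := hgη
  have hw' : f • g ^ k • w ∈ torSubI K (Res.cochainComplex.X ((j : ℤ) - 1)) :=
    ⟨l', fun a ha => by rw [smul_comm a f, smul_comm a (g ^ k), hw a ha, smul_zero, smul_zero]⟩
  obtain ⟨w'', ⟨l'', hw''⟩, c, hcw⟩ := divI_cochainComplex Res K (f * g) ((j : ℤ) - 1)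
    (f • g ^ k • w) hw' (k + 1)
  -- the corrected primitive
  set y' := y - (Res.cochainComplex.d ((j : ℤ) - 1) j).hom w'' with hy'
  have hy'K : Kills K (max l l'') y' := by
    intro a ha
    rw [hy', smul_sub, hy.mono K (le_max_left l l'') a ha, ← map_smul,
      hw''.mono K (le_max_right l l'') a ha, map_zero, sub_zero]
  have hdw' : (Res.cochainComplex.d ((j : ℤ) - 1) j).hom (f • g ^ k • w) = (f * g) ^ (k + 1) • y := by
    rw [map_smul, map_smul, hwd, smul_smul, smul_smul, smul_smul]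
    congr 1
    ring
  have hby' : (f * g) ^ (k + 1 + c) • y' = 0 := by
    rw [hy', smul_sub, ← map_smul, hcw, map_smul, hdw', pow_add, mul_smul, smul_comm, sub_self]
  have hdy' : (Res.cochainComplex.d (j : ℤ) ((j + 1 : ℕ) : ℤ)).hom y' = x := by
    rw [hy', map_sub, hyx, ← LinearMap.comp_apply, ← ModuleCat.hom_comp,
      HomologicalComplex.d_comp_d]
    simp
  rw [HmapOfLE_clsZ, clsZ_eq_zero_iff' (K ⊔ Ideal.span {f * g}) Res (j + 1) k x _ hd (j : ℤ)
    (by push_cast; rfl)]
  exact ⟨max l l'' + (k + 1 + c), y', kills_sup hy'K hby', hdy'⟩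

variable {I I' : Ideal R} (h : I ≤ I') (M : Type u) [AddCommGroup M] [Module R M] (i : ℕ)

theorem HmapOfLE_surjective
    (hyp : ∀ p : PrimeSpectrum R, I ≤ p.asIdeal → ¬ I' ≤ p.asIdeal →
      Subsingleton (LocCoh.H (IsLocalRing.maximalIdeal (Localization.AtPrime p.asIdeal)) i
        (LocalizedModule p.asIdeal.primeCompl M))) :
    Function.Surjective ((Dual2.HmapOfLE h i).app (ModuleCat.of R M)).hom := by
  intro ξ
  let S : Set (Ideal R) := {K | ∃ (h1 : I ≤ K) (_ : K ≤ I'),
    ξ ∈ LinearMap.range ((Dual2.HmapOfLE h1 i).app (ModuleCat.of R M)).hom}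
  have hI : I ∈ S := ⟨le_rfl, h, ξ, HmapOfLE_refl _ i ξ⟩
  obtain ⟨K, hK, hmax⟩ := WellFounded.has_min (wellFounded_gt (α := Ideal R)) S ⟨I, hI⟩
  obtain ⟨h1, h2, ξ'', hξ''⟩ := hK
  have hrad : I' ≤ K.radical := by
    by_contra hcon
    rw [← Ideal.sInf_minimalPrimes, le_sInf_iff] at hcon
    push Not at hcon
    obtain ⟨p, hp, hIp⟩ := hcon
    haveI : p.IsPrime := hp.1.1
    have hv := hyp ⟨p, hp.1.1⟩ (h1.trans hp.1.2) hIp
    obtain ⟨g, hg, hgx⟩ := exists_smul_eq_zero_of_minimal K p hp M i hv ξ''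
    obtain ⟨f, hfI, hfp⟩ := SetLike.not_le_iff_exists.1 hIp
    have hb : f * g ∉ p := fun hmem => (Ideal.IsPrime.mem_or_mem ‹p.IsPrime› hmem).elim hfp hg
    have hbI : f * g ∈ I' := Ideal.mul_mem_right g I' hfI
    have hrange : ξ'' ∈ LinearMap.range (cmp K (f * g) (ModuleCat.of R M) i) := by
      rw [mem_range_cmp_iff]
      refine ⟨1, ?_⟩
      rw [pow_one, mul_smul, hgx, smul_zero]
    obtain ⟨ξ3, hξ3⟩ := hrange
    have hK' : K ⊔ Ideal.span {f * g} ∈ S := by
      refine ⟨h1.trans le_sup_left, sup_le h2 ((Ideal.span_singleton_le_iff_mem _).2 hbI), ξ3, ?_⟩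
      rw [← HmapOfLE_comp h1 le_sup_left, ← hξ'']
      exact congrArg _ hξ3
    have hlt : K < K ⊔ Ideal.span {f * g} := by
      refine lt_of_le_of_ne le_sup_left ?_
      intro heq
      apply hb
      apply hp.1.2
      rw [heq]
      exact Ideal.mem_sup_right (Ideal.subset_span rfl)
    exact hmax _ hK' hlt
  obtain ⟨ξ', hξ'⟩ := (HmapOfLE_bijective_of_le_radical h2 hrad i).surjective ξ''
  refine ⟨ξ', ?_⟩
  rw [← hξ'', ← hξ']
  exact (HmapOfLE_comp h1 h2 i ξ').symm

theorem HmapOfLE_injective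
    (hyp : ∀ p : PrimeSpectrum R, I ≤ p.asIdeal → ¬ I' ≤ p.asIdeal → ∀ j : ℕ, j + 1 = i →
      Subsingleton (LocCoh.H (IsLocalRing.maximalIdeal (Localization.AtPrime p.asIdeal)) j
        (LocalizedModule p.asIdeal.primeCompl M))) :
    Function.Injective ((Dual2.HmapOfLE h i).app (ModuleCat.of R M)).hom := by
  rcases i with _ | j
  · exact HmapOfLE_zero_injective h
  rw [injective_iff_map_eq_zero]
  intro ξ hξ
  let S : Set (Ideal R) := {K | ∃ (_ : I ≤ K) (h2 : K ≤ I'),
    ((Dual2.HmapOfLE h2 (j + 1)).app (ModuleCat.of R M)).hom ξ = 0}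
  have hI : I ∈ S := ⟨le_rfl, h, hξ⟩
  obtain ⟨K, hK, hmax⟩ := WellFounded.has_min (wellFounded_gt (α := Ideal R)) S ⟨I, hI⟩
  obtain ⟨h1, h2, hKξ⟩ := hK
  have hrad : I' ≤ K.radical := by
    by_contra hcon
    rw [← Ideal.sInf_minimalPrimes, le_sInf_iff] at hcon
    push Not at hcon
    obtain ⟨p, hp, hIp⟩ := hcon
    haveI : p.IsPrime := hp.1.1
    obtain ⟨f, hfI, hfp⟩ := SetLike.not_le_iff_exists.1 hIp
    have hKf : K ⊔ Ideal.span {f} ≤ I' := sup_le h2 ((Ideal.span_singleton_le_iff_mem _).2 hfI)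
    have hξ3z : ((Dual2.HmapOfLE (le_sup_left : K ≤ K ⊔ Ideal.span {f}) (j + 1)).app
        (ModuleCat.of R M)).hom
        (((Dual2.HmapOfLE hKf (j + 1)).app (ModuleCat.of R M)).hom ξ) = 0 := by
      rw [HmapOfLE_comp]
      exact hKξ
    have hv := hyp ⟨p, hp.1.1⟩ (h1.trans hp.1.2) hIp j rfl
    obtain ⟨g, hg, hgz⟩ := inj_step K f (ModuleCat.of R M) j (fun g => g ∉ p)
      (fun η => exists_smul_eq_zero_of_minimal K p hp M j hv η) _ hξ3z
    have hle : K ⊔ Ideal.span {f * g} ≤ K ⊔ Ideal.span {f} :=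
      sup_le_sup_left (Ideal.span_singleton_le_span_singleton.2 (dvd_mul_right f g)) K
    have hz := hgz hle
    rw [HmapOfLE_comp] at hz
    have hb : f * g ∉ p := fun hmem => (Ideal.IsPrime.mem_or_mem ‹p.IsPrime› hmem).elim hfp hg
    have hK' : K ⊔ Ideal.span {f * g} ∈ S := ⟨h1.trans le_sup_left, hle.trans hKf, hz⟩
    have hlt : K < K ⊔ Ideal.span {f * g} := by
      refine lt_of_le_of_ne le_sup_left ?_
      intro heq
      apply hb
      apply hp.1.2
      rw [heq]
      exact Ideal.mem_sup_right (Ideal.subset_span rfl)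
    exact hmax _ hK' hlt
  exact (HmapOfLE_bijective_of_le_radical h2 hrad (j + 1)).injective (hKξ.trans (map_zero _).symm)

end Main

end Groth.Agent.Lib.Helper2.LCCompare
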