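import Mathlib
import Groth.Agent.Lib.Helper2.LCCompare

/-!
# Relative heights of primes and a saturation lemma (helper2)

* `relHt p q` : the height of `q/p` in `R/p`.
* `relHt_eq_orderHeight`, `one_le_relHt`, `relHt_add_le`, `relHt_ne_top`.
* `exists_mul_pow_le_of_minimal` : if `q` is minimal over `J`, then `t₀ q^k ⊆ J` for some `t₀ ∉ q`.
-/

set_option autoImplicit false

namespace Groth.Agent.Lib.Helper2.FinDim

universe u

section Order

variable {X : Type*} [PartialOrder X]

/-- chains below `b` in `S` concatenate with chains from `b` in `T`. -/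
theorem height_add_le_of_subset (S T : Set X) (hTS : T ⊆ S) (b : X) (hbS : b ∈ S)
    (hbT : ∀ x ∈ T, b ≤ x) (n : ℕ) :
    ∀ (c : X) (hc : c ∈ T), (n : ℕ∞) ≤ Order.height (⟨c, hc⟩ : T) →
      Order.height (⟨b, hbS⟩ : S) + n ≤ Order.height (⟨c, hTS hc⟩ : S) := by
  induction n with
  | zero =>
    intro c hc _
    rw [Nat.cast_zero, add_zero]
    exact Order.height_mono (show (⟨b, hbS⟩ : S) ≤ ⟨c, hTS hc⟩ from hbT c hc)
  | succ n ih =>
    intro c hc h
    obtain ⟨s, hs, hlen⟩ := Order.exists_series_of_le_height _ h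
    let i : Fin (s.length + 1) := ⟨n, by omega⟩
    have hi : i < Fin.last s.length := by
      rw [Fin.lt_def]
      change n < s.length
      omega
    have hlt : s i < ⟨c, hc⟩ := by
      rw [← hs]
      exact s.strictMono hi
    have hn : (n : ℕ∞) ≤ Order.height (s i) := Order.index_le_height s i
    have h1 := ih (s i).1 (s i).2 hn
    have hlt' : (⟨(s i).1, hTS (s i).2⟩ : S) < ⟨c, hTS hc⟩ := hlt
    have h2 := Order.height_add_one_le hlt'
    calc Order.height (⟨b, hbS⟩ : S) + ((n + 1 : ℕ) : ℕ∞)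
        = Order.height (⟨b, hbS⟩ : S) + n + 1 := by rw [Nat.cast_add, Nat.cast_one, add_assoc]
      _ ≤ Order.height (⟨(s i).1, hTS (s i).2⟩ : S) + 1 := add_le_add h1 le_rfl
      _ ≤ _ := h2

end Order

section RelHt

variable {R : Type u} [CommRing R]

/-- the height of `q/p` in `R/p`. -/
noncomputable def relHt (p q : Ideal R) : ℕ∞ := (q.map (Ideal.Quotient.mk p)).height

theorem relHt_eq_orderHeight (p q : Ideal R) [hp : p.IsPrime] [hq : q.IsPrime] (hpq : p ≤ q) :
    relHt p q = Order.height (⟨⟨q, hq⟩, (PrimeSpectrum.mem_zeroLocus _ _).2 hpq⟩ :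
      PrimeSpectrum.zeroLocus (p : Set R)) := by
  have hker : RingHom.ker (Ideal.Quotient.mk p) ≤ q := by rw [Ideal.mk_ker]; exact hpq
  have hprime : (q.map (Ideal.Quotient.mk p)).IsPrime :=
    Ideal.map_isPrime_of_surjective Ideal.Quotient.mk_surjective hker
  let t₀ : PrimeSpectrum (R ⧸ p) := ⟨q.map (Ideal.Quotient.mk p), hprime⟩
  have h1 : relHt p q = Order.height t₀ := PrimeSpectrum.height_eq_orderHeight t₀
  have h2 : Order.height (p.primeSpectrumQuotientOrderIsoZeroLocus t₀) = Order.height t₀ :=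
    Order.height_orderIso _ _
  have h3 : p.primeSpectrumQuotientOrderIsoZeroLocus t₀ =
      ⟨⟨q, hq⟩, (PrimeSpectrum.mem_zeroLocus _ _).2 hpq⟩ := by
    apply Subtype.ext
    apply PrimeSpectrum.ext
    change (q.map (Ideal.Quotient.mk p)).comap (Ideal.Quotient.mk p) = q
    rw [Ideal.comap_map_of_surjective _ Ideal.Quotient.mk_surjective, ← RingHom.ker_eq_comap_bot,
      sup_eq_left]
    exact hker
  rw [h1, ← h2, h3]

theorem relHt_ne_top [IsNoetherianRing R] (p q : Ideal R) [hp : p.IsPrime] [hq : q.IsPrime]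
    (hpq : p ≤ q) : relHt p q ≠ ⊤ := by
  have hker : RingHom.ker (Ideal.Quotient.mk p) ≤ q := by rw [Ideal.mk_ker]; exact hpq
  have hprime : (q.map (Ideal.Quotient.mk p)).IsPrime :=
    Ideal.map_isPrime_of_surjective Ideal.Quotient.mk_surjective hker
  exact Ideal.height_ne_top hprime.ne_top

theorem one_le_relHt (p q : Ideal R) [hp : p.IsPrime] [hq : q.IsPrime] (hpq : p < q) :
    1 ≤ relHt p q := by
  rw [relHt_eq_orderHeight p q hpq.le]
  have hlt : (⟨⟨p, hp⟩, (PrimeSpectrum.mem_zeroLocus _ _).2 le_rfl⟩ :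
      PrimeSpectrum.zeroLocus (p : Set R)) < ⟨⟨q, hq⟩, (PrimeSpectrum.mem_zeroLocus _ _).2 hpq.le⟩ :=
    hpq
  have := Order.height_add_one_le hlt
  exact le_trans (le_add_self) this

theorem relHt_add_le [IsNoetherianRing R] (p t q : Ideal R) [hp : p.IsPrime] [ht : t.IsPrime]
    [hq : q.IsPrime] (hpt : p ≤ t) (htq : t ≤ q) : relHt p t + relHt t q ≤ relHt p q := by
  obtain ⟨n, hn⟩ := ENat.ne_top_iff_exists.1 (relHt_ne_top t q htq)
  rw [relHt_eq_orderHeight p t hpt, relHt_eq_orderHeight p q (hpt.trans htq), ← hn]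
  have hTS : PrimeSpectrum.zeroLocus (t : Set R) ⊆ PrimeSpectrum.zeroLocus (p : Set R) :=
    PrimeSpectrum.zeroLocus_anti_mono hpt
  refine height_add_le_of_subset (PrimeSpectrum.zeroLocus (p : Set R))
    (PrimeSpectrum.zeroLocus (t : Set R)) hTS ⟨t, ht⟩ ((PrimeSpectrum.mem_zeroLocus _ _).2 hpt)
    (fun x hx => (PrimeSpectrum.mem_zeroLocus _ _).1 hx) n ⟨q, hq⟩
    ((PrimeSpectrum.mem_zeroLocus _ _).2 htq) ?_
  rw [hn, relHt_eq_orderHeight t q htq]

end RelHt

section Sat

variable {R : Type u} [CommRing R] [IsNoetherianRing R]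

open Groth.Agent.Lib.Helper2.LCCompare

/-- if `q` is minimal over `J`, then `t₀ q^k ⊆ J` for some `t₀ ∉ q`. -/
theorem exists_mul_pow_le_of_minimal (J q : Ideal R) [hq : q.IsPrime] (hmin : q ∈ J.minimalPrimes) :
    ∃ t₀ : R, t₀ ∉ q ∧ ∃ k : ℕ, ∀ c ∈ q ^ k, t₀ * c ∈ J := by
  classical
  haveI : IsNoetherianRing (Localization.AtPrime q) :=
    IsLocalization.isNoetherianRing q.primeCompl (Localization.AtPrime q) inferInstance
  have h1 := maximalIdeal_le_radical_map J q hmin
  obtain ⟨k, hk⟩ := Ideal.exists_pow_le_of_le_radical_of_fg h1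
    (IsNoetherian.noetherian (IsLocalRing.maximalIdeal (Localization.AtPrime q)))
  obtain ⟨s, hs⟩ := (IsNoetherian.noetherian (q ^ k) : (q ^ k).FG)
  have hs' : Ideal.span (s : Set R) = q ^ k := hs
  have hmap : Ideal.map (algebraMap R (Localization.AtPrime q)) q =
      IsLocalRing.maximalIdeal (Localization.AtPrime q) :=
    Localization.AtPrime.map_eq_maximalIdeal
  have hgen : ∀ c ∈ s, ∃ t : R, t ∉ q ∧ t * c ∈ J := by
    intro c hc
    have hcq : c ∈ q ^ k := hs' ▸ Ideal.subset_span hc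
    have h2 : algebraMap R (Localization.AtPrime q) c ∈
        Ideal.map (algebraMap R (Localization.AtPrime q)) J := by
      apply hk
      rw [← hmap, ← Ideal.map_pow]
      exact Ideal.mem_map_of_mem _ hcq
    obtain ⟨⟨j, σ⟩, hjσ⟩ := (IsLocalization.mem_map_algebraMap_iff q.primeCompl
      (Localization.AtPrime q)).1 h2
    rw [← map_mul] at hjσ
    obtain ⟨u, hu⟩ := (IsLocalization.eq_iff_exists q.primeCompl (Localization.AtPrime q)).1 hjσ
    refine ⟨u * σ, fun hh => (hq.mem_or_mem hh).elim u.2 σ.2, ?_⟩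
    have e : (u : R) * σ * c = u * (c * σ) := by ring
    rw [e, hu]
    exact J.mul_mem_left _ j.2
  choose! τ hτq hτJ using hgen
  refine ⟨∏ c ∈ s, τ c, ?_, k, ?_⟩
  · intro hh
    obtain ⟨c, hc, hcq⟩ := (Ideal.IsPrime.prod_mem_iff).1 hh
    exact hτq c hc hcq
  · intro c hc
    rw [← hs'] at hc
    refine Submodule.span_induction (p := fun c _ => (∏ c ∈ s, τ c) * c ∈ J) ?_ ?_ ?_ ?_ hc
    · intro c hc
      obtain ⟨d, hd⟩ := Finset.dvd_prod_of_mem τ hc
      rw [hd]
      have e : τ c * d * c = d * (τ c * c) := by ring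
      rw [e]
      exact J.mul_mem_left _ (hτJ c hc)
    · rw [mul_zero]
      exact J.zero_mem
    · intro x y _ _ hx hy
      rw [mul_add]
      exact J.add_mem hx hy
    · intro a x _ hx
      rw [smul_eq_mul, mul_left_comm]
      exact J.mul_mem_left _ hx

end Sat

end Groth.Agent.Lib.Helper2.FinDim
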