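import Mathlib
import Groth.Agent.Lib.Helper2.LCLes
import Groth.Agent.Lib.Helper2.LCCompare
import Groth.Agent.Lib.helper11.LCTorsion

/-!
# Annihilation of local cohomology up to elements outside a prime (helper2)

* `locAnn q X` : the ideal of `c` such that every element of `X` is killed by `t * c` for some
  `t ∉ q`.
* `Psi b a q M r` : a fixed power of `b` lies in `locAnn q (H^i_a(M))` for all `i ≤ r`.
* `Psi.quot`, `Psi.quot_regular`, `Psi.sup_span`, `Psi.sup` : propagation along the long exact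
  sequences.
-/

set_option autoImplicit false

namespace Groth.Agent.Lib.Helper2.LocAnn

universe u

open CategoryTheory Groth.Agent.Lib.helper11.LCKit Groth.Agent.Lib.Helper2.LCLes
  Groth.Agent.Lib.Helper2.LCCompare

section Basic

variable {R : Type u} [CommRing R]

/-- the ideal of elements killing `X` up to elements outside the prime `q`. -/
def locAnn (q : Ideal R) [hq : q.IsPrime] (X : Type*) [AddCommGroup X] [Module R X] : Ideal R where
  carrier := {c | ∀ ξ : X, ∃ t, t ∉ q ∧ (t * c) • ξ = 0}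
  add_mem' := by
    intro c c' hc hc' ξ
    obtain ⟨t, ht, h⟩ := hc ξ
    obtain ⟨t', ht', h'⟩ := hc' ξ
    refine ⟨t * t', fun hh => (hq.mem_or_mem hh).elim ht ht', ?_⟩
    have e : t * t' * (c + c') = t' * (t * c) + t * (t' * c') := by ring
    rw [e, add_smul, mul_smul, h, smul_zero, mul_smul, h', smul_zero, add_zero]
  zero_mem' := fun ξ => ⟨1, fun h => hq.ne_top ((Ideal.eq_top_iff_one q).2 h), by
    rw [mul_zero, zero_smul]⟩
  smul_mem' := by
    intro a c hc ξ
    obtain ⟨t, ht, h⟩ := hc ξ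
    refine ⟨t, ht, ?_⟩
    rw [smul_eq_mul, mul_left_comm, mul_smul, h, smul_zero]

variable (q : Ideal R) [hq : q.IsPrime]

theorem mem_locAnn {X : Type*} [AddCommGroup X] [Module R X] {c : R} :
    c ∈ locAnn q X ↔ ∀ ξ : X, ∃ t, t ∉ q ∧ (t * c) • ξ = 0 := Iff.rfl

theorem mem_locAnn_of_mul {X : Type*} [AddCommGroup X] [Module R X] {c t : R} (ht : t ∉ q)
    (h : ∀ ξ : X, (t * c) • ξ = 0) : c ∈ locAnn q X := fun ξ => ⟨t, ht, h ξ⟩

theorem mem_locAnn_of_smul {X : Type*} [AddCommGroup X] [Module R X] {c : R}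
    (h : ∀ ξ : X, c • ξ = 0) : c ∈ locAnn q X :=
  fun ξ => ⟨1, fun h1 => hq.ne_top ((Ideal.eq_top_iff_one q).2 h1), by rw [one_mul, h]⟩

variable {A B C : Type*} [AddCommGroup A] [Module R A] [AddCommGroup B] [Module R B]
  [AddCommGroup C] [Module R C]

theorem locAnn_exact (f : A →ₗ[R] B) (g : B →ₗ[R] C) (hex : ∀ y, g y = 0 → ∃ x, f x = y) :
    locAnn q A * locAnn q C ≤ locAnn q B := by
  rw [Ideal.mul_le]
  intro c hc c' hc' ξ
  obtain ⟨t', ht', h'⟩ := hc' (g ξ)
  rw [← map_smul] at h'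
  obtain ⟨x, hx⟩ := hex _ h'
  obtain ⟨t, ht, h⟩ := hc x
  refine ⟨t * t', fun hh => (hq.mem_or_mem hh).elim ht ht', ?_⟩
  have e : t * t' * (c * c') = (t * c) * (t' * c') := by ring
  rw [e, mul_smul, ← hx, ← map_smul, h, map_zero]

theorem locAnn_le_of_injective (f : A →ₗ[R] B) (hf : Function.Injective f) :
    locAnn q B ≤ locAnn q A := by
  intro c hc ξ
  obtain ⟨t, ht, h⟩ := hc (f ξ)
  refine ⟨t, ht, hf ?_⟩
  rw [map_smul, h, map_zero]

theorem locAnn_le_of_surjective (f : A →ₗ[R] B) (hf : Function.Surjective f) :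
    locAnn q A ≤ locAnn q B := by
  intro c hc ξ
  obtain ⟨x, rfl⟩ := hf ξ
  obtain ⟨t, ht, h⟩ := hc x
  exact ⟨t, ht, by rw [← map_smul, h, map_zero]⟩

end Basic

section LES

variable {R : Type u} [CommRing R] (a : Ideal R)

/-- functoriality of `H^i_a` on linear maps. -/
noncomputable def Hmap (i : ℕ) {M N : Type u} [AddCommGroup M] [Module R M] [AddCommGroup N]
    [Module R N] (f : M →ₗ[R] N) : LocCoh.H a i M →ₗ[R] LocCoh.H a i N :=
  ((localCohomology a i).map (ModuleCat.ofHom f)).hom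

/-- the long exact sequence attached to a short exact sequence of modules. -/
theorem les {M₁ M₂ M₃ : Type u} [AddCommGroup M₁] [Module R M₁] [AddCommGroup M₂] [Module R M₂]
    [AddCommGroup M₃] [Module R M₃] (f : M₁ →ₗ[R] M₂) (g : M₂ →ₗ[R] M₃)
    (hf : Function.Injective f) (hg : Function.Surjective g) (hex : Function.Exact f g) (i : ℕ) :
    (∀ x₂ : LocCoh.H a i M₂, Hmap a i g x₂ = 0 → ∃ x₁, Hmap a i f x₁ = x₂) ∧
    ∃ δ : LocCoh.H a i M₃ →ₗ[R] LocCoh.H a (i + 1) M₁,
      (∀ x₃, δ x₃ = 0 → ∃ x₂, Hmap a i g x₂ = x₃) ∧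
      (∀ x₁, Hmap a (i + 1) f x₁ = 0 → ∃ x₃, δ x₃ = x₁) := by
  let S : ShortComplex (ModuleCat.{u} R) :=
    ModuleCat.shortComplexOfCompEqZero f g hex.linearMap_comp_eq_zero
  have hS : S.ShortExact := ModuleCat.shortComplex_shortExact S hex hf hg
  refine ⟨fun x₂ h => exact₂ a i hS x₂ h, (δ a i hS).hom, fun x₃ h => exact₃ a i hS x₃ h,
    fun x₁ h => exact₁ a i hS x₁ h⟩

/-- `H^0_a` is left exact. -/
theorem Hmap_zero_injective {M₁ M₂ : Type u} [AddCommGroup M₁] [Module R M₁] [AddCommGroup M₂]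
    [Module R M₂] (f : M₁ →ₗ[R] M₂) (hf : Function.Injective f) :
    Function.Injective (Hmap a 0 f) := by
  have hex : Function.Exact f (LinearMap.range f).mkQ := LinearMap.exact_map_mkQ_range f
  let S : ShortComplex (ModuleCat.{u} R) :=
    ModuleCat.shortComplexOfCompEqZero f (LinearMap.range f).mkQ hex.linearMap_comp_eq_zero
  have hS : S.ShortExact :=
    ModuleCat.shortComplex_shortExact S hex hf (Submodule.mkQ_surjective _)
  exact map_f_injective_zero a hS

/-- an element killing `M` kills `H^i_a(M)`. -/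
theorem smul_H_eq_zero {M : Type u} [AddCommGroup M] [Module R M] (c : R)
    (h : ∀ m : M, c • m = 0) (i : ℕ) (ξ : LocCoh.H a i M) : c • ξ = 0 := by
  rw [smul_eq_map]
  have h0 : c • 𝟙 (ModuleCat.of R M) = 0 := by
    ext m
    exact h m
  rw [h0, Functor.map_zero]
  rfl

end LES

section Psi

variable {R : Type u} [CommRing R]

/-- a fixed power of `b` kills `H^i_a(M)`, `i ≤ r`, up to elements outside `q`. -/
def Psi (b a q : Ideal R) [q.IsPrime] (M : Type u) [AddCommGroup M] [Module R M] (r : ℕ) : Prop :=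
  ∃ n : ℕ, ∀ i, i ≤ r → b ^ n ≤ locAnn q (LocCoh.H a i M)

variable {b a q : Ideal R} [hq : q.IsPrime] {M : Type u} [AddCommGroup M] [Module R M] {r : ℕ}

theorem Psi.mono (h : Psi b a q M r) {r' : ℕ} (hr : r' ≤ r) : Psi b a q M r' := by
  obtain ⟨n, hn⟩ := h
  exact ⟨n, fun i hi => hn i (hi.trans hr)⟩

/-- quotient by a submodule killed, up to `t₀ ∉ q`, by a power of `b`. -/
theorem Psi.quot (T : Submodule R M) (t₀ : R) (ht₀ : t₀ ∉ q) (k : ℕ)
    (hT : ∀ c ∈ b ^ k, ∀ z ∈ T, (t₀ * c) • z = 0) (h : Psi b a q M r) :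
    Psi b a q (M ⧸ T) r := by
  obtain ⟨n, hn⟩ := h
  refine ⟨n + k, fun i hi => ?_⟩
  obtain ⟨-, δ, h3, -⟩ := les a T.subtype T.mkQ T.injective_subtype (Submodule.mkQ_surjective T)
    (LinearMap.exact_subtype_mkQ T) i
  have hk : b ^ k ≤ locAnn q (LocCoh.H a (i + 1) T) := by
    intro c hc
    refine mem_locAnn_of_mul q ht₀ (fun ξ => ?_)
    exact smul_H_eq_zero a (t₀ * c) (fun z => Subtype.ext (hT c hc z.1 z.2)) (i + 1) ξ
  calc b ^ (n + k) = b ^ n * b ^ k := pow_add b n k
    _ ≤ locAnn q (LocCoh.H a i M) * locAnn q (LocCoh.H a (i + 1) T) :=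
        Ideal.mul_mono (hn i hi) hk
    _ ≤ locAnn q (LocCoh.H a i (M ⧸ T)) := locAnn_exact q (Hmap a i T.mkQ) δ h3

/-- quotient by a regular element. -/
theorem Psi.quot_regular (y : R) (hy : IsSMulRegular M y) (N : Submodule R M)
    (hN : ∀ z, z ∈ N ↔ ∃ w, y • w = z) (h : Psi b a q M (r + 1)) : Psi b a q (M ⧸ N) r := by
  obtain ⟨n, hn⟩ := h
  refine ⟨n + n, fun i hi => ?_⟩
  have hex : Function.Exact (LinearMap.lsmul R M y) N.mkQ := by
    intro z
    rw [Submodule.mkQ_apply, Submodule.Quotient.mk_eq_zero, hN]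
    rfl
  obtain ⟨-, δ, h3, -⟩ := les a (LinearMap.lsmul R M y) N.mkQ hy (Submodule.mkQ_surjective N) hex i
  calc b ^ (n + n) = b ^ n * b ^ n := pow_add b n n
    _ ≤ locAnn q (LocCoh.H a i M) * locAnn q (LocCoh.H a (i + 1) M) :=
        Ideal.mul_mono (hn i (by omega)) (hn (i + 1) (by omega))
    _ ≤ locAnn q (LocCoh.H a i (M ⧸ N)) := locAnn_exact q (Hmap a i N.mkQ) δ h3

theorem locAnn_le_localizedModule (S : Submonoid R) (X : Type u) [AddCommGroup X] [Module R X] :
    locAnn q X ≤ locAnn q (LocalizedModule S X) := by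
  intro c hc ξ
  induction ξ using LocalizedModule.induction_on with
  | h m s =>
    obtain ⟨t, ht, h⟩ := hc m
    refine ⟨t, ht, ?_⟩
    rw [LocalizedModule.smul'_mk, h, LocalizedModule.zero_mk]

variable [IsNoetherianRing R]

/-- enlarging the supporting ideal by one element. -/
theorem Psi.sup_span (x : R) (h : Psi b a q M r) : Psi b (a ⊔ Ideal.span {x}) q M r := by
  obtain ⟨n, hn⟩ := h
  refine ⟨n + n, fun i hi => ?_⟩
  rcases i with _ | j
  · refine (Ideal.pow_le_pow_right (Nat.le_add_right n n)).trans ((hn 0 hi).trans ?_)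
    exact locAnn_le_of_injective q (cmp a x (ModuleCat.of R M) 0)
      (HmapOfLE_zero_injective (M := ModuleCat.of R M) le_sup_left)
  · obtain ⟨e⟩ := ker_cmp_equiv a x (ModuleCat.of R M) j
      (LocalizedModule.mkLinearMap (Submonoid.powers x) (LocCoh.H a j M))
    have hL : locAnn q (LocCoh.H a j M) ≤
        locAnn q (LocalizedModule (Submonoid.powers x) (LocCoh.H a j M)) :=
      locAnn_le_localizedModule (q := q) (Submonoid.powers x) (LocCoh.H a j M)
    have hQ : locAnn q (LocalizedModule (Submonoid.powers x) (LocCoh.H a j M)) ≤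
        locAnn q (LocalizedModule (Submonoid.powers x) (LocCoh.H a j M) ⧸
          LinearMap.range (LocalizedModule.mkLinearMap (Submonoid.powers x) (LocCoh.H a j M))) :=
      locAnn_le_of_surjective q (Submodule.mkQ _) (Submodule.mkQ_surjective _)
    have hK : locAnn q (LocalizedModule (Submonoid.powers x) (LocCoh.H a j M) ⧸
          LinearMap.range (LocalizedModule.mkLinearMap (Submonoid.powers x) (LocCoh.H a j M))) ≤
        locAnn q (LinearMap.ker (cmp a x (ModuleCat.of R M) (j + 1))) :=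
      locAnn_le_of_surjective q e.symm.toLinearMap e.symm.surjective
    have h1 : b ^ n ≤ locAnn q (LinearMap.ker (cmp a x (ModuleCat.of R M) (j + 1))) :=
      (hn j (by omega)).trans (hL.trans (hQ.trans hK))
    calc b ^ (n + n) = b ^ n * b ^ n := pow_add b n n
      _ ≤ locAnn q (LinearMap.ker (cmp a x (ModuleCat.of R M) (j + 1))) *
            locAnn q (LocCoh.H a (j + 1) M) := Ideal.mul_mono h1 (hn (j + 1) hi)
      _ ≤ locAnn q (LocCoh.H (a ⊔ Ideal.span {x}) (j + 1) M) :=
          locAnn_exact q (LinearMap.ker (cmp a x (ModuleCat.of R M) (j + 1))).subtype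
            (cmp a x (ModuleCat.of R M) (j + 1)) (fun y hy => ⟨⟨y, hy⟩, rfl⟩)

theorem Psi.sup_finset (s : Finset R) (h : Psi b a q M r) :
    Psi b (a ⊔ Ideal.span (s : Set R)) q M r := by
  classical
  induction s using Finset.induction_on with
  | empty =>
    rw [Finset.coe_empty, Ideal.span_empty, sup_bot_eq]
    exact h
  | insert x s _ ih =>
    have e : a ⊔ Ideal.span ((insert x s : Finset R) : Set R) =
        (a ⊔ Ideal.span (s : Set R)) ⊔ Ideal.span {x} := by
      rw [Finset.coe_insert, Ideal.span_insert, sup_assoc, sup_comm (Ideal.span {x})]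
    rw [e]
    exact ih.sup_span x

/-- enlarging the supporting ideal. -/
theorem Psi.of_le {a' : Ideal R} (haa' : a ≤ a') (h : Psi b a q M r) : Psi b a' q M r := by
  obtain ⟨s, hs⟩ := (IsNoetherian.noetherian a' : a'.FG)
  have hs' : Ideal.span (s : Set R) = a' := hs
  have e : a ⊔ Ideal.span (s : Set R) = a' := by
    rw [hs']
    exact sup_eq_right.2 haa'
  rw [← e]
  exact h.sup_finset s

end Psi

end Groth.Agent.Lib.Helper2.LocAnn
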