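import Mathlib
import Groth.Agent.Lib.Helper2.LocAnn
import Groth.Agent.Lib.Helper2.LCBaseExt
import Groth.Agent.S0318
import Groth.Agent.Lib.Helper21.DepthKit3

/-!
# `Psi` and depth (helper2)

If `b ⊄ q` and a power of `b` kills `H^i_q(M)` for `i ≤ r` up to elements outside `q`, then
`r < depth M_q`.
-/

set_option autoImplicit false

namespace Groth.Agent.Lib.Helper2.LocAnn

universe u

open CategoryTheory TensorProduct Groth.Agent.Lib.Helper2.LCCompare
  Groth.Agent.Lib.Helper21.DepthKit

variable {R : Type u} [CommRing R] [IsNoetherianRing R]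

/-- if every element of `H^i_q(M)` is killed by an element outside `q`, then
`H^i_{qR_q}(M_q) = 0`. -/
theorem subsingleton_H_localization (q : Ideal R) [q.IsPrime] (M : Type u) [AddCommGroup M]
    [Module R M] (i : ℕ) (h : ∀ ξ : LocCoh.H q i M, ∃ g : R, g ∉ q ∧ g • ξ = 0) :
    Subsingleton (LocCoh.H (IsLocalRing.maximalIdeal (Localization.AtPrime q)) i
      (LocalizedModule q.primeCompl M)) := by
  haveI : IsNoetherianRing (Localization.AtPrime q) :=
    IsLocalization.isNoetherianRing q.primeCompl (Localization.AtPrime q) inferInstance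
  haveI : Module.Flat R (Localization.AtPrime q) :=
    IsLocalization.flat (Localization.AtPrime q) q.primeCompl
  obtain ⟨e1⟩ := Groth.Agent.Lib.Helper2.LCBaseExt.H_ext_equiv (R' := Localization.AtPrime q) q M i
  let e2 : (Localization.AtPrime q) ⊗[R] M ≃ₗ[Localization.AtPrime q]
      LocalizedModule q.primeCompl M :=
    (IsLocalizedModule.isBaseChange q.primeCompl (Localization.AtPrime q)
      (LocalizedModule.mkLinearMap q.primeCompl M)).equiv
  let e3 := ((localCohomology (Ideal.map (algebraMap R (Localization.AtPrime q)) q) i).mapIso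
    e2.toModuleIso).toLinearEquiv
  haveI hloc : IsLocalizedModule q.primeCompl
      (TensorProduct.mk R (Localization.AtPrime q) (LocCoh.H q i M) 1) :=
    (isLocalizedModule_iff_isBaseChange q.primeCompl (Localization.AtPrime q) _).2
      (TensorProduct.isBaseChange R _ (Localization.AtPrime q))
  have hsub : Subsingleton ((Localization.AtPrime q) ⊗[R] LocCoh.H q i M) := by
    refine ⟨fun z w => ?_⟩
    have hz : ∀ z : (Localization.AtPrime q) ⊗[R] LocCoh.H q i M, z = 0 := by
      intro z
      obtain ⟨⟨ξ, s⟩, hs⟩ := IsLocalizedModule.surj q.primeCompl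
        (TensorProduct.mk R (Localization.AtPrime q) (LocCoh.H q i M) 1) z
      obtain ⟨g, hg, hgξ⟩ := h ξ
      have h0 : TensorProduct.mk R (Localization.AtPrime q) (LocCoh.H q i M) 1 ξ = 0 :=
        (IsLocalizedModule.eq_zero_iff q.primeCompl _).2 ⟨⟨g, hg⟩, hgξ⟩
      have h1 : s • z = 0 := by rw [hs, h0]
      have hu := IsLocalizedModule.map_units
        (TensorProduct.mk R (Localization.AtPrime q) (LocCoh.H q i M) 1) s
      have hinj := ((Module.End.isUnit_iff _).1 hu).injective
      apply hinj
      rw [map_zero]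
      exact h1
    rw [hz z, hz w]
  have s2 : Subsingleton (LocCoh.H (Ideal.map (algebraMap R (Localization.AtPrime q)) q) i
      ((Localization.AtPrime q) ⊗[R] M)) := e1.symm.toEquiv.subsingleton
  have s1 : Subsingleton (LocCoh.H (Ideal.map (algebraMap R (Localization.AtPrime q)) q) i
      (LocalizedModule q.primeCompl M)) := e3.symm.toEquiv.subsingleton
  have hmap : Ideal.map (algebraMap R (Localization.AtPrime q)) q =
      IsLocalRing.maximalIdeal (Localization.AtPrime q) :=
    Localization.AtPrime.map_eq_maximalIdeal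
  rw [← hmap]
  exact s1

variable {b q : Ideal R} [hq : q.IsPrime] {M : Type u} [AddCommGroup M] [Module R M]
  [Module.Finite R M] {r : ℕ}

/-- the case `b ⊄ q`. -/
theorem Psi.lt_depth (hbq : ¬ b ≤ q) (h : Psi b q q M r)
    [Nontrivial (LocalizedModule q.primeCompl M)] :
    (r : ℕ∞) < LocCoh.depth (Localization.AtPrime q) (LocalizedModule q.primeCompl M) := by
  haveI : IsNoetherianRing (Localization.AtPrime q) :=
    IsLocalization.isNoetherianRing q.primeCompl (Localization.AtPrime q) inferInstance
  obtain ⟨n, hn⟩ := h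
  have hbn : ¬ b ^ n ≤ q := fun hle => hbq (hq.le_of_pow_le hle)
  obtain ⟨c, hcb, hcq⟩ := Set.not_subset.1 hbn
  have hvan : ∀ i, i ≤ r → Subsingleton (LocCoh.H (IsLocalRing.maximalIdeal
      (Localization.AtPrime q)) i (LocalizedModule q.primeCompl M)) := by
    intro i hi
    apply subsingleton_H_localization q M i
    intro ξ
    obtain ⟨t, ht, htc⟩ := hn i hi hcb ξ
    exact ⟨t * c, fun hh => (hq.mem_or_mem hh).elim ht hcq, htc⟩
  obtain ⟨d, hd⟩ := exists_nat_depth (A := Localization.AtPrime q)
    (M := LocalizedModule q.primeCompl M)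
  rw [hd]
  have hnt := ((Groth.Agent.S0318.result (Localization.AtPrime q)
    (IsLocalRing.maximalIdeal (Localization.AtPrime q)) (LocalizedModule q.primeCompl M)
    maximalIdeal_smul_top_ne_top d).1 hd).2
  by_contra hlt
  have hdr : d ≤ r := by
    have := not_lt.1 hlt
    exact_mod_cast this
  haveI := hvan d hdr
  exact not_subsingleton _ ‹_›

end Groth.Agent.Lib.Helper2.LocAnn
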