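import Mathlib
import Groth.Agent.Lib.Helper2.Falt2
import Groth.Agent.Lib.Helper2.Falt5
import Groth.Agent.Lib.helper11.BassDepth
import Groth.Agent.Lib.Helper21.DepthKit10
import Groth.Agent.Lib.Helper21.DepthKit12
import Groth.Prelude.Def_SGA2

/-!
# Catenary inequality for quotients of regular rings, and `SGA2.relCodim` (helper2)

* `height_eq_add_relHt` : in a regular ring, `ht Q = ht P + ht(Q/P)`.
* `relHt_le_add_of_surjective` : in a quotient of a regular ring,
  `ht(q/p₀) ≤ ht(p/p₀) + ht(q/p)`.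
* `relCodim_le_relHt`, `height_le_relCodim` : `SGA2.relCodim I p = ht((I+p)/p)`.
* `relHt_le_supportDim` : `ht(p/p₀) ≤ dim M_p` for `p₀ ⊇ Ann M`.
-/

set_option autoImplicit false

namespace Groth.Agent.Lib.Helper2.Caten

universe u

open Groth.Agent.Lib.Helper2.FinDim Groth.Agent.Lib.Helper2.Falt

section Regular

variable {S : Type u} [CommRing S] [IsRegularRing S]

/-- in a regular ring, `ht Q = ht P + ht(Q/P)`. -/
theorem height_eq_add_relHt (P Q : Ideal S) [hP : P.IsPrime] [hQ : Q.IsPrime] (hPQ : P ≤ Q) :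
    Q.height = P.height + relHt P Q := by
  apply le_antisymm
  · have h := Groth.Agent.Lib.helper11.BassDepth.depth_localization_le (A := S) (M := S) P Q hPQ
    rw [depth_localization_self, depth_localization_self] at h
    exact h
  · exact height_add_relHt_le P Q hPQ

theorem relHt_le_add (P₀ P Q : Ideal S) [hP₀ : P₀.IsPrime] [hP : P.IsPrime] [hQ : Q.IsPrime]
    (h1 : P₀ ≤ P) (h2 : P ≤ Q) : relHt P₀ Q ≤ relHt P₀ P + relHt P Q := by
  have e1 := height_eq_add_relHt P₀ Q (h1.trans h2)
  have e2 := height_eq_add_relHt P Q h2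
  have e3 := height_eq_add_relHt P₀ P h1
  have hfin : P₀.height ≠ ⊤ := Ideal.height_ne_top hP₀.ne_top
  rw [e3, add_assoc] at e2
  rw [e2] at e1
  exact (ENat.add_right_injective_of_ne_top hfin e1).ge

end Regular

section Quot

variable (S : Type u) [CommRing S] [IsRegularRing S] {A : Type u} [CommRing A] [IsNoetherianRing A]
  (π : S →+* A) (hπ : Function.Surjective π)

include hπ in
/-- the catenary inequality in a quotient of a regular ring. -/
theorem relHt_le_add_of_surjective (p₀ p q : Ideal A) [hp₀ : p₀.IsPrime] [hp : p.IsPrime]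
    [hq : q.IsPrime] (h1 : p₀ ≤ p) (h2 : p ≤ q) : relHt p₀ q ≤ relHt p₀ p + relHt p q := by
  letI : Algebra S A := π.toAlgebra
  have hπ' : Function.Surjective (algebraMap S A) := hπ
  have key : ∀ (a b : Ideal A) [a.IsPrime] [b.IsPrime], a ≤ b →
      relHt a b = relHt (a.comap (algebraMap S A)) (b.comap (algebraMap S A)) := by
    intro a b _ _ hab
    have hker : RingHom.ker (algebraMap S A) ≤ a.comap (algebraMap S A) := by
      rw [RingHom.ker_eq_comap_bot]
      exact Ideal.comap_mono bot_le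
    have h := height_eq_of_surjective hπ' b (a.comap (algebraMap S A)) hker
    rw [Ideal.map_comap_of_surjective _ hπ'] at h
    rw [sup_eq_left.2 hab, sup_eq_left.2 (Ideal.comap_mono hab)] at h
    exact h
  rw [key p₀ q (h1.trans h2), key p₀ p h1, key p q h2]
  exact relHt_le_add _ _ _ (Ideal.comap_mono h1) (Ideal.comap_mono h2)

end Quot

section RelCodim

variable {A : Type u} [CommRing A]

/-- `c(p) ≤ ht(q/p)` for primes `q ⊇ p + I`. -/
theorem relCodim_le_relHt (I : Ideal A) (p q : PrimeSpectrum A) (hpq : p ≤ q)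
    (hIq : I ≤ q.asIdeal) : SGA2.relCodim I p ≤ relHt p.asIdeal q.asIdeal := by
  haveI := p.isPrime
  haveI := q.isPrime
  have h1 : SGA2.relCodim I p ≤ Order.height (⟨q, hpq⟩ : Set.Ici p) :=
    iInf_le (fun q : {q : PrimeSpectrum A // p ≤ q ∧ I ≤ q.asIdeal} =>
      Order.height (⟨q.1, q.2.1⟩ : Set.Ici p)) ⟨q, hpq, hIq⟩
  rw [relHt_eq_orderHeight p.asIdeal q.asIdeal hpq]
  exact h1

/-- `ht((I+p)/p) ≤ c(p)`. -/
theorem height_le_relCodim (I : Ideal A) (p : PrimeSpectrum A) :
    ((I ⊔ p.asIdeal).map (Ideal.Quotient.mk p.asIdeal)).height ≤ SGA2.relCodim I p := by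
  haveI := p.isPrime
  refine le_iInf (fun q => ?_)
  haveI := q.1.isPrime
  have h1 : Order.height (⟨q.1, q.2.1⟩ : Set.Ici p) = relHt p.asIdeal q.1.asIdeal :=
    (relHt_eq_orderHeight p.asIdeal q.1.asIdeal q.2.1).symm
  rw [h1]
  exact Ideal.height_mono (Ideal.map_mono (sup_le q.2.2 q.2.1))

/-- `ht((I+p)/p)` is attained as some `ht(q/p)` when it is finite. -/
theorem exists_relHt_eq_height (I p : Ideal A) [hp : p.IsPrime] (m : ℕ)
    (hm : ((I ⊔ p).map (Ideal.Quotient.mk p)).height = m) :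
    ∃ q : Ideal A, q.IsPrime ∧ p ≤ q ∧ I ≤ q ∧ relHt p q = m := by
  obtain ⟨Q, hQ, hJQ, hQm⟩ := Ideal.exists_isPrime_height_eq hm
  refine ⟨Q.comap (Ideal.Quotient.mk p), Ideal.comap_isPrime _ _, ?_, ?_, ?_⟩
  · intro x hx
    rw [Ideal.mem_comap, Ideal.Quotient.eq_zero_iff_mem.2 hx]
    exact Q.zero_mem
  · intro x hx
    exact hJQ (Ideal.mem_map_of_mem _ (Ideal.mem_sup_left hx))
  · unfold relHt
    rw [Ideal.map_comap_of_surjective _ Ideal.Quotient.mk_surjective]
    exact hQm

end RelCodim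

section SuppDim

variable {A : Type u} [CommRing A] [IsNoetherianRing A] (M : Type u) [AddCommGroup M] [Module A M]
  [Module.Finite A M]

open Groth.Agent.Lib.Helper21.DepthKit

/-- `ht(p/p₀) ≤ dim M_p` whenever `Ann M ⊆ p₀ ⊆ p`. -/
theorem relHt_le_supportDim (p₀ p : Ideal A) [hp₀ : p₀.IsPrime] [hp : p.IsPrime] (h0 : p₀ ≤ p)
    (hann : Module.annihilator A M ≤ p₀) :
    ((relHt p₀ p : ℕ∞) : WithBot ℕ∞) ≤
      Module.supportDim (Localization.AtPrime p) (LocalizedModule p.primeCompl M) := by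
  have hsub : Module.support A (A ⧸ p₀) ⊆ Module.support A M := by
    rw [Module.support_eq_zeroLocus, Module.support_eq_zeroLocus, Ideal.annihilator_quotient]
    exact PrimeSpectrum.zeroLocus_anti_mono hann
  have h1 := supportDim_localization_le_of_support_subset (X := A ⧸ p₀) (Y := M) p hsub
  refine le_trans (le_of_eq ?_) h1
  have hker : RingHom.ker (Ideal.Quotient.mk p₀) ≤ p := by rw [Ideal.mk_ker]; exact h0
  haveI hprime : (p.map (Ideal.Quotient.mk p₀)).IsPrime :=
    Ideal.map_isPrime_of_surjective Ideal.Quotient.mk_surjective hker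
  have hcomap : (p.map (Ideal.Quotient.mk p₀)).comap (algebraMap A (A ⧸ p₀)) = p := by
    change (p.map (Ideal.Quotient.mk p₀)).comap (Ideal.Quotient.mk p₀) = p
    rw [Ideal.comap_map_of_surjective _ Ideal.Quotient.mk_surjective, ← RingHom.ker_eq_comap_bot]
    exact sup_eq_left.2 hker
  have h2 := supportDim_localization_of_surjective (A := A) (B := A ⧸ p₀) (N := A ⧸ p₀)
    Ideal.Quotient.mk_surjective (p.map (Ideal.Quotient.mk p₀))
  have key : ∀ (p' : Ideal A) (hp' : p'.IsPrime), p' = p →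
      Module.supportDim (Localization.AtPrime p') (LocalizedModule p'.primeCompl (A ⧸ p₀)) =
        Module.supportDim (Localization.AtPrime p) (LocalizedModule p.primeCompl (A ⧸ p₀)) := by
    rintro p' hp' rfl
    rfl
  rw [← key _ (Ideal.comap_isPrime _ _) hcomap, h2,
    Module.supportDim_eq_of_equiv (Groth.Agent.S6880.locSelfEquiv (p.map (Ideal.Quotient.mk p₀))),
    Module.supportDim_self_eq_ringKrullDim,
    IsLocalization.AtPrime.ringKrullDim_eq_height (p.map (Ideal.Quotient.mk p₀))]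
  rfl

end SuppDim

end Groth.Agent.Lib.Helper2.Caten
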