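import Mathlib

/-!
# Natural comparison of effaceable δ-functors by dimension shifting (helper2)

A version of helper6's `delta_compare` in which the connecting maps are data and are natural: the
resulting isomorphisms are then natural with respect to all morphisms between objects of the class.
-/

universe v v' u u'

open CategoryTheory Limits

namespace Groth.Agent.Lib.Helper2.DeltaNat

variable {𝒜 : Type u} [Category.{v} 𝒜] {ℬ : Type u'} [Category.{v'} ℬ] [Abelian ℬ]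

/-- dimension shifting data for `G`, simultaneously for two families of functors. -/
structure ShiftDatum (S T : ℕ → 𝒜 ⥤ ℬ) (G : 𝒜) where
  I : 𝒜
  Q : 𝒜
  i : G ⟶ I
  p : I ⟶ Q
  zeroS : ∀ n, IsZero ((S (n + 1)).obj I)
  zeroT : ∀ n, IsZero ((T (n + 1)).obj I)
  δS : ∀ n, (S n).obj Q ⟶ (S (n + 1)).obj G
  δT : ∀ n, (T n).obj Q ⟶ (T (n + 1)).obj G
  wS₁ : ∀ n, (S n).map p ≫ δS n = 0
  wS₂ : ∀ n, δS n ≫ (S (n + 1)).map i = 0
  wT₁ : ∀ n, (T n).map p ≫ δT n = 0
  wT₂ : ∀ n, δT n ≫ (T (n + 1)).map i = 0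
  exS₁ : ∀ n, (ShortComplex.mk _ _ (wS₁ n)).Exact
  exS₂ : ∀ n, (ShortComplex.mk _ _ (wS₂ n)).Exact
  exT₁ : ∀ n, (ShortComplex.mk _ _ (wT₁ n)).Exact
  exT₂ : ∀ n, (ShortComplex.mk _ _ (wT₂ n)).Exact

namespace ShiftDatum

variable {S T : ℕ → 𝒜 ⥤ ℬ} {G : 𝒜} (D : ShiftDatum S T G)

lemma epi_δS (n : ℕ) : Epi (D.δS n) := (D.exS₂ n).epi_f ((D.zeroS n).eq_of_tgt _ _)

lemma epi_δT (n : ℕ) : Epi (D.δT n) := (D.exT₂ n).epi_f ((D.zeroT n).eq_of_tgt _ _)

lemma mono_δS (n : ℕ) : Mono (D.δS (n + 1)) := (D.exS₁ (n + 1)).mono_g ((D.zeroS n).eq_of_src _ _)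

lemma mono_δT (n : ℕ) : Mono (D.δT (n + 1)) := (D.exT₁ (n + 1)).mono_g ((D.zeroT n).eq_of_src _ _)

lemma isIso_δS (n : ℕ) : IsIso (D.δS (n + 1)) :=
  haveI := D.epi_δS (n + 1)
  haveI := D.mono_δS n
  isIso_of_mono_of_epi _

lemma isIso_δT (n : ℕ) : IsIso (D.δT (n + 1)) :=
  haveI := D.epi_δT (n + 1)
  haveI := D.mono_δT n
  isIso_of_mono_of_epi _

/-- `δS 0` is a cokernel of `S 0 p`. -/
noncomputable def isColimitS : IsColimit (CokernelCofork.ofπ (D.δS 0) (D.wS₁ 0)) :=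
  haveI := D.epi_δS 0
  (D.exS₁ 0).gIsCokernel

/-- `δT 0` is a cokernel of `T 0 p`. -/
noncomputable def isColimitT : IsColimit (CokernelCofork.ofπ (D.δT 0) (D.wT₁ 0)) :=
  haveI := D.epi_δT 0
  (D.exT₁ 0).gIsCokernel

end ShiftDatum

variable (S T : ℕ → 𝒜 ⥤ ℬ) (θ : S 0 ≅ T 0) (P : 𝒜 → Prop)
  (D : ∀ G, P G → ShiftDatum S T G) (hQ : ∀ G (hG : P G), P (D G hG).Q)

lemma condS (G : 𝒜) (hG : P G) :
    (S 0).map (D G hG).p ≫ (θ.hom.app (D G hG).Q ≫ (D G hG).δT 0) = 0 := by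
  rw [← Category.assoc, θ.hom.naturality, Category.assoc, (D G hG).wT₁ 0, comp_zero]

lemma condT (G : 𝒜) (hG : P G) :
    (T 0).map (D G hG).p ≫ (θ.inv.app (D G hG).Q ≫ (D G hG).δS 0) = 0 := by
  rw [← Category.assoc, θ.inv.naturality, Category.assoc, (D G hG).wS₁ 0, comp_zero]

/-- the comparison in degree `1`. -/
noncomputable def iso₁ (G : 𝒜) (hG : P G) : (S 1).obj G ≅ (T 1).obj G where
  hom := (D G hG).isColimitS.desc (CokernelCofork.ofπ ((θ.hom.app (D G hG).Q) ≫ (D G hG).δT 0) (condS S T θ P D G hG))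
  inv := (D G hG).isColimitT.desc (CokernelCofork.ofπ ((θ.inv.app (D G hG).Q) ≫ (D G hG).δS 0) (condT S T θ P D G hG))
  hom_inv_id := by
    haveI := (D G hG).epi_δS 0
    rw [← cancel_epi ((D G hG).δS 0)]
    have h1 := (D G hG).isColimitS.fac (CokernelCofork.ofπ ((θ.hom.app (D G hG).Q) ≫ (D G hG).δT 0) (condS S T θ P D G hG))
      WalkingParallelPair.one
    have h2 := (D G hG).isColimitT.fac (CokernelCofork.ofπ ((θ.inv.app (D G hG).Q) ≫ (D G hG).δS 0) (condT S T θ P D G hG))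
      WalkingParallelPair.one
    simp only [Cofork.ofπ_pt, Cofork.ofπ_ι_app] at h1 h2
    rw [← Category.assoc, h1, Category.assoc, h2, ← Category.assoc, Iso.hom_inv_id_app,
      Category.id_comp, Category.comp_id]
  inv_hom_id := by
    haveI := (D G hG).epi_δT 0
    rw [← cancel_epi ((D G hG).δT 0)]
    have h1 := (D G hG).isColimitS.fac (CokernelCofork.ofπ ((θ.hom.app (D G hG).Q) ≫ (D G hG).δT 0) (condS S T θ P D G hG))
      WalkingParallelPair.one
    have h2 := (D G hG).isColimitT.fac (CokernelCofork.ofπ ((θ.inv.app (D G hG).Q) ≫ (D G hG).δS 0) (condT S T θ P D G hG))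
      WalkingParallelPair.one
    simp only [Cofork.ofπ_pt, Cofork.ofπ_ι_app] at h1 h2
    rw [← Category.assoc, h2, Category.assoc, h1, ← Category.assoc, Iso.inv_hom_id_app,
      Category.id_comp, Category.comp_id]

lemma δS_iso₁_hom (G : 𝒜) (hG : P G) :
    (D G hG).δS 0 ≫ (iso₁ S T θ P D G hG).hom = θ.hom.app (D G hG).Q ≫ (D G hG).δT 0 :=
  (D G hG).isColimitS.fac (CokernelCofork.ofπ ((θ.hom.app (D G hG).Q) ≫ (D G hG).δT 0) (condS S T θ P D G hG))
    WalkingParallelPair.one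

include θ hQ in
/-- **natural comparison of δ-functors on a class of objects**. -/
theorem delta_compare_natural
    (nat : ∀ (G G' : 𝒜) (hG : P G) (hG' : P G') (f : G ⟶ G'),
      ∃ fQ : (D G hG).Q ⟶ (D G' hG').Q,
        (∀ n, (S n).map fQ ≫ (D G' hG').δS n = (D G hG).δS n ≫ (S (n + 1)).map f) ∧
        (∀ n, (T n).map fQ ≫ (D G' hG').δT n = (D G hG).δT n ≫ (T (n + 1)).map f))
    (n : ℕ) :
    ∃ e : ∀ G, P G → ((S n).obj G ≅ (T n).obj G),
      ∀ (G G' : 𝒜) (hG : P G) (hG' : P G') (f : G ⟶ G'),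
        (S n).map f ≫ (e G' hG').hom = (e G hG).hom ≫ (T n).map f := by
  induction n with
  | zero => exact ⟨fun G _ => θ.app G, fun G G' _ _ f => θ.hom.naturality f⟩
  | succ n ih =>
    cases n with
    | zero =>
      refine ⟨fun G hG => iso₁ S T θ P D G hG, fun G G' hG hG' f => ?_⟩
      obtain ⟨fQ, hS, hT⟩ := nat G G' hG hG' f
      haveI := (D G hG).epi_δS 0
      rw [← cancel_epi ((D G hG).δS 0), ← Category.assoc, ← hS 0, Category.assoc,
        δS_iso₁_hom, ← Category.assoc, θ.hom.naturality, Category.assoc, hT 0,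
        ← Category.assoc, ← δS_iso₁_hom, Category.assoc]
    | succ m =>
      obtain ⟨e, he⟩ := ih
      refine ⟨fun G hG =>
        haveI := (D G hG).isIso_δS m
        haveI := (D G hG).isIso_δT m
        (asIso ((D G hG).δS (m + 1))).symm ≪≫ e (D G hG).Q (hQ G hG) ≪≫
          asIso ((D G hG).δT (m + 1)), fun G G' hG hG' f => ?_⟩
      obtain ⟨fQ, hS, hT⟩ := nat G G' hG hG' f
      haveI := (D G hG).isIso_δS m
      haveI := (D G hG).isIso_δT m
      haveI := (D G' hG').isIso_δS m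
      haveI := (D G' hG').isIso_δT m
      simp only [Iso.trans_hom, Iso.symm_hom, asIso_inv, asIso_hom]
      rw [← cancel_epi ((D G hG).δS (m + 1))]
      rw [← Category.assoc, ← hS (m + 1)]
      simp only [Category.assoc, IsIso.hom_inv_id_assoc]
      rw [← Category.assoc, he _ _ (hQ G hG) (hQ G' hG') fQ, Category.assoc, hT (m + 1)]

end Groth.Agent.Lib.Helper2.DeltaNat
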