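import Groth.Agent.Lib.Helper6.CechFamDerived
import Groth.Agent.Lib.Helper6.TotAcycProd
import Groth.Agent.Lib.Helper2.DeltaNat

/-!
# Natural comparison of Čech cohomology of an acyclic covering family with cohomology (helper2)

The isomorphisms of helper6's `CechFamDerived.nonempty_iso` can be chosen naturally with respect to all
morphisms between acyclic sheaves.
-/

universe u

set_option linter.unusedSectionVars false

open CategoryTheory Limits Opposite Simplicial AlgebraicTopology Abelian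

namespace Groth.Agent.Lib.Helper2.CechNat1

open Groth.Agent.Lib.Helper6 Groth.Agent.Lib.Helper6.CechFamRep Groth.Agent.Lib.Helper6.CechFamRes
  Groth.Agent.Lib.Helper6.CechFamSurj Groth.Agent.Lib.Helper6.CechFamH0
  Groth.Agent.Lib.Helper6.CechFamNat Groth.Agent.Lib.Helper6.SheafCoh
  Groth.Agent.Lib.Helper6.CechFamDerived Groth.Agent.Lib.Helper2.DeltaNat

variable {C : Type u} [SmallCategory C] [HasPullbacks C] (J : GrothendieckTopology C) {U : C}
  {ι : Type u} (Y : ι → Over U)

/-- the short exact sequence of Čech complexes attached to a short exact sequence of sheaves with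
acyclic kernel. -/
lemma shortExact_cech {E : ShortComplex (Sheaf J AddCommGrpCat.{u})} (hE : E.ShortExact)
    (hF : Acyc J Y E.X₁) :
    ((E.map (Φ J (U := U))).map
      (FormalCoproduct.cochainComplexFunctor (fam Y).cech)).ShortExact := by
  have hT : ∀ (n : ℕ) (i : ((fam Y).cech.obj (op ⦋n⦌)).I),
      ((E.map (Φ J (U := U))).map ((evaluation _ _).obj
        (op (((fam Y).cech.obj (op ⦋n⦌)).obj i)))).ShortExact := by
    intro n i
    exact shortExact_sections_of_surj J hE _
      (SieveExt.surjective_of_H1_vanish J hE _ (fun x => hF n i 0 x))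
  exact CechFamLES.shortExact_cech (fam Y).cech (E.map (Φ J (U := U))) hT

/-- the Čech connecting map. -/
noncomputable def δS {E : ShortComplex (Sheaf J AddCommGrpCat.{u})} (hE : E.ShortExact)
    (hF : Acyc J Y E.X₁) (n : ℕ) : (Sn J Y n).obj E.X₃ ⟶ (Sn J Y (n + 1)).obj E.X₁ :=
  (shortExact_cech J Y hE hF).δ n (n + 1) (by simp)

/-- the `Ext` connecting map. -/
noncomputable def δT {E : ShortComplex (Sheaf J AddCommGrpCat.{u})} (hE : E.ShortExact) (n : ℕ) :
    (extFunctorObj (Zfree J U) n).obj E.X₃ ⟶ (extFunctorObj (Zfree J U) (n + 1)).obj E.X₁ :=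
  AddCommGrpCat.ofHom (hE.extClass.postcomp (Zfree J U) rfl)

/-- naturality of the Čech connecting map. -/
lemma δS_naturality {E E' : ShortComplex (Sheaf J AddCommGrpCat.{u})} (hE : E.ShortExact)
    (hE' : E'.ShortExact) (hF : Acyc J Y E.X₁) (hF' : Acyc J Y E'.X₁) (φ : E ⟶ E') (n : ℕ) :
    (Sn J Y n).map φ.τ₃ ≫ δS J Y hE' hF' n = δS J Y hE hF n ≫ (Sn J Y (n + 1)).map φ.τ₁ :=
  (HomologicalComplex.HomologySequence.δ_naturality
    ((FormalCoproduct.cochainComplexFunctor (fam Y).cech).mapShortComplex.map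
      ((Φ J (U := U)).mapShortComplex.map φ))
    (shortExact_cech J Y hE hF) (shortExact_cech J Y hE' hF') n (n + 1) (by simp)).symm

/-- naturality of the `Ext` connecting map. -/
lemma δT_naturality {E E' : ShortComplex (Sheaf J AddCommGrpCat.{u})} (hE : E.ShortExact)
    (hE' : E'.ShortExact) (φ : E ⟶ E') (n : ℕ) :
    (extFunctorObj (Zfree J U) n).map φ.τ₃ ≫ δT J hE' n =
      δT J hE n ≫ (extFunctorObj (Zfree J U) (n + 1)).map φ.τ₁ := by
  ext x
  change ((x.comp (Ext.mk₀ φ.τ₃) (add_zero n)).comp hE'.extClass rfl : Ext (Zfree J U) E'.X₁ (n + 1)) =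
    (x.comp hE.extClass rfl).comp (Ext.mk₀ φ.τ₁) (add_zero (n + 1))
  rw [Ext.comp_assoc_of_second_deg_zero, ← ShortComplex.ShortExact.extClass_naturality hE hE' φ,
    Ext.comp_assoc_of_third_deg_zero]

variable (hY : Sieve.ofArrows (fun i => (Y i).left) (fun i => (Y i).hom) ∈ J U)

lemma δT_w₁ {E : ShortComplex (Sheaf J AddCommGrpCat.{u})} (hE : E.ShortExact) (n : ℕ) :
    (extFunctorObj (Zfree J U) n).map E.g ≫ δT J hE n = 0 := by
  ext x
  change ((x.comp (Ext.mk₀ E.g) (add_zero n)).comp hE.extClass rfl :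
    Ext (Zfree J U) E.X₁ (n + 1)) = 0
  rw [Ext.comp_assoc_of_second_deg_zero, ShortComplex.ShortExact.comp_extClass, Ext.comp_zero]

lemma δT_w₂ {E : ShortComplex (Sheaf J AddCommGrpCat.{u})} (hE : E.ShortExact) (n : ℕ) :
    δT J hE n ≫ (extFunctorObj (Zfree J U) (n + 1)).map E.f = 0 := by
  ext x
  change ((x.comp hE.extClass rfl).comp (Ext.mk₀ E.f) (add_zero (n + 1)) :
    Ext (Zfree J U) E.X₂ (n + 1)) = 0
  rw [Ext.comp_assoc_of_third_deg_zero, ShortComplex.ShortExact.extClass_comp, Ext.comp_zero]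

/-- the dimension shifting datum of an acyclic sheaf. -/
noncomputable def datum (G : Sheaf J AddCommGrpCat.{u}) (hG : Acyc J Y G) :
    ShiftDatum (fun n => Sn J Y n) (fun n => extFunctorObj (Zfree J U) n) G where
  I := (ExtAcyc.sesUnder G).X₂
  Q := (ExtAcyc.sesUnder G).X₃
  i := (ExtAcyc.sesUnder G).f
  p := (ExtAcyc.sesUnder G).g
  zeroS := fun n => by
    haveI := CohSiteOver.injective_R J U (ExtAcyc.sesUnder G).X₂
    haveI : Injective ((Φ J (U := U)).obj (ExtAcyc.sesUnder G).X₂) :=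
      Injective.injective_of_adjoint (sheafificationAdjunction (J.over U) AddCommGrpCat.{u})
        ((CohSiteOver.R J U).obj (ExtAcyc.sesUnder G).X₂)
    exact isZero_homology_family Y ((Φ J (U := U)).obj (ExtAcyc.sesUnder G).X₂) n
  zeroT := fun n => by
    have : Subsingleton (Ext (Zfree J U) (ExtAcyc.sesUnder G).X₂ (n + 1)) :=
      subsingleton_of_forall_eq 0 (fun x => Ext.eq_zero_of_injective x)
    exact AddCommGrpCat.isZero_of_subsingleton
      (AddCommGrpCat.of (Ext (Zfree J U) (ExtAcyc.sesUnder G).X₂ (n + 1)))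
  δS := δS J Y (ExtAcyc.sesUnder_shortExact G) hG
  δT := δT J (ExtAcyc.sesUnder_shortExact G)
  wS₁ := fun n => (shortExact_cech J Y (ExtAcyc.sesUnder_shortExact G) hG).comp_δ n (n + 1) (by simp)
  wS₂ := fun n => (shortExact_cech J Y (ExtAcyc.sesUnder_shortExact G) hG).δ_comp n (n + 1) (by simp)
  wT₁ := fun n => δT_w₁ J (ExtAcyc.sesUnder_shortExact G) n
  wT₂ := fun n => δT_w₂ J (ExtAcyc.sesUnder_shortExact G) n
  exS₁ := fun n =>
    (shortExact_cech J Y (ExtAcyc.sesUnder_shortExact G) hG).homology_exact₃ n (n + 1) (by simp)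
  exS₂ := fun n =>
    (shortExact_cech J Y (ExtAcyc.sesUnder_shortExact G) hG).homology_exact₁ n (n + 1) (by simp)
  exT₁ := fun n =>
    Ext.covariant_sequence_exact₃' (Zfree J U) (ExtAcyc.sesUnder_shortExact G) n (n + 1) rfl
  exT₂ := fun n =>
    Ext.covariant_sequence_exact₁' (Zfree J U) (ExtAcyc.sesUnder_shortExact G) n (n + 1) rfl

lemma acyc_Q (G : Sheaf J AddCommGrpCat.{u}) (hG : Acyc J Y G) : Acyc J Y (datum J Y G hG).Q := by
  intro p a q x
  exact TotAcycProd.vanish_X₃ (ExtAcyc.sesUnder_shortExact G) _ (fun q x => hG p a q x) q x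

instance mono_ι (G : Sheaf J AddCommGrpCat.{u}) : Mono (Injective.ι G) :=
  (ExtAcyc.sesUnder_shortExact G).mono_f

/-- the extension to the injective hulls. -/
noncomputable def ext₂ {G G' : Sheaf J AddCommGrpCat.{u}} (f : G ⟶ G') :
    Injective.under G ⟶ Injective.under G' :=
  Injective.factorThru (f ≫ Injective.ι G') (Injective.ι G)

lemma ι_ext₂ {G G' : Sheaf J AddCommGrpCat.{u}} (f : G ⟶ G') :
    Injective.ι G ≫ ext₂ J f = f ≫ Injective.ι G' :=
  Injective.comp_factorThru _ _

/-- the morphism of the standard injective embeddings induced by a morphism of sheaves. -/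
noncomputable def sesMap {G G' : Sheaf J AddCommGrpCat.{u}} (f : G ⟶ G') :
    ExtAcyc.sesUnder G ⟶ ExtAcyc.sesUnder G' where
  τ₁ := f
  τ₂ := ext₂ J f
  τ₃ := cokernel.map (Injective.ι G) (Injective.ι G') f (ext₂ J f) (ι_ext₂ J f)
  comm₁₂ := (ι_ext₂ J f).symm
  comm₂₃ := (cokernel.π_desc _ _ _).symm

include hY in
/-- **the comparison isomorphisms are natural**. -/
theorem exists_natural_iso (n : ℕ) :
    ∃ e : ∀ G : Sheaf J AddCommGrpCat.{u}, Acyc J Y G →
        ((Sn J Y n).obj G ≅ (extFunctorObj (Zfree J U) n).obj G),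
      ∀ (G G' : Sheaf J AddCommGrpCat.{u}) (hG : Acyc J Y G) (hG' : Acyc J Y G') (f : G ⟶ G'),
        (Sn J Y n).map f ≫ (e G' hG').hom = (e G hG).hom ≫ (extFunctorObj (Zfree J U) n).map f :=
  delta_compare_natural (fun n => Sn J Y n) (fun n => extFunctorObj (Zfree J U) n) (θ J Y hY)
    (Acyc J Y) (datum J Y) (acyc_Q J Y)
    (fun G G' hG hG' f => ⟨(sesMap J f).τ₃,
      fun n => δS_naturality J Y (ExtAcyc.sesUnder_shortExact G) (ExtAcyc.sesUnder_shortExact G')
        hG hG' (sesMap J f) n,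
      fun n => δT_naturality J (ExtAcyc.sesUnder_shortExact G) (ExtAcyc.sesUnder_shortExact G')
        (sesMap J f) n⟩) n

end Groth.Agent.Lib.Helper2.CechNat1
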