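import Groth.Agent.Lib.Helper2.CechNat1
import Groth.Agent.Lib.Helper6.CechFamTop

/-!
# Natural comparison of Čech cohomology with cohomology on a topological space (helper2)
-/

universe u

set_option linter.unusedSectionVars false

open CategoryTheory Limits Opposite Simplicial AlgebraicTopology Abelian

namespace Groth.Agent.Lib.Helper2.CechNat2

open Groth.Agent.Lib.Helper6 Groth.Agent.Lib.Helper6.CechFamThin

section Thin

variable {D D' : Type u} [SmallCategory D] [SmallCategory D'] [HasFiniteProducts D]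
  [HasFiniteProducts D'] [Quiver.IsThin D']
  (π : D ⥤ D') {κ : Type u} (Y : κ → D) (W : κ → D')
  (e : ∀ (n : SimplexCategory) (a : ToType n → κ), π.obj (∏ᶜ (Y ∘ a)) ≅ ∏ᶜ (W ∘ a))
  {P P' : D'ᵒᵖ ⥤ AddCommGrpCat.{u}} (τ : P ⟶ P')

lemma cxIsoThin_naturality :
    (cxIsoThin π Y W e P).hom ≫ (cechComplexFunctor W).map τ =
      (cechComplexFunctor Y).map (Functor.whiskerLeft π.op τ) ≫ (cxIsoThin π Y W e P').hom := by
  ext n : 1
  have key : Limits.Pi.map (fun a : ToType ⦋n⦌ → κ => P.map (e ⦋n⦌ a).inv.op) ≫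
      Limits.Pi.map (fun a : ToType ⦋n⦌ → κ => τ.app (op (∏ᶜ (W ∘ a)))) =
      Limits.Pi.map (fun a : ToType ⦋n⦌ → κ => τ.app (op (π.obj (∏ᶜ (Y ∘ a))))) ≫
      Limits.Pi.map (fun a : ToType ⦋n⦌ → κ => P'.map (e ⦋n⦌ a).inv.op) := by
    rw [Limits.Pi.map_comp_map, Limits.Pi.map_comp_map]
    congr 1
    funext a
    exact τ.naturality _
  exact key

end Thin

section Top

open TopologicalSpace Groth.Agent.Lib.Helper6.CechFamTop Groth.Agent.Lib.Helper6.SheafCoh
  Groth.Agent.Lib.Helper6.CechFamDerived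

variable {X : TopCat.{u}} {ι : Type u} (U : ι → Opens X)

/-- acyclicity of a sheaf on the finite intersections of the members of a family. -/
def Acyc' (F : CohTop.Ab X) : Prop :=
  ∀ (p : ℕ) (a : Fin (p + 1) → ι) (q : ℕ),
    Subsingleton (CohTop.HU F (q + 1) (iInf fun k => U (a k)))

/-- the map induced on Čech cohomology by a morphism of sheaves. -/
noncomputable abbrev cechMap {F F' : CohTop.Ab X} (g : F ⟶ F') (p : ℕ) :
    CohTop.cechH F.obj U p ⟶ CohTop.cechH F'.obj U p :=
  HomologicalComplex.homologyMap ((cechComplexFunctor U).map g.hom) p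

lemma cechHIso_naturality (U₀ : Opens X) (hW : ∀ k, U k ≤ U₀) {F F' : CohTop.Ab X} (g : F ⟶ F')
    (p : ℕ) :
    cechMap U g p ≫ (cechHIso U₀ U hW F'.obj p).inv =
      (cechHIso U₀ U hW F.obj p).inv ≫
        HomologicalComplex.homologyMap ((cechComplexFunctor (YO U₀ U hW)).map
          (Functor.whiskerLeft (Over.forget U₀).op g.hom)) p := by
  rw [Iso.eq_inv_comp, ← Category.assoc, Iso.comp_inv_eq]
  have h := cxIsoThin_naturality (Over.forget U₀) (YO U₀ U hW) (fun k => (YO U₀ U hW k).left)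
    (eO' U₀ (YO U₀ U hW)) g.hom
  have h2 := congrArg (fun φ => HomologicalComplex.homologyMap φ p) h
  simp only [HomologicalComplex.homologyMap_comp] at h2
  exact h2

/-- the comparison of the two forms of the Čech cohomology, typed for the slice site. -/
noncomputable def snIso (U₀ : Opens X) (hW : ∀ k, U k ≤ U₀) (F : CohTop.Ab X) (p : ℕ) :
    CohTop.cechH F.obj U p ≅ (Sn (Opens.grothendieckTopology X) (YO U₀ U hW) p).obj F :=
  (cechHIso U₀ U hW F.obj p).symm

lemma snIso_naturality (U₀ : Opens X) (hW : ∀ k, U k ≤ U₀) {F F' : CohTop.Ab X} (g : F ⟶ F')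
    (p : ℕ) :
    cechMap U g p ≫ (snIso U U₀ hW F' p).hom =
      (snIso U U₀ hW F p).hom ≫ (Sn (Opens.grothendieckTopology X) (YO U₀ U hW) p).map g :=
  cechHIso_naturality U U₀ hW g p

/-- **natural comparison of Čech cohomology with cohomology**. -/
theorem exists_natural_equiv (p : ℕ) :
    ∃ e : ∀ F : CohTop.Ab X, Acyc' U F → (CohTop.cechH F.obj U p ≃+ CohTop.HU F p (iSup U)),
      ∀ (F F' : CohTop.Ab X) (hF : Acyc' U F) (hF' : Acyc' U F') (g : F ⟶ F')
        (x : CohTop.cechH F.obj U p),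
        e F' hF' (cechMap U g p x) = (e F hF x).comp (Ext.mk₀ g) (add_zero p) := by
  have hW : ∀ k, U k ≤ iSup U := le_iSup U
  have hY := covering (iSup U) U hW rfl
  have hAc : ∀ F : CohTop.Ab X, Acyc' U F →
      CechFamDerived.Acyc (Opens.grothendieckTopology X) (YO (iSup U) U hW) F := by
    intro F hF p a q x
    have heq := left_prod_eq (iSup U) U hW a
    have hs : Subsingleton (CohTop.HU F (q + 1) (∏ᶜ fun k => YO (iSup U) U hW (a k)).left) := by
      rw [heq]
      exact hF p a q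
    exact hs.elim x 0
  obtain ⟨e₁, he₁⟩ := CechNat1.exists_natural_iso (Opens.grothendieckTopology X)
    (YO (iSup U) U hW) hY p
  refine ⟨fun F hF => (snIso U (iSup U) hW F p ≪≫
    e₁ F (hAc F hF)).addCommGroupIsoToAddEquiv, fun F F' hF hF' g x => ?_⟩
  have h1 := snIso_naturality U (iSup U) hW g p
  have h2 := he₁ F F' (hAc F hF) (hAc F' hF') g
  have h3 : cechMap U g p ≫ (snIso U (iSup U) hW F' p).hom ≫ (e₁ F' (hAc F' hF')).hom =
      ((snIso U (iSup U) hW F p).hom ≫ (e₁ F (hAc F hF)).hom) ≫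
        (extFunctorObj (Zfree (Opens.grothendieckTopology X) (iSup U)) p).map g := by
    rw [← Category.assoc, h1, Category.assoc, h2, Category.assoc]
  exact congrArg (fun φ => φ.hom x) h3

end Top

end Groth.Agent.Lib.Helper2.CechNat2
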