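import Mathlib
import Groth.Agent.S9265
import Groth.Agent.S9264

/-!
# Vanishing of higher extended Čech cohomology from vanishing of `H^1`
-/

set_option autoImplicit false
universe u
attribute [local instance] HasDerivedCategory.standard

open CategoryTheory DerCA

namespace Groth.Agent.Lib.Helper2.CechVanish

variable {R : Type u} [CommRing R]

theorem subsingleton_of_isLocalizedModule (S : Submonoid R) {M N : Type*} [AddCommGroup M]
    [Module R M] [AddCommGroup N] [Module R N] (g : M →ₗ[R] N) [IsLocalizedModule S g]
    [Subsingleton M] : Subsingleton N := by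
  refine ⟨fun a b => ?_⟩
  have h0 : ∀ y : N, y = 0 := by
    intro y
    obtain ⟨⟨m, s⟩, hs⟩ := IsLocalizedModule.surj S g y
    have hm : m = 0 := Subsingleton.elim _ _
    rw [hm, map_zero] at hs
    have hu := IsLocalizedModule.map_units g s
    rw [Module.End.isUnit_iff] at hu
    apply hu.1
    change s • y = s • (0 : N)
    rw [smul_zero]
    exact hs
  rw [h0 a, h0 b]

theorem subsingleton_step (K : DRing.Cx R) (f : R) (q : ℤ)
    (h1 : Subsingleton (K.homology (q - 1))) (h2 : Subsingleton (K.homology q)) :
    Subsingleton ((CochainComplex.mappingCocone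
      (locCxUnit (Submonoid.powers f) K)).homology q) := by
  obtain ⟨δ, -, hδex, -⟩ := Groth.Agent.S9265.les (locCxUnit (Submonoid.powers f) K) q
  haveI := Groth.Agent.S9265.isLocalizedModule_homologyMap (Submonoid.powers f) K (q - 1)
  haveI hs : Subsingleton (((locCx (Submonoid.powers f)).obj K).homology (q - 1)) :=
    subsingleton_of_isLocalizedModule (Submonoid.powers f)
      (HomologicalComplex.homologyMap (locCxUnit (Submonoid.powers f) K) (q - 1)).hom
  have h0 : ∀ x : (CochainComplex.mappingCocone
      (locCxUnit (Submonoid.powers f) K)).homology q, x = 0 := by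
    intro x
    obtain ⟨y, hy⟩ := hδex x (Subsingleton.elim _ _)
    have hy0 : y = 0 := Subsingleton.elim _ _
    rw [← hy, hy0, map_zero]
  exact ⟨fun a b => by rw [h0 a, h0 b]⟩

/-- if `H^1` of the extended Čech complex vanishes for all lists and all modules in a class, then
so do all the higher ones. -/
theorem vanish_of_one (P : ModuleCat.{u} R → Prop)
    (h1 : ∀ (fs : List R) (M : ModuleCat.{u} R), P M → Subsingleton (extCechH fs M 1)) :
    ∀ (fs : List R) (M : ModuleCat.{u} R), P M → ∀ i : ℤ, 0 < i →
      Subsingleton (extCechH fs M i) := by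
  intro fs
  induction fs with
  | nil =>
    intro M _ i hi
    exact ModuleCat.subsingleton_of_isZero
      (Groth.Agent.S9264.result R [] M i (Or.inr (by simpa using hi)))
  | cons f fs ih =>
    intro M hM i hi
    by_cases hi1 : i = 1
    · subst hi1
      exact h1 (f :: fs) M hM
    · exact subsingleton_step (extCech M fs) f i (ih M hM (i - 1) (by omega)) (ih M hM i hi)

end Groth.Agent.Lib.Helper2.CechVanish
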