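import Mathlib

set_option autoImplicit false
universe u

namespace Groth.Agent.Lib.Helper2.DescEff

open TensorProduct

variable (A A' : Type u) [CommRing A] [CommRing A'] [Algebra A A']
  (M' : Type u) [AddCommGroup M'] [Module A M'] [Module A' M'] [IsScalarTower A A' M']

/-- the multiplication map `A' ⊗ M' → M'`. -/
noncomputable def δ : A' ⊗[A] M' →ₗ[A] M' := TensorProduct.lift (Algebra.lsmul A A M').toLinearMap

variable {A A' M'}

@[simp] theorem δ_tmul (a : A') (n : M') : δ A A' M' (a ⊗ₜ[A] n) = a • n := by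
  simp [δ]

theorem δ_rTensor (c : A') (z : A' ⊗[A] M') :
    δ A A' M' (LinearMap.rTensor M' (LinearMap.mulLeft A c) z) = c • δ A A' M' z := by
  induction z using TensorProduct.induction_on with
  | zero => simp
  | tmul a n => simp [mul_smul]
  | add x y hx hy => simp only [map_add, hx, hy, smul_add]

theorem δ_lTensor (c : A') (z : A' ⊗[A] M') :
    δ A A' M' (LinearMap.lTensor A' (Algebra.lsmul A A M' c) z) = c • δ A A' M' z := by
  induction z using TensorProduct.induction_on with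
  | zero => simp
  | tmul a n => simp [smul_comm a c n]
  | add x y hx hy => simp only [map_add, hx, hy, smul_add]

variable (φ : M' ⊗[A] A' →ₗ[A] A' ⊗[A] M')

/-- `u ↦ φ (u ⊗ 1)`. -/
noncomputable def α : M' →ₗ[A] A' ⊗[A] M' := φ ∘ₗ (TensorProduct.mk A M' A').flip (1 : A')

@[simp] theorem α_apply (u : M') : α φ u = φ (u ⊗ₜ[A] (1 : A')) := rfl

/-- the pullback of `φ` along the diagonal. -/
noncomputable def φΔ : M' →ₗ[A] M' := δ A A' M' ∘ₗ α φ

theorem φΔ_apply (u : M') : φΔ φ u = δ A A' M' (φ (u ⊗ₜ[A] (1 : A'))) := rfl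

section

variable (h1 : ∀ (x : A') (u : M') (z : A'),
      φ ((x • u) ⊗ₜ[A] z) = LinearMap.rTensor M' (LinearMap.mulLeft A x) (φ (u ⊗ₜ[A] z)))
    (h2 : ∀ (y : A') (u : M') (z : A'),
      φ (u ⊗ₜ[A] (y * z)) = LinearMap.lTensor A' (Algebra.lsmul A A M' y) (φ (u ⊗ₜ[A] z)))

include h1 in
theorem φΔ_smul (c : A') (u : M') : φΔ φ (c • u) = c • φΔ φ u := by
  rw [φΔ_apply, h1, δ_rTensor, φΔ_apply]

include h1 h2 in
theorem δ_φ_eq (w : M' ⊗[A] A') :
    δ A A' M' (φ w) = φΔ φ (TensorProduct.lift ((Algebra.lsmul A A M').toLinearMap.flip) w) := by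
  induction w using TensorProduct.induction_on with
  | zero => simp
  | tmul v c =>
    have e1 : φ (v ⊗ₜ[A] c) = LinearMap.lTensor A' (Algebra.lsmul A A M' c) (φ (v ⊗ₜ[A] 1)) := by
      rw [← h2, mul_one]
    rw [e1, δ_lTensor]
    simp only [TensorProduct.lift.tmul, LinearMap.flip_apply, AlgHom.toLinearMap_apply,
      Algebra.lsmul_coe]
    rw [φΔ_smul φ h1, φΔ_apply]
  | add x y hx hy => simp only [map_add, hx, hy]

include h1 h2 in
theorem φΔ_surjective (hφ : Function.Surjective φ) : Function.Surjective (φΔ φ) := by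
  intro u
  obtain ⟨w, hw⟩ := hφ ((1 : A') ⊗ₜ[A] u)
  refine ⟨TensorProduct.lift ((Algebra.lsmul A A M').toLinearMap.flip) w, ?_⟩
  rw [← δ_φ_eq φ h1 h2, hw, δ_tmul, one_smul]

end

section Main

variable (h1 : ∀ (x : A') (u : M') (z : A'),
      φ ((x • u) ⊗ₜ[A] z) = LinearMap.rTensor M' (LinearMap.mulLeft A x) (φ (u ⊗ₜ[A] z)))
    (h2 : ∀ (y : A') (u : M') (z : A'),
      φ (u ⊗ₜ[A] (y * z)) = LinearMap.lTensor A' (Algebra.lsmul A A M' y) (φ (u ⊗ₜ[A] z)))
    (hcoc : ∀ (u : M') (a b : A'),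
      LinearMap.lTensor A' φ (TensorProduct.assoc A A' M' A' (LinearMap.rTensor A' φ ((u ⊗ₜ[A] a) ⊗ₜ[A] b))) =
        LinearMap.lTensor A' (TensorProduct.mk A A' M' a) (φ (u ⊗ₜ[A] b)))

/-- `z ↦ (id ⊗ φ) (assoc (z ⊗ 1))`. -/
noncomputable def Fmap : A' ⊗[A] M' →ₗ[A] A' ⊗[A] (A' ⊗[A] M') :=
  LinearMap.lTensor A' φ ∘ₗ (TensorProduct.assoc A A' M' A').toLinearMap ∘ₗ
    (TensorProduct.mk A (A' ⊗[A] M') A').flip (1 : A')

theorem Fmap_eq : Fmap φ = LinearMap.lTensor A' (α φ) := by
  apply TensorProduct.ext'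
  intro a n
  simp [Fmap]

include hcoc in
theorem lTensor_α_α (u : M') :
    LinearMap.lTensor A' (α φ) (α φ u) = LinearMap.lTensor A' (TensorProduct.mk A A' M' 1) (α φ u) := by
  have := hcoc u 1 1
  rw [LinearMap.rTensor_tmul] at this
  rw [← Fmap_eq]
  exact this

/-- full contraction `A' ⊗ (A' ⊗ M') → M'`. -/
noncomputable def κ : A' ⊗[A] (A' ⊗[A] M') →ₗ[A] M' := δ A A' M' ∘ₗ LinearMap.lTensor A' (δ A A' M')

include h1 in
theorem κ_lTensor_α (z : A' ⊗[A] M') :
    κ (A := A) (LinearMap.lTensor A' (α φ) z) = φΔ φ (δ A A' M' z) := by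
  induction z using TensorProduct.induction_on with
  | zero => simp
  | tmul a n =>
    simp only [κ, LinearMap.comp_apply, LinearMap.lTensor_tmul, δ_tmul]
    rw [φΔ_smul φ h1]
    rfl
  | add x y hx hy => simp only [map_add, hx, hy]

theorem κ_lTensor_mk (z : A' ⊗[A] M') :
    κ (A := A) (LinearMap.lTensor A' (TensorProduct.mk A A' M' 1) z) = δ A A' M' z := by
  induction z using TensorProduct.induction_on with
  | zero => simp
  | tmul a n => simp [κ]
  | add x y hx hy => simp only [map_add, hx, hy]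

include h1 hcoc in
theorem φΔ_idem (u : M') : φΔ φ (φΔ φ u) = φΔ φ u := by
  have := congrArg (κ (A := A) (A' := A') (M' := M')) (lTensor_α_α φ hcoc u)
  rw [κ_lTensor_α φ h1, κ_lTensor_mk] at this
  exact this

include h1 h2 hcoc in
theorem φΔ_eq_id (hφ : Function.Surjective φ) (u : M') : φΔ φ u = u := by
  obtain ⟨v, rfl⟩ := φΔ_surjective φ h1 h2 hφ u
  exact φΔ_idem φ h1 hcoc v

include h1 h2 hcoc in
theorem main [Module.Flat A A'] (hφ : Function.Surjective φ)
    (M : Submodule A M') (hM : ∀ u : M', u ∈ M ↔ φ (u ⊗ₜ[A] (1 : A')) = (1 : A') ⊗ₜ[A] u) :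
    Function.Bijective
      ((TensorProduct.lift (Algebra.lsmul A A M').toLinearMap) ∘ₗ (LinearMap.lTensor A' M.subtype)) := by
  set incl := LinearMap.lTensor A' M.subtype with hincl
  have hinclinj : Function.Injective incl :=
    Module.Flat.lTensor_preserves_injective_linearMap _ (Submodule.subtype_injective M)
  -- alpha after lambda is incl
  have hal : (α φ) ∘ₗ (δ A A' M' ∘ₗ incl) = incl := by
    apply TensorProduct.ext'
    intro x m
    simp only [LinearMap.comp_apply, hincl, LinearMap.lTensor_tmul, Submodule.subtype_apply, δ_tmul,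
      α_apply]
    rw [h1, (hM m.1).1 m.2, LinearMap.rTensor_tmul, LinearMap.mulLeft_apply, mul_one]
  constructor
  · intro t t' htt'
    apply hinclinj
    have e1 := LinearMap.congr_fun hal t
    have e2 := LinearMap.congr_fun hal t'
    simp only [LinearMap.comp_apply] at e1 e2
    have htt'' : δ A A' M' (incl t) = δ A A' M' (incl t') := htt'
    rw [← e1, ← e2, htt'']
  · intro u
    -- exactness
    have hex : Function.Exact M.subtype (α φ - TensorProduct.mk A A' M' 1) := by
      intro v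
      rw [LinearMap.sub_apply, sub_eq_zero, α_apply, TensorProduct.mk_apply]
      constructor
      · intro hv
        exact ⟨⟨v, (hM v).2 hv⟩, rfl⟩
      · rintro ⟨m, rfl⟩
        exact (hM m.1).1 m.2
    have hex' := Module.Flat.lTensor_exact A' hex
    have hz : LinearMap.lTensor A' (α φ - TensorProduct.mk A A' M' 1) (α φ u) = 0 := by
      rw [LinearMap.lTensor_sub, LinearMap.sub_apply, lTensor_α_α φ hcoc, sub_self]
    obtain ⟨t, ht⟩ := (hex' (α φ u)).1 hz
    refine ⟨t, ?_⟩
    show δ A A' M' (incl t) = u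
    rw [hincl, ht]
    exact φΔ_eq_id φ h1 h2 hcoc hφ u

end Main

end Groth.Agent.Lib.Helper2.DescEff
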