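import Mathlib

/-!
# Linear maps on a span with prescribed values; Artin–Rees and power torsion (helper2)
-/

set_option autoImplicit false

namespace Groth.Agent.Lib.Helper2.SpanLift

section Span

variable {B : Type*} [CommRing B] {N : Type*} [AddCommGroup N] [Module B N]
  {Q : Type*} [AddCommGroup Q] [Module B Q]

/-- linear maps on a span are determined by the values on generators. -/
theorem ext_span {S : Set N} (f g : ↥(Submodule.span B S) →ₗ[B] Q)
    (h : ∀ (y : N) (hy : y ∈ S), f ⟨y, Submodule.subset_span hy⟩ = g ⟨y, Submodule.subset_span hy⟩) :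
    f = g := by
  apply LinearMap.ext
  rintro ⟨y, hy⟩
  refine Submodule.span_induction (p := fun y hy => f ⟨y, hy⟩ = g ⟨y, hy⟩) ?_ ?_ ?_ ?_ hy
  · intro y hy
    exact h y hy
  · exact (map_zero f).trans (map_zero g).symm
  · intro y z hy hz e₁ e₂
    have : (⟨y + z, Submodule.add_mem _ hy hz⟩ : ↥(Submodule.span B S)) = ⟨y, hy⟩ + ⟨z, hz⟩ := rfl
    rw [this, map_add, map_add, e₁, e₂]
  · intro b y hy e₁
    have : (⟨b • y, Submodule.smul_mem _ b hy⟩ : ↥(Submodule.span B S)) = b • ⟨y, hy⟩ := rfl
    rw [this, map_smul, map_smul, e₁]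

/-- a linear map on a span with prescribed values on a generating family, given that every
relation among the generators is a relation among the values. -/
theorem exists_linearMap_on_span (S : Set N) {ι : Type*} (gen : ι → N) (hS : S = Set.range gen)
    (val : ι → Q)
    (h : ∀ v : ι →₀ B, Finsupp.linearCombination B gen v = 0 →
      Finsupp.linearCombination B val v = 0) :
    ∃ Ψ : ↥(Submodule.span B S) →ₗ[B] Q,
      ∀ (i : ι) (hi : gen i ∈ S), Ψ ⟨gen i, Submodule.subset_span hi⟩ = val i := by
  subst hS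
  let μ := Finsupp.linearCombination B gen
  let ν := Finsupp.linearCombination B val
  have hker : LinearMap.ker μ ≤ LinearMap.ker ν := fun v hv =>
    LinearMap.mem_ker.2 (h v (LinearMap.mem_ker.1 hv))
  have hW : LinearMap.range μ = Submodule.span B (Set.range gen) :=
    Finsupp.range_linearCombination B
  let Ψ : ↥(Submodule.span B (Set.range gen)) →ₗ[B] Q :=
    (LinearMap.ker μ).liftQ ν hker ∘ₗ μ.quotKerEquivRange.symm.toLinearMap ∘ₗ
      (LinearEquiv.ofEq _ _ hW.symm).toLinearMap
  refine ⟨Ψ, fun i hi => ?_⟩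
  have h1 : μ (Finsupp.single i 1) = gen i := by
    change Finsupp.linearCombination B gen (Finsupp.single i 1) = gen i
    rw [Finsupp.linearCombination_single, one_smul]
  have h2 : ν (Finsupp.single i 1) = val i := by
    change Finsupp.linearCombination B val (Finsupp.single i 1) = val i
    rw [Finsupp.linearCombination_single, one_smul]
  have h3 : (LinearEquiv.ofEq _ _ hW.symm) ⟨gen i, Submodule.subset_span hi⟩ =
      ⟨μ (Finsupp.single i 1), LinearMap.mem_range_self μ _⟩ := by
    apply Subtype.ext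
    exact h1.symm
  change (LinearMap.ker μ).liftQ ν hker (μ.quotKerEquivRange.symm
    ((LinearEquiv.ofEq _ _ hW.symm) ⟨gen i, Submodule.subset_span hi⟩)) = val i
  rw [h3, LinearMap.quotKerEquivRange_symm_apply_image]
  change (LinearMap.ker μ).liftQ ν hker (Submodule.Quotient.mk (Finsupp.single i 1)) = val i
  rw [Submodule.liftQ_apply, h2]

end Span

section ArtinRees

variable {B : Type*} [CommRing B] [IsNoetherianRing B] (J : Ideal B)
  (N : Type*) [AddCommGroup N] [Module B N] [Module.Finite B N]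

/-- the submodule of `J`-power torsion elements. -/
def tors : Submodule B N where
  carrier := {y | ∃ t : ℕ, ∀ b ∈ J ^ t, b • y = 0}
  add_mem' := by
    rintro x y ⟨a, ha⟩ ⟨b, hb⟩
    refine ⟨max a b, fun c hc => ?_⟩
    rw [smul_add, ha c (Ideal.pow_le_pow_right (le_max_left a b) hc),
      hb c (Ideal.pow_le_pow_right (le_max_right a b) hc), add_zero]
  zero_mem' := ⟨0, fun c _ => smul_zero c⟩
  smul_mem' := by
    rintro c x ⟨a, ha⟩
    exact ⟨a, fun e he => by rw [smul_comm, ha e he, smul_zero]⟩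

theorem exists_pow_kills_tors : ∃ t : ℕ, ∀ y ∈ tors J N, ∀ b ∈ J ^ t, b • y = 0 := by
  classical
  haveI : IsNoetherian B N := isNoetherian_of_isNoetherianRing_of_finite B N
  obtain ⟨s, hs⟩ := (IsNoetherian.noetherian (tors J N) : (tors J N).FG)
  have hmem : ∀ y ∈ s, y ∈ tors J N := fun y hy => hs ▸ Submodule.subset_span hy
  choose! τ hτ using hmem
  refine ⟨s.sup τ, fun y hy b hb => ?_⟩
  rw [← hs] at hy
  refine Submodule.span_induction (p := fun y _ => b • y = 0) ?_ ?_ ?_ ?_ hy
  · intro z hz
    exact hτ z hz b (Ideal.pow_le_pow_right (Finset.le_sup hz) hb)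
  · exact smul_zero b
  · intro y z _ _ e₁ e₂
    rw [smul_add, e₁, e₂, add_zero]
  · intro a y _ e₁
    rw [smul_comm, e₁, smul_zero]

/-- Artin–Rees: a high power of `J` times `N` meets the `J`-power torsion trivially. -/
theorem exists_pow_smul_top_disjoint_tors :
    ∃ K : ℕ, ∀ y ∈ (J ^ K • ⊤ : Submodule B N), (∃ t : ℕ, ∀ b ∈ J ^ t, b • y = 0) → y = 0 := by
  obtain ⟨t, ht⟩ := exists_pow_kills_tors J N
  obtain ⟨k, hk⟩ := Ideal.exists_pow_inf_eq_pow_smul J (tors J N)
  refine ⟨t + k, fun y hy hy' => ?_⟩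
  have h1 : y ∈ (J ^ (t + k) • ⊤ ⊓ tors J N : Submodule B N) := ⟨hy, hy'⟩
  rw [hk (t + k) (Nat.le_add_left k t), Nat.add_sub_cancel] at h1
  refine Submodule.smul_induction_on (p := fun y => y = 0) h1 ?_ ?_
  · intro b hb z hz
    exact ht z hz.2 b hb
  · intro y z e₁ e₂
    rw [e₁, e₂, add_zero]

end ArtinRees

end Groth.Agent.Lib.Helper2.SpanLift
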