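import Groth.Agent.Lib.Helper28.TwistMul

/-!
# Morphisms between twisting sheaves on `Proj` given by multiplication by a global section (helper2)
-/

set_option autoImplicit false
universe u
open CategoryTheory CategoryTheory.Limits AlgebraicGeometry Opposite TopologicalSpace

noncomputable section

namespace Groth.Agent.Lib.Helper2.Dual1

open Groth.Agent.Lib.Helper28 Groth.Agent.Lib.Helper28.QCohLoc

section General

variable {X : Scheme.{u}}

/-- a morphism of modules from sectionwise data. -/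
def homOfSections (M N : X.Modules) (β : ∀ W : X.Opens, Γ(M, W) → Γ(N, W))
    (hadd : ∀ W m m', β W (m + m') = β W m + β W m')
    (hsmul : ∀ W (a : Γ(X, W)) m, β W (a • m) = a • β W m)
    (hres : ∀ (W W' : X.Opens) (h : W' ≤ W) m, β W' (res M h m) = res N h (β W m)) : M ⟶ N :=
  ⟨PresheafOfModules.homMk
    { app := fun U => AddCommGrpCat.ofHom (AddMonoidHom.mk' (β U.unop) (hadd U.unop))
      naturality := by
        intro U V f
        ext m
        have h : V.unop ≤ U.unop := leOfHom f.unop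
        obtain rfl : f = (homOfLE h).op := Subsingleton.elim _ _
        exact hres U.unop V.unop h m }
    (fun U r m => hsmul U.unop r m)⟩

theorem homOfSections_app (M N : X.Modules) (β : ∀ W : X.Opens, Γ(M, W) → Γ(N, W))
    (hadd : ∀ W m m', β W (m + m') = β W m + β W m')
    (hsmul : ∀ W (a : Γ(X, W)) m, β W (a • m) = a • β W m)
    (hres : ∀ (W W' : X.Opens) (h : W' ≤ W) m, β W' (res M h m) = res N h (β W m))
    (W : X.Opens) (m : Γ(M, W)) :
    (homOfSections M N β hadd hsmul hres).app W m = β W m := rfl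

end General

section Twist

variable {R A : Type u} [CommRing R] [CommRing A] [Algebra R A] (𝒜 : ℕ → Submodule R A)
  [GradedAlgebra 𝒜]

/-- transport of sections along an equality of twists. -/
def castSec {a b : ℤ} (h : a = b) {W : (Proj 𝒜).Opens} (t : Γ(Twist.twist 𝒜 a, W)) :
    Γ(Twist.twist 𝒜 b, W) := h ▸ t

theorem val_castSec {a b : ℤ} (h : a = b) {W : (Proj 𝒜).Opens} (t : Γ(Twist.twist 𝒜 a, W))
    (x : W) : TwistQC.val 𝒜 (castSec 𝒜 h t) x = TwistQC.val 𝒜 t x := by
  subst h
  rfl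

/-- the product of a section of `O(e)` and a section of `O(a)`, as a section of `O(b)`, `b = e + a`. -/
def mulB {e a b : ℤ} (h : e + a = b) {W : (Proj 𝒜).Opens} (s : Γ(Twist.twist 𝒜 e, W))
    (t : Γ(Twist.twist 𝒜 a, W)) : Γ(Twist.twist 𝒜 b, W) :=
  castSec 𝒜 h (TwistMul.mul 𝒜 e a s t)

theorem val_mulB {e a b : ℤ} (h : e + a = b) {W : (Proj 𝒜).Opens} (s : Γ(Twist.twist 𝒜 e, W))
    (t : Γ(Twist.twist 𝒜 a, W)) (x : W) :
    TwistQC.val 𝒜 (mulB 𝒜 h s t) x = TwistQC.val 𝒜 s x * TwistQC.val 𝒜 t x := by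
  rw [mulB, val_castSec, TwistMul.val_mul]

/-- multiplication by a global section of `O(e)`, as a morphism `O(a) ⟶ O(b)`, `b = e + a`. -/
def mulHom {e a b : ℤ} (h : e + a = b) (s : Γ(Twist.twist 𝒜 e, (⊤ : (Proj 𝒜).Opens))) :
    Twist.twist 𝒜 a ⟶ Twist.twist 𝒜 b :=
  homOfSections (Twist.twist 𝒜 a) (Twist.twist 𝒜 b)
    (fun W t => mulB 𝒜 h (res (Twist.twist 𝒜 e) (le_top : W ≤ ⊤) s) t)
    (fun W t t' => by
      apply TwistQC.ext_val
      intro x
      rw [TwistMul.val_add, val_mulB, val_mulB, val_mulB, TwistMul.val_add, mul_add])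
    (fun W c t => by
      apply TwistQC.ext_val
      intro x
      rw [TwistQC.val_smul, val_mulB, val_mulB, TwistQC.val_smul]
      ring)
    (fun W W' hW t => by
      apply TwistQC.ext_val
      intro x
      rw [val_mulB, TwistQC.val_res, TwistQC.val_res, TwistQC.val_res, val_mulB, TwistQC.val_res])

theorem mulHom_app {e a b : ℤ} (h : e + a = b) (s : Γ(Twist.twist 𝒜 e, (⊤ : (Proj 𝒜).Opens)))
    (W : (Proj 𝒜).Opens) (t : Γ(Twist.twist 𝒜 a, W)) :
    (mulHom 𝒜 h s).app W t = mulB 𝒜 h (res (Twist.twist 𝒜 e) (le_top : W ≤ ⊤) s) t := rfl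

end Twist

end Groth.Agent.Lib.Helper2.Dual1
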