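import Groth.Agent.Lib.Helper2.Dual8
import Groth.Agent.Lib.Helper2.Dual9
import Groth.Agent.Lib.Helper2.SerreFin2

/-!
# `O(-n-1)` with its trace is dualizing for the coherent modules on `P^n_R`, `n ≥ 1` (helper2)
-/

set_option backward.isDefEq.respectTransparency.types false
set_option autoImplicit false
universe u
open CategoryTheory CategoryTheory.Limits AlgebraicGeometry Opposite TopologicalSpace Abelian

noncomputable section

namespace Groth.Agent.Lib.Helper2.Dual10

open Groth.Agent.Lib.Helper2.ProjCoh3 Groth.Agent.Lib.Helper2.ProjCoh4 Groth.Agent.Lib.Helper2.ProjCoh5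
  Groth.Agent.Lib.Helper2.SerreFin1 Groth.Agent.Lib.Helper2.SerreFin2 Groth.Agent.Lib.Helper2.HLesLin
  Groth.Agent.Lib.Helper2.HLes Groth.Agent.Lib.Helper2.Dual7 Groth.Agent.Lib.Helper2.Dual8
  Groth.Agent.Lib.Helper2.Dual9

variable (p : ℕ) (R : Type u) [CommRing R] (b : ℤ) (hb : b = -(((p + 1 : ℕ) : ℤ) + 1 + (0 : ℕ)))

/-- the trace, as a linear map. -/
abbrev trL : Coh.HH (CohB1.ProjSpace (p + 1) R) (Twist.twistProjSpace (p + 1) R b) (p + 1) →ₗ[R] R :=
  (tr p R b hb).toLinearMap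

theorem dinj_twist (a : ℤ) :
    DInj R (p + 1) (Twist.twistProjSpace (p + 1) R b) (trL p R b hb) (Twist.twistProjSpace (p + 1) R a) :=
  dinj_of_existsUnique (fun ψ => existsUnique_hom R p b hb a ψ)

theorem dsurj_twist (a : ℤ) :
    DSurj R (p + 1) (Twist.twistProjSpace (p + 1) R b) (trL p R b hb) (Twist.twistProjSpace (p + 1) R a) :=
  dsurj_of_existsUnique (fun ψ => existsUnique_hom R p b hb a ψ)

variable [IsNoetherianRing R]

open Groth.Agent.Lib.Helper6.DevPow Groth.Agent.Lib.Helper6.DevCore in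
/-- a coherent module on `P^n_R` is a quotient of a finite sum of twisting sheaves, with coherent
kernel. -/
theorem exists_presentation (n : ℕ) (F : (CohB1.ProjSpace n R).Modules) (hF : Coh.IsCoh F) :
    ∃ (k : ℕ) (m : ℤ) (q : (∐ fun _ : Fin k => Twist.twistProjSpace n R m) ⟶ F), Epi q ∧
      Coh.IsCoh (kernel q) := by
  haveI : IsNoetherian (Proj (gr n R)) := Groth.Agent.S2357.result (gr n R)
  haveI : IsLocallyNoetherian (CohB1.ProjSpace n R) :=
    (inferInstance : IsLocallyNoetherian (Proj (gr n R)))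
  let F' : (Proj (gr n R)).Modules := F
  haveI : F'.IsQuasicoherent := hF.1
  haveI : SheafOfModules.IsFiniteType.{u} (R := (Proj (gr n R)).ringCatSheaf) F' := hF.2
  obtain ⟨m₀, hm₀⟩ := Groth.Agent.Lib.Helper28.GammaStar.exists_locGen_twistNeg (𝒜 := gr n R)
    (s := vars n R) (F := F') (vars_mem n R) (irrelevant_eq_span n R)
  obtain ⟨k, φ, hφ⟩ := hm₀ m₀ le_rfl
  let E : (CohB1.ProjSpace n R).Modules := ∐ fun _ : Fin k => Twist.twist (gr n R) (-(m₀ : ℤ))
  let q : E ⟶ F := Sigma.desc φ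
  have hq : Epi q := hφ.epi_desc
  have hE : Coh.IsCoh E := isCoh_sigma_fin k _ (fun _ => isCoh_twist n R _)
  exact ⟨k, -(m₀ : ℤ), q, hq, isCoh_kernel q hE hF⟩

theorem dinj_coh (F : (CohB1.ProjSpace (p + 1) R).Modules) (hF : Coh.IsCoh F) :
    DInj R (p + 1) (Twist.twistProjSpace (p + 1) R b) (trL p R b hb) F := by
  obtain ⟨k, m, q, hq, -⟩ := exists_presentation R (p + 1) F hF
  exact dinj_of_epi q (dinj_sigma _ (fun _ => dinj_twist p R b hb m))

theorem dsurj_coh (F : (CohB1.ProjSpace (p + 1) R).Modules) (hF : Coh.IsCoh F) :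
    DSurj R (p + 1) (Twist.twistProjSpace (p + 1) R b) (trL p R b hb) F := by
  obtain ⟨k, m, q, hq, hK⟩ := exists_presentation R (p + 1) F hF
  let S : ShortComplex (CohB1.ProjSpace (p + 1) R).Modules :=
    ShortComplex.mk (kernel.ι q) q (kernel.condition q)
  have hS : S.ShortExact :=
    { exact := ShortComplex.exact_kernel q
      mono_f := inferInstanceAs (Mono (kernel.ι q))
      epi_g := inferInstanceAs (Epi q) }
  refine dsurj_of_shortExact S hS (dsurj_sigma _ (fun _ => dsurj_twist p R b hb m))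
    (dinj_coh p R b hb (kernel q) hK) ?_
  intro y
  haveI : Coh.IsQCoh (kernel q) := hK.1
  have hsub : Subsingleton (Coh.HH (CohB1.ProjSpace (p + 1) R) (kernel q) (p + 1 + 1)) :=
    Groth.Agent.S0022.result (p + 1) R (kernel q) (p + 1 + 1) (by omega)
  obtain ⟨x, hx⟩ := exact₃ (shortExact_Sab S hS) (p + 1) y (@Subsingleton.elim _ hsub _ _)
  exact ⟨x, hx⟩

/-- **duality for coherent modules on `P^n_R`, `n ≥ 1`, `R` Noetherian**. -/
theorem existsUnique_coh (F : (CohB1.ProjSpace (p + 1) R).Modules) (hF : Coh.IsCoh F)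
    (ψ : Coh.HH (CohB1.ProjSpace (p + 1) R) F (p + 1) →ₗ[R] R) :
    ∃! φ : F ⟶ Twist.twistProjSpace (p + 1) R b,
      ∀ x, ψ x = tr p R b hb (Sheaf.H.map
        ((SheafOfModules.toSheaf (CohB1.ProjSpace (p + 1) R).ringCatSheaf).map φ) (p + 1) x) :=
  existsUnique_of (dinj_coh p R b hb F hF) (dsurj_coh p R b hb F hF) ψ

end Groth.Agent.Lib.Helper2.Dual10
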