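import Groth.Agent.Lib.Helper2.Dual3

/-!
# On `P^0` all the twisting sheaves are isomorphic (helper2)
-/

set_option autoImplicit false
set_option backward.isDefEq.respectTransparency.types false
universe u
open CategoryTheory CategoryTheory.Limits AlgebraicGeometry Opposite TopologicalSpace

noncomputable section

namespace Groth.Agent.Lib.Helper2.Dual11

open Groth.Agent.Lib.Helper28 Groth.Agent.Lib.Helper28.QCohLoc Groth.Agent.Lib.Helper2.Dual1
  Groth.Agent.Lib.Helper2.Dual2 Groth.Agent.Lib.Helper2.ProjCoh3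
  Groth.Agent.Lib.Helper2.ProjCoh4 Groth.Agent.Lib.Helper2.ProjCoh5

section General

variable {R A : Type u} [CommRing R] [CommRing A] [Algebra R A] (𝒜 : ℕ → Submodule R A)
  [GradedAlgebra 𝒜]

/-- multiplication by mutually inverse global sections gives mutually inverse morphisms. -/
theorem mulHom_comp_mulHom {e e' a b : ℤ} (hab : e + a = b) (hba : e' + b = a)
    (s : Γ(Twist.twist 𝒜 e, (⊤ : (Proj 𝒜).Opens))) (s' : Γ(Twist.twist 𝒜 e', (⊤ : (Proj 𝒜).Opens)))
    (h : ∀ x : (⊤ : (Proj 𝒜).Opens), TwistQC.val 𝒜 s' x * TwistQC.val 𝒜 s x = 1) :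
    mulHom 𝒜 hab s ≫ mulHom 𝒜 hba s' = 𝟙 (Twist.twist 𝒜 a) := by
  apply Scheme.Modules.hom_ext
  intro U
  ext t
  change (mulHom 𝒜 hba s').app U ((mulHom 𝒜 hab s).app U t) = t
  rw [mulHom_app, mulHom_app]
  apply TwistQC.ext_val
  intro x
  rw [val_mulB, val_mulB, TwistQC.val_res, TwistQC.val_res, ← mul_assoc, h, one_mul]

end General

variable (R : Type u) [CommRing R]

theorem cov_zero_eq_top : cov 0 R (ULift.up 0) = ⊤ := by
  rw [← iSup_cov 0 R]
  apply le_antisymm
  · exact le_iSup (cov 0 R) (ULift.up 0)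
  · apply iSup_le
    intro i
    have : i = ULift.up 0 := by
      apply ULift.ext
      exact Subsingleton.elim (α := Fin 1) _ _
    rw [this]

/-- the global generator `x₀^e` of `O(e)` on `P^0`. -/
def unitSec (e : ℤ) : Γ(Twist.twist (gr 0 R) e, (⊤ : (Proj (gr 0 R)).Opens)) :=
  res (Twist.twist (gr 0 R) e) (le_of_eq (cov_zero_eq_top R).symm)
    (TwistMul.gen (gr 0 R) (X_mem 0 R 0) e)

theorem val_unitSec_mul (e : ℤ) (x : (⊤ : (Proj (gr 0 R)).Opens)) :
    TwistQC.val (gr 0 R) (unitSec R (-e)) x * TwistQC.val (gr 0 R) (unitSec R e) x = 1 := by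
  rw [unitSec, unitSec, TwistQC.val_res, TwistQC.val_res]
  exact val_gen_mul_val_gen (gr 0 R) (X_mem 0 R 0) e _

/-- on `P^0` all the twisting sheaves are isomorphic. -/
def twistIso (a b : ℤ) : Twist.twistProjSpace 0 R a ≅ Twist.twistProjSpace 0 R b where
  hom := mulHom (gr 0 R) (by omega : (b - a) + a = b) (unitSec R (b - a))
  inv := mulHom (gr 0 R) (by omega : (-(b - a)) + b = a) (unitSec R (-(b - a)))
  hom_inv_id := mulHom_comp_mulHom (gr 0 R) _ _ _ _ (val_unitSec_mul R (b - a))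
  inv_hom_id := mulHom_comp_mulHom (gr 0 R) _ _ _ _ (fun x => by
    have h := val_unitSec_mul R (-(b - a)) x
    rwa [neg_neg] at h)

end Groth.Agent.Lib.Helper2.Dual11
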