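import Groth.Agent.Lib.Helper2.Dual1
import Groth.Agent.Lib.Helper28.TwistInv
import Groth.Agent.Lib.Helper28.QCohGen

/-!
# Classification of the morphisms between twisting sheaves on `Proj` (helper2)

`Hom(O(a), O(b)) = Γ(Proj, O(b - a))` when `Proj` is covered by the `D₊(f)`, `f` of degree one.
-/

set_option autoImplicit false
universe u
open CategoryTheory CategoryTheory.Limits AlgebraicGeometry Opposite TopologicalSpace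

noncomputable section

namespace Groth.Agent.Lib.Helper2.Dual2

open Groth.Agent.Lib.Helper28 Groth.Agent.Lib.Helper28.QCohLoc Groth.Agent.Lib.Helper2.Dual1

variable {R A : Type u} [CommRing R] [CommRing A] [Algebra R A] (𝒜 : ℕ → Submodule R A)
  [GradedAlgebra 𝒜]

/-- a morphism out of `O(a)` is determined by its values on the generators. -/
theorem hom_ext_gen (hcov : ∀ x : Proj 𝒜, ∃ f : A, f ∈ 𝒜 1 ∧ x ∈ Proj.basicOpen 𝒜 f) {a : ℤ}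
    {N : (Proj 𝒜).Modules} (φ ψ : Twist.twist 𝒜 a ⟶ N)
    (h : ∀ (f : A) (hf : f ∈ 𝒜 1), φ.app (Proj.basicOpen 𝒜 f) (TwistMul.gen 𝒜 hf a) =
      ψ.app (Proj.basicOpen 𝒜 f) (TwistMul.gen 𝒜 hf a)) : φ = ψ := by
  apply Scheme.Modules.hom_ext
  intro U
  ext t
  -- the cover of `U` by the `D₊(f g)`
  let ι : Type u := {p : A × A // p.1 ∈ 𝒜 1 ∧ (∃ e : ℕ, 0 < e ∧ p.2 ∈ 𝒜 e) ∧
    Proj.basicOpen 𝒜 (p.1 * p.2) ≤ U}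
  let V : ι → (Proj 𝒜).Opens := fun p => Proj.basicOpen 𝒜 (p.1.1 * p.1.2)
  refine eq_of_locally_eq N V U (fun p => p.2.2.2) ?_ _ _ ?_
  · intro x hx
    obtain ⟨f, hf, hxf⟩ := hcov x
    obtain ⟨e, g, he, hg, hgx, hgV⟩ := GrSectComap.exists_pos_basicOpen 𝒜
      (U ⊓ Proj.basicOpen 𝒜 f) x ⟨hx, hxf⟩
    have hle : Proj.basicOpen 𝒜 (f * g) ≤ U := by
      intro y hy
      rw [Proj.basicOpen_mul] at hy
      exact (hgV y ((Proj.mem_basicOpen 𝒜 g y).1 hy.2)).1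
    refine Opens.mem_iSup.2 ⟨⟨(f, g), hf, ⟨e, he, hg⟩, hle⟩, ?_⟩
    change x ∈ Proj.basicOpen 𝒜 (f * g)
    rw [Proj.basicOpen_mul]
    exact ⟨hxf, (Proj.mem_basicOpen 𝒜 g x).2 hgx⟩
  · rintro ⟨⟨f, g⟩, hf, ⟨e, he, hg⟩, hle⟩
    change res N hle (φ.app U t) = res N hle (ψ.app U t)
    rw [← app_res, ← app_res]
    obtain ⟨c, hc⟩ := TwistMul.exists_smul_genW_eq 𝒜 hf he hg a (res (Twist.twist 𝒜 a) hle t)
    rw [hc, Scheme.Modules.Hom.app_smul, Scheme.Modules.Hom.app_smul]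
    congr 1
    change φ.app _ (res (Twist.twist 𝒜 a) (TwistMul.basicOpen_mul_le 𝒜 f g) (TwistMul.gen 𝒜 hf a)) =
      ψ.app _ (res (Twist.twist 𝒜 a) (TwistMul.basicOpen_mul_le 𝒜 f g) (TwistMul.gen 𝒜 hf a))
    rw [app_res, app_res, h f hf]

theorem val_gen_mul_val_gen {f : A} (hf : f ∈ 𝒜 1) (m : ℤ) (x : Proj.basicOpen 𝒜 f) :
    TwistQC.val 𝒜 (TwistMul.gen 𝒜 hf (-m)) x * TwistQC.val 𝒜 (TwistMul.gen 𝒜 hf m) x = 1 := by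
  rw [TwistMul.val_gen, TwistMul.val_gen, Localization.mk_mul, neg_neg, mul_comm]
  exact Localization.mk_self (⟨f ^ m.toNat, GrSectMod.pow_nin 𝒜 _ x⟩ *
    ⟨f ^ (-m).toNat, GrSectMod.pow_nin 𝒜 _ x⟩ : x.1.asHomogeneousIdeal.toIdeal.primeCompl)

/-- gluing sections of a twisting sheaf over the cover by the `D₊(f)`. -/
theorem exists_glue (hcov : ∀ x : Proj 𝒜, ∃ f : A, f ∈ 𝒜 1 ∧ x ∈ Proj.basicOpen 𝒜 f) (e : ℤ)
    (h : ∀ (f : A), f ∈ 𝒜 1 → Γ(Twist.twist 𝒜 e, Proj.basicOpen 𝒜 f))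
    (hcompat : ∀ (f f' : A) (hf : f ∈ 𝒜 1) (hf' : f' ∈ 𝒜 1) (x : Proj 𝒜)
      (hx : x ∈ Proj.basicOpen 𝒜 f) (hx' : x ∈ Proj.basicOpen 𝒜 f'),
      TwistQC.val 𝒜 (h f hf) ⟨x, hx⟩ = TwistQC.val 𝒜 (h f' hf') ⟨x, hx'⟩) :
    ∃ s : Γ(Twist.twist 𝒜 e, (⊤ : (Proj 𝒜).Opens)), ∀ (f : A) (hf : f ∈ 𝒜 1),
      res (Twist.twist 𝒜 e) (le_top : Proj.basicOpen 𝒜 f ≤ ⊤) s = h f hf := by
  let F : TopCat.Sheaf Ab (Proj 𝒜) := ⟨(Twist.twist 𝒜 e).presheaf, (Twist.twist 𝒜 e).isSheaf⟩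
  let ι : Type u := {f : A // f ∈ 𝒜 1}
  let U : ι → (Proj 𝒜).Opens := fun f => Proj.basicOpen 𝒜 f.1
  have hc : TopCat.Presheaf.IsCompatible F.1 U (fun f => h f.1 f.2) := by
    intro f f'
    apply TwistQC.ext_val
    intro x
    exact hcompat f.1 f'.1 f.2 f'.2 x.1 x.2.1 x.2.2
  obtain ⟨s, hs, -⟩ := F.existsUnique_gluing' U ⊤ (fun f => homOfLE le_top) (by
    intro x _
    obtain ⟨f, hf, hxf⟩ := hcov x
    exact Opens.mem_iSup.2 ⟨⟨f, hf⟩, hxf⟩) (fun f => h f.1 f.2) hc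
  exact ⟨s, fun f hf => hs ⟨f, hf⟩⟩

/-- **classification**: every morphism `O(a) ⟶ O(b)` is the multiplication by a global section of
`O(e)`, `e + a = b`. -/
theorem exists_eq_mulHom (hcov : ∀ x : Proj 𝒜, ∃ f : A, f ∈ 𝒜 1 ∧ x ∈ Proj.basicOpen 𝒜 f)
    {e a b : ℤ} (hab : e + a = b) (φ : Twist.twist 𝒜 a ⟶ Twist.twist 𝒜 b) :
    ∃ s : Γ(Twist.twist 𝒜 e, (⊤ : (Proj 𝒜).Opens)), φ = mulHom 𝒜 hab s := by
  have hab' : -a + b = e := by omega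
  -- the local quotients
  let h : ∀ (f : A), f ∈ 𝒜 1 → Γ(Twist.twist 𝒜 e, Proj.basicOpen 𝒜 f) := fun f hf =>
    mulB 𝒜 hab' (TwistMul.gen 𝒜 hf (-a)) (φ.app (Proj.basicOpen 𝒜 f) (TwistMul.gen 𝒜 hf a))
  have hkey : ∀ (f : A) (hf : f ∈ 𝒜 1) (x : Proj.basicOpen 𝒜 f),
      TwistQC.val 𝒜 (h f hf) x * TwistQC.val 𝒜 (TwistMul.gen 𝒜 hf a) x =
        TwistQC.val 𝒜 (φ.app (Proj.basicOpen 𝒜 f) (TwistMul.gen 𝒜 hf a)) x := by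
    intro f hf x
    rw [val_mulB, mul_comm (TwistQC.val 𝒜 (TwistMul.gen 𝒜 hf (-a)) x), mul_assoc,
      val_gen_mul_val_gen, mul_one]
  have hcompat : ∀ (f f' : A) (hf : f ∈ 𝒜 1) (hf' : f' ∈ 𝒜 1) (x : Proj 𝒜)
      (hx : x ∈ Proj.basicOpen 𝒜 f) (hx' : x ∈ Proj.basicOpen 𝒜 f'),
      TwistQC.val 𝒜 (h f hf) ⟨x, hx⟩ = TwistQC.val 𝒜 (h f' hf') ⟨x, hx'⟩ := by
    intro f f' hf hf' x hx hx'
    -- work on `D₊(f' f)`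
    have hxW : x ∈ Proj.basicOpen 𝒜 (f' * f) := by
      rw [Proj.basicOpen_mul]
      exact ⟨hx', hx⟩
    have hWf : Proj.basicOpen 𝒜 (f' * f) ≤ Proj.basicOpen 𝒜 f := by
      rw [Proj.basicOpen_mul]
      exact inf_le_right
    obtain ⟨c, hc⟩ := TwistMul.exists_smul_genW_eq 𝒜 hf' (by omega : 0 < 1) hf a
      (res (Twist.twist 𝒜 a) hWf (TwistMul.gen 𝒜 hf a))
    have h1 := congrArg (fun t => TwistQC.val 𝒜 t ⟨x, hxW⟩) hc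
    simp only [TwistQC.val_res, TwistQC.val_smul] at h1
    have h2 := congrArg (fun t => TwistQC.val 𝒜 (φ.app _ t) ⟨x, hxW⟩) hc
    simp only [Scheme.Modules.Hom.app_smul, TwistQC.val_smul] at h2
    rw [app_res, TwistQC.val_res] at h2
    have h3 : TwistQC.val 𝒜 (φ.app (Proj.basicOpen 𝒜 (f' * f)) (TwistMul.genW 𝒜 hf' f a))
        ⟨x, hxW⟩ = TwistQC.val 𝒜 (φ.app (Proj.basicOpen 𝒜 f') (TwistMul.gen 𝒜 hf' a)) ⟨x, hx'⟩ := by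
      change TwistQC.val 𝒜 (φ.app _ (res (Twist.twist 𝒜 a) (TwistMul.basicOpen_mul_le 𝒜 f' f)
        (TwistMul.gen 𝒜 hf' a))) ⟨x, hxW⟩ = _
      rw [app_res, TwistQC.val_res]
    have h4 : TwistQC.val 𝒜 (TwistMul.genW 𝒜 hf' f a) ⟨x, hxW⟩ =
        TwistQC.val 𝒜 (TwistMul.gen 𝒜 hf' a) ⟨x, hx'⟩ := rfl
    rw [h3] at h2
    rw [h4] at h1
    have hu := TwistMul.isUnit_val_gen 𝒜 hf a ⟨x, hx⟩
    apply hu.mul_left_injective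
    change TwistQC.val 𝒜 (h f hf) ⟨x, hx⟩ * TwistQC.val 𝒜 (TwistMul.gen 𝒜 hf a) ⟨x, hx⟩ =
      TwistQC.val 𝒜 (h f' hf') ⟨x, hx'⟩ * TwistQC.val 𝒜 (TwistMul.gen 𝒜 hf a) ⟨x, hx⟩
    rw [hkey f hf ⟨x, hx⟩]
    have h5 := hkey f' hf' ⟨x, hx'⟩
    change TwistQC.val 𝒜 (φ.app (Proj.basicOpen 𝒜 f) (TwistMul.gen 𝒜 hf a)) ⟨x, hx⟩ = _
    calc TwistQC.val 𝒜 (φ.app (Proj.basicOpen 𝒜 f) (TwistMul.gen 𝒜 hf a)) ⟨x, hx⟩
        = (GrTildeQC.valO 𝒜 c ⟨x, hxW⟩).val *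
          TwistQC.val 𝒜 (φ.app (Proj.basicOpen 𝒜 f') (TwistMul.gen 𝒜 hf' a)) ⟨x, hx'⟩ := h2
      _ = (GrTildeQC.valO 𝒜 c ⟨x, hxW⟩).val * (TwistQC.val 𝒜 (h f' hf') ⟨x, hx'⟩ *
          TwistQC.val 𝒜 (TwistMul.gen 𝒜 hf' a) ⟨x, hx'⟩) := by rw [h5]
      _ = TwistQC.val 𝒜 (h f' hf') ⟨x, hx'⟩ * TwistQC.val 𝒜 (TwistMul.gen 𝒜 hf a) ⟨x, hx⟩ := by
          rw [h1]
          ring
  obtain ⟨s, hs⟩ := exists_glue 𝒜 hcov e h hcompat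
  refine ⟨s, hom_ext_gen 𝒜 hcov _ _ (fun f hf => ?_)⟩
  rw [mulHom_app, hs f hf]
  apply TwistQC.ext_val
  intro x
  rw [val_mulB, hkey f hf x]

/-- the global section is determined by the morphism. -/
theorem mulHom_injective (hcov : ∀ x : Proj 𝒜, ∃ f : A, f ∈ 𝒜 1 ∧ x ∈ Proj.basicOpen 𝒜 f)
    {e a b : ℤ} (hab : e + a = b) (s s' : Γ(Twist.twist 𝒜 e, (⊤ : (Proj 𝒜).Opens)))
    (h : mulHom 𝒜 (a := a) hab s = mulHom 𝒜 hab s') : s = s' := by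
  apply TwistQC.ext_val
  intro x
  obtain ⟨f, hf, hxf⟩ := hcov x.1
  have h1 := congrArg (fun φ : Twist.twist 𝒜 a ⟶ Twist.twist 𝒜 b =>
    TwistQC.val 𝒜 (φ.app (Proj.basicOpen 𝒜 f) (TwistMul.gen 𝒜 hf a)) ⟨x.1, hxf⟩) h
  simp only [mulHom_app, val_mulB, TwistQC.val_res] at h1
  exact (TwistMul.isUnit_val_gen 𝒜 hf a ⟨x.1, hxf⟩).mul_left_injective h1

end Groth.Agent.Lib.Helper2.Dual2
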