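import Groth.Agent.Lib.Helper2.Dual2
import Groth.Agent.Lib.Helper2.ProjCoh5

/-!
# Global sections of `O(e)` on projective space as polynomials, multiplicativity of `Psi` (helper2)
-/

set_option autoImplicit false
universe u
open CategoryTheory CategoryTheory.Limits AlgebraicGeometry Opposite TopologicalSpace

noncomputable section

namespace Groth.Agent.Lib.Helper2.Dual3

open Groth.Agent.Lib.Helper28 Groth.Agent.Lib.Helper28.QCohLoc Groth.Agent.Lib.Helper2.Dual1
  Groth.Agent.Lib.Helper2.Dual2 Groth.Agent.Lib.Helper2.ProjCoh2 Groth.Agent.Lib.Helper2.ProjCoh3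
  Groth.Agent.Lib.Helper2.ProjCoh4 Groth.Agent.Lib.Helper2.ProjCoh5

variable {n : ℕ} {R : Type u} [CommRing R]

theorem frac_mul_frac (m m' : PA n R) (c c' : Fin (n + 1) →₀ ℕ) :
    frac (m * m') (c + c') = frac m c * frac m' c' := by
  rw [frac, frac, frac, map_mul, map_add, neg_add, ← T_mul_T]
  ring

/-- representatives multiply. -/
theorem IsRep.mulB {e a b : ℤ} (h : e + a = b) {U : (Proj (gr n R)).Opens}
    {s : Γ(Twist.twist (gr n R) e, U)} {t : Γ(Twist.twist (gr n R) a, U)}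
    {c c' : Fin (n + 1) →₀ ℕ} {m m' : PA n R} (hs : IsRep e s c m) (ht : IsRep a t c' m') :
    IsRep b (mulB (gr n R) h s t) (c + c') (m * m') := by
  obtain ⟨i, hm, hi, hc, hval⟩ := hs
  obtain ⟨i', hm', hi', hc', hval'⟩ := ht
  refine ⟨i + i', SetLike.mul_mem_graded hm hm', ?_, ?_, ?_⟩
  · push_cast
    rw [hi, hi', map_add]
    push_cast
    omega
  · intro x hx
    rw [mon_add] at hx
    exact (x.1.isPrime.mem_or_mem hx).elim (hc x) (hc' x)
  · intro x
    rw [val_mulB, hval x, hval' x, Localization.mk_mul]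
    exact mk_congr x.1 (m * m') (mon_add c c').symm _ _

/-- **`Psi` is multiplicative**. -/
theorem Psi_mulB {e a b : ℤ} (h : e + a = b) (c₀ : Fin (n + 1) →₀ ℕ) (hc₀ : 0 < Finsupp.degree c₀)
    {U : (Proj (gr n R)).Opens} (hU : U = Proj.basicOpen (gr n R) (mon c₀))
    (s : Γ(Twist.twist (gr n R) e, U)) (t : Γ(Twist.twist (gr n R) a, U)) :
    Psi (mulB (gr n R) h s t) = Psi s * Psi t := by
  obtain ⟨k, m, hs⟩ := exists_isRep' c₀ hc₀ hU s
  obtain ⟨k', m', ht⟩ := exists_isRep' c₀ hc₀ hU t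
  rw [Psi_eq c₀ hc₀ hU hs, Psi_eq c₀ hc₀ hU ht, Psi_eq c₀ hc₀ hU (IsRep.mulB h hs ht),
    frac_mul_frac]

variable (n R) in
/-- the exponent of the variable `X i`. -/
abbrev ex (i : Fin (n + 1)) : Fin (n + 1) →₀ ℕ := Finsupp.single i 1

theorem degree_ex (i : Fin (n + 1)) : Finsupp.degree (ex n i) = 1 := by
  simp [ex]

theorem cov_eq (i : Idx.{u} n) : cov n R i = Proj.basicOpen (gr n R) (mon (ex n i.down)) := rfl

/-- the Laurent polynomial of a global section: computed on the first chart. -/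
def Pg {e : ℤ} (s : Γ(Twist.twist (gr n R) e, (⊤ : (Proj (gr n R)).Opens))) : Lau R (Fin (n + 1)) :=
  Psi (d := e) (U := cov n R (ULift.up 0)) (res (Twist.twist (gr n R) e) le_top s)

/-- the Laurent polynomial of a global section can be computed on any standard open. -/
theorem Psi_res_top {e : ℤ} (s : Γ(Twist.twist (gr n R) e, (⊤ : (Proj (gr n R)).Opens)))
    (c₀ : Fin (n + 1) →₀ ℕ) (hc₀ : 0 < Finsupp.degree c₀) {U : (Proj (gr n R)).Opens}
    (hU : U = Proj.basicOpen (gr n R) (mon c₀)) :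
    Psi (d := e) (U := U) (res (Twist.twist (gr n R) e) le_top s) = Pg s := by
  -- the common refinement
  let c₁ : Fin (n + 1) →₀ ℕ := c₀ + ex n 0
  have hc₁ : 0 < Finsupp.degree c₁ := by
    rw [map_add]
    omega
  let U' : (Proj (gr n R)).Opens := Proj.basicOpen (gr n R) (mon c₁)
  have hU'U : U' ≤ U := by
    rw [hU]
    apply Proj.basicOpen_mono
    rw [mon_add]
    exact Dvd.intro _ rfl
  have hU'0 : U' ≤ cov n R (ULift.up 0) := by
    apply Proj.basicOpen_mono
    rw [mon_add]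
    exact Dvd.intro_left _ rfl
  have h1 := Psi_res c₀ c₁ hc₀ hc₁ hU rfl hU'U (res (Twist.twist (gr n R) e) le_top s)
  have h2 := Psi_res (ex n 0) c₁ (by rw [degree_ex]; omega) hc₁ (cov_eq (ULift.up 0)) rfl hU'0
    (res (Twist.twist (gr n R) e) le_top s)
  rw [res_res] at h1 h2
  rw [← h1, Pg, ← h2]

/-- the support of the polynomial of a global section. -/
theorem ok_of_coeff_Pg_ne_zero {e : ℤ} (s : Γ(Twist.twist (gr n R) e, (⊤ : (Proj (gr n R)).Opens)))
    (u : Fin (n + 1) →₀ ℤ) (hu : (Pg s).coeff u ≠ 0) :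
    Finsupp.degree u = e ∧ ∀ i j : Fin (n + 1), u j < 0 → j = i := by
  refine ⟨?_, fun i j hj => ?_⟩
  · exact (ok_of_coeff_Psi_ne_zero (ex n 0) (by rw [degree_ex]; omega) (cov_eq (ULift.up 0))
      _ u hu).1
  · have h1 := Psi_res_top s (ex n i) (by rw [degree_ex]; omega) (cov_eq (ULift.up i))
    rw [← h1] at hu
    have h2 := (ok_of_coeff_Psi_ne_zero (ex n i) (by rw [degree_ex]; omega) (cov_eq (ULift.up i))
      _ u hu).2 j hj
    by_contra hcon
    rw [ex, Finsupp.single_apply, if_neg (fun h => hcon h.symm)] at h2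
    exact lt_irrefl 0 h2

/-- on `P^n`, `n ≥ 1`, the Laurent polynomial of a global section is a polynomial. -/
theorem nonneg_of_coeff_Pg_ne_zero (hn : 1 ≤ n) {e : ℤ}
    (s : Γ(Twist.twist (gr n R) e, (⊤ : (Proj (gr n R)).Opens)))
    (u : Fin (n + 1) →₀ ℤ) (hu : (Pg s).coeff u ≠ 0) (j : Fin (n + 1)) : 0 ≤ u j := by
  by_contra hcon
  push Not at hcon
  have h := (ok_of_coeff_Pg_ne_zero s u hu).2
  have h0 : j = 0 := h 0 j hcon
  have h1 : j = 1 := h 1 j hcon
  rw [h0] at h1
  have := congrArg Fin.val h1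
  simp at this
  omega

/-- the polynomial of a global section determines it. -/
theorem Pg_injective {e : ℤ} (s s' : Γ(Twist.twist (gr n R) e, (⊤ : (Proj (gr n R)).Opens)))
    (h : Pg s = Pg s') : s = s' := by
  refine eq_of_locally_eq (Twist.twist (gr n R) e) (cov n R) ⊤ (fun _ => le_top)
    (by rw [iSup_cov]) s s' (fun i => ?_)
  have h1 := Psi_res_top s (ex n i.down) (by rw [degree_ex]; omega) (cov_eq i)
  have h2 := Psi_res_top s' (ex n i.down) (by rw [degree_ex]; omega) (cov_eq i)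
  have h3 : Psi (d := e) (U := cov n R i) (res (Twist.twist (gr n R) e) le_top s -
      res (Twist.twist (gr n R) e) le_top s') = 0 := by
    have hadd := Psi_add (d := e) (ex n i.down) (by rw [degree_ex]; omega) (cov_eq i)
      (res (Twist.twist (gr n R) e) le_top s - res (Twist.twist (gr n R) e) le_top s')
      (res (Twist.twist (gr n R) e) le_top s')
    rw [sub_add_cancel, h1, h2, h] at hadd
    exact (add_eq_right.mp hadd.symm)
  exact sub_eq_zero.mp (Psi_injective (ex n i.down) (by rw [degree_ex]; omega) (cov_eq i) _ h3)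

/-- the global section of `O(e)` attached to a homogeneous polynomial of degree `k`, `e = k`. -/
def secOf {k : ℕ} {e : ℤ} (hk : (k : ℤ) = e) (f : gr n R k) :
    Γ(Twist.twist (gr n R) e, (⊤ : (Proj (gr n R)).Opens)) :=
  castSec (gr n R) hk (Twist.globalOf (gr n R) f)

theorem isRep_secOf {k : ℕ} {e : ℤ} (hk : (k : ℤ) = e) (f : gr n R k) (U : (Proj (gr n R)).Opens) :
    IsRep e (res (Twist.twist (gr n R) e) (le_top : U ≤ ⊤) (secOf hk f)) 0 (f : PA n R) := by
  refine ⟨k, f.2, by simp [hk], fun x hx => ?_, fun x => ?_⟩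
  · apply x.1.isPrime.ne_top
    rw [Ideal.eq_top_iff_one]
    have h1 : mon (R := R) (n := n) 0 = 1 := rfl
    rwa [h1] at hx
  · rw [TwistQC.val_res, secOf, val_castSec]
    rfl

theorem Pg_secOf {k : ℕ} {e : ℤ} (hk : (k : ℤ) = e) (f : gr n R k) :
    Pg (secOf hk f) = φ R (Fin (n + 1)) (f : PA n R) := by
  rw [Pg, Psi_eq (ex n 0) (by rw [degree_ex]; omega) (cov_eq (ULift.up 0)) (isRep_secOf hk f _),
    frac, map_zero, neg_zero, T_zero, mul_one]

end Groth.Agent.Lib.Helper2.Dual3
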