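import Groth.Agent.Lib.Helper2.ProjCoh10

/-!
# An explicit form of `H^n(P^n, O(-n-1-k)) ≃ R[x]_k` (helper2)
-/

set_option autoImplicit false
universe u
open CategoryTheory CategoryTheory.Limits AlgebraicGeometry Opposite TopologicalSpace

noncomputable section

namespace Groth.Agent.Lib.Helper2.Dual4

open Groth.Agent.Lib.Helper28 Groth.Agent.Lib.Helper2.ProjCoh2 Groth.Agent.Lib.Helper2.ProjCoh3
  Groth.Agent.Lib.Helper2.ProjCoh4 Groth.Agent.Lib.Helper2.ProjCoh5 Groth.Agent.Lib.Helper2.ProjCoh8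
  Groth.Agent.Lib.Helper2.ProjCoh9 Groth.Agent.Lib.Helper2.ProjCoh10
  Groth.Agent.Lib.Helper17.CechElem Groth.Agent.Lib.Helper2.CechNat2

variable (n : ℕ) (R : Type u) [CommRing R]

/-- the chosen natural comparison between Čech cohomology of the standard cover and cohomology. -/
def eC (p : ℕ) : ∀ M : (CohB1.ProjSpace n R).Modules, M.IsQuasicoherent →
    (↑(CohB1.cechH (cov n R) M p) ≃+ Coh.HH (CohB1.ProjSpace n R) M p) :=
  (CechNat3.exists_natural_equiv (CohB1.ProjSpace n R) (cov n R) (iSup_cov n R)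
    (isAffineOpen_iInf n R) p).choose

theorem eC_naturality (p : ℕ) (M M' : (CohB1.ProjSpace n R).Modules) (hM : M.IsQuasicoherent)
    (hM' : M'.IsQuasicoherent) (g : Coh.toAb M ⟶ Coh.toAb M')
    (x : ↑(CohB1.cechH (cov n R) M p)) :
    eC n R p M' hM' (cechMap (X := (CohB1.ProjSpace n R).toTopCat) (cov n R) g p x) =
      Sheaf.H.map g p (eC n R p M hM x) :=
  (CechNat3.exists_natural_equiv (CohB1.ProjSpace n R) (cov n R) (iSup_cov n R)
    (isAffineOpen_iInf n R) p).choose_spec M M' hM hM' g x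

variable (d : ℤ)

/-- the class in cohomology of a Čech cycle. -/
def cls (p : ℕ) (z : (L n R d).cycles p) :
    Coh.HH (CohB1.ProjSpace n R) (Twist.twistProjSpace n R d) p :=
  eC n R p (Twist.twistProjSpace n R d) (isQCoh_twist n R d) ((L n R d).homologyπ p z)

theorem cls_surjective (p : ℕ) : Function.Surjective (cls n R d p) := by
  intro y
  obtain ⟨x, rfl⟩ := (eC n R p (Twist.twistProjSpace n R d) (isQCoh_twist n R d)).surjective y
  obtain ⟨z, rfl⟩ := HomologyElem.homologyπ_surjective (L n R d) p x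
  exact ⟨z, rfl⟩

/-- **assembly, explicit form**. -/
theorem exists_linearEquiv (p i k : ℕ) (hi : (ComplexShape.up ℕ).prev p = i)
    (hk : (ComplexShape.up ℕ).next p = k) (D : ℕ)
    (θ₀ : (L n R d).X p →+ MvPolynomial.homogeneousSubmodule (Fin (n + 1)) R D)
    (hθr : ∀ (r : R) (α : (L n R d).X p), θ₀ (((φR n R d r).f p).hom α) = r • θ₀ α)
    (ha : ∀ y : (L n R d).X i, θ₀ (((L n R d).d i p).hom y) = 0)
    (hb : ∀ t, ∃ α : (L n R d).X p, ((L n R d).d p k).hom α = 0 ∧ θ₀ α = t)
    (hc : ∀ α : (L n R d).X p, ((L n R d).d p k).hom α = 0 → θ₀ α = 0 →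
      ∃ y : (L n R d).X i, ((L n R d).d i p).hom y = α) :
    ∃ e : Coh.HH (CohB1.ProjSpace n R) (Twist.twistProjSpace n R d) p ≃ₗ[R]
      MvPolynomial.homogeneousSubmodule (Fin (n + 1)) R D,
      ∀ z : (L n R d).cycles p, e (cls n R d p z) = θ₀ (((L n R d).iCycles p).hom z) := by
  classical
  let T : AddCommGrpCat.{u} := AddCommGrpCat.of (MvPolynomial.homogeneousSubmodule (Fin (n + 1)) R D)
  let θ : (L n R d).X p ⟶ T := AddCommGrpCat.ofHom θ₀
  have h : (L n R d).d i p ≫ θ = 0 :=
    AddCommGrpCat.hom_ext (AddMonoidHom.ext fun y => ha y)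
  have hbij := HomologyElem.bijective_desc (L n R d) i p k hi hk θ h hb hc
  let eH : ((L n R d).homology p : AddCommGrpCat.{u}) ≃+
      MvPolynomial.homogeneousSubmodule (Fin (n + 1)) R D :=
    AddEquiv.ofBijective (HomologyElem.desc (L n R d) i p hi θ h).hom hbij
  have heH : ∀ (r : R) (x : ((L n R d).homology p : AddCommGrpCat.{u})),
      eH ((HomologicalComplex.homologyMap (φR n R d r) p).hom x) = r • eH x := by
    intro r x
    let σ : T ⟶ T := AddCommGrpCat.ofHom
      (DistribSMul.toAddMonoidHom (MvPolynomial.homogeneousSubmodule (Fin (n + 1)) R D) r)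
    have h1 := HomologyElem.desc_naturality (L n R d) i p hi θ θ h h (φR n R d r) σ
      (AddCommGrpCat.hom_ext (AddMonoidHom.ext fun α => hθr r α))
    exact congrArg (fun f => f.hom x) h1
  have hQ : (Twist.twistProjSpace n R d).IsQuasicoherent := isQCoh_twist n R d
  let e : Coh.HH (CohB1.ProjSpace n R) (Twist.twistProjSpace n R d) p ≃+
      MvPolynomial.homogeneousSubmodule (Fin (n + 1)) R D :=
    (eC n R p (Twist.twistProjSpace n R d) hQ).symm.trans eH
  refine ⟨e.toLinearEquiv (fun r y => ?_), fun z => ?_⟩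
  · obtain ⟨x, rfl⟩ := (eC n R p (Twist.twistProjSpace n R d) hQ).surjective y
    have h2 : r • (eC n R p (Twist.twistProjSpace n R d) hQ) x =
        Sheaf.H.map (gR n R d r) p ((eC n R p (Twist.twistProjSpace n R d) hQ) x) := rfl
    rw [h2, ← eC_naturality n R p _ _ hQ hQ (gR n R d r) x]
    change eH ((eC n R p (Twist.twistProjSpace n R d) hQ).symm
      ((eC n R p (Twist.twistProjSpace n R d) hQ) _)) = r • eH ((eC n R p (Twist.twistProjSpace n R d) hQ).symm
      ((eC n R p (Twist.twistProjSpace n R d) hQ) x))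
    rw [AddEquiv.symm_apply_apply, AddEquiv.symm_apply_apply]
    exact heH r x
  · change eH ((eC n R p (Twist.twistProjSpace n R d) hQ).symm
      ((eC n R p (Twist.twistProjSpace n R d) hQ) _)) = _
    rw [AddEquiv.symm_apply_apply]
    exact HomologyElem.π_desc_apply (L n R d) i p hi θ h z

end Groth.Agent.Lib.Helper2.Dual4
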