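import Groth.Agent.Lib.Helper2.ProjCoh2

/-!
# The coefficientwise pairing on homogeneous polynomials is perfect (helper2)
-/

set_option autoImplicit false
universe u
open Finset

noncomputable section

namespace Groth.Agent.Lib.Helper2.DualAlg

open Groth.Agent.Lib.Helper2.ProjCoh2

variable {σ : Type} [Fintype σ] [DecidableEq σ] {R : Type u} [CommRing R]

/-- the exponents of total degree `k`. -/
def expo (σ : Type) [Fintype σ] [DecidableEq σ] (k : ℕ) : Finset (σ →₀ ℕ) :=
  (Finset.univ : Finset σ).finsuppAntidiag k

theorem mem_expo (k : ℕ) (m : σ →₀ ℕ) : m ∈ expo σ k ↔ Finsupp.degree m = k := by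
  rw [expo, Finset.mem_finsuppAntidiag, Finsupp.degree_eq_sum]
  simp

/-- the coefficientwise pairing, in degree `k`. -/
def dot (k : ℕ) (P : MvPolynomial σ R) : MvPolynomial σ R →ₗ[R] R :=
  ∑ m ∈ expo σ k, MvPolynomial.coeff m P • MvPolynomial.lcoeff R m

theorem dot_apply (k : ℕ) (P Q : MvPolynomial σ R) :
    dot k P Q = ∑ m ∈ expo σ k, MvPolynomial.coeff m P * MvPolynomial.coeff m Q := by
  simp [dot, LinearMap.sum_apply]

theorem dot_monomial (k : ℕ) (P : MvPolynomial σ R) (m : σ →₀ ℕ) (hm : Finsupp.degree m = k) :
    dot k P (MvPolynomial.monomial m 1) = MvPolynomial.coeff m P := by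
  rw [dot_apply, Finset.sum_eq_single m]
  · simp
  · intro m' _ hne
    rw [MvPolynomial.coeff_monomial, if_neg (fun h => hne h.symm), mul_zero]
  · intro h
    exact absurd ((mem_expo k m).2 hm) h

theorem eq_sum_of_isHomogeneous (k : ℕ) (Q : MvPolynomial σ R) (hQ : Q.IsHomogeneous k) :
    Q = ∑ m ∈ expo σ k, MvPolynomial.monomial m (MvPolynomial.coeff m Q) := by
  ext m'
  rw [MvPolynomial.coeff_sum]
  simp only [MvPolynomial.coeff_monomial]
  by_cases hm : Finsupp.degree m' = k
  · rw [Finset.sum_eq_single m']
    · simp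
    · intro b _ hb
      rw [if_neg hb]
    · intro h
      exact absurd ((mem_expo k m').2 hm) h
  · rw [hQ.coeff_eq_zero hm]
    symm
    apply Finset.sum_eq_zero
    intro b hb
    rw [if_neg]
    rintro rfl
    exact hm ((mem_expo k b).1 hb)

/-- **the coefficientwise pairing is perfect on homogeneous polynomials of a given degree**. -/
theorem dot_bijective (k : ℕ) :
    Function.Bijective (fun P : MvPolynomial.homogeneousSubmodule σ R k =>
      (dot k (P : MvPolynomial σ R)).comp (MvPolynomial.homogeneousSubmodule σ R k).subtype) := by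
  constructor
  · intro P P' h
    apply Subtype.ext
    ext m
    by_cases hm : Finsupp.degree m = k
    · have hmem : MvPolynomial.monomial m (1 : R) ∈ MvPolynomial.homogeneousSubmodule σ R k := by
        rw [MvPolynomial.mem_homogeneousSubmodule]
        have := MvPolynomial.isHomogeneous_monomial (R := R) (d := m) (n := k) 1
          (by rw [← hm, Finsupp.degree_eq_weight_one])
        exact this
      have h1 := LinearMap.congr_fun h ⟨_, hmem⟩
      simp only [LinearMap.comp_apply, Submodule.subtype_apply] at h1
      rwa [dot_monomial k _ m hm, dot_monomial k _ m hm] at h1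
    · have hP := (MvPolynomial.mem_homogeneousSubmodule _ _).1 P.2
      have hP' := (MvPolynomial.mem_homogeneousSubmodule _ _).1 P'.2
      rw [hP.coeff_eq_zero hm, hP'.coeff_eq_zero hm]
  · intro l
    have hmem : ∀ m ∈ expo σ k,
        MvPolynomial.monomial m (1 : R) ∈ MvPolynomial.homogeneousSubmodule σ R k := by
      intro m hm
      rw [MvPolynomial.mem_homogeneousSubmodule]
      exact MvPolynomial.isHomogeneous_monomial (R := R) (d := m) (n := k) 1
        (by rw [← (mem_expo k m).1 hm, Finsupp.degree_eq_weight_one])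
    classical
    let c : (σ →₀ ℕ) → R := fun m =>
      if hm : m ∈ expo σ k then l ⟨MvPolynomial.monomial m 1, hmem m hm⟩ else 0
    let P : MvPolynomial σ R := ∑ m ∈ expo σ k, MvPolynomial.monomial m (c m)
    have hP : P ∈ MvPolynomial.homogeneousSubmodule σ R k := by
      refine Submodule.sum_mem _ (fun m hm => ?_)
      rw [MvPolynomial.mem_homogeneousSubmodule]
      exact MvPolynomial.isHomogeneous_monomial (R := R) (d := m) (n := k) _
        (by rw [← (mem_expo k m).1 hm, Finsupp.degree_eq_weight_one])
    have hcoeff : ∀ m ∈ expo σ k, MvPolynomial.coeff m P = c m := by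
      intro m hm
      rw [MvPolynomial.coeff_sum]
      simp only [MvPolynomial.coeff_monomial]
      rw [Finset.sum_eq_single m]
      · simp
      · intro b _ hb
        rw [if_neg hb]
      · intro h
        exact absurd hm h
    refine ⟨⟨P, hP⟩, ?_⟩
    apply LinearMap.ext
    intro Q
    simp only [LinearMap.comp_apply, Submodule.subtype_apply]
    rw [dot_apply]
    have hQ := (MvPolynomial.mem_homogeneousSubmodule _ _).1 Q.2
    have h1 : Q = ∑ m ∈ (expo σ k).attach, (MvPolynomial.coeff m.1 (Q : MvPolynomial σ R)) •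
        (⟨MvPolynomial.monomial m.1 1, hmem m.1 m.2⟩ : MvPolynomial.homogeneousSubmodule σ R k) := by
      apply Subtype.ext
      rw [Submodule.coe_sum]
      conv_lhs => rw [eq_sum_of_isHomogeneous k (Q : MvPolynomial σ R) hQ]
      rw [← Finset.sum_attach]
      refine Finset.sum_congr rfl (fun m _ => ?_)
      rw [Submodule.coe_smul, MvPolynomial.smul_monomial, smul_eq_mul, mul_one]
    conv_rhs => rw [h1]
    rw [map_sum, ← Finset.sum_attach]
    refine Finset.sum_congr rfl (fun m _ => ?_)
    rw [hcoeff m.1 m.2, map_smul, smul_eq_mul, mul_comm]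
    congr 1
    exact dif_pos m.2

end Groth.Agent.Lib.Helper2.DualAlg
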