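import Groth.Agent.Lib.Helper2.Dual3
import Groth.Agent.Lib.Helper2.Dual4
import Groth.Agent.Lib.Helper2.DualAlg

/-!
# The explicit top cohomology of `O(-n-1-k)` on `P^n`, `n ≥ 1`, and the multiplication maps (helper2)
-/

set_option autoImplicit false
universe u
open CategoryTheory CategoryTheory.Limits AlgebraicGeometry Opposite TopologicalSpace

noncomputable section

namespace Groth.Agent.Lib.Helper2.Dual5

open Groth.Agent.Lib.Helper28 Groth.Agent.Lib.Helper2.ProjCoh2 Groth.Agent.Lib.Helper2.ProjCoh3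
  Groth.Agent.Lib.Helper2.ProjCoh4 Groth.Agent.Lib.Helper2.ProjCoh5 Groth.Agent.Lib.Helper2.ProjCoh8
  Groth.Agent.Lib.Helper2.ProjCoh9 Groth.Agent.Lib.Helper2.ProjCoh10
  Groth.Agent.Lib.Helper17.CechElem Groth.Agent.Lib.Helper2.CechNat2
  Groth.Agent.Lib.Helper2.Dual1 Groth.Agent.Lib.Helper2.Dual3 Groth.Agent.Lib.Helper2.Dual4

variable (p : ℕ) (R : Type u) [CommRing R]

/-- the indexing equivalence. -/
def ε : Idx.{u} (p + 1) ≃ Fin (p + 1 + 1) := Equiv.ulift

/-- the full tuple. -/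
abbrev xx : Fin (p + 1 + 1) → Idx.{u} (p + 1) := ProjCoh7.x₀ (ε p)

variable (k : ℕ) (d : ℤ) (hd : d = -(((p + 1 : ℕ) : ℤ) + 1 + k))

include hd in
theorem hdeg (m : Fin (p + 1 + 1) →₀ ℕ) (h : Finsupp.degree (negExp (p + 1) m) = d) :
    Finsupp.degree m = k := by
  subst hd
  exact degree_negExp_eq (p + 1) k m h

/-- the top-degree functional on cochains. -/
def Θ₀ : (L (p + 1) R d).X (p + 1) →+ MvPolynomial.homogeneousSubmodule (Fin (p + 1 + 1)) R k :=
  theta (negExp (p + 1)) (negExp_injective (p + 1)) (hdeg p k d hd) (xx p)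

theorem coeff_Θ₀ (α : (L (p + 1) R d).X (p + 1)) (m : Fin (p + 1 + 1) →₀ ℕ) :
    MvPolynomial.coeff m ((Θ₀ p R k d hd α : MvPolynomial.homogeneousSubmodule _ R k) :
      MvPolynomial (Fin (p + 1 + 1)) R) =
      psi R d (xx p) (comp (cov (p + 1) R) (PO R d) α (xx p)) (negExp (p + 1) m) := rfl

/-- **the explicit top cohomology**. -/
theorem exists_ΘH :
    ∃ e : Coh.HH (CohB1.ProjSpace (p + 1) R) (Twist.twistProjSpace (p + 1) R d) (p + 1) ≃ₗ[R]
      MvPolynomial.homogeneousSubmodule (Fin (p + 1 + 1)) R k,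
      ∀ z : (L (p + 1) R d).cycles (p + 1), e (cls (p + 1) R d (p + 1) z) =
        Θ₀ p R k d hd (((L (p + 1) R d).iCycles (p + 1)).hom z) := by
  classical
  subst hd
  let ν : (Fin (p + 1 + 1) →₀ ℕ) → (Fin (p + 1 + 1) →₀ ℤ) := negExp (p + 1)
  have hν : Function.Injective ν := negExp_injective (p + 1)
  have hdeg' : ∀ m, Finsupp.degree (ν m) = -(((p + 1 : ℕ) : ℤ) + 1 + k) → Finsupp.degree m = k :=
    degree_negExp_eq (p + 1) k
  have hpush : ∀ (t : MvPolynomial.homogeneousSubmodule (Fin (p + 1 + 1)) R k)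
      (e : Fin (p + 1 + 1) →₀ ℤ),
      push ν (t : MvPolynomial (Fin (p + 1 + 1)) R) e ≠ 0 →
        Finsupp.degree e = -(((p + 1 : ℕ) : ℤ) + 1 + k) ∧ ∀ j, e j < 0 := by
    intro t e he
    obtain ⟨m, rfl, hm⟩ := exists_of_push_ne_zero ν hν _ e he
    have hdm : Finsupp.degree m = k := by
      by_contra hcon
      exact hm (t.2.coeff_eq_zero hcon)
    refine ⟨?_, negExp_neg (p + 1) m⟩
    change Finsupp.degree (negExp (p + 1) m) = _
    rw [degree_negExp, hdm]
    push_cast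
    ring
  let x₀ : Fin (p + 1 + 1) → Idx.{u} (p + 1) := xx p
  let bad : (Fin (p + 1 + 1) →₀ ℤ) → Prop := fun e =>
    Finsupp.degree e = -(((p + 1 : ℕ) : ℤ) + 1 + k) ∧ ∀ j, e j < 0
  refine exists_linearEquiv (p + 1) R _ (p + 1) p (p + 1 + 1) (by simp) (by simp) k
    (theta ν hν hdeg' x₀) (theta_smul ν hν hdeg' x₀) ?_ ?_ ?_
  · intro y
    rw [theta_eq_zero_iff]
    intro m
    exact ProjCoh7.psi_d_top_eq_zero (ε p) (grading R (-(((p + 1 : ℕ) : ℤ) + 1 + k))) (ν m)
      (fun S hS => eq_univ_of_okI (p + 1) (ν m) (negExp_neg (p + 1) m) S hS) y x₀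
  · intro t
    obtain ⟨α, hα, hαb⟩ := ProjCoh7.exists_cocycle_top (ε p)
      (grading R (-(((p + 1 : ℕ) : ℤ) + 1 + k)))
      (push ν (t : MvPolynomial (Fin (p + 1 + 1)) R)) (fun e he =>
        ⟨(hpush t e he).1, fun j _ => Set.mem_univ _⟩)
    exact ⟨α, hα, theta_eq_of_psi_eq ν hν hdeg' x₀ t α hαb⟩
  · intro α hα hθ
    refine ProjCoh7.exists_boundary_top (ε p) (grading R (-(((p + 1 : ℕ) : ℤ) + 1 + k))) bad
      ?_ ?_ α hα ?_
    · intro e he
      by_cases hd : Finsupp.degree e = -(((p + 1 : ℕ) : ℤ) + 1 + k)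
      · have hex : ∃ j, 0 ≤ e j := by
          by_contra hcon
          push Not at hcon
          exact he ⟨hd, hcon⟩
        obtain ⟨j, hj⟩ := hex
        refine ⟨ULift.up j, fun S hS => ⟨hS.1, fun j' hj' => ?_⟩⟩
        rcases hS.2 j' hj' with h1 | h1
        · exfalso
          have h2 : j' = j := congrArg ULift.down h1
          rw [h2] at hj'
          omega
        · exact h1
      · exact ⟨ULift.up 0, fun S hS => absurd hS.1 hd⟩
    · intro e he S hS
      exact eq_univ_of_okI (p + 1) e he.2 S hS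
    · intro e he
      obtain ⟨m, hm⟩ := exists_negExp_eq (p + 1) e he.2
      have h1 := (theta_eq_zero_iff ν hν hdeg' x₀ α).1 hθ m
      have h2 : ν m = e := hm
      rw [h2] at h1
      exact h1

/-- the explicit top cohomology. -/
def ΘH : Coh.HH (CohB1.ProjSpace (p + 1) R) (Twist.twistProjSpace (p + 1) R d) (p + 1) ≃ₗ[R]
    MvPolynomial.homogeneousSubmodule (Fin (p + 1 + 1)) R k :=
  (exists_ΘH p R k d hd).choose

theorem ΘH_cls (z : (L (p + 1) R d).cycles (p + 1)) :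
    ΘH p R k d hd (cls (p + 1) R d (p + 1) z) =
      Θ₀ p R k d hd (((L (p + 1) R d).iCycles (p + 1)).hom z) :=
  (exists_ΘH p R k d hd).choose_spec z

end Groth.Agent.Lib.Helper2.Dual5
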