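import Groth.Agent.Lib.Helper2.Dual5

/-!
# The map induced on the top cohomology of `P^n` by a multiplication `O(a) ⟶ O(b)` (helper2)
-/

set_option autoImplicit false
set_option backward.isDefEq.respectTransparency.types false
universe u
open CategoryTheory CategoryTheory.Limits AlgebraicGeometry Opposite TopologicalSpace

noncomputable section

namespace Groth.Agent.Lib.Helper2.Dual6

open Groth.Agent.Lib.Helper28 Groth.Agent.Lib.Helper2.ProjCoh2 Groth.Agent.Lib.Helper2.ProjCoh3
  Groth.Agent.Lib.Helper2.ProjCoh4 Groth.Agent.Lib.Helper2.ProjCoh5 Groth.Agent.Lib.Helper2.ProjCoh8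
  Groth.Agent.Lib.Helper2.ProjCoh9 Groth.Agent.Lib.Helper2.ProjCoh10
  Groth.Agent.Lib.Helper17.CechElem Groth.Agent.Lib.Helper2.CechNat2
  Groth.Agent.Lib.Helper2.Dual1 Groth.Agent.Lib.Helper2.Dual3 Groth.Agent.Lib.Helper2.Dual4
  Groth.Agent.Lib.Helper2.Dual5 Groth.Agent.Lib.Helper2.DualAlg

variable (n : ℕ) (R : Type u) [CommRing R]

section Map

variable {a b : ℤ} (μ : Twist.twistProjSpace n R a ⟶ Twist.twistProjSpace n R b)

/-- the map of abelian sheaves underlying a morphism of twisting sheaves. -/
def gM : Coh.toAb (Twist.twistProjSpace n R a) ⟶ Coh.toAb (Twist.twistProjSpace n R b) :=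
  (SheafOfModules.toSheaf (CohB1.ProjSpace n R).ringCatSheaf).map μ

theorem gM_app (U : (Proj (gr n R)).Opens) (t : (PO R a).obj (op U)) :
    ((gM n R μ).hom.app (op U)).hom t = μ.app U t := rfl

/-- the induced map of Čech complexes. -/
def φM : L n R a ⟶ L n R b := (cechComplexFunctor (cov n R)).map (gM n R μ).hom

theorem comp_φM (q : ℕ) (α : (L n R a).X q) (x : Fin (q + 1) → Idx.{u} n) :
    comp (cov n R) (PO R b) (((φM n R μ).f q).hom α) x =
      μ.app (W (cov n R) x) (comp (cov n R) (PO R a) α x) :=
  Groth.Agent.Lib.Helper2.FullCech3.comp_map (cov n R) q (gM n R μ).hom α x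

/-- the induced map on cohomology, on classes of Čech cycles. -/
theorem H_map_cls (q : ℕ) (z : (L n R a).cycles q) :
    Sheaf.H.map (gM n R μ) q (cls n R a q z) =
      cls n R b q ((HomologicalComplex.cyclesMap (φM n R μ) q).hom z) := by
  have h1 := eC_naturality n R q (Twist.twistProjSpace n R a) (Twist.twistProjSpace n R b)
    (isQCoh_twist n R a) (isQCoh_twist n R b) (gM n R μ) ((L n R a).homologyπ q z)
  refine h1.symm.trans ?_
  have h2 : cechMap (X := (CohB1.ProjSpace n R).toTopCat) (cov n R) (gM n R μ) q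
      ((L n R a).homologyπ q z) =
      (L n R b).homologyπ q ((HomologicalComplex.cyclesMap (φM n R μ) q).hom z) :=
    congrArg (fun f => f.hom z) (HomologicalComplex.homologyπ_naturality (φM n R μ) q)
  exact congrArg (eC n R q (Twist.twistProjSpace n R b) (isQCoh_twist n R b)) h2

theorem iCycles_cyclesMap (q : ℕ) (z : (L n R a).cycles q) :
    ((L n R b).iCycles q).hom ((HomologicalComplex.cyclesMap (φM n R μ) q).hom z) =
      ((φM n R μ).f q).hom (((L n R a).iCycles q).hom z) :=
  congrArg (fun f => f.hom z) (HomologicalComplex.cyclesMap_i (φM n R μ) q)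

end Map

section Mul

variable {n R}
variable {e a b : ℤ} (hab : e + a = b)
  (s : Γ(Twist.twist (gr n R) e, (⊤ : (Proj (gr n R)).Opens)))

/-- the multiplication by a global section, between the twisting sheaves of projective space. -/
def μs : Twist.twistProjSpace n R a ⟶ Twist.twistProjSpace n R b := mulHom (gr n R) hab s

/-- **the Laurent polynomials of the sections get multiplied by the polynomial of `s`**. -/
theorem Psi_μs {q : ℕ} (x : Fin (q + 1) → Idx.{u} n) (t : (PO R a).obj (op (W (cov n R) x))) :
    Psi (d := b) (U := W (cov n R) x) ((μs hab s).app (W (cov n R) x) t) =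
      Pg s * Psi (d := a) (U := W (cov n R) x) t := by
  have h1 : (μs hab s).app (W (cov n R) x) t =
      mulB (gr n R) hab (QCohLoc.res (Twist.twist (gr n R) e) le_top s) t := rfl
  rw [h1, Psi_mulB hab (cx x) (degree_cx_pos x) (W_eq R x), Psi_res_top s (cx x) (degree_cx_pos x)
    (W_eq R x)]

end Mul

end Groth.Agent.Lib.Helper2.Dual6
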