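import Groth.Agent.Lib.Helper2.Dual6

/-!
# Duality for the twisting sheaves on `P^n`, `n ≥ 1` (helper2)
-/

set_option autoImplicit false
set_option backward.isDefEq.respectTransparency.types false
universe u
open CategoryTheory CategoryTheory.Limits AlgebraicGeometry Opposite TopologicalSpace

noncomputable section

namespace Groth.Agent.Lib.Helper2.Dual7

open Groth.Agent.Lib.Helper28 Groth.Agent.Lib.Helper2.ProjCoh2 Groth.Agent.Lib.Helper2.ProjCoh3
  Groth.Agent.Lib.Helper2.ProjCoh4 Groth.Agent.Lib.Helper2.ProjCoh5 Groth.Agent.Lib.Helper2.ProjCoh8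
  Groth.Agent.Lib.Helper2.ProjCoh9 Groth.Agent.Lib.Helper2.ProjCoh10
  Groth.Agent.Lib.Helper17.CechElem Groth.Agent.Lib.Helper2.CechNat2
  Groth.Agent.Lib.Helper2.Dual1 Groth.Agent.Lib.Helper2.Dual2 Groth.Agent.Lib.Helper2.Dual3
  Groth.Agent.Lib.Helper2.Dual4 Groth.Agent.Lib.Helper2.Dual5 Groth.Agent.Lib.Helper2.Dual6
  Groth.Agent.Lib.Helper2.DualAlg

section Alg

variable {σ : Type} [Fintype σ] [DecidableEq σ] {R : Type u} [CommRing R]

/-- the coefficients of the product of a homogeneous polynomial and a Laurent polynomial. -/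
theorem coeff_φ_mul (k : ℕ) (P : MvPolynomial σ R) (hP : P.IsHomogeneous k) (Q : Lau R σ)
    (u : σ →₀ ℤ) :
    (φ R σ P * Q).coeff u =
      ∑ m ∈ expo σ k, MvPolynomial.coeff m P * Q.coeff (-(castExp σ m) + u) := by
  conv_lhs => rw [eq_sum_of_isHomogeneous k P hP]
  rw [map_sum, Finset.sum_mul, AddMonoidAlgebra.coeff_sum, Finsupp.finset_sum_apply]
  refine Finset.sum_congr rfl (fun m _ => ?_)
  rw [φ_monomial, AddMonoidAlgebra.coeff_single_mul_apply]

/-- polynomials of degree zero are constants. -/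
def homog0 : MvPolynomial.homogeneousSubmodule σ R 0 ≃ₗ[R] R :=
  LinearEquiv.ofBijective
    ((MvPolynomial.lcoeff R 0).comp (MvPolynomial.homogeneousSubmodule σ R 0).subtype) (by
    constructor
    · rw [← LinearMap.ker_eq_bot, LinearMap.ker_eq_bot']
      intro P hP
      apply Subtype.ext
      ext m
      by_cases hm : m = 0
      · subst hm
        exact hP
      · have h1 := (MvPolynomial.mem_homogeneousSubmodule _ _).1 P.2
        have h2 : Finsupp.degree m ≠ 0 := by
          intro h0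
          exact hm ((Finsupp.degree_eq_zero_iff m).1 h0)
        rw [h1.coeff_eq_zero h2]
        rfl
    · intro r
      refine ⟨⟨MvPolynomial.C r, ?_⟩, ?_⟩
      · rw [MvPolynomial.mem_homogeneousSubmodule]
        exact MvPolynomial.isHomogeneous_C _ r
      · simp)

theorem homog0_apply (P : MvPolynomial.homogeneousSubmodule σ R 0) :
    homog0 P = MvPolynomial.coeff 0 (P : MvPolynomial σ R) := rfl

end Alg

variable (p : ℕ) (R : Type u) [CommRing R]

theorem hcov (n : ℕ) : ∀ x : Proj (gr n R), ∃ f : PA n R, f ∈ gr n R 1 ∧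
    x ∈ Proj.basicOpen (gr n R) f := by
  intro x
  have hx : x ∈ (⨆ i, cov n R i : (Proj (gr n R)).Opens) := by
    rw [iSup_cov]
    trivial
  obtain ⟨i, hi⟩ := Opens.mem_iSup.1 hx
  exact ⟨MvPolynomial.X i.down, X_mem n R i.down, hi⟩

section Trace

variable (b : ℤ) (hb : b = -(((p + 1 : ℕ) : ℤ) + 1 + (0 : ℕ)))

/-- the trace `H^n(P^n, O(-n-1)) ≃ R`. -/
def tr : Coh.HH (CohB1.ProjSpace (p + 1) R) (Twist.twistProjSpace (p + 1) R b) (p + 1) ≃ₗ[R] R :=
  (ΘH p R 0 b hb).trans homog0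

variable (k : ℕ) (a : ℤ) (ha : a = -(((p + 1 : ℕ) : ℤ) + 1 + k)) (hab : (k : ℤ) + a = b)

theorem negExp_zero_sub (m : Fin (p + 1 + 1) →₀ ℕ) :
    -(castExp (Fin (p + 1 + 1)) m) + negExp (p + 1) 0 = negExp (p + 1) m := by
  ext j
  simp only [Finsupp.add_apply, Finsupp.neg_apply, castExp_apply, negExp_apply,
    Finsupp.coe_zero, Pi.zero_apply]
  push_cast
  ring

/-- **the pairing formula**. -/
theorem tr_H_map (P : gr (p + 1) R k)
    (y : Coh.HH (CohB1.ProjSpace (p + 1) R) (Twist.twistProjSpace (p + 1) R a) (p + 1)) :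
    tr p R b hb (Sheaf.H.map (gM (p + 1) R (μs hab (secOf rfl P))) (p + 1) y) =
      dot k (P : PA (p + 1) R) (ΘH p R k a ha y : MvPolynomial.homogeneousSubmodule _ R k) := by
  obtain ⟨z, rfl⟩ := cls_surjective (p + 1) R a (p + 1) y
  rw [H_map_cls, tr, LinearEquiv.trans_apply, ΘH_cls, ΘH_cls, iCycles_cyclesMap, homog0_apply,
    coeff_Θ₀, comp_φM, psi_apply, Psi_μs, Pg_secOf,
    coeff_φ_mul k (P : PA (p + 1) R) ((MvPolynomial.mem_homogeneousSubmodule _ _).1 P.2),
    dot_apply]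
  refine Finset.sum_congr rfl (fun m _ => ?_)
  rw [negExp_zero_sub, coeff_Θ₀, psi_apply]

end Trace

end Groth.Agent.Lib.Helper2.Dual7
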