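import Groth.Agent.Lib.Helper2.Dual7

/-!
# Duality for the twisting sheaves on `P^n`, `n ≥ 1`: the main statement (helper2)
-/

set_option autoImplicit false
set_option backward.isDefEq.respectTransparency.types false
universe u
open CategoryTheory CategoryTheory.Limits AlgebraicGeometry Opposite TopologicalSpace

noncomputable section

namespace Groth.Agent.Lib.Helper2.Dual8

open Groth.Agent.Lib.Helper28 Groth.Agent.Lib.Helper2.ProjCoh2 Groth.Agent.Lib.Helper2.ProjCoh3
  Groth.Agent.Lib.Helper2.ProjCoh4 Groth.Agent.Lib.Helper2.ProjCoh5 Groth.Agent.Lib.Helper2.ProjCoh8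
  Groth.Agent.Lib.Helper2.ProjCoh9 Groth.Agent.Lib.Helper2.ProjCoh10
  Groth.Agent.Lib.Helper17.CechElem Groth.Agent.Lib.Helper2.CechNat2
  Groth.Agent.Lib.Helper2.Dual1 Groth.Agent.Lib.Helper2.Dual2 Groth.Agent.Lib.Helper2.Dual3
  Groth.Agent.Lib.Helper2.Dual4 Groth.Agent.Lib.Helper2.Dual5 Groth.Agent.Lib.Helper2.Dual6
  Groth.Agent.Lib.Helper2.Dual7 Groth.Agent.Lib.Helper2.DualAlg

variable {n : ℕ} {R : Type u} [CommRing R]

theorem Pg_zero {e : ℤ} : Pg (0 : Γ(Twist.twist (gr n R) e, (⊤ : (Proj (gr n R)).Opens))) = 0 := by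
  have h := Psi_add (d := e) (ex n 0) (by rw [degree_ex]; omega) (cov_eq (R := R) (ULift.up 0))
    (0 : Γ(Twist.twist (gr n R) e, cov n R (ULift.up 0))) 0
  rw [add_zero] at h
  have h0 : QCohLoc.res (Twist.twist (gr n R) e) (le_top : cov n R (ULift.up 0) ≤ ⊤)
      (0 : Γ(Twist.twist (gr n R) e, (⊤ : (Proj (gr n R)).Opens))) = 0 := map_zero _
  rw [Pg, h0]
  exact left_eq_add.mp h

/-- on `P^n`, `n ≥ 1`, the twisting sheaves of negative degree have no global sections. -/
theorem eq_zero_of_neg (hn : 1 ≤ n) {e : ℤ} (he : e < 0)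
    (s : Γ(Twist.twist (gr n R) e, (⊤ : (Proj (gr n R)).Opens))) : s = 0 := by
  apply Pg_injective
  rw [Pg_zero]
  ext u
  by_contra hu
  have h1 := (ok_of_coeff_Pg_ne_zero s u hu).1
  have h2 := nonneg_of_coeff_Pg_ne_zero hn s u hu
  have h3 : 0 ≤ Finsupp.degree u := by
    rw [Finsupp.degree_eq_sum]
    exact Finset.sum_nonneg (fun j _ => h2 j)
  omega

/-- on `P^n`, `n ≥ 1`, the global sections of `O(k)` are the homogeneous polynomials of degree `k`. -/
theorem exists_secOf (hn : 1 ≤ n) {k : ℕ} {e : ℤ} (hk : (k : ℤ) = e)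
    (s : Γ(Twist.twist (gr n R) e, (⊤ : (Proj (gr n R)).Opens))) :
    ∃ P : gr n R k, s = secOf hk P := by
  let P₀ : PA n R := pull (castExp (Fin (n + 1))) castExp_injective (Pg s).coeff
  have hP₀ : P₀ ∈ gr n R k := by
    rw [MvPolynomial.mem_homogeneousSubmodule]
    refine isHomogeneous_pull (d := e) (castExp (Fin (n + 1))) castExp_injective (fun m hm => ?_) _
      (fun u hu => (ok_of_coeff_Pg_ne_zero s u hu).1)
    rw [degree_castExp, ← hk] at hm
    exact_mod_cast hm
  refine ⟨⟨P₀, hP₀⟩, Pg_injective _ _ ?_⟩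
  rw [Pg_secOf]
  ext u
  by_cases hu : u ∈ Set.range (castExp (Fin (n + 1)))
  · obtain ⟨m, rfl⟩ := hu
    rw [coeff_φ]
    rfl
  · rw [coeff_φ_of_notMem_range _ _ hu]
    by_contra hne
    apply hu
    exact ⟨toNatExp u, castExp_toNatExp u (nonneg_of_coeff_Pg_ne_zero hn s u hne)⟩

variable (p : ℕ) (R)

/-- **duality for the twisting sheaves on `P^n`, `n = p + 1 ≥ 1`**. -/
theorem existsUnique_hom (b : ℤ) (hb : b = -(((p + 1 : ℕ) : ℤ) + 1 + (0 : ℕ))) (a : ℤ)
    (ψ : Coh.HH (CohB1.ProjSpace (p + 1) R) (Twist.twistProjSpace (p + 1) R a) (p + 1) →ₗ[R] R) :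
    ∃! φ : Twist.twistProjSpace (p + 1) R a ⟶ Twist.twistProjSpace (p + 1) R b,
      ∀ x, ψ x = tr p R b hb (Sheaf.H.map (gM (p + 1) R φ) (p + 1) x) := by
  by_cases hle : a ≤ b
  · -- the interesting case
    obtain ⟨k, hk⟩ : ∃ k : ℕ, (k : ℤ) = b - a := ⟨(b - a).toNat, Int.toNat_of_nonneg (by omega)⟩
    have ha : a = -(((p + 1 : ℕ) : ℤ) + 1 + k) := by
      rw [hk, hb]
      push_cast
      ring
    have hab : (k : ℤ) + a = b := by omega
    -- the linear form on polynomials
    let l : MvPolynomial.homogeneousSubmodule (Fin (p + 1 + 1)) R k →ₗ[R] R :=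
      ψ.comp (ΘH p R k a ha).symm.toLinearMap
    obtain ⟨P, hP⟩ := (dot_bijective (σ := Fin (p + 1 + 1)) (R := R) k).2 l
    have hP' : ∀ Q : MvPolynomial.homogeneousSubmodule (Fin (p + 1 + 1)) R k,
        dot k (P : PA (p + 1) R) (Q : PA (p + 1) R) = l Q := fun Q => LinearMap.congr_fun hP Q
    refine ⟨μs hab (secOf rfl P), fun x => ?_, fun φ' hφ' => ?_⟩
    · rw [tr_H_map p R b hb k a ha hab P x, hP']
      change ψ x = ψ ((ΘH p R k a ha).symm (ΘH p R k a ha x))
      rw [LinearEquiv.symm_apply_apply]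
    · obtain ⟨s, rfl⟩ := exists_eq_mulHom (gr (p + 1) R) (hcov R (p + 1)) hab φ'
      obtain ⟨P', rfl⟩ := exists_secOf (by omega : 1 ≤ p + 1) rfl s
      have hPP : P' = P := by
        apply (dot_bijective (σ := Fin (p + 1 + 1)) (R := R) k).1
        apply LinearMap.ext
        intro Q
        simp only [LinearMap.comp_apply, Submodule.subtype_apply]
        rw [hP']
        obtain ⟨y, rfl⟩ := (ΘH p R k a ha).surjective Q
        have h1 := tr_H_map p R b hb k a ha hab P' y
        have h2 := hφ' y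
        change ψ y = tr p R b hb (Sheaf.H.map (gM (p + 1) R (μs hab (secOf rfl P'))) (p + 1) y)
          at h2
        rw [← h1, ← h2]
        change ψ y = ψ ((ΘH p R k a ha).symm (ΘH p R k a ha y))
        rw [LinearEquiv.symm_apply_apply]
      rw [hPP]
      rfl
  · -- both sides vanish
    have hsub : Subsingleton
        (Coh.HH (CohB1.ProjSpace (p + 1) R) (Twist.twistProjSpace (p + 1) R a) (p + 1)) :=
      subsingleton_HH (p + 1) R a (p + 1) (by omega) (by
        rw [hb] at hle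
        push_cast at hle ⊢
        omega)
    have hab : (b - a) + a = b := by omega
    have huniq : ∀ φ φ' : Twist.twistProjSpace (p + 1) R a ⟶ Twist.twistProjSpace (p + 1) R b,
        φ = φ' := by
      intro φ φ'
      obtain ⟨s, rfl⟩ := exists_eq_mulHom (gr (p + 1) R) (hcov R (p + 1)) hab φ
      obtain ⟨s', rfl⟩ := exists_eq_mulHom (gr (p + 1) R) (hcov R (p + 1)) hab φ'
      rw [eq_zero_of_neg (by omega : 1 ≤ p + 1) (by omega) s,
        eq_zero_of_neg (by omega : 1 ≤ p + 1) (by omega) s']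
    refine ⟨0, fun x => ?_, fun φ' _ => huniq _ _⟩
    rw [Subsingleton.elim x 0, map_zero, map_zero, map_zero]

end Groth.Agent.Lib.Helper2.Dual8
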