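import Groth.Agent.Lib.Helper2.DualG7
import Groth.Agent.Lib.Helper2.Dual10
import Groth.Agent.Lib.Helper2.Dual11

/-!
# `O(-n-1)` with its trace is dualizing for the coherent modules on `P^n_R`, all `n` (helper2)
-/

set_option backward.isDefEq.respectTransparency.types false
set_option autoImplicit false
universe u
open CategoryTheory CategoryTheory.Limits AlgebraicGeometry Opposite TopologicalSpace Abelian

noncomputable section

namespace Groth.Agent.Lib.Helper2.DualG10

open Groth.Agent.Lib.Helper2.ProjCoh3 Groth.Agent.Lib.Helper2.ProjCoh4 Groth.Agent.Lib.Helper2.ProjCoh5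
  Groth.Agent.Lib.Helper2.SerreFin1 Groth.Agent.Lib.Helper2.SerreFin2 Groth.Agent.Lib.Helper2.HLesLin
  Groth.Agent.Lib.Helper2.HLes Groth.Agent.Lib.Helper2.DualG7 Groth.Agent.Lib.Helper2.Dual9

variable (n : ℕ) (R : Type u) [CommRing R] (b : ℤ) (hb : b = -((n : ℤ) + 1 + (0 : ℕ)))

/-- the trace, as a linear map. -/
abbrev trL : Coh.HH (CohB1.ProjSpace n R) (Twist.twistProjSpace n R b) n →ₗ[R] R :=
  (tr n R b hb).toLinearMap

theorem dinj_twist (a : ℤ) :
    DInj R n (Twist.twistProjSpace n R b) (trL n R b hb) (Twist.twistProjSpace n R a) := by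
  by_cases hn : 1 ≤ n
  · exact dinj_of_existsUnique (fun ψ => existsUnique_hom n R hn b hb a ψ)
  · have hn0 : n = 0 := by omega
    subst hn0
    have h1 : DInj R 0 (Twist.twistProjSpace 0 R b) (trL 0 R b hb) (Twist.twistProjSpace 0 R b) :=
      dinj_of_existsUnique (fun ψ => existsUnique_hom_of_le 0 R b hb b le_rfl ψ)
    exact dinj_of_epi (Dual11.twistIso R b a).hom h1

theorem dsurj_twist (a : ℤ) :
    DSurj R n (Twist.twistProjSpace n R b) (trL n R b hb) (Twist.twistProjSpace n R a) := by
  by_cases hn : 1 ≤ n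
  · exact dsurj_of_existsUnique (fun ψ => existsUnique_hom n R hn b hb a ψ)
  · have hn0 : n = 0 := by omega
    subst hn0
    have h1 : DSurj R 0 (Twist.twistProjSpace 0 R b) (trL 0 R b hb) (Twist.twistProjSpace 0 R b) :=
      dsurj_of_existsUnique (fun ψ => existsUnique_hom_of_le 0 R b hb b le_rfl ψ)
    exact dsurj_of_iso (Dual11.twistIso R b a) h1

variable [IsNoetherianRing R]

theorem dinj_coh (F : (CohB1.ProjSpace n R).Modules) (hF : Coh.IsCoh F) :
    DInj R n (Twist.twistProjSpace n R b) (trL n R b hb) F := by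
  obtain ⟨k, m, q, hq, -⟩ := Dual10.exists_presentation R n F hF
  exact dinj_of_epi q (dinj_sigma _ (fun _ => dinj_twist n R b hb m))

theorem dsurj_coh (F : (CohB1.ProjSpace n R).Modules) (hF : Coh.IsCoh F) :
    DSurj R n (Twist.twistProjSpace n R b) (trL n R b hb) F := by
  obtain ⟨k, m, q, hq, hK⟩ := Dual10.exists_presentation R n F hF
  let S : ShortComplex (CohB1.ProjSpace n R).Modules :=
    ShortComplex.mk (kernel.ι q) q (kernel.condition q)
  have hS : S.ShortExact :=
    { exact := ShortComplex.exact_kernel q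
      mono_f := inferInstanceAs (Mono (kernel.ι q))
      epi_g := inferInstanceAs (Epi q) }
  refine dsurj_of_shortExact S hS (dsurj_sigma _ (fun _ => dsurj_twist n R b hb m))
    (dinj_coh n R b hb (kernel q) hK) ?_
  intro y
  haveI : Coh.IsQCoh (kernel q) := hK.1
  have hsub : Subsingleton (Coh.HH (CohB1.ProjSpace n R) (kernel q) (n + 1)) :=
    Groth.Agent.S0022.result n R (kernel q) (n + 1) (by omega)
  obtain ⟨x, hx⟩ := exact₃ (shortExact_Sab S hS) n y (@Subsingleton.elim _ hsub _ _)
  exact ⟨x, hx⟩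

/-- **duality for coherent modules on `P^n_R`, `R` Noetherian**. -/
theorem existsUnique_coh (F : (CohB1.ProjSpace n R).Modules) (hF : Coh.IsCoh F)
    (ψ : Coh.HH (CohB1.ProjSpace n R) F n →ₗ[R] R) :
    ∃! φ : F ⟶ Twist.twistProjSpace n R b,
      ∀ x, ψ x = tr n R b hb (Sheaf.H.map
        ((SheafOfModules.toSheaf (CohB1.ProjSpace n R).ringCatSheaf).map φ) n x) :=
  existsUnique_of (dinj_coh n R b hb F hF) (dsurj_coh n R b hb F hF) ψ

end Groth.Agent.Lib.Helper2.DualG10
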