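import Groth.Agent.Lib.Helper2.Dual9
import Groth.Agent.Lib.Helper28.ModChartGlue
import Groth.Agent.Lib.Helper6.DevCore
import Groth.Agent.Lib.Helper6.DevPow

/-!
# From coherent to quasi-coherent modules in the duality statement (helper2)

Abstract part: `X` locally Noetherian over `Spec A`, `(ω, t)` a pair for which the duality map is bijective on the
coherent modules.  If a quasi-coherent `F` is "generated" by coherent modules on an affine cover, and its degree `r`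
cohomology is generated by the coherent modules mapping to it, then the duality map is bijective for `F`.
-/

set_option backward.isDefEq.respectTransparency.types false
set_option autoImplicit false
universe u
open CategoryTheory CategoryTheory.Limits AlgebraicGeometry Opposite TopologicalSpace Abelian

noncomputable section

namespace Groth.Agent.Lib.Helper2.DualQ1

open Groth.Agent.Lib.Helper2.SerreFin1 Groth.Agent.Lib.Helper2.Dual9 Groth.Agent.Lib.Helper28
  Groth.Agent.Lib.Helper28.QCohLoc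

attribute [local instance] Abelian.hasFiniteBiproducts

variable {X : Scheme.{u}}

theorem exact_evaluation' (S : ShortComplex (SheafOfModules.{u} X.ringCatSheaf)) (hS : S.Exact)
    (hm : Mono S.f) (V : X.Opens) (σ : S.X₂.val.obj (op V)) (h : (S.g.val.app (op V)).hom σ = 0) :
    ∃ κ : S.X₁.val.obj (op V), (S.f.val.app (op V)).hom κ = σ := by
  haveI : (SheafOfModules.evaluation.{u} X.ringCatSheaf (op V)).PreservesZeroMorphisms := by
    unfold SheafOfModules.evaluation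
    infer_instance
  have hS' := hS.map_of_mono_of_preservesKernel
    (SheafOfModules.evaluation.{u} X.ringCatSheaf (op V)) hm inferInstance
  rw [ShortComplex.moduleCat_exact_iff] at hS'
  exact hS' σ h

/-- sections killed by a morphism come from the kernel. -/
theorem exists_kernel_lift {G F : X.Modules} (g : G ⟶ F) (V : X.Opens) (σ : Γ(G, V))
    (h : g.app V σ = 0) : ∃ κ : Γ(kernel g, V), (kernel.ι g).app V κ = σ := by
  let S : ShortComplex X.Modules := ShortComplex.mk (kernel.ι g) g (kernel.condition g)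
  have hS : S.Exact := ShortComplex.exact_kernel g
  have hm : Mono S.f := inferInstanceAs (Mono (kernel.ι g))
  exact exact_evaluation' S hS hm V σ h


theorem isCoh_biprod {G G' : X.Modules} (hG : Coh.IsCoh G) (hG' : Coh.IsCoh G') :
    Coh.IsCoh (G ⊞ G') := by
  haveI : G.IsQuasicoherent := hG.1
  haveI : G'.IsQuasicoherent := hG'.1
  exact ⟨inferInstance,
    @Groth.Agent.Lib.Helper17.QCAlgGen.isFiniteType_biprod X G G' _ _ hG.2 hG'.2⟩

open Groth.Agent.Lib.Helper17.CohKer in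
theorem isCoh_kernel_of_isQCoh [IsLocallyNoetherian X] {G F : X.Modules} (g : G ⟶ F)
    (hG : Coh.IsCoh G) (hF : Coh.IsQCoh F) : Coh.IsCoh (kernel g) := by
  haveI : G.IsQuasicoherent := hG.1
  haveI : F.IsQuasicoherent := hF
  haveI : SheafOfModules.IsFiniteType.{u} (R := X.ringCatSheaf) G := hG.2
  exact ⟨isQuasicoherent_kernel g, isFiniteType_kernel g⟩


/-- sections over a basic open of a chart come from coherent modules, if those over the chart do. -/
theorem exists_lift_basicOpen {F : X.Modules} [F.IsQuasicoherent] {Ui : X.Opens}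
    (hUi : IsAffineOpen Ui)
    (hgen : ∀ y : Γ(F, Ui), ∃ (G : X.Modules) (_ : Coh.IsCoh G) (g : G ⟶ F) (σ : Γ(G, Ui)),
      g.app Ui σ = y)
    (r : Γ(X, Ui)) (W : X.Opens) (hW : W = X.basicOpen r) (y : Γ(F, W)) :
    ∃ (G : X.Modules) (_ : Coh.IsCoh G) (g : G ⟶ F) (σ : Γ(G, W)), g.app W σ = y := by
  subst hW
  have hloc : IsLocOn F Ui := isLocOn_of_isQuasicoherent F hUi
  obtain ⟨k, m, hkm⟩ := hloc.surj r y
  obtain ⟨G, hG, g, e, rfl⟩ := hgen m
  have hu : IsUnit ((ur r) ^ k) := (isUnit_ur r).pow k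
  refine ⟨G, hG, g, ((hu.unit⁻¹ : (Γ(X, X.basicOpen r))ˣ) : Γ(X, X.basicOpen r)) •
    QCohLoc.res G (X.basicOpen_le r) e, ?_⟩
  rw [Scheme.Modules.Hom.app_smul, app_res, ← hkm]
  change ((hu.unit⁻¹ : (Γ(X, X.basicOpen r))ˣ) : Γ(X, X.basicOpen r)) • ((ur r) ^ k • y) = y
  rw [smul_smul, IsUnit.val_inv_mul, one_smul]

section Abstract

variable (A : Type u) [CommRing A] [X.Over (Spec (CommRingCat.of A))]
  (r : ℕ) (ω : X.Modules) (t : Coh.HH X ω r →ₗ[A] A)

/-- the pair is dualizing for the coherent modules. -/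
def CohDual : Prop := ∀ G : X.Modules, Coh.IsCoh G → DInj A r ω t G ∧ DSurj A r ω t G

variable {A r ω t} (hC : CohDual A r ω t) {F : X.Modules} (ψ : Coh.HH X F r →ₗ[A] A)

/-- the morphism to `ω` attached to a morphism from a coherent module to `F`. -/
def phi {G : X.Modules} (hG : Coh.IsCoh G) (g : G ⟶ F) : G ⟶ ω :=
  ((hC G hG).2 (ψ.comp (Canon.HHlin A g r))).choose

theorem phi_spec {G : X.Modules} (hG : Coh.IsCoh G) (g : G ⟶ F) (x : Coh.HH X G r) :
    ψ (Canon.HHlin A g r x) = t (Canon.HHlin A (phi hC ψ hG g) r x) :=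
  ((hC G hG).2 (ψ.comp (Canon.HHlin A g r))).choose_spec x

theorem phi_unique {G : X.Modules} (hG : Coh.IsCoh G) (g : G ⟶ F) (φ : G ⟶ ω)
    (h : ∀ x, ψ (Canon.HHlin A g r x) = t (Canon.HHlin A φ r x)) : φ = phi hC ψ hG g := by
  have h1 := (hC G hG).1 (φ - phi hC ψ hG g) (fun x => by
    rw [HHlin_sub_apply, map_sub, ← h x, ← phi_spec hC ψ hG g x, sub_self])
  exact sub_eq_zero.mp h1

theorem comp_phi {G G' : X.Modules} (hG : Coh.IsCoh G) (hG' : Coh.IsCoh G') (h : G' ⟶ G)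
    (g : G ⟶ F) : h ≫ phi hC ψ hG g = phi hC ψ hG' (h ≫ g) := by
  apply phi_unique
  intro x
  rw [← HHlin_comp_apply, ← HHlin_comp_apply]
  exact phi_spec hC ψ hG g _

theorem phi_congr {G : X.Modules} (hG : Coh.IsCoh G) {g g' : G ⟶ F} (h : g = g') :
    phi hC ψ hG g = phi hC ψ hG g' := by
  subst h
  rfl

variable [IsLocallyNoetherian X] (hF : Coh.IsQCoh F)

include hF in
/-- `phi` kills the sections killed by `g`. -/
theorem phi_app_eq_zero {G : X.Modules} (hG : Coh.IsCoh G) (g : G ⟶ F) (V : X.Opens)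
    (σ : Γ(G, V)) (h : g.app V σ = 0) : (phi hC ψ hG g).app V σ = 0 := by
  obtain ⟨κ, rfl⟩ := exists_kernel_lift g V σ h
  have hK : Coh.IsCoh (kernel g) := isCoh_kernel_of_isQCoh g hG hF
  have h1 : kernel.ι g ≫ phi hC ψ hG g = 0 := by
    rw [comp_phi hC ψ hG hK]
    symm
    apply phi_unique
    intro x
    rw [HHlin_zero_apply, map_zero, kernel.condition g, HHlin_zero_apply, map_zero]
  have h2 : (kernel.ι g ≫ phi hC ψ hG g).app V κ = 0 := by
    rw [h1]
    rfl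
  exact h2


/-- `z` is the image of `y` under the morphism `F ⟶ ω` to be constructed. -/
def Rel (V : X.Opens) (y : Γ(F, V)) (z : Γ(ω, V)) : Prop :=
  ∃ (G : X.Modules) (hG : Coh.IsCoh G) (g : G ⟶ F) (σ : Γ(G, V)),
    g.app V σ = y ∧ (phi hC ψ hG g).app V σ = z

variable {hC ψ}

include hF in
theorem Rel.unique {V : X.Opens} {y : Γ(F, V)} {z z' : Γ(ω, V)} (h : Rel hC ψ V y z)
    (h' : Rel hC ψ V y z') : z = z' := by
  obtain ⟨G, hG, g, σ, rfl, rfl⟩ := h
  obtain ⟨G', hG', g', σ', h1, rfl⟩ := h'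
  have hB : Coh.IsCoh (G ⊞ G') := isCoh_biprod hG hG'
  let β : G ⊞ G' ⟶ F := biprod.desc g g'
  let τ : Γ(G ⊞ G', V) := (biprod.inl : G ⟶ G ⊞ G').app V σ - (biprod.inr : G' ⟶ G ⊞ G').app V σ'
  have e1 : β.app V ((biprod.inl : G ⟶ G ⊞ G').app V σ) = g.app V σ := by
    change ((biprod.inl : G ⟶ G ⊞ G') ≫ β).app V σ = _
    rw [biprod.inl_desc]
  have e2 : β.app V ((biprod.inr : G' ⟶ G ⊞ G').app V σ') = g'.app V σ' := by
    change ((biprod.inr : G' ⟶ G ⊞ G') ≫ β).app V σ' = _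
    rw [biprod.inr_desc]
  have h2 : β.app V τ = 0 := by
    change β.app V (_ - _) = 0
    rw [map_sub, e1, e2, h1, sub_self]
  have h3 := phi_app_eq_zero hC ψ hF hB β V τ h2
  have e3 : (phi hC ψ hB β).app V ((biprod.inl : G ⟶ G ⊞ G').app V σ) =
      (phi hC ψ hG g).app V σ := by
    change ((biprod.inl : G ⟶ G ⊞ G') ≫ phi hC ψ hB β).app V σ = _
    rw [comp_phi hC ψ hB hG, phi_congr hC ψ hG (biprod.inl_desc g g')]
  have e4 : (phi hC ψ hB β).app V ((biprod.inr : G' ⟶ G ⊞ G').app V σ') =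
      (phi hC ψ hG' g').app V σ' := by
    change ((biprod.inr : G' ⟶ G ⊞ G') ≫ phi hC ψ hB β).app V σ' = _
    rw [comp_phi hC ψ hB hG', phi_congr hC ψ hG' (biprod.inr_desc g g')]
  change (phi hC ψ hB β).app V (_ - _) = 0 at h3
  rw [map_sub, e3, e4] at h3
  exact sub_eq_zero.mp h3

theorem Rel.add {V : X.Opens} {y y' : Γ(F, V)} {z z' : Γ(ω, V)} (h : Rel hC ψ V y z)
    (h' : Rel hC ψ V y' z') : Rel hC ψ V (y + y') (z + z') := by
  obtain ⟨G, hG, g, σ, rfl, rfl⟩ := h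
  obtain ⟨G', hG', g', σ', rfl, rfl⟩ := h'
  have hB : Coh.IsCoh (G ⊞ G') := isCoh_biprod hG hG'
  let β : G ⊞ G' ⟶ F := biprod.desc g g'
  refine ⟨G ⊞ G', hB, β,
    (biprod.inl : G ⟶ G ⊞ G').app V σ + (biprod.inr : G' ⟶ G ⊞ G').app V σ', ?_, ?_⟩
  · have e1 : β.app V ((biprod.inl : G ⟶ G ⊞ G').app V σ) = g.app V σ := by
      change ((biprod.inl : G ⟶ G ⊞ G') ≫ β).app V σ = _
      rw [biprod.inl_desc]
    have e2 : β.app V ((biprod.inr : G' ⟶ G ⊞ G').app V σ') = g'.app V σ' := by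
      change ((biprod.inr : G' ⟶ G ⊞ G') ≫ β).app V σ' = _
      rw [biprod.inr_desc]
    rw [map_add, e1, e2]
  · have e3 : (phi hC ψ hB β).app V ((biprod.inl : G ⟶ G ⊞ G').app V σ) =
        (phi hC ψ hG g).app V σ := by
      change ((biprod.inl : G ⟶ G ⊞ G') ≫ phi hC ψ hB β).app V σ = _
      rw [comp_phi hC ψ hB hG, phi_congr hC ψ hG (biprod.inl_desc g g')]
    have e4 : (phi hC ψ hB β).app V ((biprod.inr : G' ⟶ G ⊞ G').app V σ') =
        (phi hC ψ hG' g').app V σ' := by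
      change ((biprod.inr : G' ⟶ G ⊞ G') ≫ phi hC ψ hB β).app V σ' = _
      rw [comp_phi hC ψ hB hG', phi_congr hC ψ hG' (biprod.inr_desc g g')]
    rw [map_add, e3, e4]

theorem Rel.smul {V : X.Opens} {y : Γ(F, V)} {z : Γ(ω, V)} (h : Rel hC ψ V y z) (a : Γ(X, V)) :
    Rel hC ψ V (a • y) (a • z) := by
  obtain ⟨G, hG, g, σ, rfl, rfl⟩ := h
  exact ⟨G, hG, g, a • σ, Scheme.Modules.Hom.app_smul g a σ,
    Scheme.Modules.Hom.app_smul (phi hC ψ hG g) a σ⟩

theorem Rel.res {V V' : X.Opens} {y : Γ(F, V)} {z : Γ(ω, V)} (h : Rel hC ψ V y z) (hV : V' ≤ V) :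
    Rel hC ψ V' (QCohLoc.res F hV y) (QCohLoc.res ω hV z) := by
  obtain ⟨G, hG, g, σ, rfl, rfl⟩ := h
  exact ⟨G, hG, g, QCohLoc.res G hV σ, app_res g hV σ, app_res (phi hC ψ hG g) hV σ⟩


section Chart

variable (hC ψ)
variable {ι : Type u} (U : ι → X.Opens) (hU : ∀ i, IsAffineOpen (U i))
  (hcov : ∀ x : X, ∃ i, x ∈ U i)
  (hgen : ∀ (i : ι) (y : Γ(F, U i)), ∃ (G : X.Modules) (_ : Coh.IsCoh G) (g : G ⟶ F)
    (σ : Γ(G, U i)), g.app (U i) σ = y)

include hgen in
theorem exists_rel (i : ι) (y : Γ(F, U i)) : ∃ z, Rel hC ψ (U i) y z := by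
  obtain ⟨G, hG, g, σ, h⟩ := hgen i y
  exact ⟨_, G, hG, g, σ, h, rfl⟩

/-- the map on the sections over a chart. -/
def psiFun (i : ι) (y : Γ(F, U i)) : Γ(ω, U i) := (exists_rel hC ψ U hgen i y).choose

theorem rel_psiFun (i : ι) (y : Γ(F, U i)) : Rel hC ψ (U i) y (psiFun hC ψ U hgen i y) :=
  (exists_rel hC ψ U hgen i y).choose_spec

/-- the map on the sections over a chart, as an additive map. -/
def psi (i : ι) : Γ(F, U i) →+ Γ(ω, U i) :=
  AddMonoidHom.mk' (psiFun hC ψ U hgen i) (fun y y' =>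
    Rel.unique hF (rel_psiFun hC ψ U hgen i (y + y'))
      ((rel_psiFun hC ψ U hgen i y).add (rel_psiFun hC ψ U hgen i y')))

theorem rel_psi (i : ι) (y : Γ(F, U i)) : Rel hC ψ (U i) y (psi hC ψ hF U hgen i y) :=
  rel_psiFun hC ψ U hgen i y

theorem psi_smul (i : ι) (a : Γ(X, U i)) (y : Γ(F, U i)) :
    psi hC ψ hF U hgen i (a • y) = a • psi hC ψ hF U hgen i y :=
  Rel.unique hF (rel_psi hC ψ hF U hgen i (a • y)) ((rel_psi hC ψ hF U hgen i y).smul a)

theorem isExt_of_rel (i : ι) {W : X.Opens} (hW : W ≤ U i) {y : Γ(F, W)} {z : Γ(ω, W)}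
    (h : Rel hC ψ W y z) : IsExt (psi hC ψ hF U hgen i) W y z := by
  intro r hr k m hm
  have h1 : Rel hC ψ (X.basicOpen r) ((ur r) ^ k • QCohLoc.res F hr y)
      ((ur r) ^ k • QCohLoc.res ω hr z) := (h.res hr).smul _
  have h2 : Rel hC ψ (X.basicOpen r) (QCohLoc.res F (X.basicOpen_le r) m)
      (QCohLoc.res ω (X.basicOpen_le r) (psi hC ψ hF U hgen i m)) :=
    (rel_psi hC ψ hF U hgen i m).res _
  rw [hm] at h1
  exact Rel.unique hF h1 h2

/-- the data to glue. -/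
def chartData : ChartHomData F ω where
  ι := ι
  U := U
  hU := hU
  cov := hcov
  loc i := by
    haveI : F.IsQuasicoherent := hF
    exact isLocOn_of_isQuasicoherent F (hU i)
  ψ := psi hC ψ hF U hgen
  smul := psi_smul hC ψ hF U hgen
  compat i j m := by
    refine ext_eq _ _ _ _ _ _ _ ?_
    exact isExt_of_rel hC ψ hF U hgen i inf_le_left ((rel_psi hC ψ hF U hgen j m).res inf_le_right)

/-- the glued morphism. -/
def glued : F ⟶ ω := (chartData hC ψ hF U hU hcov hgen).hom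

theorem glued_app_of_rel (i : ι) {W : X.Opens} (hW : W ≤ U i) {y : Γ(F, W)} {z : Γ(ω, W)}
    (h : Rel hC ψ W y z) : (glued hC ψ hF U hU hcov hgen).app W y = z := by
  have h1 := (chartData hC ψ hF U hU hcov hgen).hom_app_of_le i hW y
  refine h1.trans ?_
  exact ext_eq _ _ _ _ _ _ _ (isExt_of_rel hC ψ hF U hgen i hW h)

theorem comp_glued {G : X.Modules} (hG : Coh.IsCoh G) (g : G ⟶ F) :
    g ≫ glued hC ψ hF U hU hcov hgen = phi hC ψ hG g := by
  refine hom_ext_of_local _ _ (fun W => ∃ i, W ≤ U i) (fun V V' h => fun ⟨i, hi⟩ => ⟨i, h.trans hi⟩)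
    (fun x => ?_) ?_
  · obtain ⟨i, hi⟩ := hcov x
    exact ⟨U i, ⟨i, le_rfl⟩, hi⟩
  · rintro W ⟨i, hW⟩ σ
    change (glued hC ψ hF U hU hcov hgen).app W (g.app W σ) = _
    exact glued_app_of_rel hC ψ hF U hU hcov hgen i hW ⟨G, hG, g, σ, rfl, rfl⟩

include hC hF hU hcov hgen in
/-- **surjectivity of the duality map for `F`**. -/
theorem exists_hom
    (hH : ∀ y : Coh.HH X F r, ∃ (G : X.Modules) (_ : Coh.IsCoh G) (g : G ⟶ F) (y' : Coh.HH X G r),
      Canon.HHlin A g r y' = y) :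
    ∃ φ : F ⟶ ω, ∀ y, ψ y = t (Canon.HHlin A φ r y) := by
  refine ⟨glued hC ψ hF U hU hcov hgen, fun y => ?_⟩
  obtain ⟨G, hG, g, y', rfl⟩ := hH y
  rw [HHlin_comp_apply, comp_glued hC ψ hF U hU hcov hgen hG g]
  exact phi_spec hC ψ hG g y'


include hC hF hU hcov hgen in
/-- **injectivity of the duality map for `F`**. -/
theorem hom_eq_zero (φ : F ⟶ ω) (h : ∀ y, t (Canon.HHlin A φ r y) = 0) : φ = 0 := by
  have h0 : ∀ (G : X.Modules) (_ : Coh.IsCoh G) (g : G ⟶ F), g ≫ φ = 0 := by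
    intro G hG g
    refine (hC G hG).1 (g ≫ φ) (fun x => ?_)
    rw [← HHlin_comp_apply]
    exact h _
  have h1 : ∀ (i : ι) (y : Γ(F, U i)), φ.app (U i) y = 0 := by
    intro i y
    obtain ⟨G, hG, g, σ, rfl⟩ := hgen i y
    change (g ≫ φ).app (U i) σ = 0
    rw [h0 G hG g]
    rfl
  haveI : F.IsQuasicoherent := hF
  refine hom_ext_of_local _ _ (fun W => ∃ i, W ≤ U i) (fun V V' h => fun ⟨i, hi⟩ => ⟨i, h.trans hi⟩)
    (fun x => ?_) ?_
  · obtain ⟨i, hi⟩ := hcov x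
    exact ⟨U i, ⟨i, le_rfl⟩, hi⟩
  · rintro W ⟨i, hW⟩ x
    have hloc : IsLocOn F (U i) := isLocOn_of_isQuasicoherent F (hU i)
    have hpt : ∀ q : W, ∃ (V : X.Opens) (hV : V ≤ W), q.1 ∈ V ∧
        QCohLoc.res ω hV (φ.app W x) = QCohLoc.res ω hV ((0 : F ⟶ ω).app W x) := by
      intro q
      obtain ⟨r, hr, hqr, k, m, hkm⟩ := exists_rep hloc (hU i) hW x q.1 q.2
      refine ⟨X.basicOpen r, hr, hqr, ?_⟩
      have e1 : ((ur r) ^ k • QCohLoc.res ω hr (φ.app W x) : Γ(ω, X.basicOpen r)) = 0 := by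
        rw [← app_res, ← Scheme.Modules.Hom.app_smul, hkm, app_res, h1, QCohLoc.res_zero]
      have e2 : QCohLoc.res ω hr ((0 : F ⟶ ω).app W x) = 0 := QCohLoc.res_zero ω hr
      rw [e2]
      have e3 : ((ur r) ^ k • QCohLoc.res ω hr (φ.app W x) : Γ(ω, X.basicOpen r)) =
          (ur r) ^ k • (0 : Γ(ω, X.basicOpen r)) := by rw [e1, smul_zero]
      exact ((isUnit_ur r).pow k).smul_left_cancel.1 e3
    choose V hV hqV hres using hpt
    refine eq_of_locally_eq ω V W hV ?_ _ _ hres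
    intro q hq
    exact Opens.mem_iSup.mpr ⟨⟨q, hq⟩, hqV ⟨q, hq⟩⟩

end Chart

end Abstract

end Groth.Agent.Lib.Helper2.DualQ1
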