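import Groth.Agent.Lib.Helper2.Dual6
import Groth.Agent.Lib.Helper2.DualQ1

/-!
# Čech classes of quasi-coherent modules on `P^n_R` and lifting of top degree cocycles (helper2)
-/

set_option autoImplicit false
set_option backward.isDefEq.respectTransparency.types false
universe u
open CategoryTheory CategoryTheory.Limits AlgebraicGeometry Opposite TopologicalSpace

noncomputable section

namespace Groth.Agent.Lib.Helper2.DualQ3

open Groth.Agent.Lib.Helper28 Groth.Agent.Lib.Helper2.ProjCoh2 Groth.Agent.Lib.Helper2.ProjCoh3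
  Groth.Agent.Lib.Helper2.ProjCoh4 Groth.Agent.Lib.Helper2.ProjCoh5 Groth.Agent.Lib.Helper2.ProjCoh8
  Groth.Agent.Lib.Helper2.ProjCoh9 Groth.Agent.Lib.Helper2.ProjCoh10
  Groth.Agent.Lib.Helper17.CechElem Groth.Agent.Lib.Helper2.CechNat2
  Groth.Agent.Lib.Helper2.Dual4

variable (n : ℕ) (R : Type u) [CommRing R]

/-- the Čech complex of a module for the standard cover. -/
abbrev LM (M : (CohB1.ProjSpace n R).Modules) : CochainComplex AddCommGrpCat.{u} ℕ :=
  K (cov n R) M.presheaf

variable {M M' : (CohB1.ProjSpace n R).Modules} (μ : M ⟶ M')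

/-- the map of abelian sheaves underlying a morphism of modules. -/
def gMM : Coh.toAb M ⟶ Coh.toAb M' :=
  (SheafOfModules.toSheaf (CohB1.ProjSpace n R).ringCatSheaf).map μ

/-- the induced map of Čech complexes. -/
def φMM : LM n R M ⟶ LM n R M' := (cechComplexFunctor (cov n R)).map (gMM n R μ).hom

theorem comp_φMM (q : ℕ) (α : (LM n R M).X q) (x : Fin (q + 1) → Idx.{u} n) :
    comp (cov n R) M'.presheaf (((φMM n R μ).f q).hom α) x =
      μ.app (W (cov n R) x) (comp (cov n R) M.presheaf α x) :=
  Groth.Agent.Lib.Helper2.FullCech3.comp_map (cov n R) q (gMM n R μ).hom α x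

variable (M) in
/-- the class in cohomology of a Čech cycle. -/
def clsM (hM : M.IsQuasicoherent) (p : ℕ) (z : (LM n R M).cycles p) :
    Coh.HH (CohB1.ProjSpace n R) M p :=
  eC n R p M hM ((LM n R M).homologyπ p z)

variable (M) in
theorem clsM_surjective (hM : M.IsQuasicoherent) (p : ℕ) :
    Function.Surjective (clsM n R M hM p) := by
  intro y
  obtain ⟨x, rfl⟩ := (eC n R p M hM).surjective y
  obtain ⟨z, rfl⟩ := HomologyElem.homologyπ_surjective (LM n R M) p x
  exact ⟨z, rfl⟩

/-- the induced map on cohomology, on classes of Čech cycles. -/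
theorem H_map_clsM (hM : M.IsQuasicoherent) (hM' : M'.IsQuasicoherent) (q : ℕ)
    (z : (LM n R M).cycles q) :
    Sheaf.H.map (gMM n R μ) q (clsM n R M hM q z) =
      clsM n R M' hM' q ((HomologicalComplex.cyclesMap (φMM n R μ) q).hom z) := by
  have h1 := eC_naturality n R q M M' hM hM' (gMM n R μ) ((LM n R M).homologyπ q z)
  refine h1.symm.trans ?_
  have h2 : cechMap (X := (CohB1.ProjSpace n R).toTopCat) (cov n R) (gMM n R μ) q
      ((LM n R M).homologyπ q z) =
      (LM n R M').homologyπ q ((HomologicalComplex.cyclesMap (φMM n R μ) q).hom z) :=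
    congrArg (fun f => f.hom z) (HomologicalComplex.homologyπ_naturality (φMM n R μ) q)
  exact congrArg (eC n R q M' hM') h2

theorem iCycles_cyclesMapM (q : ℕ) (z : (LM n R M).cycles q) :
    ((LM n R M').iCycles q).hom ((HomologicalComplex.cyclesMap (φMM n R μ) q).hom z) =
      ((φMM n R μ).f q).hom (((LM n R M).iCycles q).hom z) :=
  congrArg (fun f => f.hom z) (HomologicalComplex.cyclesMap_i (φMM n R μ) q)


theorem exists_of_isZero_homology (L : CochainComplex AddCommGrpCat.{u} ℕ) (p : ℕ)
    (h : IsZero (L.homology (p + 1))) (α : L.X (p + 1)) (hα : L.d (p + 1) (p + 2) α = 0) :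
    ∃ β : L.X p, L.d p (p + 1) β = α := by
  rw [← HomologicalComplex.exactAt_iff_isZero_homology,
    HomologicalComplex.exactAt_iff' L p (p + 1) (p + 2) (by simp) (by simp),
    ShortComplex.ab_exact_iff] at h
  exact h α hα

theorem φMM_comm_apply (p q : ℕ) (α : (LM n R M).X p) :
    ((φMM n R μ).f q).hom (((LM n R M).d p q).hom α) =
      ((LM n R M').d p q).hom (((φMM n R μ).f p).hom α) :=
  (congrArg (fun f => f.hom α) ((φMM n R μ).comm p q)).symm

open Groth.Agent.Lib.Helper17.CohKer in
/-- **lifting of cocycles** along a morphism, when the next Čech cohomology of the kernel vanishes. -/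
theorem exists_cycle_lift {G F : (CohB1.ProjSpace n R).Modules} (g : G ⟶ F) (p : ℕ)
    (hK : IsZero ((LM n R (kernel g)).homology (p + 1)))
    (z : (LM n R F).cycles p) (ε : (LM n R G).X p)
    (hε : ((φMM n R g).f p).hom ε = ((LM n R F).iCycles p).hom z) :
    ∃ z' : (LM n R G).cycles p, (HomologicalComplex.cyclesMap (φMM n R g) p).hom z' = z := by
  have hdz : ((LM n R F).d p (p + 1)).hom (((LM n R F).iCycles p).hom z) = 0 :=
    congrArg (fun f => f.hom z) ((LM n R F).iCycles_d p (p + 1))
  -- step 1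
  have h1 : ((φMM n R g).f (p + 1)).hom (((LM n R G).d p (p + 1)).hom ε) = 0 := by
    rw [φMM_comm_apply, hε, hdz]
  -- step 2
  have h2 : ∀ y : Fin (p + 2) → Idx.{u} n, ∃ κ : Γ(kernel g, W (cov n R) y),
      (kernel.ι g).app (W (cov n R) y) κ =
        comp (cov n R) G.presheaf (((LM n R G).d p (p + 1)).hom ε) y := by
    intro y
    apply exists_kernel_app_eq
    rw [← comp_φMM, h1]
    exact comp_zero (cov n R) F.presheaf y
  choose κc hκc using h2
  let κ : (LM n R (kernel g)).X (p + 1) := mk (cov n R) (kernel g).presheaf κc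
  have h3 : ((φMM n R (kernel.ι g)).f (p + 1)).hom κ = ((LM n R G).d p (p + 1)).hom ε := by
    apply ext
    intro y
    rw [comp_φMM, comp_mk]
    exact hκc y
  -- injectivity
  have hinj : ∀ (q : ℕ) (a b : (LM n R (kernel g)).X q),
      ((φMM n R (kernel.ι g)).f q).hom a = ((φMM n R (kernel.ι g)).f q).hom b → a = b := by
    intro q a b hab
    apply ext
    intro y
    apply kernel_ι_app_injective g
    have e1 := comp_φMM n R (kernel.ι g) q a y
    have e2 := comp_φMM n R (kernel.ι g) q b y
    rw [hab] at e1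
    exact e1.symm.trans e2
  -- step 3
  have h4 : ((LM n R (kernel g)).d (p + 1) (p + 2)).hom κ = 0 := by
    apply hinj
    rw [φMM_comm_apply, h3, map_zero]
    exact congrArg (fun f => f.hom ε) ((LM n R G).d_comp_d p (p + 1) (p + 2))
  -- step 4
  obtain ⟨l, hl⟩ := exists_of_isZero_homology (LM n R (kernel g)) p hK κ h4
  -- step 5
  let ε' : (LM n R G).X p := ε - ((φMM n R (kernel.ι g)).f p).hom l
  have h5 : ((LM n R G).d p (p + 1)).hom ε' = 0 := by
    change ((LM n R G).d p (p + 1)).hom (ε - ((φMM n R (kernel.ι g)).f p).hom l) = 0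
    rw [map_sub, ← φMM_comm_apply, hl, h3, sub_self]
  have h6 : ((φMM n R g).f p).hom (((φMM n R (kernel.ι g)).f p).hom l) = 0 := by
    apply ext
    intro y
    rw [comp_φMM, comp_φMM, app_kernel_ι_app]
    exact (comp_zero (cov n R) F.presheaf y).symm
  have h7 : ((φMM n R g).f p).hom ε' = ((LM n R F).iCycles p).hom z := by
    change ((φMM n R g).f p).hom (ε - ((φMM n R (kernel.ι g)).f p).hom l) = _
    rw [map_sub, h6, sub_zero, hε]
  -- step 6
  obtain ⟨z', hz'⟩ := HomologyElem.exists_cycle (LM n R G) p (p + 1) (by simp) ε' h5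
  refine ⟨z', ?_⟩
  apply HomologyElem.iCycles_injective (LM n R F) p
  rw [iCycles_cyclesMapM]
  exact (congrArg _ hz').trans h7

end Groth.Agent.Lib.Helper2.DualQ3
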