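import Groth.Agent.Lib.Helper2.DualQ2
import Groth.Agent.Lib.Helper2.DualQ3
import Groth.Agent.Lib.Helper2.DualG10

/-!
# `O(-n-1)` with its trace is dualizing for all quasi-coherent modules on `P^n_R`, `R` Noetherian (helper2)
-/

set_option autoImplicit false
set_option backward.isDefEq.respectTransparency.types false
universe u
open CategoryTheory CategoryTheory.Limits AlgebraicGeometry Opposite TopologicalSpace

noncomputable section

namespace Groth.Agent.Lib.Helper2.DualQ4

open Groth.Agent.Lib.Helper28 Groth.Agent.Lib.Helper2.ProjCoh3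
  Groth.Agent.Lib.Helper2.ProjCoh4 Groth.Agent.Lib.Helper2.ProjCoh5
  Groth.Agent.Lib.Helper17.CechElem Groth.Agent.Lib.Helper2.CechNat2
  Groth.Agent.Lib.Helper2.Dual4 Groth.Agent.Lib.Helper2.DualQ2 Groth.Agent.Lib.Helper2.DualQ3
  Groth.Agent.Lib.Helper2.SerreFin2

variable (n : ℕ) (R : Type u) [CommRing R]

open Groth.Agent.Lib.Helper17.CohKer in
/-- a class whose cocycle lifts componentwise to a quasi-coherent module comes from that module. -/
theorem exists_class_of_lift {G F : (CohB1.ProjSpace n R).Modules} (hG : G.IsQuasicoherent)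
    (hF : F.IsQuasicoherent) (g : G ⟶ F) (z : (LM n R F).cycles n)
    (τ : ∀ x : Fin (n + 1) → Idx.{u} n, Γ(G, W (cov n R) x))
    (hτ : ∀ x, g.app (W (cov n R) x) (τ x) =
      comp (cov n R) F.presheaf (((LM n R F).iCycles n).hom z) x) :
    ∃ y' : Coh.HH (CohB1.ProjSpace n R) G n, Canon.HHlin R g n y' = clsM n R F hF n z := by
  let ε : (LM n R G).X n := mk (cov n R) G.presheaf τ
  have hε : ((φMM n R g).f n).hom ε = ((LM n R F).iCycles n).hom z := by
    apply ext
    intro x
    rw [comp_φMM, comp_mk]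
    exact hτ x
  have hKq : (kernel g).IsQuasicoherent := isQuasicoherent_kernel g
  have hK : IsZero ((LM n R (kernel g)).homology (n + 1)) := by
    haveI : Coh.IsQCoh (kernel g) := hKq
    have hsub : Subsingleton (Coh.HH (CohB1.ProjSpace n R) (kernel g) (n + 1)) :=
      Groth.Agent.S0022.result n R (kernel g) (n + 1) (by omega)
    have hsub' : Subsingleton ↑(CohB1.cechH (cov n R) (kernel g) (n + 1)) :=
      (eC n R (n + 1) (kernel g) hKq).toEquiv.subsingleton
    exact @AddCommGrpCat.isZero_of_subsingleton _ hsub'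
  obtain ⟨z', hz'⟩ := exists_cycle_lift n R g n hK z ε hε
  refine ⟨clsM n R G hG n z', ?_⟩
  have h := H_map_clsM n R g hG hF n z'
  rw [hz'] at h
  exact h

open Groth.Agent.Lib.Helper6.DevPow Groth.Agent.Lib.Helper6.DevCore in
/-- every class in the top cohomology of a quasi-coherent module on `P^n_R` comes from a coherent
module. -/
theorem exists_coh_class (F : (CohB1.ProjSpace n R).Modules) (hF : Coh.IsQCoh F)
    (y : Coh.HH (CohB1.ProjSpace n R) F n) :
    ∃ (G : (CohB1.ProjSpace n R).Modules) (_ : Coh.IsCoh G) (g : G ⟶ F)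
      (y' : Coh.HH (CohB1.ProjSpace n R) G n), Canon.HHlin R g n y' = y := by
  classical
  obtain ⟨z, rfl⟩ := clsM_surjective n R F hF n y
  have hx : ∀ x : Fin (n + 1) → Idx.{u} n,
      ∃ (G : (CohB1.ProjSpace n R).Modules) (_ : Coh.IsCoh G) (g : G ⟶ F)
        (σ : Γ(G, W (cov n R) x)), g.app (W (cov n R) x) σ =
          comp (cov n R) F.presheaf (((LM n R F).iCycles n).hom z) x :=
    fun x => exists_coh_lift_W n R F hF x _
  choose Gf hGf gf σf hσf using hx
  let e : Fin (Fintype.card (Fin (n + 1) → Idx.{u} n)) ≃ (Fin (n + 1) → Idx.{u} n) :=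
    (Fintype.equivFin _).symm
  have hG : Coh.IsCoh (∐ Gf) :=
    isCoh_of_iso (Sigma.reindex e Gf) (isCoh_sigma_fin _ _ (fun k => hGf (e k)))
  obtain ⟨y', hy'⟩ := exists_class_of_lift n R hG.1 hF (Sigma.desc gf) z
    (fun x => (Sigma.ι Gf x).app (W (cov n R) x) (σf x)) (fun x => by
      rw [← hσf x]
      change (Sigma.ι Gf x ≫ Sigma.desc gf).app (W (cov n R) x) (σf x) = _
      rw [Sigma.ι_desc])
  exact ⟨∐ Gf, hG, Sigma.desc gf, y', hy'⟩


section Main

open Groth.Agent.Lib.Helper2.Dual9 Groth.Agent.Lib.Helper2.DualG10 Groth.Agent.Lib.Helper28.GammaStar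

variable [IsNoetherianRing R] (b : ℤ) (hb : b = -((n : ℤ) + 1 + (0 : ℕ)))

theorem cohDual : DualQ1.CohDual R n (Twist.twistProjSpace n R b) (trL n R b hb) :=
  fun G hG => ⟨dinj_coh n R b hb G hG, dsurj_coh n R b hb G hG⟩

theorem dinj_qcoh (F : (CohB1.ProjSpace n R).Modules) (hF : Coh.IsQCoh F) :
    DInj R n (Twist.twistProjSpace n R b) (trL n R b hb) F := by
  haveI : IsNoetherian (Proj (gr n R)) := Groth.Agent.S2357.result (gr n R)
  haveI : IsLocallyNoetherian (CohB1.ProjSpace n R) :=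
    (inferInstance : IsLocallyNoetherian (Proj (gr n R)))
  intro φ hφ
  exact DualQ1.hom_eq_zero (X := CohB1.ProjSpace n R) (cohDual n R b hb) hF
    (U (gr n R) (vars n R)) isAffineOpen_U
    (cover_of_span (𝒜 := gr n R) (s := vars n R) (vars_mem n R) (irrelevant_eq_span n R))
    (fun f y => exists_coh_lift_chart n R F hF f y) φ hφ

theorem dsurj_qcoh (F : (CohB1.ProjSpace n R).Modules) (hF : Coh.IsQCoh F) :
    DSurj R n (Twist.twistProjSpace n R b) (trL n R b hb) F := by
  haveI : IsNoetherian (Proj (gr n R)) := Groth.Agent.S2357.result (gr n R)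
  haveI : IsLocallyNoetherian (CohB1.ProjSpace n R) :=
    (inferInstance : IsLocallyNoetherian (Proj (gr n R)))
  intro ψ
  exact DualQ1.exists_hom (X := CohB1.ProjSpace n R) (cohDual n R b hb) ψ hF
    (U (gr n R) (vars n R)) isAffineOpen_U
    (cover_of_span (𝒜 := gr n R) (s := vars n R) (vars_mem n R) (irrelevant_eq_span n R))
    (fun f y => exists_coh_lift_chart n R F hF f y) (exists_coh_class n R F hF)

/-- **`(O(-n-1), tr)` is an `n`-dualizing pair for `P^n_R` over a Noetherian ring `R`**. -/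
theorem isRDualOver :
    Canon.IsRDualOver R (CohB1.ProjSpace n R) n (Twist.twistProjSpace n R b) (trL n R b hb) := by
  refine ⟨isQCoh_twist n R b, fun F hF => ⟨?_, ?_⟩⟩
  · intro φ₁ φ₂ h
    have h1 := dinj_qcoh n R b hb F hF (φ₁ - φ₂) (fun x => by
      rw [HHlin_sub_apply, map_sub]
      have h2 := LinearMap.congr_fun h x
      exact sub_eq_zero.mpr h2)
    exact sub_eq_zero.mp h1
  · intro ψ
    obtain ⟨φ, hφ⟩ := dsurj_qcoh n R b hb F hF ψ
    exact ⟨φ, LinearMap.ext (fun x => (hφ x).symm)⟩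

end Main

end Groth.Agent.Lib.Helper2.DualQ4
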