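import Groth.Agent.Lib.Helper2.DualE2
import Groth.Agent.Lib.Helper2.DualQ4
import Groth.Agent.Lib.Helper2.TwEq2

/-!
# `Ext^i(F, O(-n-1))` is dual to `H^{n-i}(F)` on `P^n_k` (helper2)
-/

set_option backward.isDefEq.respectTransparency.types false
set_option autoImplicit false
universe u
open CategoryTheory CategoryTheory.Limits AlgebraicGeometry Opposite TopologicalSpace Abelian

noncomputable section

namespace Groth.Agent.Lib.Helper2.DualE3

open Groth.Agent.Lib.Helper2.ProjCoh3 Groth.Agent.Lib.Helper2.ProjCoh4 Groth.Agent.Lib.Helper2.ProjCoh5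
  Groth.Agent.Lib.Helper2.SerreFin1 Groth.Agent.Lib.Helper2.SerreFin2 Groth.Agent.Lib.Helper2.HLesLin
  Groth.Agent.Lib.Helper2.HLes Groth.Agent.Lib.Helper2.DualE1 Groth.Agent.Lib.Helper2.DualE2

section Pres

variable (R : Type u) [CommRing R] [IsNoetherianRing R]

open Groth.Agent.Lib.Helper6.DevPow Groth.Agent.Lib.Helper6.DevCore in
/-- a coherent module on `P^n_R` is a quotient of a finite sum of copies of `O(-q)`, `q > 0`,
with coherent kernel. -/
theorem exists_presentation_neg (n : ℕ) (F : (CohB1.ProjSpace n R).Modules) (hF : Coh.IsCoh F) :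
    ∃ (r q : ℕ) (_ : 0 < q)
      (π : (∐ fun _ : Fin r => Twist.twistProjSpace n R (-(q : ℤ))) ⟶ F), Epi π ∧
      Coh.IsCoh (∐ fun _ : Fin r => Twist.twistProjSpace n R (-(q : ℤ))) ∧
      Coh.IsCoh (kernel π) := by
  haveI : IsNoetherian (Proj (gr n R)) := Groth.Agent.S2357.result (gr n R)
  haveI : IsLocallyNoetherian (CohB1.ProjSpace n R) :=
    (inferInstance : IsLocallyNoetherian (Proj (gr n R)))
  let F' : (Proj (gr n R)).Modules := F
  haveI : F'.IsQuasicoherent := hF.1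
  haveI : SheafOfModules.IsFiniteType.{u} (R := (Proj (gr n R)).ringCatSheaf) F' := hF.2
  obtain ⟨m₀, hm₀⟩ := Groth.Agent.Lib.Helper28.GammaStar.exists_locGen_twistNeg (𝒜 := gr n R)
    (s := vars n R) (F := F') (vars_mem n R) (irrelevant_eq_span n R)
  obtain ⟨r, φ, hφ⟩ := hm₀ (m₀ + 1) (Nat.le_succ m₀)
  let E : (CohB1.ProjSpace n R).Modules :=
    ∐ fun _ : Fin r => Twist.twist (gr n R) (-((m₀ + 1 : ℕ) : ℤ))
  let q : E ⟶ F := Sigma.desc φ
  have hq : Epi q := hφ.epi_desc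
  have hE : Coh.IsCoh E := isCoh_sigma_fin r _ (fun _ => isCoh_twist n R _)
  exact ⟨r, m₀ + 1, Nat.succ_pos m₀, q, hq, hE, isCoh_kernel q hE hF⟩

end Pres

variable (n : ℕ) (k : Type u) [Field k]

/-- the dualizing module -/
abbrev ω : (CohB1.ProjSpace n k).Modules := Twist.twistProjSpace n k (-((n : ℤ) + 1))

theorem hb : (-((n : ℤ) + 1) : ℤ) = -((n : ℤ) + 1 + ((0 : ℕ) : ℤ)) := by simp

/-- the trace -/
abbrev trω : Coh.HH (CohB1.ProjSpace n k) (ω n k) n →ₗ[k] k :=
  Groth.Agent.Lib.Helper2.DualG10.trL n k _ (hb n)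

/-- the duality map in degree zero, as a linear equivalence. -/
def θ (F : (CohB1.ProjSpace n k).Modules) (hF : Coh.IsQCoh F) :
    (F ⟶ ω n k) ≃ₗ[k] Module.Dual k (Coh.HH (CohB1.ProjSpace n k) F n) :=
  LinearEquiv.ofBijective (dualityLin k (CohB1.ProjSpace n k) n (ω n k) (trω n k) F)
    ((Groth.Agent.Lib.Helper2.DualQ4.isRDualOver n k _ (hb n)).2 F hF)

theorem θ_comp {F G : (CohB1.ProjSpace n k).Modules} (hF : Coh.IsQCoh F) (hG : Coh.IsQCoh G)
    (ι : F ⟶ G) (φ : G ⟶ ω n k) :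
    θ n k F hF (ι ≫ φ) = (Canon.HHlin k ι n).dualMap (θ n k G hG φ) :=
  dualityLin_comp k (CohB1.ProjSpace n k) n (ω n k) (trω n k) ι φ

variable [HasExt.{u} (CohB1.ProjSpace n k).Modules]

/-- the duality in degree zero. -/
def θE (F : (CohB1.ProjSpace n k).Modules) (hF : Coh.IsQCoh F) :
    Ext F (ω n k) 0 ≃ₗ[k] Module.Dual k (Coh.HH (CohB1.ProjSpace n k) F n) :=
  Ext.linearEquiv₀ ≪≫ₗ θ n k F hF

theorem θE_mk₀ (F : (CohB1.ProjSpace n k).Modules) (hF : Coh.IsQCoh F) (φ : F ⟶ ω n k) :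
    θE n k F hF (Ext.mk₀ φ) = θ n k F hF φ := by
  change θ n k F hF (Ext.linearEquiv₀ (R := k) (Ext.mk₀ φ)) = _
  congr 1
  exact (Ext.linearEquiv₀ (R := k)).apply_symm_apply φ

section Step

variable {n k}
variable (S : ShortComplex (CohB1.ProjSpace n k).Modules) (hS : S.ShortExact)
  (h₁ : Coh.IsQCoh S.X₁) (h₂ : Coh.IsQCoh S.X₂)

include h₁ h₂ in
theorem θE_fStar (a : Ext S.X₂ (ω n k) 0) :
    θE n k S.X₁ h₁ (fStar k S (ω n k) 0 a) =
      (Canon.HHlin k S.f n).dualMap (θE n k S.X₂ h₂ a) := by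
  obtain ⟨φ, rfl⟩ : ∃ φ, Ext.mk₀ φ = a := ⟨Ext.linearEquiv₀ (R := k) a, Ext.mk₀_linearEquiv₀_apply a⟩
  change θE n k S.X₁ h₁ ((Ext.mk₀ S.f).comp (Ext.mk₀ φ) (zero_add 0)) = _
  rw [Ext.mk₀_comp_mk₀, θE_mk₀, θE_mk₀, θ_comp n k h₁ h₂]

end Step

section Step1

variable {k}

/-- the step from degree `0` to degree `1`, when `n = p + 1`. -/
theorem step_one_succ {p : ℕ} (S : ShortComplex (CohB1.ProjSpace (p + 1) k).Modules)
    (hS : S.ShortExact) (h₁ : Coh.IsQCoh S.X₁) (h₂ : Coh.IsQCoh S.X₂)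
    [HasExt.{u} (CohB1.ProjSpace (p + 1) k).Modules]
    (hE : Subsingleton (Ext S.X₂ (ω (p + 1) k) 1))
    (hH : Subsingleton (Coh.HH (CohB1.ProjSpace (p + 1) k) S.X₂ p)) :
    Nonempty (Ext S.X₃ (ω (p + 1) k) 1 ≃ₗ[k]
      Module.Dual k (Coh.HH (CohB1.ProjSpace (p + 1) k) S.X₃ p)) := by
  refine nonempty_linearEquiv_of_coker
    (fStar k S (ω (p + 1) k) 0) (δE k hS (ω (p + 1) k) 0 1 rfl)
    (ker_δE hS (ω (p + 1) k) 0 1 rfl) (δE_surjective hS (ω (p + 1) k) 0 1 rfl hE)
    (Canon.HHlin k S.f (p + 1)).dualMap (δL S hS k p (p + 1) rfl).dualMap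
    (ker_dualMap_eq_range_dualMap _ _ (range_δL S hS k p (p + 1) rfl))
    (LinearMap.dualMap_surjective_of_injective (δL_injective S hS k p (p + 1) rfl hH))
    (θE (p + 1) k S.X₂ h₂) (θE (p + 1) k S.X₁ h₁) (fun a => θE_fStar S h₁ h₂ a)

/-- the step from degree `0` to degree `1`, when `n = 0`. -/
theorem step_one_zero (S : ShortComplex (CohB1.ProjSpace 0 k).Modules)
    (hS : S.ShortExact) (h₁ : Coh.IsQCoh S.X₁) (h₂ : Coh.IsQCoh S.X₂)
    [HasExt.{u} (CohB1.ProjSpace 0 k).Modules]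
    (hE : Subsingleton (Ext S.X₂ (ω 0 k) 1)) :
    Subsingleton (Ext S.X₃ (ω 0 k) 1) := by
  have key : ∀ x : Ext S.X₃ (ω 0 k) 1, x = 0 := by
    intro x
    obtain ⟨y, rfl⟩ := δE_surjective (k := k) hS (ω 0 k) 0 1 rfl hE x
    have hy : y ∈ LinearMap.range (fStar k S (ω 0 k) 0) := by
      obtain ⟨ψ, hψ⟩ := LinearMap.dualMap_surjective_of_injective
        (HHlin_f_injective_zero S hS k) (θE 0 k S.X₁ h₁ y)
      refine ⟨(θE 0 k S.X₂ h₂).symm ψ, ?_⟩
      apply (θE 0 k S.X₁ h₁).injective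
      rw [θE_fStar S h₁ h₂, LinearEquiv.apply_symm_apply, hψ]
    rw [← ker_δE hS (ω 0 k) 0 1 rfl, LinearMap.mem_ker] at hy
    exact hy
  exact ⟨fun a b => by rw [key a, key b]⟩

end Step1


section Main

variable {n k}

theorem subsingleton_ext_tw (q : ℕ) (hq : 0 < q) (i : ℕ) (hi : 0 < i) :
    Subsingleton (Ext (Twist.twistProjSpace n k (-(q : ℤ))) (ω n k) i) := by
  have h : -((n : ℤ) + 1) < -((n : ℤ) + 1) - (-(q : ℤ)) := by omega
  exact @Groth.Agent.Lib.Helper2.TwEq2.subsingleton_ext_twist' n k _ ‹_› (-(q : ℤ))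
    (-((n : ℤ) + 1)) i hi h

/-- the sums of negative twists have no higher `Ext` into `ω`. -/
theorem subsingleton_ext_E (r q : ℕ) (hq : 0 < q) (i : ℕ) (hi : 0 < i) :
    Subsingleton (Ext (∐ fun _ : Fin r => Twist.twistProjSpace n k (-(q : ℤ))) (ω n k) i) :=
  subsingleton_ext_sigma (fun _ : Fin r => Twist.twistProjSpace n k (-(q : ℤ))) (ω n k) i
    (fun _ => subsingleton_ext_tw q hq i hi)

omit [HasExt.{u} (CohB1.ProjSpace n k).Modules] in
/-- the sums of negative twists have cohomology only in degree `n`. -/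
theorem subsingleton_HH_E (r q : ℕ) (hq : 0 < q) (j : ℕ) (hj : j ≠ n) :
    Subsingleton (Coh.HH (CohB1.ProjSpace n k)
      (∐ fun _ : Fin r => Twist.twistProjSpace n k (-(q : ℤ))) j) := by
  refine subsingleton_HH_sigma k _ j (fun _ => ?_)
  exact subsingleton_HH n k (-(q : ℤ)) j (fun h => by omega) (fun h => hj h.1)

/-- **`Ext^i(F, ω)` is dual to `H^{n-i}(F)` for `i ≤ n` and vanishes for `i > n`**. -/
theorem main (i : ℕ) : ∀ (F : (CohB1.ProjSpace n k).Modules), Coh.IsCoh F →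
    (i ≤ n → Nonempty (Ext F (ω n k) i ≃ₗ[k]
      Module.Dual k (Coh.HH (CohB1.ProjSpace n k) F (n - i)))) ∧
    (n < i → Subsingleton (Ext F (ω n k) i)) := by
  induction i with
  | zero =>
    intro F hF
    exact ⟨fun _ => ⟨θE n k F hF.1⟩, fun h => absurd h (Nat.not_lt_zero n)⟩
  | succ i ih =>
    intro F hF
    obtain ⟨r, q, hq, π, hπ, hE, hK⟩ := exists_presentation_neg k n F hF
    let S : ShortComplex (CohB1.ProjSpace n k).Modules :=
      ShortComplex.mk (kernel.ι π) π (kernel.condition π)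
    have hS : S.ShortExact :=
      { exact := ShortComplex.exact_kernel π
        mono_f := inferInstanceAs (Mono (kernel.ι π))
        epi_g := inferInstanceAs (Epi π) }
    cases i with
    | zero =>
      cases n with
      | zero =>
        exact ⟨fun h => absurd h (by omega), fun _ => step_one_zero S hS hK.1 hE.1
          (subsingleton_ext_E r q hq 1 one_pos)⟩
      | succ p =>
        exact ⟨fun _ => step_one_succ S hS hK.1 hE.1 (subsingleton_ext_E r q hq 1 one_pos)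
          (subsingleton_HH_E r q hq p (by omega)), fun h => absurd h (by omega)⟩
    | succ i =>
      have hbij := δE_bijective (k := k) hS (ω n k) (i + 1) (i + 1 + 1) (by omega)
        (subsingleton_ext_E r q hq (i + 1) (by omega))
        (subsingleton_ext_E r q hq (i + 1 + 1) (by omega))
      let eδ : Ext (kernel π) (ω n k) (i + 1) ≃ₗ[k] Ext F (ω n k) (i + 1 + 1) :=
        LinearEquiv.ofBijective _ hbij
      obtain ⟨ih1, ih2⟩ := ih (kernel π) hK
      refine ⟨fun hle => ?_, fun hlt => ?_⟩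
      · obtain ⟨e⟩ := ih1 (by omega)
        have hb2 := δL_bijective S hS k (n - (i + 1 + 1)) (n - (i + 1)) (by omega)
          (subsingleton_HH_E r q hq _ (by omega)) (subsingleton_HH_E r q hq _ (by omega))
        exact ⟨eδ.symm ≪≫ₗ e ≪≫ₗ (LinearEquiv.ofBijective _ hb2).dualMap⟩
      · by_cases hn : n < i + 1
        · have := ih2 hn
          exact eδ.symm.toEquiv.subsingleton
        · have hn' : n - (i + 1) = 0 := by omega
          obtain ⟨e⟩ := ih1 (by omega)
          rw [hn'] at e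
          haveI : Subsingleton (Coh.HH (CohB1.ProjSpace n k)
              (∐ fun _ : Fin r => Twist.twistProjSpace n k (-(q : ℤ))) 0) :=
            subsingleton_HH_E r q hq 0 (by omega)
          haveI : Subsingleton (Coh.HH (CohB1.ProjSpace n k) (kernel π) 0) :=
            (HHlin_f_injective_zero S hS k).subsingleton
          haveI : Subsingleton (Ext (kernel π) (ω n k) (i + 1)) := e.toEquiv.subsingleton
          exact eδ.symm.toEquiv.subsingleton

end Main

end Groth.Agent.Lib.Helper2.DualE3
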