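import Groth.Agent.Lib.Helper2.Dual6

/-!
# The explicit top cohomology of `O(-n-1-k)` on `P^n`, all `n` (helper2)
-/

set_option autoImplicit false
set_option backward.isDefEq.respectTransparency.types false
universe u
open CategoryTheory CategoryTheory.Limits AlgebraicGeometry Opposite TopologicalSpace

noncomputable section

namespace Groth.Agent.Lib.Helper2.DualG5

open Groth.Agent.Lib.Helper28 Groth.Agent.Lib.Helper2.ProjCoh2 Groth.Agent.Lib.Helper2.ProjCoh3
  Groth.Agent.Lib.Helper2.ProjCoh4 Groth.Agent.Lib.Helper2.ProjCoh5 Groth.Agent.Lib.Helper2.ProjCoh8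
  Groth.Agent.Lib.Helper2.ProjCoh9 Groth.Agent.Lib.Helper2.ProjCoh10
  Groth.Agent.Lib.Helper17.CechElem Groth.Agent.Lib.Helper2.CechNat2
  Groth.Agent.Lib.Helper2.Dual1 Groth.Agent.Lib.Helper2.Dual3 Groth.Agent.Lib.Helper2.Dual4
  Groth.Agent.Lib.Helper2.Dual6 Groth.Agent.Lib.Helper2.DualAlg

variable (n : ℕ) (R : Type u) [CommRing R]

/-- the full tuple. -/
def xx : Fin (n + 1) → Idx.{u} n := fun a => ULift.up a

variable (k : ℕ) (d : ℤ) (hd : d = -((n : ℤ) + 1 + k))

include hd in
theorem hdeg (m : Fin (n + 1) →₀ ℕ) (h : Finsupp.degree (negExp n m) = d) :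
    Finsupp.degree m = k := by
  subst hd
  exact degree_negExp_eq n k m h

/-- the top-degree functional on cochains. -/
def Θ₀ : (L n R d).X n →+ MvPolynomial.homogeneousSubmodule (Fin (n + 1)) R k :=
  theta (negExp n) (negExp_injective n) (hdeg n k d hd) (xx n)

theorem coeff_Θ₀ (α : (L n R d).X n) (m : Fin (n + 1) →₀ ℕ) :
    MvPolynomial.coeff m ((Θ₀ n R k d hd α : MvPolynomial.homogeneousSubmodule _ R k) :
      MvPolynomial (Fin (n + 1)) R) =
      psi R d (xx n) (comp (cov n R) (PO R d) α (xx n)) (negExp n m) := rfl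

/-- **the explicit top cohomology**. -/
theorem exists_ΘH :
    ∃ e : Coh.HH (CohB1.ProjSpace n R) (Twist.twistProjSpace n R d) n ≃ₗ[R]
      MvPolynomial.homogeneousSubmodule (Fin (n + 1)) R k,
      ∀ z : (L n R d).cycles n, e (cls n R d n z) =
        Θ₀ n R k d hd (((L n R d).iCycles n).hom z) := by
  classical
  subst hd
  let ν : (Fin (n + 1) →₀ ℕ) → (Fin (n + 1) →₀ ℤ) := negExp n
  have hν : Function.Injective ν := negExp_injective n
  have hdeg' : ∀ m, Finsupp.degree (ν m) = -((n : ℤ) + 1 + k) → Finsupp.degree m = k :=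
    degree_negExp_eq n k
  have hpush : ∀ (t : MvPolynomial.homogeneousSubmodule (Fin (n + 1)) R k) (e : Fin (n + 1) →₀ ℤ),
      push ν (t : MvPolynomial (Fin (n + 1)) R) e ≠ 0 →
        Finsupp.degree e = -((n : ℤ) + 1 + k) ∧ ∀ j, e j < 0 := by
    intro t e he
    obtain ⟨m, rfl, hm⟩ := exists_of_push_ne_zero ν hν _ e he
    have hdm : Finsupp.degree m = k := by
      by_contra hcon
      exact hm (t.2.coeff_eq_zero hcon)
    refine ⟨?_, negExp_neg n m⟩
    change Finsupp.degree (negExp n m) = _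
    rw [degree_negExp, hdm]
    ring
  cases n with
  | zero =>
    haveI : Subsingleton (Fin (0 + 1)) := inferInstanceAs (Subsingleton (Fin 1))
    let x₀ : Fin (0 + 1) → Idx.{u} 0 := xx 0
    refine exists_linearEquiv 0 R _ 0 0 1 (by simp) (by simp) k (theta ν hν hdeg' x₀)
      (theta_smul ν hν hdeg' x₀) ?_ ?_ ?_
    · intro y
      have h0 : (L 0 R (-(((0 : ℕ) : ℤ) + 1 + k))).d 0 0 = 0 :=
        (L 0 R (-(((0 : ℕ) : ℤ) + 1 + k))).shape 0 0 (by simp)
      rw [h0]
      exact map_zero _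
    · intro t
      obtain ⟨α, hα, hαb⟩ := ProjCoh7.exists_cocycle_zero (grading R (-(((0 : ℕ) : ℤ) + 1 + k)))
        (push ν (t : MvPolynomial (Fin (0 + 1)) R)) (fun e he i => by
          obtain ⟨h1, h2⟩ := hpush t e he
          refine ⟨h1, fun j _ => ?_⟩
          rw [Set.mem_singleton_iff]
          apply ULift.ext
          exact Subsingleton.elim _ _)
      exact ⟨α, hα, theta_eq_of_psi_eq ν hν hdeg' x₀ t α (hαb x₀)⟩
    · intro α hα hθ
      have h0 : α = 0 := by
        refine ProjCoh7.eq_zero_of_cocycle_zero (grading R (-(((0 : ℕ) : ℤ) + 1 + k))) x₀ α hα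
          (fun e he => ?_)
        have hneg : ∀ j, e j < 0 := by
          intro j
          have hd := (he (ULift.up 0)).1
          rw [Finsupp.degree_eq_sum, Fin.sum_univ_one] at hd
          have hj : j = 0 := Subsingleton.elim _ _
          rw [hj, hd]
          have : (0 : ℤ) ≤ (k : ℤ) := Int.natCast_nonneg _
          push_cast
          omega
        obtain ⟨m, hm⟩ := exists_negExp_eq 0 e hneg
        have h1 := (theta_eq_zero_iff ν hν hdeg' x₀ α).1 hθ m
        have h2 : ν m = e := hm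
        rw [h2] at h1
        exact h1
      refine ⟨0, ?_⟩
      rw [map_zero, h0]
  | succ p =>
    let ε : Idx.{u} (p + 1) ≃ Fin (p + 1 + 1) := Equiv.ulift
    let x₀ : Fin (p + 1 + 1) → Idx.{u} (p + 1) := ProjCoh7.x₀ ε
    have hx : xx (p + 1) = x₀ := rfl
    let bad : (Fin (p + 1 + 1) →₀ ℤ) → Prop := fun e =>
      Finsupp.degree e = -(((p + 1 : ℕ) : ℤ) + 1 + k) ∧ ∀ j, e j < 0
    refine exists_linearEquiv (p + 1) R _ (p + 1) p (p + 1 + 1) (by simp) (by simp) k
      (theta ν hν hdeg' x₀) (theta_smul ν hν hdeg' x₀) ?_ ?_ ?_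
    · intro y
      rw [theta_eq_zero_iff]
      intro m
      exact ProjCoh7.psi_d_top_eq_zero ε (grading R (-(((p + 1 : ℕ) : ℤ) + 1 + k))) (ν m)
        (fun S hS => eq_univ_of_okI (p + 1) (ν m) (negExp_neg (p + 1) m) S hS) y x₀
    · intro t
      obtain ⟨α, hα, hαb⟩ := ProjCoh7.exists_cocycle_top ε
        (grading R (-(((p + 1 : ℕ) : ℤ) + 1 + k)))
        (push ν (t : MvPolynomial (Fin (p + 1 + 1)) R)) (fun e he =>
          ⟨(hpush t e he).1, fun j _ => Set.mem_univ _⟩)
      exact ⟨α, hα, theta_eq_of_psi_eq ν hν hdeg' x₀ t α hαb⟩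
    · intro α hα hθ
      refine ProjCoh7.exists_boundary_top ε (grading R (-(((p + 1 : ℕ) : ℤ) + 1 + k))) bad
        ?_ ?_ α hα ?_
      · intro e he
        by_cases hd : Finsupp.degree e = -(((p + 1 : ℕ) : ℤ) + 1 + k)
        · have hex : ∃ j, 0 ≤ e j := by
            by_contra hcon
            push Not at hcon
            exact he ⟨hd, hcon⟩
          obtain ⟨j, hj⟩ := hex
          refine ⟨ULift.up j, fun S hS => ⟨hS.1, fun j' hj' => ?_⟩⟩
          rcases hS.2 j' hj' with h1 | h1
          · exfalso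
            have h2 : j' = j := congrArg ULift.down h1
            rw [h2] at hj'
            omega
          · exact h1
        · exact ⟨ULift.up 0, fun S hS => absurd hS.1 hd⟩
      · intro e he S hS
        exact eq_univ_of_okI (p + 1) e he.2 S hS
      · intro e he
        obtain ⟨m, hm⟩ := exists_negExp_eq (p + 1) e he.2
        have h1 := (theta_eq_zero_iff ν hν hdeg' x₀ α).1 hθ m
        have h2 : ν m = e := hm
        rw [h2] at h1
        exact h1

/-- the explicit top cohomology. -/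
def ΘH : Coh.HH (CohB1.ProjSpace n R) (Twist.twistProjSpace n R d) n ≃ₗ[R]
    MvPolynomial.homogeneousSubmodule (Fin (n + 1)) R k :=
  (exists_ΘH n R k d hd).choose

theorem ΘH_cls (z : (L n R d).cycles n) :
    ΘH n R k d hd (cls n R d n z) = Θ₀ n R k d hd (((L n R d).iCycles n).hom z) :=
  (exists_ΘH n R k d hd).choose_spec z

end Groth.Agent.Lib.Helper2.DualG5
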