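import Groth.Agent.Lib.Helper2.DualG5
import Groth.Agent.Lib.Helper2.Dual8

/-!
# Duality for the twisting sheaves on `P^n`, all `n` (helper2)
-/

set_option autoImplicit false
set_option backward.isDefEq.respectTransparency.types false
universe u
open CategoryTheory CategoryTheory.Limits AlgebraicGeometry Opposite TopologicalSpace

noncomputable section

namespace Groth.Agent.Lib.Helper2.DualG7

open Groth.Agent.Lib.Helper28 Groth.Agent.Lib.Helper2.ProjCoh2 Groth.Agent.Lib.Helper2.ProjCoh3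
  Groth.Agent.Lib.Helper2.ProjCoh4 Groth.Agent.Lib.Helper2.ProjCoh5 Groth.Agent.Lib.Helper2.ProjCoh8
  Groth.Agent.Lib.Helper2.ProjCoh9 Groth.Agent.Lib.Helper2.ProjCoh10
  Groth.Agent.Lib.Helper17.CechElem Groth.Agent.Lib.Helper2.CechNat2
  Groth.Agent.Lib.Helper2.Dual1 Groth.Agent.Lib.Helper2.Dual2 Groth.Agent.Lib.Helper2.Dual3
  Groth.Agent.Lib.Helper2.Dual4 Groth.Agent.Lib.Helper2.DualG5 Groth.Agent.Lib.Helper2.Dual6
  Groth.Agent.Lib.Helper2.DualAlg

variable (n : ℕ) (R : Type u) [CommRing R]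

section Trace

variable (b : ℤ) (hb : b = -((n : ℤ) + 1 + (0 : ℕ)))

/-- the trace `H^n(P^n, O(-n-1)) ≃ R`. -/
def tr : Coh.HH (CohB1.ProjSpace n R) (Twist.twistProjSpace n R b) n ≃ₗ[R] R :=
  (ΘH n R 0 b hb).trans Dual7.homog0

variable (k : ℕ) (a : ℤ) (ha : a = -((n : ℤ) + 1 + k)) (hab : (k : ℤ) + a = b)

theorem negExp_zero_sub (m : Fin (n + 1) →₀ ℕ) :
    -(castExp (Fin (n + 1)) m) + negExp n 0 = negExp n m := by
  ext j
  simp only [Finsupp.add_apply, Finsupp.neg_apply, castExp_apply, negExp_apply,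
    Finsupp.coe_zero, Pi.zero_apply]
  push_cast
  ring

/-- **the pairing formula**. -/
theorem tr_H_map (P : gr n R k)
    (y : Coh.HH (CohB1.ProjSpace n R) (Twist.twistProjSpace n R a) n) :
    tr n R b hb (Sheaf.H.map (gM n R (μs hab (secOf rfl P))) n y) =
      dot k (P : PA n R) (ΘH n R k a ha y : MvPolynomial.homogeneousSubmodule _ R k) := by
  obtain ⟨z, rfl⟩ := cls_surjective n R a n y
  rw [H_map_cls, tr, LinearEquiv.trans_apply, ΘH_cls, ΘH_cls, iCycles_cyclesMap, Dual7.homog0_apply,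
    coeff_Θ₀, comp_φM, psi_apply, Psi_μs, Pg_secOf,
    Dual7.coeff_φ_mul k (P : PA n R) ((MvPolynomial.mem_homogeneousSubmodule _ _).1 P.2),
    dot_apply]
  refine Finset.sum_congr rfl (fun m _ => ?_)
  rw [negExp_zero_sub, coeff_Θ₀, psi_apply]

end Trace

section Sec

variable {n R}

/-- the Laurent polynomial of a global section of `O(e)` is a polynomial if `n ≥ 1` or `e ≥ 0`. -/
theorem nonneg_of_coeff_Pg_ne_zero {e : ℤ} (hne : 1 ≤ n ∨ 0 ≤ e)
    (s : Γ(Twist.twist (gr n R) e, (⊤ : (Proj (gr n R)).Opens)))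
    (u : Fin (n + 1) →₀ ℤ) (hu : (Pg s).coeff u ≠ 0) (j : Fin (n + 1)) : 0 ≤ u j := by
  rcases hne with hn | he
  · exact Dual3.nonneg_of_coeff_Pg_ne_zero hn s u hu j
  · by_cases hn : 1 ≤ n
    · exact Dual3.nonneg_of_coeff_Pg_ne_zero hn s u hu j
    · have hn0 : n = 0 := by omega
      subst hn0
      have h1 := (ok_of_coeff_Pg_ne_zero s u hu).1
      rw [Finsupp.degree_eq_sum, Fin.sum_univ_one] at h1
      have hj : j = 0 := Subsingleton.elim (α := Fin 1) _ _
      rw [hj, h1]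
      exact he

/-- the global sections of `O(k)` are the homogeneous polynomials of degree `k`. -/
theorem exists_secOf {k : ℕ} {e : ℤ} (hk : (k : ℤ) = e)
    (s : Γ(Twist.twist (gr n R) e, (⊤ : (Proj (gr n R)).Opens))) :
    ∃ P : gr n R k, s = secOf hk P := by
  have hne : 1 ≤ n ∨ 0 ≤ e := Or.inr (by omega)
  let P₀ : PA n R := pull (castExp (Fin (n + 1))) castExp_injective (Pg s).coeff
  have hP₀ : P₀ ∈ gr n R k := by
    rw [MvPolynomial.mem_homogeneousSubmodule]
    refine isHomogeneous_pull (d := e) (castExp (Fin (n + 1))) castExp_injective (fun m hm => ?_) _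
      (fun u hu => (ok_of_coeff_Pg_ne_zero s u hu).1)
    rw [degree_castExp, ← hk] at hm
    exact_mod_cast hm
  refine ⟨⟨P₀, hP₀⟩, Pg_injective _ _ ?_⟩
  rw [Pg_secOf]
  ext u
  by_cases hu : u ∈ Set.range (castExp (Fin (n + 1)))
  · obtain ⟨m, rfl⟩ := hu
    rw [coeff_φ]
    rfl
  · rw [coeff_φ_of_notMem_range _ _ hu]
    by_contra hne'
    apply hu
    exact ⟨toNatExp u, castExp_toNatExp u (nonneg_of_coeff_Pg_ne_zero hne s u hne')⟩

end Sec

/-- **duality for the twisting sheaves `O(a)`, `a ≤ -n-1`, on `P^n`**. -/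
theorem existsUnique_hom_of_le (b : ℤ) (hb : b = -((n : ℤ) + 1 + (0 : ℕ))) (a : ℤ) (hle : a ≤ b)
    (ψ : Coh.HH (CohB1.ProjSpace n R) (Twist.twistProjSpace n R a) n →ₗ[R] R) :
    ∃! φ : Twist.twistProjSpace n R a ⟶ Twist.twistProjSpace n R b,
      ∀ x, ψ x = tr n R b hb (Sheaf.H.map (gM n R φ) n x) := by
  obtain ⟨k, hk⟩ : ∃ k : ℕ, (k : ℤ) = b - a := ⟨(b - a).toNat, Int.toNat_of_nonneg (by omega)⟩
  have ha : a = -((n : ℤ) + 1 + k) := by
    rw [hk, hb]
    push_cast
    ring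
  have hab : (k : ℤ) + a = b := by omega
  let l : MvPolynomial.homogeneousSubmodule (Fin (n + 1)) R k →ₗ[R] R :=
    ψ.comp (ΘH n R k a ha).symm.toLinearMap
  obtain ⟨P, hP⟩ := (dot_bijective (σ := Fin (n + 1)) (R := R) k).2 l
  have hP' : ∀ Q : MvPolynomial.homogeneousSubmodule (Fin (n + 1)) R k,
      dot k (P : PA n R) (Q : PA n R) = l Q := fun Q => LinearMap.congr_fun hP Q
  refine ⟨μs hab (secOf rfl P), fun x => ?_, fun φ' hφ' => ?_⟩
  · rw [tr_H_map n R b hb k a ha hab P x, hP']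
    change ψ x = ψ ((ΘH n R k a ha).symm (ΘH n R k a ha x))
    rw [LinearEquiv.symm_apply_apply]
  · obtain ⟨s, rfl⟩ := exists_eq_mulHom (gr n R) (Dual7.hcov R n) hab φ'
    obtain ⟨P', rfl⟩ := exists_secOf rfl s
    have hPP : P' = P := by
      apply (dot_bijective (σ := Fin (n + 1)) (R := R) k).1
      apply LinearMap.ext
      intro Q
      simp only [LinearMap.comp_apply, Submodule.subtype_apply]
      rw [hP']
      obtain ⟨y, rfl⟩ := (ΘH n R k a ha).surjective Q
      have h1 := tr_H_map n R b hb k a ha hab P' y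
      have h2 := hφ' y
      change ψ y = tr n R b hb (Sheaf.H.map (gM n R (μs hab (secOf rfl P'))) n y) at h2
      rw [← h1, ← h2]
      change ψ y = ψ ((ΘH n R k a ha).symm (ΘH n R k a ha y))
      rw [LinearEquiv.symm_apply_apply]
    rw [hPP]
    rfl

/-- **duality for all the twisting sheaves on `P^n`, `n ≥ 1`**. -/
theorem existsUnique_hom (hn : 1 ≤ n) (b : ℤ) (hb : b = -((n : ℤ) + 1 + (0 : ℕ))) (a : ℤ)
    (ψ : Coh.HH (CohB1.ProjSpace n R) (Twist.twistProjSpace n R a) n →ₗ[R] R) :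
    ∃! φ : Twist.twistProjSpace n R a ⟶ Twist.twistProjSpace n R b,
      ∀ x, ψ x = tr n R b hb (Sheaf.H.map (gM n R φ) n x) := by
  by_cases hle : a ≤ b
  · exact existsUnique_hom_of_le n R b hb a hle ψ
  · have hsub : Subsingleton
        (Coh.HH (CohB1.ProjSpace n R) (Twist.twistProjSpace n R a) n) :=
      subsingleton_HH n R a n (by omega) (by
        rw [hb] at hle
        push_cast at hle ⊢
        omega)
    have hab : (b - a) + a = b := by omega
    have huniq : ∀ φ φ' : Twist.twistProjSpace n R a ⟶ Twist.twistProjSpace n R b,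
        φ = φ' := by
      intro φ φ'
      obtain ⟨s, rfl⟩ := exists_eq_mulHom (gr n R) (Dual7.hcov R n) hab φ
      obtain ⟨s', rfl⟩ := exists_eq_mulHom (gr n R) (Dual7.hcov R n) hab φ'
      rw [Dual8.eq_zero_of_neg hn (by omega) s, Dual8.eq_zero_of_neg hn (by omega) s']
    refine ⟨0, fun x => ?_, fun φ' _ => huniq _ _⟩
    rw [Subsingleton.elim x 0, map_zero, map_zero, map_zero]

end Groth.Agent.Lib.Helper2.DualG7
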