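import Groth.Agent.Lib.Helper2.DualQ1
import Groth.Agent.Lib.Helper2.SerreFin2
import Groth.Agent.Lib.Helper2.ProjCoh5

/-!
# Sections of a quasi-coherent module on `P^n_R` over the members of the nerve of the standard cover
come from coherent modules (helper2)
-/

set_option backward.isDefEq.respectTransparency.types false
set_option autoImplicit false
universe u
open CategoryTheory CategoryTheory.Limits AlgebraicGeometry Opposite TopologicalSpace Abelian

noncomputable section

namespace Groth.Agent.Lib.Helper2.DualQ2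

open Groth.Agent.Lib.Helper2.ProjCoh3 Groth.Agent.Lib.Helper2.ProjCoh4 Groth.Agent.Lib.Helper2.ProjCoh5
  Groth.Agent.Lib.Helper2.SerreFin2 Groth.Agent.Lib.Helper28 Groth.Agent.Lib.Helper28.QCohLoc
  Groth.Agent.Lib.Helper28.GammaStar Groth.Agent.Lib.Helper17.CechElem

section General

variable {R A : Type u} [CommRing R] [CommRing A] [Algebra R A] {𝒜 : ℕ → Submodule R A} [GradedAlgebra 𝒜]
  {s : Finset A}

/-- every section of a quasi-coherent module over a chart of `Proj` is the image of a section of a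
twisting sheaf. -/
theorem exists_twist_lift (F : (Proj 𝒜).Modules) [F.IsQuasicoherent] (hs1 : ∀ f ∈ s, f ∈ 𝒜 1)
    (hs : (HomogeneousIdeal.irrelevant 𝒜).toIdeal = Ideal.span (s : Set A)) (f : J 𝒜 s)
    (y : Γ(F, U 𝒜 s f)) :
    ∃ (m : ℕ) (g : Twist.twist 𝒜 (-(m : ℤ)) ⟶ F) (σ : Γ(Twist.twist 𝒜 (-(m : ℤ)), U 𝒜 s f)),
      g.app (U 𝒜 s f) σ = y := by
  have hcov := cover_of_span (𝒜 := 𝒜) (s := s) hs1 hs
  have hloc : ∀ g : J 𝒜 s, IsLocOn F (U 𝒜 s g) := fun g =>
    isLocOn_of_isQuasicoherent F (isAffineOpen_U g)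
  have hloc2 : ∀ g g' : J 𝒜 s, IsLocOn F (U 𝒜 s g ⊓ U 𝒜 s g') := by
    intro g g'
    refine isLocOn_of_isQuasicoherent F ?_
    have : U 𝒜 s g ⊓ U 𝒜 s g' = Proj.basicOpen 𝒜 (g.1 * g'.1) := (Proj.basicOpen_mul 𝒜 g.1 g'.1).symm
    rw [this]
    exact Proj.isAffineOpen_basicOpen 𝒜 (g.1 * g'.1) (SetLike.mul_mem_graded g.2.1 g'.2.1) (by norm_num)
  obtain ⟨m, μ, -, hy⟩ := exists_cf_eq hloc hloc2 f y
  exact ⟨m, twistHom hcov m μ, en f m, (twistHom_app_en hcov m μ f).trans hy⟩

end General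

variable (n : ℕ) (R : Type u) [CommRing R]

/-- the chart index of a variable. -/
abbrev chart (i : Fin (n + 1)) : J (gr n R) (vars n R) :=
  ⟨MvPolynomial.X i, X_mem n R i, by
    classical
    exact Finset.mem_image.2 ⟨i, Finset.mem_univ _, rfl⟩⟩

theorem U_chart (i : Idx.{u} n) : U (gr n R) (vars n R) (chart n R i.down) = cov n R i := rfl

/-- sections of a quasi-coherent module over a chart of `P^n_R` come from coherent modules. -/
theorem exists_coh_lift_chart (F : (CohB1.ProjSpace n R).Modules) (hF : Coh.IsQCoh F)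
    (f : J (gr n R) (vars n R)) (y : Γ(F, U (gr n R) (vars n R) f)) :
    ∃ (G : (CohB1.ProjSpace n R).Modules) (_ : Coh.IsCoh G) (g : G ⟶ F)
      (σ : Γ(G, U (gr n R) (vars n R) f)), g.app (U (gr n R) (vars n R) f) σ = y := by
  let F' : (Proj (gr n R)).Modules := F
  haveI : F'.IsQuasicoherent := hF
  obtain ⟨m, g, σ, h⟩ := exists_twist_lift (𝒜 := gr n R) (s := vars n R) F' (vars_mem n R)
    (irrelevant_eq_span n R) f y
  exact ⟨Twist.twist (gr n R) (-(m : ℤ)), isCoh_twist n R _, g, σ, h⟩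


/-- a member of the nerve of the standard cover is a basic open of the chart of its first vertex. -/
theorem exists_W_eq_basicOpen {q : ℕ} (x : Fin (q + 1) → Idx.{u} n) :
    ∃ r : Γ(Proj (gr n R), U (gr n R) (vars n R) (chart n R (x 0).down)),
      W (cov n R) x = (Proj (gr n R)).basicOpen r := by
  have hf : (MvPolynomial.X (x 0).down : PA n R) ∈ gr n R 1 := X_mem n R _
  have ha : mon (R := R) (cx x) ∈ gr n R ((q + 1) • 1) := by
    rw [smul_eq_mul, mul_one, ← degree_cx x]
    exact mon_mem _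
  refine ⟨Proj.awayToSection (gr n R) (MvPolynomial.X (x 0).down)
    (HomogeneousLocalization.Away.mk (gr n R) hf (q + 1) (mon (cx x)) ha), ?_⟩
  have h1 := GrTildeQC.basicOpen_awayToSection (gr n R) hf (q + 1) (mon (cx x)) ha
  rw [Proj.basicOpen_mul, ← W_eq R x] at h1
  refine Eq.trans ?_ h1.symm
  exact (inf_eq_right.2 (W_le (cov n R) x 0)).symm

/-- sections of a quasi-coherent module over a member of the nerve of the standard cover of `P^n_R`
come from coherent modules. -/
theorem exists_coh_lift_W (F : (CohB1.ProjSpace n R).Modules) (hF : Coh.IsQCoh F) {q : ℕ}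
    (x : Fin (q + 1) → Idx.{u} n) (y : Γ(F, W (cov n R) x)) :
    ∃ (G : (CohB1.ProjSpace n R).Modules) (_ : Coh.IsCoh G) (g : G ⟶ F)
      (σ : Γ(G, W (cov n R) x)), g.app (W (cov n R) x) σ = y := by
  obtain ⟨r, hr⟩ := exists_W_eq_basicOpen n R x
  have : F.IsQuasicoherent := hF
  exact DualQ1.exists_lift_basicOpen (X := CohB1.ProjSpace n R)
    (isAffineOpen_U (chart n R (x 0).down))
    (fun y => exists_coh_lift_chart n R F hF (chart n R (x 0).down) y) r _ hr y

end Groth.Agent.Lib.Helper2.DualQ2
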