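import Groth.Agent.Lib.Helper21.QCohColimH
import Groth.Agent.Lib.Helper2.DualQ1

/-!
# Classes in the cohomology of a quasi-coherent module come from coherent modules (helper2)
-/

set_option backward.isDefEq.respectTransparency.types false
set_option linter.style.haveILetI false
set_option autoImplicit false
universe u
open CategoryTheory CategoryTheory.Limits AlgebraicGeometry Opposite TopologicalSpace

noncomputable section

namespace Groth.Agent.Lib.Helper2.DualSub1

open Groth.Agent.Lib.Helper21.QCohColim Groth.Agent.Lib.Helper17.SigmaHH Groth.Agent.Lib.Helper17.HCompare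
  Groth.Agent.Lib.Helper6.SheafCoh

variable {X : Scheme.{u}} [CompactSpace X] [QuasiSeparatedSpace X]

open scoped Classical in
/-- every class in the cohomology of a quasi-coherent module on a qcqs scheme comes from a coherent
module. -/
theorem exists_coh_class (F : X.Modules) (hF : Coh.IsQCoh F) (i : ℕ) (y : Coh.HH X F i) :
    ∃ (G : X.Modules) (_ : Coh.IsCoh G) (g : G ⟶ F) (y' : Coh.HH X G i),
      Sheaf.H.map ((SheafOfModules.toSheaf.{u} X.ringCatSheaf).map g) i y' = y := by
  haveI : F.IsQuasicoherent := hF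
  haveI : PrespectralSpace X.toTopCat := inferInstanceAs (PrespectralSpace X)
  have hS : PreservesColimitsOfShape (Finset (Pt F)) (SheafOfModules.toSheaf.{u} X.ringCatSheaf) :=
    Groth.Agent.Lib.Helper1.RestrExact.toSheaf_preservesColimitsOfShape _ _
  have hcpt : IsCompact ((⊤ : X.Opens) : Set X) := isCompact_univ
  have hqs : IsQuasiSeparated ((⊤ : X.Opens) : Set X) := isQuasiSeparated_univ
  haveI : PreservesColimit (D F) (HfM X i ⊤) := by
    haveI := Groth.Agent.Lib.Helper27.ExtFilt.preservesColimit_of_isQuasiSeparated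
      (X := X.toTopCat) (⊤ : X.Opens) hcpt hqs i
      (D F ⋙ SheafOfModules.toSheaf.{u} X.ringCatSheaf)
    haveI h2 : PreservesColimit (D F) (SheafOfModules.toSheaf.{u} X.ringCatSheaf) :=
      hS.preservesColimit
    exact Limits.comp_preservesColimit _ _
  have hc : IsColimit ((HfM X i ⊤).mapCocone (cocone F)) :=
    isColimitOfPreserves (HfM X i ⊤) (Groth.Agent.Lib.Helper21.QCohColim.isColimit F)
  obtain ⟨σ, z, hz⟩ := Concrete.isColimit_exists_rep (D F ⋙ HfM X i ⊤) hc
    (topHEquiv (Coh.toAb F) i y)
  refine ⟨(D F).obj σ, isCoh_D F σ, (cocone F).ι.app σ,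
    (topHEquiv (Coh.toAb ((D F).obj σ)) i).symm z, ?_⟩
  apply (topHEquiv (Coh.toAb F) i).injective
  have hnat : ∀ w : Coh.HH X ((D F).obj σ) i,
      topHEquiv (Coh.toAb F) i
        (Sheaf.H.map ((SheafOfModules.toSheaf.{u} X.ringCatSheaf).map ((cocone F).ι.app σ)) i w) =
      ((SheafOfModules.toSheaf.{u} X.ringCatSheaf ⋙ Hf X.toTopCat i ⊤).map ((cocone F).ι.app σ)).hom
        (topHEquiv (Coh.toAb ((D F).obj σ)) i w) := by
    intro w
    change (Abelian.Ext.mk₀ (zzIso (Opens.grothendieckTopology X.toTopCat) isTerminalTop).inv).comp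
        (w.comp (Abelian.Ext.mk₀ ((SheafOfModules.toSheaf.{u} X.ringCatSheaf).map
          ((cocone F).ι.app σ))) (add_zero i)) (zero_add i) =
      ((Abelian.Ext.mk₀ (zzIso (Opens.grothendieckTopology X.toTopCat) isTerminalTop).inv).comp w
        (zero_add i)).comp
        (Abelian.Ext.mk₀ ((SheafOfModules.toSheaf.{u} X.ringCatSheaf).map ((cocone F).ι.app σ)))
        (add_zero i)
    exact (Abelian.Ext.comp_assoc _ _ _ (zero_add i) (add_zero i) (by omega)).symm
  exact ((hnat _).trans (congrArg _ (AddEquiv.apply_symm_apply _ _))).trans hz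

end Groth.Agent.Lib.Helper2.DualSub1
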