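import Groth.Agent.Lib.Helper2.DualSub1
import Groth.Agent.Lib.Helper2.Dual10
import Groth.Agent.Lib.Helper2.DualQ2
import Groth.Agent.Lib.Helper6.DevChev
import Groth.Agent.Lib.Helper6.DevExt
import Groth.Agent.Lib.Helper25.ConsModA
import Groth.Agent.Lib.Helper21.FibVan1
import Groth.Agent.Lib.Helper28.ProjSpaceBasic

/-!
# Duality on a closed subscheme of `P^n_A`: from the twisting sheaves to the coherent modules (helper2)
-/

set_option backward.isDefEq.respectTransparency.types false
set_option linter.style.haveILetI false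
set_option autoImplicit false
universe u
open CategoryTheory CategoryTheory.Limits AlgebraicGeometry Opposite TopologicalSpace

noncomputable section

namespace Groth.Agent.Lib.Helper2.DualSub2

open Groth.Agent.Lib.Helper2.Dual9 Groth.Agent.Lib.Helper2.SerreFin1 Groth.Agent.Lib.Helper2.HLesLin
  Groth.Agent.Lib.Helper2.HLes

section General

variable {X : Scheme.{u}} (A : Type u) [CommRing A] [X.Over (Spec (CommRingCat.of A))]
  (r : ℕ) (ω : X.Modules) (t : Coh.HH X ω r →ₗ[A] A)

variable {A r ω t}

theorem dinj_of_bijective {F : X.Modules} (h : Function.Bijective (Canon.dualityMap A X r ω t F)) :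
    DInj A r ω t F := by
  intro φ hφ
  apply h.1
  apply LinearMap.ext
  intro x
  change t (Canon.HHlin A φ r x) = t (Canon.HHlin A (0 : F ⟶ ω) r x)
  rw [hφ x, HHlin_zero_apply (A := A), map_zero]

theorem dsurj_of_bijective {F : X.Modules} (h : Function.Bijective (Canon.dualityMap A X r ω t F)) :
    DSurj A r ω t F := by
  intro ψ
  obtain ⟨φ, hφ⟩ := h.2 ψ
  exact ⟨φ, fun x => (LinearMap.congr_fun hφ x).symm⟩

theorem bijective_of {F : X.Modules} (hi : DInj A r ω t F) (hs : DSurj A r ω t F) :
    Function.Bijective (Canon.dualityMap A X r ω t F) := by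
  constructor
  · intro φ₁ φ₂ h
    have h1 := hi (φ₁ - φ₂) (fun x => by
      rw [HHlin_sub_apply, map_sub]
      have h2 := LinearMap.congr_fun h x
      exact sub_eq_zero.mpr h2)
    exact sub_eq_zero.mp h1
  · intro ψ
    obtain ⟨φ, hφ⟩ := hs ψ
    exact ⟨φ, LinearMap.ext (fun x => (hφ x).symm)⟩

end General

variable (A : Type u) [CommRing A] [IsNoetherianRing A] (n : ℕ)
  {X : Scheme.{u}} (ι : X ⟶ CohB1.ProjSpace n A) [IsClosedImmersion ι]

/-- a coherent module on a closed subscheme of `P^n_A` is a quotient of a finite sum of copies of a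
twisting sheaf. -/
theorem exists_presentation (F : X.Modules) (hF : Coh.IsCoh F) :
    ∃ (k : ℕ) (m : ℤ)
      (q : (∐ fun _ : Fin k => (Scheme.Modules.pullback ι).obj (Twist.twistProjSpace n A m)) ⟶ F),
      Epi q := by
  have hpF : Coh.IsCoh ((Scheme.Modules.pushforward ι).obj F) :=
    Groth.Agent.Lib.Helper6.DevChev.isCoh_push_of_isFinite ι F hF
  obtain ⟨k, m, q, hq, -⟩ := Dual10.exists_presentation A n _ hpF
  let adj := Scheme.Modules.pullbackPushforwardAdjunction ι
  let L : (CohB1.ProjSpace n A).Modules := Twist.twistProjSpace n A m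
  let φ : Fin k → (L ⟶ (Scheme.Modules.pushforward ι).obj F) := fun i =>
    Sigma.ι (fun _ : Fin k => L) i ≫ q
  let φ' : Fin k → ((Scheme.Modules.pullback ι).obj L ⟶ F) := fun i =>
    (adj.homEquiv L F).symm (φ i)
  have hφ : ∀ i, adj.unit.app L ≫ (Scheme.Modules.pushforward ι).map (φ' i) = φ i := fun i =>
    (adj.homEquiv_unit L F (φ' i)).symm.trans (Equiv.apply_symm_apply _ _)
  let q' : (∐ fun _ : Fin k => (Scheme.Modules.pullback ι).obj L) ⟶ F := Sigma.desc φ'
  have h1 : Sigma.desc (fun i : Fin k => adj.unit.app L ≫ (Scheme.Modules.pushforward ι).map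
      (Sigma.ι (fun _ : Fin k => (Scheme.Modules.pullback ι).obj L) i)) ≫
      (Scheme.Modules.pushforward ι).map q' = q := by
    apply Sigma.hom_ext
    intro i
    rw [Sigma.ι_desc_assoc, Category.assoc, ← Functor.map_comp, Sigma.ι_desc, hφ]
    rfl
  have h2 : Epi ((Scheme.Modules.pushforward ι).map q') := by
    have h3 : Epi (Sigma.desc (fun i : Fin k => adj.unit.app L ≫ (Scheme.Modules.pushforward ι).map
      (Sigma.ι (fun _ : Fin k => (Scheme.Modules.pullback ι).obj L) i)) ≫
      (Scheme.Modules.pushforward ι).map q') := by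
      rw [h1]
      exact hq
    exact @epi_of_epi _ _ _ _ _ _ _ h3
  exact ⟨k, m, q', (Scheme.Modules.pushforward ι).epi_of_epi_map h2⟩


include ι in
theorem isLocallyNoetherian : IsLocallyNoetherian X := by
  haveI : IsNoetherian (Proj (Groth.Agent.Lib.Helper2.ProjCoh3.gr n A)) :=
    Groth.Agent.S2357.result (Groth.Agent.Lib.Helper2.ProjCoh3.gr n A)
  haveI : IsLocallyNoetherian (CohB1.ProjSpace n A) :=
    (inferInstance : IsLocallyNoetherian (Proj (Groth.Agent.Lib.Helper2.ProjCoh3.gr n A)))
  exact LocallyOfFiniteType.isLocallyNoetherian ι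

variable [X.Over (Spec (CommRingCat.of A))] (r : ℕ)
  (hι : ι ≫ CohB1.ProjSpace.toSpec n A = X ↘ Spec (CommRingCat.of A))
  (hfib : ∀ y : ↥(Spec (CommRingCat.of A)),
    topologicalKrullDim ↥((X ↘ Spec (CommRingCat.of A)).fiber y) ≤ (r : WithBot ℕ∞))

include hι hfib in
theorem good : Groth.Agent.Lib.Helper21.FibVan.Good r X := by
  haveI : IsProper (CohB1.ProjSpace.toSpec n A) :=
    Groth.Agent.Lib.Helper28.ProjSpaceBasic.isProper_toSpec n A
  haveI : IsProper (X ↘ Spec (CommRingCat.of A)) := by
    rw [← hι]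
    infer_instance
  exact ⟨X, Spec (CommRingCat.of A), X ↘ Spec (CommRingCat.of A), 𝟙 X, inferInstance, inferInstance,
    inferInstance, hfib, inferInstance⟩

variable (ω : X.Modules) (tr : Coh.HH X ω r →ₗ[A] A)
  (h : ∀ m : ℤ, Function.Bijective
    (Canon.dualityMap A X r ω tr ((Scheme.Modules.pullback ι).obj (Twist.twistProjSpace n A m))))

include h in
theorem dinj_coh (F : X.Modules) (hF : Coh.IsCoh F) : DInj A r ω tr F := by
  obtain ⟨k, m, q, hq⟩ := exists_presentation A n ι F hF
  exact dinj_of_epi q (dinj_sigma _ (fun _ => dinj_of_bijective (h m)))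

open Groth.Agent.Lib.Helper6.DevPow Groth.Agent.Lib.Helper6.DevCore in
include hι hfib h in
theorem dsurj_coh (F : X.Modules) (hF : Coh.IsCoh F) : DSurj A r ω tr F := by
  haveI : IsLocallyNoetherian X := isLocallyNoetherian A n ι
  obtain ⟨k, m, q, hq⟩ := exists_presentation A n ι F hF
  have hE : Coh.IsCoh (∐ fun _ : Fin k =>
      (Scheme.Modules.pullback ι).obj (Twist.twistProjSpace n A m)) :=
    isCoh_sigma_fin k _ (fun _ => Groth.Agent.Lib.Helper25.ConsMod.isCoh_pullback ι
      (Groth.Agent.Lib.Helper2.SerreFin2.isCoh_twist n A m))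
  have hK : Coh.IsCoh (kernel q) := isCoh_kernel q hE hF
  let S : ShortComplex X.Modules := ShortComplex.mk (kernel.ι q) q (kernel.condition q)
  have hS : S.ShortExact :=
    { exact := ShortComplex.exact_kernel q
      mono_f := inferInstanceAs (Mono (kernel.ι q))
      epi_g := inferInstanceAs (Epi q) }
  refine dsurj_of_shortExact S hS (dsurj_sigma _ (fun _ => dsurj_of_bijective (h m)))
    (dinj_coh A n ι r ω tr h (kernel q) hK) ?_
  intro y
  haveI : (kernel q).IsQuasicoherent := hK.1
  have hsub : Subsingleton (Coh.HH X (kernel q) (r + 1)) :=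
    (good A n ι r hι hfib).subsingleton_HH (kernel q) (r + 1) (by omega)
  obtain ⟨x, hx⟩ := exact₃ (shortExact_Sab S hS) r y (@Subsingleton.elim _ hsub _ _)
  exact ⟨x, hx⟩

include hι hfib h in
theorem cohDual : DualQ1.CohDual A r ω tr :=
  fun G hG => ⟨dinj_coh A n ι r ω tr h G hG, dsurj_coh A n ι r hι hfib ω tr h G hG⟩

end Groth.Agent.Lib.Helper2.DualSub2
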