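import Groth.Agent.Lib.Helper2.DualSub2
import Groth.Agent.Lib.Helper2.DualQ4

/-!
# Duality on a closed subscheme of `P^n_A`: from the twisting sheaves to all quasi-coherent modules (helper2)
-/

set_option backward.isDefEq.respectTransparency.types false
set_option linter.style.haveILetI false
set_option autoImplicit false
universe u
open CategoryTheory CategoryTheory.Limits AlgebraicGeometry Opposite TopologicalSpace

noncomputable section

namespace Groth.Agent.Lib.Helper2.DualSub3

open Groth.Agent.Lib.Helper2.Dual9 Groth.Agent.Lib.Helper2.DualSub2 Groth.Agent.Lib.Helper2.DualQ2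
  Groth.Agent.Lib.Helper2.ProjCoh3 Groth.Agent.Lib.Helper2.ProjCoh4 Groth.Agent.Lib.Helper2.ProjCoh5
  Groth.Agent.Lib.Helper28 Groth.Agent.Lib.Helper28.GammaStar Groth.Agent.Lib.Helper2.SerreFin2

variable (A : Type u) [CommRing A] [IsNoetherianRing A] (n : ℕ)
  {X : Scheme.{u}} (ι : X ⟶ CohB1.ProjSpace n A) [IsClosedImmersion ι]

/-- the charts of `X`. -/
def chartX (f : J (gr n A) (vars n A)) : X.Opens := ι ⁻¹ᵁ (U (gr n A) (vars n A) f)

theorem isAffineOpen_chartX (f : J (gr n A) (vars n A)) : IsAffineOpen (chartX A n ι f) := by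
  have hU : IsAffineOpen (X := CohB1.ProjSpace n A) (U (gr n A) (vars n A) f) := isAffineOpen_U f
  exact hU.preimage ι

theorem cover_chartX (x : X) : ∃ f, x ∈ chartX A n ι f := by
  obtain ⟨f, hf⟩ := cover_of_span (𝒜 := gr n A) (s := vars n A) (vars_mem n A)
    (irrelevant_eq_span n A) (ι.base x)
  exact ⟨f, hf⟩

/-- sections of a quasi-coherent module over a chart of `X` come from coherent modules. -/
theorem exists_coh_lift_chartX (F : X.Modules) (hF : Coh.IsQCoh F) (f : J (gr n A) (vars n A))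
    (y : Γ(F, chartX A n ι f)) :
    ∃ (G : X.Modules) (_ : Coh.IsCoh G) (g : G ⟶ F) (σ : Γ(G, chartX A n ι f)),
      g.app (chartX A n ι f) σ = y := by
  haveI : F.IsQuasicoherent := hF
  have hpF : Coh.IsQCoh ((Scheme.Modules.pushforward ι).obj F) :=
    Groth.Agent.Lib.Helper28.QCohLoc.isQuasicoherent_pushforward ι F
  obtain ⟨G₀, hG₀, g₀, σ₀, h₀⟩ := exists_coh_lift_chart n A _ hpF f
    (show Γ((Scheme.Modules.pushforward ι).obj F, U (gr n A) (vars n A) f) from y)
  let adj := Scheme.Modules.pullbackPushforwardAdjunction ι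
  let g : (Scheme.Modules.pullback ι).obj G₀ ⟶ F := (adj.homEquiv G₀ F).symm g₀
  have hg : adj.unit.app G₀ ≫ (Scheme.Modules.pushforward ι).map g = g₀ :=
    (adj.homEquiv_unit G₀ F g).symm.trans (Equiv.apply_symm_apply _ _)
  refine ⟨(Scheme.Modules.pullback ι).obj G₀,
    Groth.Agent.Lib.Helper25.ConsMod.isCoh_pullback ι hG₀, g,
    (adj.unit.app G₀).app (U (gr n A) (vars n A) f) σ₀, ?_⟩
  have h1 : (adj.unit.app G₀ ≫ (Scheme.Modules.pushforward ι).map g).app
      (U (gr n A) (vars n A) f) σ₀ = y := by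
    rw [hg]
    exact h₀
  exact h1

variable [X.Over (Spec (CommRingCat.of A))] (r : ℕ)
  (hι : ι ≫ CohB1.ProjSpace.toSpec n A = X ↘ Spec (CommRingCat.of A))
  (hfib : ∀ y : ↥(Spec (CommRingCat.of A)),
    topologicalKrullDim ↥((X ↘ Spec (CommRingCat.of A)).fiber y) ≤ (r : WithBot ℕ∞))
  (ω : X.Modules) (tr : Coh.HH X ω r →ₗ[A] A)
  (h : ∀ m : ℤ, Function.Bijective
    (Canon.dualityMap A X r ω tr ((Scheme.Modules.pullback ι).obj (Twist.twistProjSpace n A m))))

include hι hfib h in
theorem dinj_qcoh (F : X.Modules) (hF : Coh.IsQCoh F) : DInj A r ω tr F := by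
  haveI : IsLocallyNoetherian X := isLocallyNoetherian A n ι
  intro φ hφ
  exact DualQ1.hom_eq_zero (X := X) (cohDual A n ι r hι hfib ω tr h) hF
    (chartX A n ι) (isAffineOpen_chartX A n ι) (cover_chartX A n ι)
    (fun f y => exists_coh_lift_chartX A n ι F hF f y) φ hφ

include hι hfib h in
theorem dsurj_qcoh (F : X.Modules) (hF : Coh.IsQCoh F) : DSurj A r ω tr F := by
  haveI : IsLocallyNoetherian X := isLocallyNoetherian A n ι
  haveI : IsProper (CohB1.ProjSpace.toSpec n A) :=
    Groth.Agent.Lib.Helper28.ProjSpaceBasic.isProper_toSpec n A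
  haveI : IsProper (X ↘ Spec (CommRingCat.of A)) := by
    rw [← hι]
    infer_instance
  haveI : CompactSpace X := QuasiCompact.compactSpace_of_compactSpace (X ↘ Spec (CommRingCat.of A))
  haveI : QuasiSeparatedSpace X :=
    quasiSeparatedSpace_of_quasiSeparated (X ↘ Spec (CommRingCat.of A))
  intro ψ
  exact DualQ1.exists_hom (X := X) (cohDual A n ι r hι hfib ω tr h) ψ hF
    (chartX A n ι) (isAffineOpen_chartX A n ι) (cover_chartX A n ι)
    (fun f y => exists_coh_lift_chartX A n ι F hF f y)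
    (fun y => DualSub1.exists_coh_class F hF r y)

include hι hfib h in
/-- **a pair that is dualizing for the twisting sheaves is dualizing**. -/
theorem isRDualOver (hω : Coh.IsQCoh ω) : Canon.IsRDualOver A X r ω tr :=
  ⟨hω, fun F hF => bijective_of (dinj_qcoh A n ι r hι hfib ω tr h F hF)
    (dsurj_qcoh A n ι r hι hfib ω tr h F hF)⟩

end Groth.Agent.Lib.Helper2.DualSub3
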