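import Groth.Agent.Lib.Helper2.EffDim
import Groth.Agent.Lib.Helper24.FibreDim.Formula
import Groth.Agent.Lib.Helper24.FibreDim.Main3456
import Groth.Agent.Lib.Helper18.Aff.Tower
import Mathlib
set_option backward.isDefEq.respectTransparency.types false
set_option autoImplicit false
set_option linter.style.haveILetI false

/-!
# A nonempty effective Cartier divisor on an integral scheme of finite type over a field has dimension
`dim X - 1` (helper2)

Krull's principal ideal theorem gives a point of the divisor whose local ring has dimension one; the dimension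
formula (helper24) then shows that its closure has dimension `dim X - 1`.
-/

universe u
open CategoryTheory CategoryTheory.Limits AlgebraicGeometry Opposite TopologicalSpace

namespace Groth.Agent.Lib.Helper2.EffDim

open Groth.Agent.Lib.Helper24.FibreDim

section field

variable (k : Type u) [Field k] {X : Scheme.{u}} [X.Over (Spec (CommRingCat.of k))]
  [LocallyOfFiniteType (X ↘ Spec (CommRingCat.of k))]

instance : Subsingleton (Spec (CommRingCat.of k)) :=
  inferInstanceAs (Subsingleton (PrimeSpectrum k))

/-- the closure of a point has dimension the transcendence degree of its residue field -/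
theorem dim_closure_eq_tr (x : X) :
    topologicalKrullDim ↥(closure ({x} : Set X)) =
      ((tr (X ↘ Spec (CommRingCat.of k)) x : ℕ) : WithBot ℕ∞) := by
  have h := dim_closure_inter_fibre (X ↘ Spec (CommRingCat.of k)) x
  have huniv : (X ↘ Spec (CommRingCat.of k)) ⁻¹' {(X ↘ Spec (CommRingCat.of k)) x} = Set.univ := by
    ext y
    simp only [Set.mem_preimage, Set.mem_singleton_iff, Set.mem_univ, iff_true]
    exact Subsingleton.elim _ _
  rw [huniv, Set.inter_univ] at h
  exact h

variable [IsIntegral X]

/-- the dimension formula over a field: `dim O_{X,x} + trdeg κ(x) = dim X` -/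
theorem coheight_add_tr (x : X) :
    (((Order.coheight x : ℕ∞) + (tr (X ↘ Spec (CommRingCat.of k)) x : ℕ∞) : ℕ∞) : WithBot ℕ∞) =
      topologicalKrullDim X := by
  haveI : IsLocallyNoetherian (Spec (CommRingCat.of k)) := inferInstance
  have hY : ∀ y : Spec (CommRingCat.of k),
      CAlg.IsUniversallyCatenary ((Spec (CommRingCat.of k)).presheaf.stalk y) :=
    (Groth.Agent.Lib.Helper18.AffTower.isSetup_spec_field k 0).2.1
  have hf : DenseRange (X ↘ Spec (CommRingCat.of k)).base := by
    intro y
    apply subset_closure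
    exact ⟨x, Subsingleton.elim _ _⟩
  have h := coheight_add_tr_eq (X ↘ Spec (CommRingCat.of k)) hf hY x
  have h0 : Order.coheight ((X ↘ Spec (CommRingCat.of k)) x) = 0 := by
    rw [Order.coheight_eq_zero]
    intro y _
    exact (Subsingleton.elim _ _).le
  rw [h0, zero_add] at h
  rw [h]
  -- `dim X = tr (generic point)`
  have hg := dim_closure_eq_tr k (genericPoint ↥X)
  have hcl : closure ({genericPoint ↥X} : Set X) = Set.univ := (genericPoint_spec ↥X).def
  rw [hcl] at hg
  have hu : topologicalKrullDim ↥(Set.univ : Set X) = topologicalKrullDim X :=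
    (Homeomorph.Set.univ X).isHomeomorph.topologicalKrullDim_eq
  rw [← hu, hg]
  rfl

end field

section krull

variable {X : Scheme.{u}} [IsLocallyNoetherian X]

/-- **Krull's principal ideal theorem**: every point of an effective Cartier divisor has a generization in the
divisor whose local ring has dimension one -/
theorem exists_mem_support_coheight_eq_one (I : X.IdealSheafData) (hI : BlowUp.IsEffCartierIdeal I)
    (x₀ : X) (hx₀ : x₀ ∈ I.support) :
    ∃ x : X, x ∈ I.support ∧ x ⤳ x₀ ∧ Order.coheight x = 1 := by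
  obtain ⟨U, hx₀U, g, hg, hIU⟩ := hI x₀
  haveI : IsNoetherianRing Γ(X, U.1) := IsLocallyNoetherian.component_noetherian U
  have hgP₀ : g ∈ (U.2.primeIdealOf ⟨x₀, hx₀U⟩).asIdeal := by
    rw [Groth.Agent.Lib.Helper7.AffPts.mem_primeIdealOf_iff U.2 ⟨x₀, hx₀U⟩ g]
    have h1 := hx₀
    rw [Scheme.IdealSheafData.mem_support_iff_of_mem (U := U) hx₀U, hIU, Scheme.zeroLocus_span,
      Scheme.zeroLocus_singleton] at h1
    exact h1
  have hle : Ideal.span {g} ≤ (U.2.primeIdealOf ⟨x₀, hx₀U⟩).asIdeal := by
    rw [Ideal.span_le, Set.singleton_subset_iff]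
    exact hgP₀
  obtain ⟨P, hPmin, hPle⟩ := Ideal.exists_minimalPrimes_le hle
  haveI hPprime : P.IsPrime := hPmin.1.1
  obtain ⟨x, hx⟩ := Groth.Agent.Lib.Helper7.AffPts.primeIdealOf_surjective U.2 ⟨P, hPprime⟩
  have hxP : (U.2.primeIdealOf x).asIdeal = P := by rw [hx]
  have hgP : g ∈ P := hPmin.1.2 (Ideal.subset_span rfl)
  refine ⟨x.1, ?_, ?_, ?_⟩
  · rw [Scheme.IdealSheafData.mem_support_iff_of_mem (U := U) x.2, hIU, Scheme.zeroLocus_span,
      Scheme.zeroLocus_singleton]
    have := (Groth.Agent.Lib.Helper7.AffPts.mem_primeIdealOf_iff U.2 x g).1 (by rw [hxP]; exact hgP)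
    exact this
  · have := (Groth.Agent.Lib.Helper7.AffPts.primeIdealOf_le_iff U.2 x ⟨x₀, hx₀U⟩).1 (by
      show (U.2.primeIdealOf x).asIdeal ≤ (U.2.primeIdealOf ⟨x₀, hx₀U⟩).asIdeal
      rw [hxP]; exact hPle)
    exact this
  · -- the height of `P` is one
    have h1 : P.height ≤ 1 := Ideal.height_le_one_of_isPrincipal_of_mem_minimalPrimes (Ideal.span {g}) P hPmin
    have h0 : P.height ≠ 0 := by
      intro h
      rw [Ideal.height_eq_zero_iff] at h
      exact Set.disjoint_left.mp (Ideal.disjoint_nonZeroDivisors_of_mem_minimalPrimes h) hgP hg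
    have hh : P.height = 1 := le_antisymm h1 (Order.one_le_iff_pos.2 (pos_iff_ne_zero.2 h0))
    letI := TopCat.Presheaf.algebra_section_stalk X.presheaf x
    haveI : IsLocalization.AtPrime (X.presheaf.stalk x.1) (U.2.primeIdealOf x).asIdeal :=
      U.2.isLocalization_stalk x
    have h2 := IsLocalization.AtPrime.ringKrullDim_eq_height (U.2.primeIdealOf x).asIdeal
      (X.presheaf.stalk x.1)
    rw [ringKrullDim_stalk_eq_coheight] at h2
    have h3 : (U.2.primeIdealOf x).asIdeal.height = 1 := by
      rw [← hh]
      congr 1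
    rw [h3] at h2
    exact_mod_cast h2

end krull

section main

variable (k : Type u) [Field k] {X : Scheme.{u}} [X.Over (Spec (CommRingCat.of k))]
  [LocallyOfFiniteType (X ↘ Spec (CommRingCat.of k))] [IsIntegral X]

include k in
/-- **the dimension of a nonempty effective Cartier divisor** on an integral scheme of finite type over a field -/
theorem dim_support_eq (I : X.IdealSheafData) (hI : BlowUp.IsEffCartierIdeal I)
    (hne : (I.support : Set X).Nonempty) (e : ℕ)
    (hX : topologicalKrullDim X = ((e + 1 : ℕ) : WithBot ℕ∞)) :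
    topologicalKrullDim (I.support : Set X) = (e : WithBot ℕ∞) := by
  haveI : IsLocallyNoetherian X := LocallyOfFiniteType.isLocallyNoetherian (X ↘ Spec (CommRingCat.of k))
  apply le_antisymm (dim_support_le I hI e hX)
  obtain ⟨x₀, hx₀⟩ := hne
  obtain ⟨x, hxS, -, hx1⟩ := exists_mem_support_coheight_eq_one I hI x₀ hx₀
  have h1 := coheight_add_tr k x
  rw [hx1, hX] at h1
  have h2 : tr (X ↘ Spec (CommRingCat.of k)) x = e := by
    have h3 : ((1 : ℕ∞) + (tr (X ↘ Spec (CommRingCat.of k)) x : ℕ∞)) = ((e + 1 : ℕ) : ℕ∞) := by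
      exact_mod_cast h1
    have h4 : ((1 + tr (X ↘ Spec (CommRingCat.of k)) x : ℕ) : ℕ∞) = ((e + 1 : ℕ) : ℕ∞) := by
      push_cast; exact h3
    have h5 : 1 + tr (X ↘ Spec (CommRingCat.of k)) x = e + 1 := by exact_mod_cast h4
    omega
  have h6 := dim_closure_eq_tr k x
  rw [h2] at h6
  rw [← h6]
  have hsub : closure ({x} : Set X) ⊆ (I.support : Set X) :=
    closure_minimal (Set.singleton_subset_iff.2 hxS) I.support.isClosed
  exact (Topology.IsEmbedding.inclusion hsub).isInducing.topologicalKrullDim_le

end main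

end Groth.Agent.Lib.Helper2.EffDim
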