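import Mathlib
import Groth.Prelude.Def_DerCA
import Groth.Prelude.Def_ARSys

/-!
# An inverse system of Artinian modules whose limit is Artinian is essentially constant
-/

set_option autoImplicit false
universe u

open CategoryTheory CategoryTheory.Limits Opposite

namespace Groth.Agent.Lib.Helper2.EssConst

variable {A : Type u} [CommRing A] (X : ℕᵒᵖ ⥤ ModuleCat.{u} A)

/-- the transition map as a linear map. -/
noncomputable def t {n m : ℕ} (h : n ≤ m) : X.obj (op m) →ₗ[A] X.obj (op n) :=
  (X.map (homOfLE h).op).hom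

theorem t_t {n m k : ℕ} (h : n ≤ m) (h' : m ≤ k) (x : X.obj (op k)) :
    t X h (t X h' x) = t X (h.trans h') x := by
  unfold t
  rw [← LinearMap.comp_apply, ← ModuleCat.hom_comp, ← X.map_comp]
  rfl

theorem t_refl {n : ℕ} (h : n ≤ n) (x : X.obj (op n)) : t X h x = x := by
  unfold t
  have : (homOfLE h).op = 𝟙 (op n) := Subsingleton.elim _ _
  rw [this, X.map_id]
  rfl

theorem range_t_anti {n m k : ℕ} (h : n ≤ m) (h' : m ≤ k) :
    LinearMap.range (t X (h.trans h')) ≤ LinearMap.range (t X h) := by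
  rintro _ ⟨x, rfl⟩
  exact ⟨t X h' x, t_t X h h' x⟩

variable (hX : ∀ n : ℕ, IsArtinian A (X.obj (op n)))

include hX in
/-- the images stabilise. -/
theorem exists_stable (n : ℕ) : ∃ k : ℕ, n ≤ k ∧ ∀ (m : ℕ) (hkm : k ≤ m) (hnk : n ≤ k),
    LinearMap.range (t X (hnk.trans hkm)) = LinearMap.range (t X hnk) := by
  haveI := hX n
  let f : ℕ →o (Submodule A (X.obj (op n)))ᵒᵈ :=
    ⟨fun j => OrderDual.toDual (LinearMap.range (t X (Nat.le_add_right n j))), by
      intro j j' hjj'
      change LinearMap.range (t X (Nat.le_add_right n j')) ≤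
        LinearMap.range (t X (Nat.le_add_right n j))
      exact range_t_anti X (Nat.le_add_right n j) (Nat.add_le_add_left hjj' n)⟩
  obtain ⟨j₀, hj₀⟩ := IsArtinian.monotone_stabilizes f
  refine ⟨n + j₀, Nat.le_add_right n j₀, ?_⟩
  intro m hkm hnk
  obtain ⟨d, rfl⟩ := Nat.exists_eq_add_of_le hkm
  have := hj₀ (j₀ + d) (Nat.le_add_right j₀ d)
  have h2 : LinearMap.range (t X (Nat.le_add_right n j₀)) =
      LinearMap.range (t X (Nat.le_add_right n (j₀ + d))) := congrArg OrderDual.ofDual this
  have e : n + (j₀ + d) = n + j₀ + d := (Nat.add_assoc n j₀ d).symm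
  -- transport along `e`
  have key : ∀ (q : ℕ) (hq : n + (j₀ + d) = q) (hnq : n ≤ q),
      LinearMap.range (t X hnq) = LinearMap.range (t X (Nat.le_add_right n (j₀ + d))) := by
    intro q hq hnq
    subst hq
    rfl
  rw [key _ e]
  exact h2.symm

section Main

variable (hX : ∀ n : ℕ, IsArtinian A (X.obj (op n)))
variable (H : ModuleCat.{u} A) [IsArtinian A H] (c : (Functor.const ℕᵒᵖ).obj H ⟶ X)

omit [IsArtinian A H] in
theorem c_compat {n m : ℕ} (h : n ≤ m) (x : H) :
    t X h ((c.app (op m)).hom x) = (c.app (op n)).hom x := by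
  have hn := c.naturality (homOfLE h).op
  have h2 := congrArg (fun g => g.hom x) hn
  simp only [Functor.const_obj_obj, Functor.const_obj_map, Category.id_comp, ModuleCat.hom_comp,
    LinearMap.comp_apply] at h2
  exact h2.symm

include hX in
theorem isEssConstant
    (hinj : ∀ x : H, (∀ n : ℕ, (c.app (op n)).hom x = 0) → x = 0)
    (hsurj : ∀ y : ∀ n : ℕ, X.obj (op n),
      (∀ (n m : ℕ) (h : n ≤ m), t X h (y m) = y n) → ∃ x : H, ∀ n, (c.app (op n)).hom x = y n) :
    DerCA.IsEssConstant X H c := by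
  choose k hk hstab using exists_stable X hX
  let S : ∀ n, Submodule A (X.obj (op n)) := fun n => LinearMap.range (t X (hk n))
  have hS : ∀ (n m : ℕ) (h : k n ≤ m), LinearMap.range (t X ((hk n).trans h)) = S n :=
    fun n m h => hstab n m h (hk n)
  have hcS : ∀ (n : ℕ) (x : H), (c.app (op n)).hom x ∈ S n := by
    intro n x
    exact ⟨(c.app (op (k n))).hom x, c_compat X H c (hk n) x⟩
  have hsurjS : ∀ (n m : ℕ) (h : n ≤ m) (z : X.obj (op n)), z ∈ S n →
      ∃ w, w ∈ S m ∧ t X h w = z := by
    intro n m h z hz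
    have h1 : k n ≤ max (k n) (k m) := le_max_left _ _
    have h2 : k m ≤ max (k n) (k m) := le_max_right _ _
    have hz' : z ∈ LinearMap.range (t X ((hk n).trans h1)) := by
      rw [hS n _ h1]
      exact hz
    obtain ⟨u, rfl⟩ := hz'
    refine ⟨t X ((hk m).trans h2) u, ?_, t_t X h _ u⟩
    rw [← hS m _ h2]
    exact ⟨u, rfl⟩
  -- every element of `S n` lifts to `H`
  have hSc : ∀ (n : ℕ) (z : X.obj (op n)), z ∈ S n → ∃ x : H, (c.app (op n)).hom x = z := by
    intro n z hz
    have step : ∀ (j : ℕ) (w : S (n + j)), ∃ w' : S (n + j + 1),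
        t X (Nat.le_succ (n + j)) w'.1 = w.1 := by
      intro j w
      obtain ⟨w', hw', hww'⟩ := hsurjS (n + j) (n + j + 1) (Nat.le_succ _) w.1 w.2
      exact ⟨⟨w', hw'⟩, hww'⟩
    choose next hnext using step
    let w : ∀ j : ℕ, S (n + j) := fun j =>
      Nat.rec (motive := fun j => S (n + j)) (⟨z, hz⟩ : S (n + 0)) (fun j wj => next j wj) j
    have hw0 : (w 0).1 = z := rfl
    have hwsucc : ∀ j, t X (Nat.le_succ (n + j)) (w (j + 1)).1 = (w j).1 := fun j => hnext j (w j)
    have hP : ∀ (a b : ℕ) (h : a ≤ b), t X (Nat.add_le_add_left h n) (w b).1 = (w a).1 := by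
      intro a b h
      induction b, h using Nat.le_induction with
      | base => exact t_refl X _ _
      | succ b hab ih =>
        rw [← ih, ← hwsucc b, t_t]
    let y : ∀ l : ℕ, X.obj (op l) := fun l => t X (Nat.le_add_left l n) (w l).1
    have hy : ∀ (l l' : ℕ) (h : l ≤ l'), t X h (y l') = y l := by
      intro l l' h
      change t X h (t X (Nat.le_add_left l' n) (w l').1) = t X (Nat.le_add_left l n) (w l).1
      rw [t_t, ← hP l l' h, t_t]
    obtain ⟨x, hx⟩ := hsurj y hy
    refine ⟨x, ?_⟩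
    rw [hx n]
    change t X (Nat.le_add_left n n) (w n).1 = z
    rw [← hw0, ← hP 0 n (Nat.zero_le n)]
  -- the kernels stabilise
  let Kf : ℕ →o (Submodule A H)ᵒᵈ :=
    ⟨fun n => OrderDual.toDual (LinearMap.ker (c.app (op n)).hom), by
      intro n m h
      change LinearMap.ker (c.app (op m)).hom ≤ LinearMap.ker (c.app (op n)).hom
      intro x hx
      rw [LinearMap.mem_ker] at hx ⊢
      rw [← c_compat X H c h x, hx, map_zero]⟩
  obtain ⟨i₀, hi₀⟩ := IsArtinian.monotone_stabilizes Kf
  have hK0 : LinearMap.ker (c.app (op i₀)).hom = ⊥ := by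
    rw [eq_bot_iff]
    intro x hx
    rw [Submodule.mem_bot]
    apply hinj
    intro n
    rcases le_total i₀ n with h | h
    · have h1 : LinearMap.ker (c.app (op i₀)).hom = LinearMap.ker (c.app (op n)).hom :=
        congrArg OrderDual.ofDual (hi₀ n h)
      rw [h1] at hx
      exact hx
    · rw [← c_compat X H c h x, LinearMap.mem_ker.1 hx, map_zero]
  have hinj0 : Function.Injective (c.app (op i₀)).hom := LinearMap.ker_eq_bot.1 hK0
  let e := LinearEquiv.ofInjective (c.app (op i₀)).hom hinj0
  have hrange : ∀ x : X.obj (op (k i₀)),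
      t X (hk i₀) x ∈ LinearMap.range (c.app (op i₀)).hom := by
    intro x
    obtain ⟨h, hh⟩ := hSc i₀ _ ⟨x, rfl⟩
    exact ⟨h, hh⟩
  let s₀ : X.obj (op (k i₀)) →ₗ[A] H :=
    e.symm.toLinearMap ∘ₗ (t X (hk i₀)).codRestrict _ hrange
  have hs₀ : ∀ x, (c.app (op i₀)).hom (s₀ x) = t X (hk i₀) x := by
    intro x
    have := e.apply_symm_apply ((t X (hk i₀)).codRestrict _ hrange x)
    exact congrArg Subtype.val this
  refine ⟨k i₀, ModuleCat.ofHom s₀, ?_, ?_⟩
  · apply ModuleCat.hom_ext
    apply LinearMap.ext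
    intro h
    apply hinj0
    change (c.app (op i₀)).hom (s₀ ((c.app (op (k i₀))).hom h)) = (c.app (op i₀)).hom h
    rw [hs₀, c_compat]
  · intro j
    have hj' : j ≤ max j i₀ := le_max_left _ _
    have hi' : i₀ ≤ max j i₀ := le_max_right _ _
    have hk1 : k (max j i₀) ≤ max (k (max j i₀)) (k i₀) := le_max_left _ _
    have hk2 : k i₀ ≤ max (k (max j i₀)) (k i₀) := le_max_right _ _
    refine ⟨max (k (max j i₀)) (k i₀), hk2, (hj'.trans (hk _)).trans hk1, ?_⟩
    apply ModuleCat.hom_ext
    apply LinearMap.ext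
    intro y
    -- the element of `H`
    have hmem : t X ((hk (max j i₀)).trans hk1) y ∈ S (max j i₀) := by
      rw [← hS _ _ hk1]
      exact ⟨y, rfl⟩
    obtain ⟨h', hh'⟩ := hSc _ _ hmem
    have e1 : t X ((hj'.trans (hk _)).trans hk1) y = (c.app (op j)).hom h' := by
      rw [← c_compat X H c hj' h', hh', t_t]
    have e2 : s₀ (t X hk2 y) = h' := by
      apply hinj0
      rw [hs₀, t_t, ← c_compat X H c hi' h', hh', t_t]
    change t X _ y = (c.app (op j)).hom (s₀ (t X hk2 y))
    rw [e2]
    exact e1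

end Main

section Image

/-- image subobjects in `ModuleCat` are determined by ranges. -/
theorem imageSubobject_le_of_range_le {B B' C : ModuleCat.{u} A} (f : B ⟶ C) (g : B' ⟶ C)
    (h : LinearMap.range f.hom ≤ LinearMap.range g.hom) :
    imageSubobject f ≤ imageSubobject g := by
  have hinj : Function.Injective (imageSubobject g).arrow.hom :=
    (ModuleCat.mono_iff_injective _).1 inferInstance
  have hsurj : Function.Surjective (factorThruImageSubobject g).hom :=
    (ModuleCat.epi_iff_surjective _).1 inferInstance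
  have hrange : ∀ x : B, f.hom x ∈ LinearMap.range (imageSubobject g).arrow.hom := by
    intro x
    obtain ⟨y, hy⟩ := h ⟨x, rfl⟩
    refine ⟨(factorThruImageSubobject g).hom y, ?_⟩
    rw [← hy, ← LinearMap.comp_apply, ← ModuleCat.hom_comp, imageSubobject_arrow_comp]
  let e := LinearEquiv.ofInjective (imageSubobject g).arrow.hom hinj
  let φ : B →ₗ[A] ((imageSubobject g : ModuleCat.{u} A)) :=
    e.symm.toLinearMap ∘ₗ f.hom.codRestrict _ hrange
  refine imageSubobject_le f (X := imageSubobject g) (ModuleCat.ofHom φ) ?_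
  apply ModuleCat.hom_ext
  apply LinearMap.ext
  intro x
  have := e.apply_symm_apply (f.hom.codRestrict _ hrange x)
  exact congrArg Subtype.val this

theorem imageSubobject_eq_of_range_eq {B B' C : ModuleCat.{u} A} (f : B ⟶ C) (g : B' ⟶ C)
    (h : LinearMap.range f.hom = LinearMap.range g.hom) :
    imageSubobject f = imageSubobject g :=
  le_antisymm (imageSubobject_le_of_range_le f g h.le) (imageSubobject_le_of_range_le g f h.ge)

/-- an inverse system of Artinian modules satisfies the Mittag-Leffler condition. -/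
theorem isML_of_artinian (hX : ∀ n : ℕ, IsArtinian A (X.obj (op n))) : ARSys.IsML X := by
  intro n
  obtain ⟨k, hnk, hk⟩ := exists_stable X hX n
  obtain ⟨r, rfl⟩ := Nat.exists_eq_add_of_le hnk
  refine ⟨r, fun s hrs => ?_⟩
  apply imageSubobject_eq_of_range_eq
  exact hk (n + s) (Nat.add_le_add_left hrs n) hnk

end Image

end Groth.Agent.Lib.Helper2.EssConst
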