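import Mathlib

/-!
# Iterated mapping cones: the abstract Koszul complex (helper2)

Given objects `L d` (`d : ℤ`) of an abelian category with commuting maps `μ i d : L d ⟶ L (d+1)`,
`iter L μ hμ N s` is the family of Koszul complexes on the variables `0, …, s-1`, with top degree `N`:
its term in degree `i` is a coproduct of `s.choose (N - i)` copies of `L (d + s + (i - N))`
(`iter_X`), and its image under an additive functor inverting one of the variables is acyclic
(`acyclic_map`).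
-/

set_option autoImplicit false
universe v u v' u'
open CategoryTheory CategoryTheory.Limits CochainComplex HomologicalComplex

noncomputable section
namespace Groth.Agent.Lib.Helper2.Kos1


variable {C : Type u} [Category.{v} C] [Abelian C]

/-- a family of complexes `K d` with commuting degree-raising operators `X i d : K d ⟶ K (d+1)`. -/
structure KD (C : Type u) [Category.{v} C] [Abelian C] where
  K : ℤ → CochainComplex C ℤ
  X : ℕ → ∀ d : ℤ, K d ⟶ K (d + 1)
  comm : ∀ (i j : ℕ) (d : ℤ), X i d ≫ X j (d + 1) = X j d ≫ X i (d + 1)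

theorem map_congr {K₁ L₁ K₂ L₂ : CochainComplex C ℤ} (φ₁ : K₁ ⟶ L₁) (φ₂ : K₂ ⟶ L₂)
    {a a' : K₁ ⟶ K₂} {b b' : L₁ ⟶ L₂} (ha : a = a') (hb : b = b')
    (comm : φ₁ ≫ b = a ≫ φ₂) (comm' : φ₁ ≫ b' = a' ≫ φ₂) :
    mappingCone.map φ₁ φ₂ a b comm = mappingCone.map φ₁ φ₂ a' b' comm' := by
  subst ha hb
  rfl

/-- adjoin the variable `j`: the cones of `X j d`. -/
def KD.step (T : KD C) (j : ℕ) : KD C where
  K d := mappingCone (T.X j d)
  X i d := mappingCone.map (T.X j d) (T.X j (d + 1)) (T.X i d) (T.X i (d + 1)) (T.comm j i d)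
  comm i i' d := by
    rw [← mappingCone.map_comp, ← mappingCone.map_comp]
    exact map_congr _ _ (T.comm i i' d) (T.comm i i' (d + 1)) _ _

variable (L : ℤ → C) (μ : ℕ → ∀ d : ℤ, L d ⟶ L (d + 1))
  (hμ : ∀ (i j : ℕ) (d : ℤ), μ i d ≫ μ j (d + 1) = μ j d ≫ μ i (d + 1)) (N : ℤ)

/-- the objects `L d` in degree `N`. -/
def base : KD C where
  K d := (singleFunctor C N).obj (L d)
  X i d := (singleFunctor C N).map (μ i d)
  comm i j d := by rw [← Functor.map_comp, ← Functor.map_comp, hμ]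

/-- the Koszul family on the variables `0, …, s-1`. -/
def iter : ℕ → KD C
  | 0 => base L μ hμ N
  | s + 1 => (iter s).step s




/-- `A` is a coproduct of `m` copies of `B`. -/
def IsCopow (A B : C) (m : ℕ) : Prop :=
  ∃ (ι : Type) (_ : Fintype ι) (f : ι → C), Fintype.card ι = m ∧ (∀ i, Nonempty (f i ≅ B)) ∧
    Nonempty (A ≅ ∐ f)

theorem IsCopow.congr {A B B' : C} {m m' : ℕ} (h : IsCopow A B m) (hB : B = B') (hm : m = m') :
    IsCopow A B' m' := by
  subst hB hm
  exact h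

theorem IsCopow.of_iso {A A' B : C} {m : ℕ} (h : IsCopow A B m) (e : A' ≅ A) : IsCopow A' B m := by
  obtain ⟨ι, hι, f, hc, hf, ⟨e'⟩⟩ := h
  exact ⟨ι, hι, f, hc, hf, ⟨e ≪≫ e'⟩⟩

theorem isCopow_zero {A : C} (B : C) (h : IsZero A) : IsCopow A B 0 := by
  refine ⟨PEmpty, inferInstance, fun i => i.elim, by simp, fun i => i.elim, ⟨?_⟩⟩
  refine h.iso ?_
  rw [IsZero.iff_id_eq_zero]
  exact Sigma.hom_ext _ _ (fun i => i.elim)

theorem isCopow_one {A B : C} (e : A ≅ B) : IsCopow A B 1 :=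
  ⟨PUnit, inferInstance, fun _ => B, by simp, fun _ => ⟨Iso.refl _⟩,
    ⟨e ≪≫ (coproductUniqueIso (fun _ : PUnit => B)).symm⟩⟩

theorem IsCopow.isZero {A B : C} (h : IsCopow A B 0) : IsZero A := by
  obtain ⟨ι, hι, f, hc, hf, ⟨e⟩⟩ := h
  haveI : IsEmpty ι := Fintype.card_eq_zero_iff.1 hc
  refine IsZero.of_iso ?_ e
  rw [IsZero.iff_id_eq_zero]
  exact Sigma.hom_ext _ _ (fun i => isEmptyElim i)

theorem IsCopow.biprod {A₁ A₂ B : C} {m₁ m₂ : ℕ} (h₁ : IsCopow A₁ B m₁) (h₂ : IsCopow A₂ B m₂) :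
    IsCopow (A₁ ⊞ A₂) B (m₁ + m₂) := by
  obtain ⟨ι₁, hι₁, f₁, hc₁, hf₁, ⟨e₁⟩⟩ := h₁
  obtain ⟨ι₂, hι₂, f₂, hc₂, hf₂, ⟨e₂⟩⟩ := h₂
  refine ⟨ι₁ ⊕ ι₂, inferInstance, Sum.elim f₁ f₂, by simp [hc₁, hc₂], ?_, ⟨?_⟩⟩
  · rintro (i | i)
    · exact hf₁ i
    · exact hf₂ i
  · have hcol := Cofan.combPairIsColimit (c₁ := Cofan.mk (∐ f₁) (Sigma.ι f₁))
      (c₂ := Cofan.mk (∐ f₂) (Sigma.ι f₂))
      (bc := (BinaryBiproduct.bicone (∐ f₁) (∐ f₂)).toCocone)
      (coproductIsCoproduct f₁) (coproductIsCoproduct f₂)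
      (BinaryBiproduct.isColimit (∐ f₁) (∐ f₂))
    exact biprod.mapIso e₁ e₂ ≪≫
      hcol.coconePointUniqueUpToIso (coproductIsCoproduct (Sum.elim f₁ f₂))

theorem IsCopow.nonempty_iso {A B : C} {m : ℕ} (h : IsCopow A B m) :
    Nonempty (A ≅ ∐ fun _ : Fin m => B) := by
  obtain ⟨ι, hι, f, hc, hf, ⟨e⟩⟩ := h
  let ε : ι ≃ Fin m := Fintype.equivFinOfCardEq hc
  exact ⟨e ≪≫ Sigma.mapIso (fun i => (hf i).some) ≪≫ Sigma.reindex ε (fun _ : Fin m => B)⟩




/-- the number of copies in cohomological degree `i` (relative to the top degree) at stage `s`. -/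
def cnt (s : ℕ) (i : ℤ) : ℕ := if i ≤ 0 then Nat.choose s (-i).toNat else 0

theorem cnt_succ (s : ℕ) (i : ℤ) : cnt (s + 1) i = cnt s (i + 1) + cnt s i := by
  unfold cnt
  by_cases h : i ≤ 0
  · rw [if_pos h]
    by_cases h' : i + 1 ≤ 0
    · rw [if_pos h', if_pos h]
      obtain ⟨k, hk⟩ : ∃ k : ℕ, -i = (k : ℤ) + 1 := ⟨(-i - 1).toNat, by omega⟩
      have e1 : (-i).toNat = k + 1 := by omega
      have e2 : (-(i + 1)).toNat = k := by omega
      rw [e1, e2, Nat.choose_succ_succ']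
    · rw [if_neg h', if_pos h]
      have e1 : (-i).toNat = 0 := by omega
      rw [e1]
      simp
  · rw [if_neg h, if_neg (by omega), if_neg h]


theorem iter_X (s : ℕ) : ∀ (d i : ℤ),
    IsCopow (((iter L μ hμ N s).K d).X i) (L (d + s + (i - N))) (cnt s (i - N)) := by
  induction s with
  | zero =>
    intro d i
    by_cases hi : i = N
    · subst hi
      have h1 : cnt 0 (i - i) = 1 := by simp [cnt]
      have h2 : L (d + ((0 : ℕ) : ℤ) + (i - i)) = L d := by congr 1; simp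
      rw [h1, h2]
      exact isCopow_one (HomologicalComplex.singleObjXSelf (ComplexShape.up ℤ) i (L d))
    · have h1 : cnt 0 (i - N) = 0 := by
        unfold cnt
        split_ifs with h
        · have : (-(i - N)).toNat ≠ 0 := by omega
          exact Nat.choose_eq_zero_of_lt (by omega)
        · rfl
      rw [h1]
      exact isCopow_zero _ (HomologicalComplex.isZero_single_obj_X (ComplexShape.up ℤ) N (L d) i hi)
  | succ s ih =>
    intro d i
    have e : ((iter L μ hμ N (s + 1)).K d).X i ≅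
        ((iter L μ hμ N s).K d).X (i + 1) ⊞ ((iter L μ hμ N s).K (d + 1)).X i :=
      homotopyCofiber.XIsoBiprod ((iter L μ hμ N s).X s d) i (i + 1) rfl
    refine IsCopow.of_iso ?_ e
    have h1 := ih d (i + 1)
    have h2 := ih (d + 1) i
    have h1' := h1.congr (B' := L (d + ((s + 1 : ℕ) : ℤ) + (i - N))) (m' := cnt s (i - N + 1))
      (by congr 1; push_cast; ring) (by congr 1; ring)
    have h2' := h2.congr (B' := L (d + ((s + 1 : ℕ) : ℤ) + (i - N))) (m' := cnt s (i - N))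
      (by congr 1; push_cast; ring) rfl
    rw [cnt_succ]
    exact h1'.biprod h2'



variable {D : Type u'} [Category.{v'} D] [Abelian D]

theorem acyclic_cone_iff {F G : CochainComplex D ℤ} (φ : F ⟶ G) :
    (mappingCone φ).Acyclic ↔ QuasiIso φ := by
  rw [← HomotopyCategory.quotient_obj_mem_subcategoryAcyclic_iff_acyclic,
    ← HomologicalComplex.mem_quasiIso_iff,
    ← HomotopyCategory.quotient_map_mem_quasiIso_iff,
    HomotopyCategory.quasiIso_eq_trW_subcategoryAcyclic]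
  exact ((HomotopyCategory.subcategoryAcyclic D).trW_iff_of_distinguished _
    (HomotopyCategory.mappingCone_triangleh_distinguished φ)).symm

theorem quasiIso_of_acyclic {F G : CochainComplex D ℤ} (φ : F ⟶ G) (hF : F.Acyclic)
    (hG : G.Acyclic) : QuasiIso φ :=
  ⟨fun i => (quasiIsoAt_iff_exactAt φ i (hF i)).2 (hG i)⟩

section MapCone

variable {K₁ L₁ K₂ L₂ : CochainComplex C ℤ} (φ₁ : K₁ ⟶ L₁) (φ₂ : K₂ ⟶ L₂)
  (a : K₁ ⟶ K₂) (b : L₁ ⟶ L₂) (comm : φ₁ ≫ b = a ≫ φ₂)

theorem inl_map (n m : ℤ) (h : m + (-1) = n) :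
    (mappingCone.inl φ₁).v m n h ≫ (mappingCone.map φ₁ φ₂ a b comm).f n =
      a.f m ≫ (mappingCone.inl φ₂).v m n h := by
  simp [mappingCone.map]

theorem inr_map (n : ℤ) :
    (mappingCone.inr φ₁).f n ≫ (mappingCone.map φ₁ φ₂ a b comm).f n =
      b.f n ≫ (mappingCone.inr φ₂).f n := by
  simp [mappingCone.map]

theorem map_fst (n m : ℤ) (h : n + 1 = m) :
    (mappingCone.map φ₁ φ₂ a b comm).f n ≫ (mappingCone.fst φ₂).1.v n m h =
      (mappingCone.fst φ₁).1.v n m h ≫ a.f m := by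
  rw [mappingCone.ext_from_iff _ m n h]
  constructor
  · rw [← Category.assoc, inl_map φ₁ φ₂ a b comm n m (by omega)]
    simp
  · rw [← Category.assoc, inr_map]
    simp

theorem map_snd (n : ℤ) :
    (mappingCone.map φ₁ φ₂ a b comm).f n ≫ (mappingCone.snd φ₂).v n n (add_zero n) =
      (mappingCone.snd φ₁).v n n (add_zero n) ≫ b.f n := by
  rw [mappingCone.ext_from_iff _ (n + 1) n rfl]
  constructor
  · rw [← Category.assoc, inl_map φ₁ φ₂ a b comm n (n + 1) (by omega)]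
    simp
  · rw [← Category.assoc, inr_map]
    simp

variable (Φ : C ⥤ D) [Φ.Additive]

theorem isIso_map_cone_f (n : ℤ) (ha : IsIso (Φ.map (a.f (n + 1)))) (hb : IsIso (Φ.map (b.f n))) :
    IsIso (Φ.map ((mappingCone.map φ₁ φ₂ a b comm).f n)) := by
  have hn : n + 1 + (-1) = n := by omega
  have hI : Φ.map ((mappingCone.inl φ₁).v (n + 1) n hn) ≫
      Φ.map ((mappingCone.map φ₁ φ₂ a b comm).f n) =
      Φ.map (a.f (n + 1)) ≫ Φ.map ((mappingCone.inl φ₂).v (n + 1) n hn) := by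
    rw [← Φ.map_comp, inl_map, Φ.map_comp]
  have hR : Φ.map ((mappingCone.inr φ₁).f n) ≫ Φ.map ((mappingCone.map φ₁ φ₂ a b comm).f n) =
      Φ.map (b.f n) ≫ Φ.map ((mappingCone.inr φ₂).f n) := by
    rw [← Φ.map_comp, inr_map, Φ.map_comp]
  have hF : Φ.map ((mappingCone.map φ₁ φ₂ a b comm).f n) ≫
      Φ.map ((mappingCone.fst φ₂).1.v n (n + 1) rfl) =
      Φ.map ((mappingCone.fst φ₁).1.v n (n + 1) rfl) ≫ Φ.map (a.f (n + 1)) := by
    rw [← Φ.map_comp, map_fst, Φ.map_comp]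
  have hS : Φ.map ((mappingCone.map φ₁ φ₂ a b comm).f n) ≫
      Φ.map ((mappingCone.snd φ₂).v n n (add_zero n)) =
      Φ.map ((mappingCone.snd φ₁).v n n (add_zero n)) ≫ Φ.map (b.f n) := by
    rw [← Φ.map_comp, map_snd, Φ.map_comp]
  have id1 : Φ.map ((mappingCone.fst φ₁).1.v n (n + 1) rfl) ≫
      Φ.map ((mappingCone.inl φ₁).v (n + 1) n hn) +
      Φ.map ((mappingCone.snd φ₁).v n n (add_zero n)) ≫ Φ.map ((mappingCone.inr φ₁).f n) = 𝟙 _ := by
    rw [← Φ.map_comp, ← Φ.map_comp, ← Φ.map_add, mappingCone.id_X φ₁ n (n + 1) rfl, Φ.map_id]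
  have id2 : Φ.map ((mappingCone.fst φ₂).1.v n (n + 1) rfl) ≫
      Φ.map ((mappingCone.inl φ₂).v (n + 1) n hn) +
      Φ.map ((mappingCone.snd φ₂).v n n (add_zero n)) ≫ Φ.map ((mappingCone.inr φ₂).f n) = 𝟙 _ := by
    rw [← Φ.map_comp, ← Φ.map_comp, ← Φ.map_add, mappingCone.id_X φ₂ n (n + 1) rfl, Φ.map_id]
  refine ⟨⟨Φ.map ((mappingCone.fst φ₂).1.v n (n + 1) rfl) ≫ inv (Φ.map (a.f (n + 1))) ≫
      Φ.map ((mappingCone.inl φ₁).v (n + 1) n hn) +
    Φ.map ((mappingCone.snd φ₂).v n n (add_zero n)) ≫ inv (Φ.map (b.f n)) ≫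
      Φ.map ((mappingCone.inr φ₁).f n), ?_, ?_⟩⟩
  · rw [Preadditive.comp_add, reassoc_of% hF, reassoc_of% hS, IsIso.hom_inv_id_assoc,
      IsIso.hom_inv_id_assoc, id1]
  · rw [Preadditive.add_comp, Category.assoc, Category.assoc, Category.assoc, Category.assoc,
      hI, hR, IsIso.inv_hom_id_assoc, IsIso.inv_hom_id_assoc, id2]

end MapCone

section Main

variable (Φ : C ⥤ D) [Φ.Additive] (i₀ : ℕ) (hiso : ∀ d, IsIso (Φ.map (μ i₀ d)))

omit [Abelian D] in
theorem isIso_single_map_f [HasZeroMorphisms D] (Φ : C ⥤ D) [Φ.PreservesZeroMorphisms]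
    {A B : C} (f : A ⟶ B) (N n : ℤ) (hf : IsIso (Φ.map f)) :
    IsIso (Φ.map (((HomologicalComplex.single C (ComplexShape.up ℤ) N).map f).f n)) := by
  by_cases hn : n = N
  · subst hn
    rw [HomologicalComplex.single_map_f_self, Φ.map_comp, Φ.map_comp]
    infer_instance
  · have h1 : IsZero (((HomologicalComplex.single C (ComplexShape.up ℤ) N).obj A).X n) :=
      HomologicalComplex.isZero_single_obj_X (ComplexShape.up ℤ) N A n hn
    have h2 : IsZero (((HomologicalComplex.single C (ComplexShape.up ℤ) N).obj B).X n) :=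
      HomologicalComplex.isZero_single_obj_X (ComplexShape.up ℤ) N B n hn
    exact ⟨⟨0, (Φ.map_isZero h1).eq_of_src _ _, (Φ.map_isZero h2).eq_of_src _ _⟩⟩

include hiso in
theorem isIso_X (s : ℕ) : ∀ (d n : ℤ), IsIso (Φ.map (((iter L μ hμ N s).X i₀ d).f n)) := by
  induction s with
  | zero =>
    intro d n
    exact isIso_single_map_f Φ (μ i₀ d) N n (hiso d)
  | succ s ih =>
    intro d n
    exact isIso_map_cone_f ((iter L μ hμ N s).X s d) ((iter L μ hμ N s).X s (d + 1))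
      ((iter L μ hμ N s).X i₀ d) ((iter L μ hμ N s).X i₀ (d + 1)) ((iter L μ hμ N s).comm s i₀ d)
      Φ n (ih d (n + 1)) (ih (d + 1) n)

include hiso in
/-- if `Φ` inverts the variable `i₀ < s`, the image of the Koszul complex on `s` variables under `Φ`
is acyclic. -/
theorem acyclic_map (s : ℕ) (hs : i₀ < s) : ∀ d : ℤ,
    ((Φ.mapHomologicalComplex (ComplexShape.up ℤ)).obj ((iter L μ hμ N s).K d)).Acyclic := by
  induction s with
  | zero => omega
  | succ s ih =>
    intro d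
    have e := mappingCone.mapHomologicalComplexIso ((iter L μ hμ N s).X s d) Φ
    have hq : QuasiIso ((Φ.mapHomologicalComplex (ComplexShape.up ℤ)).map
        ((iter L μ hμ N s).X s d)) := by
      by_cases h : i₀ < s
      · exact quasiIso_of_acyclic _ (ih h d) (ih h (d + 1))
      · obtain rfl : s = i₀ := by omega
        haveI : ∀ n, IsIso (((Φ.mapHomologicalComplex (ComplexShape.up ℤ)).map
            ((iter L μ hμ N s).X s d)).f n) := fun n => isIso_X L μ hμ N Φ s hiso s d n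
        haveI : IsIso ((Φ.mapHomologicalComplex (ComplexShape.up ℤ)).map
            ((iter L μ hμ N s).X s d)) := HomologicalComplex.Hom.isIso_of_components _
        infer_instance
    have hac := (acyclic_cone_iff _).2 hq
    intro n
    exact (hac n).of_iso e.symm

end Main

end Groth.Agent.Lib.Helper2.Kos1
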