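import Mathlib

/-!
# Vanishing of `Ext^j(F, K^0)` along an exact complex (helper2)
-/


set_option autoImplicit false
universe w v u
open CategoryTheory CategoryTheory.Limits

namespace Groth.Agent.Lib.Helper2.Kos3

attribute [local instance] Abelian.hasFiniteBiproducts

variable {C : Type u} [Category.{v} C] [Abelian C] [HasExt.{w} C]

/-- `Ext^p(F, -)` of a finite coproduct vanishes if it does on the summands. -/
theorem subsingleton_ext_sigma_right {c : ℕ} (F : C) (E : Fin c → C) (p : ℕ)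
    (h : ∀ a, Subsingleton (Abelian.Ext F (E a) p)) : Subsingleton (Abelian.Ext F (∐ E) p) := by
  have key : ∀ y : Abelian.Ext F (⨁ E) p, y = 0 := by
    intro y
    have h1 : y = y.comp (Abelian.Ext.mk₀ (𝟙 (⨁ E))) (add_zero p) := (Abelian.Ext.comp_mk₀_id y).symm
    rw [← biproduct.total (f := E)] at h1
    rw [h1, Abelian.Ext.mk₀_sum, Abelian.Ext.comp_sum]
    refine Finset.sum_eq_zero (fun a _ => ?_)
    rw [← Abelian.Ext.mk₀_comp_mk₀, ← Abelian.Ext.comp_assoc_of_second_deg_zero,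
      Subsingleton.elim (y.comp (Abelian.Ext.mk₀ (biproduct.π E a)) (add_zero p)) 0, Abelian.Ext.zero_comp]
  have key' : ∀ y : Abelian.Ext F (∐ E) p, y = 0 := by
    intro y
    have h2 : (y.comp (Abelian.Ext.mk₀ (biproduct.isoCoproduct E).inv) (add_zero p)).comp
        (Abelian.Ext.mk₀ (biproduct.isoCoproduct E).hom) (add_zero p) = y := by
      rw [Abelian.Ext.comp_assoc_of_third_deg_zero, Abelian.Ext.mk₀_comp_mk₀, Iso.inv_hom_id, Abelian.Ext.comp_mk₀_id]
    rw [← h2, key (y.comp (Abelian.Ext.mk₀ (biproduct.isoCoproduct E).inv) (add_zero p)), Abelian.Ext.zero_comp]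
  exact ⟨fun a b => (key' a).trans (key' b).symm⟩

theorem subsingleton_ext_of_iso_right {A B : C} (e : A ≅ B) (F : C) (p : ℕ)
    (h : Subsingleton (Abelian.Ext F B p)) : Subsingleton (Abelian.Ext F A p) := by
  have key : ∀ y : Abelian.Ext F A p, y = 0 := by
    intro y
    have h2 : (y.comp (Abelian.Ext.mk₀ e.hom) (add_zero p)).comp
        (Abelian.Ext.mk₀ e.inv) (add_zero p) = y := by
      rw [Abelian.Ext.comp_assoc_of_third_deg_zero, Abelian.Ext.mk₀_comp_mk₀, Iso.hom_inv_id,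
        Abelian.Ext.comp_mk₀_id]
    rw [← h2, Subsingleton.elim (y.comp (Abelian.Ext.mk₀ e.hom) (add_zero p)) 0,
      Abelian.Ext.zero_comp]
  exact ⟨fun a b => (key a).trans (key b).symm⟩

theorem subsingleton_ext_of_isZero_right {A : C} (hA : IsZero A) (F : C) (p : ℕ) :
    Subsingleton (Abelian.Ext F A p) := by
  have key : ∀ y : Abelian.Ext F A p, y = 0 := by
    intro y
    have h1 : y = y.comp (Abelian.Ext.mk₀ (𝟙 A)) (add_zero p) := (Abelian.Ext.comp_mk₀_id y).symm
    rw [h1, hA.eq_of_src (𝟙 A) 0, Abelian.Ext.mk₀_zero, Abelian.Ext.comp_zero]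
  exact ⟨fun a b => (key a).trans (key b).symm⟩

/-- dimension shifting: `Ext^p(F, X₃) = 0` and `Ext^{p+1}(F, X₂) = 0` give `Ext^{p+1}(F, X₁) = 0`. -/
theorem subsingleton_ext_X₁_succ {S : ShortComplex C} (hS : S.ShortExact) (F : C) (p : ℕ)
    (h₃ : Subsingleton (Abelian.Ext F S.X₃ p)) (h₂ : Subsingleton (Abelian.Ext F S.X₂ (p + 1))) :
    Subsingleton (Abelian.Ext F S.X₁ (p + 1)) := by
  have key : ∀ x : Abelian.Ext F S.X₁ (p + 1), x = 0 := by
    intro x
    obtain ⟨y, hy⟩ := Abelian.Ext.covariant_sequence_exact₁ F hS x (Subsingleton.elim _ _) rfl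
    rw [← hy, Subsingleton.elim y 0, Abelian.Ext.zero_comp]
  exact ⟨fun a b => (key a).trans (key b).symm⟩

theorem subsingleton_ext_X₂ {S : ShortComplex C} (hS : S.ShortExact) (F : C) (p : ℕ)
    (h₁ : Subsingleton (Abelian.Ext F S.X₁ p)) (h₃ : Subsingleton (Abelian.Ext F S.X₃ p)) :
    Subsingleton (Abelian.Ext F S.X₂ p) := by
  have key : ∀ x : Abelian.Ext F S.X₂ p, x = 0 := by
    intro x
    obtain ⟨y, hy⟩ := Abelian.Ext.covariant_sequence_exact₂ F hS x (Subsingleton.elim _ _)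
    rw [← hy, Subsingleton.elim y 0, Abelian.Ext.zero_comp]
  exact ⟨fun a b => (key a).trans (key b).symm⟩

/-- `Hom(F, -)` is left exact. -/
theorem subsingleton_ext_zero_of_mono {A B : C} (f : A ⟶ B) [Mono f] (F : C)
    (h : Subsingleton (Abelian.Ext F B 0)) : Subsingleton (Abelian.Ext F A 0) := by
  have key : ∀ x : Abelian.Ext F A 0, x = 0 := by
    intro x
    obtain ⟨φ, rfl⟩ := (Abelian.Ext.mk₀_bijective F A).2 x
    have h1 : (Abelian.Ext.mk₀ φ).comp (Abelian.Ext.mk₀ f) (add_zero 0) = 0 := Subsingleton.elim _ _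
    rw [Abelian.Ext.mk₀_comp_mk₀] at h1
    have h2 : φ ≫ f = 0 := (Abelian.Ext.mk₀_bijective F B).1 (h1.trans (Abelian.Ext.mk₀_zero (X := F) (Y := B)).symm)
    have h3 : φ = 0 := by
      rw [← cancel_mono f, h2, zero_comp]
    rw [h3, Abelian.Ext.mk₀_zero]
  exact ⟨fun a b => (key a).trans (key b).symm⟩

section Chain

variable (K : CochainComplex C ℤ)

/-- the cycles. -/
noncomputable abbrev Z (t : ℤ) : C := kernel (K.d t (t + 1))

/-- `K^t ⟶ Z^{t+1}`. -/
noncomputable abbrev lift (t : ℤ) : K.X t ⟶ Z K (t + 1) :=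
  kernel.lift (K.d (t + 1) (t + 1 + 1)) (K.d t (t + 1)) (K.d_comp_d _ _ _)

/-- `0 ⟶ ker ⟶ K^t ⟶ Z^{t+1} ⟶ 0`. -/
noncomputable abbrev ses (t : ℤ) : ShortComplex C :=
  ShortComplex.mk (kernel.ι (lift K t)) (lift K t) (kernel.condition _)

omit [HasExt.{w} C] in
theorem ses_shortExact (t : ℤ) (h : K.ExactAt (t + 1)) : (ses K t).ShortExact := by
  have hepi : Epi (lift K t) := by
    rw [HomologicalComplex.exactAt_iff' K t (t + 1) (t + 1 + 1) (by simp) (by simp)] at h
    exact (ShortComplex.exact_iff_epi_kernel_lift _).1 h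
  exact { exact := ShortComplex.exact_kernel _ }

/-- the kernel of `K^t ⟶ Z^{t+1}` is `Z^t`. -/
noncomputable def sesX₁Iso (t : ℤ) : (ses K t).X₁ ≅ Z K t :=
  (kernelCompMono (lift K t) (kernel.ι (K.d (t + 1) (t + 1 + 1)))).symm ≪≫
    kernelIsoOfEq (kernel.lift_ι _ _ _)

omit [HasExt.{w} C] in
theorem isZero_Z (t : ℤ) (h : K.ExactAt t) (h0 : IsZero (K.X (t - 1))) : IsZero (Z K t) := by
  rw [HomologicalComplex.exactAt_iff' K (t - 1) t (t + 1) (by simp) (by simp)] at h
  have hepi : Epi (kernel.lift (K.d t (t + 1)) (K.d (t - 1) t) (K.d_comp_d _ _ _)) :=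
    (ShortComplex.exact_iff_epi_kernel_lift _).1 h
  rw [IsZero.iff_id_eq_zero, ← cancel_epi (kernel.lift (K.d t (t + 1)) (K.d (t - 1) t)
    (K.d_comp_d _ _ _))]
  exact h0.eq_of_src _ _

/-- **the chain argument**: if `K` is exact, zero in degree `-1`, and `Ext^{j+1-t}(F, K^t) = 0` for
`1 ≤ t ≤ j+1`, then `Ext^j(F, K^0) = 0`. -/
theorem chain (hK : ∀ i, K.ExactAt i) (hneg : IsZero (K.X (-1))) (F : C) (j : ℕ)
    (h : ∀ (t : ℤ) (q : ℕ), 1 ≤ t → t + q = j + 1 → Subsingleton (Abelian.Ext F (K.X t) q)) :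
    Subsingleton (Abelian.Ext F (K.X 0) j) := by
  have claim : ∀ q : ℕ, q ≤ j → ∀ t : ℤ, t + q = j + 1 →
      Subsingleton (Abelian.Ext F (Z K t) q) := by
    intro q
    induction q with
    | zero =>
      intro _ t ht
      exact subsingleton_ext_zero_of_mono (kernel.ι (K.d t (t + 1))) F (h t 0 (by omega) ht)
    | succ q ih =>
      intro hq t ht
      have h3 := ih (by omega) (t + 1) (by push_cast at ht ⊢; omega)
      have h2 := h t (q + 1) (by push_cast at ht; omega) ht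
      have h1 := subsingleton_ext_X₁_succ (ses_shortExact K t (hK _)) F q h3 h2
      exact subsingleton_ext_of_iso_right (sesX₁Iso K t).symm F (q + 1) h1
  have hZ1 : Subsingleton (Abelian.Ext F (Z K (0 + 1)) j) := claim j le_rfl (0 + 1) (by ring)
  have hZ0 : IsZero (Z K 0) := isZero_Z K 0 (hK 0) (by simpa using hneg)
  have hW0 : Subsingleton (Abelian.Ext F (ses K 0).X₁ j) :=
    subsingleton_ext_of_iso_right (sesX₁Iso K 0) F j (subsingleton_ext_of_isZero_right hZ0 F j)
  exact subsingleton_ext_X₂ (ses_shortExact K 0 (hK _)) F j hW0 hZ1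

end Chain

end Groth.Agent.Lib.Helper2.Kos3
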