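import Mathlib
import Groth.Agent.Lib.Helper2.Kos1
import Groth.Agent.Lib.Helper2.Kos3

/-!
# Additive functions on abelian categories (helper2)

`AddFun P χ`: `P` is a class of objects of an abelian category closed under isomorphisms, zero
objects, kernels and finite coproducts, and `χ` is a rational-valued function which is additive on
short exact sequences of objects in `P`.  We prove: `χ` is isomorphism invariant, additive on finite
coproducts, and the alternating sum of `χ` over a bounded acyclic complex of objects of `P` vanishes.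
-/

set_option autoImplicit false
universe v u
open CategoryTheory CategoryTheory.Limits ZeroObject

noncomputable section
namespace Groth.Agent.Lib.Helper2.EulerAbs

open Groth.Agent.Lib.Helper2.Kos1 Groth.Agent.Lib.Helper2.Kos3

variable {C : Type u} [Category.{v} C] [Abelian C]

/-- additive functions on a class of objects. -/
structure AddFun (P : C → Prop) (χ : C → ℚ) : Prop where
  iso : ∀ {A B : C}, (A ≅ B) → P A → P B
  zero : ∀ {A : C}, IsZero A → P A
  ker : ∀ {A B : C} (f : A ⟶ B), P A → P B → P (kernel f)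
  sigma : ∀ (r : ℕ) (f : Fin r → C), (∀ k, P (f k)) → P (∐ f)
  add : ∀ (S : ShortComplex C), S.ShortExact → P S.X₁ → P S.X₂ → P S.X₃ →
    χ S.X₂ = χ S.X₁ + χ S.X₃

variable {P : C → Prop} {χ : C → ℚ} (h : AddFun P χ)

include h

theorem AddFun.map_isZero {A : C} (hA : IsZero A) : χ A = 0 := by
  have hS : (ShortComplex.mk (0 : A ⟶ A) (0 : A ⟶ A) zero_comp).ShortExact :=
    { exact := ShortComplex.exact_of_isZero_X₂ _ hA
      mono_f := ⟨fun _ _ _ => hA.eq_of_tgt _ _⟩
      epi_g := ⟨fun _ _ _ => hA.eq_of_src _ _⟩ }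
  have := h.add _ hS (h.zero hA) (h.zero hA) (h.zero hA)
  simp only at this
  linarith

theorem AddFun.map_iso {A B : C} (e : A ≅ B) (hA : P A) : χ A = χ B := by
  have hz : IsZero (0 : C) := isZero_zero C
  have hS : (ShortComplex.mk e.hom (0 : B ⟶ (0 : C)) comp_zero).ShortExact :=
    { exact := by
        rw [ShortComplex.exact_iff_epi _ (by simp)]
        simp only
        infer_instance
      mono_f := by simp only; infer_instance
      epi_g := ⟨fun _ _ _ => hz.eq_of_src _ _⟩ }
  have := h.add _ hS hA (h.iso e hA) (h.zero hz)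
  simp only at this
  rw [this, h.map_isZero hz, add_zero]

theorem AddFun.map_biprod {A B : C} (hA : P A) (hB : P B) (hAB : P (A ⊞ B)) :
    χ (A ⊞ B) = χ A + χ B := by
  have hS : (ShortComplex.mk (biprod.inl : A ⟶ A ⊞ B) biprod.snd biprod.inl_snd).ShortExact :=
    { exact := (ShortComplex.Splitting.ofHasBinaryBiproduct A B).exact
      mono_f := by simp only; infer_instance
      epi_g := by simp only; infer_instance }
  exact h.add _ hS hA hAB hB

theorem AddFun.map_sigma : ∀ (r : ℕ) (f : Fin r → C), (∀ k, P (f k)) → χ (∐ f) = ∑ k, χ (f k)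
  | 0, f, _ => by
    rw [Finset.univ_eq_empty, Finset.sum_empty]
    apply h.map_isZero
    rw [IsZero.iff_id_eq_zero]
    apply Sigma.hom_ext
    intro k
    exact Fin.elim0 k
  | r + 1, f, hf => by
    have ih := AddFun.map_sigma r (fun i => f i.succ) (fun i => hf i.succ)
    let c₁ : Cofan fun i : Fin r => f i.succ := Cofan.mk (∐ fun i : Fin r => f i.succ) (Sigma.ι _)
    have t₁ : IsColimit c₁ := coproductIsCoproduct _
    let c₂ : BinaryCofan (f 0) c₁.pt := BinaryBicone.toCocone (BinaryBiproduct.bicone (f 0) c₁.pt)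
    have t₂ : IsColimit c₂ := BinaryBiproduct.isColimit (f 0) c₁.pt
    have t := extendCofanIsColimit f t₁ t₂
    let e : (f 0 ⊞ ∐ fun i : Fin r => f i.succ) ≅ ∐ f :=
      t.coconePointUniqueUpToIso (coproductIsCoproduct f)
    have hP₁ : P (∐ fun i : Fin r => f i.succ) := h.sigma r _ (fun i => hf i.succ)
    have hP₂ : P (f 0 ⊞ ∐ fun i : Fin r => f i.succ) := h.iso e.symm (h.sigma (r + 1) f hf)
    rw [← h.map_iso e hP₂, h.map_biprod (hf 0) hP₁ hP₂, ih, Fin.sum_univ_succ]

theorem AddFun.map_copow {A B : C} {m : ℕ} (hc : IsCopow A B m) (hB : P B) :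
    P A ∧ χ A = m * χ B := by
  obtain ⟨e⟩ := hc.nonempty_iso
  have hP : P (∐ fun _ : Fin m => B) := h.sigma m _ (fun _ => hB)
  refine ⟨h.iso e.symm hP, ?_⟩
  rw [h.map_iso e (h.iso e.symm hP), h.map_sigma m _ (fun _ => hB)]
  simp

/-- the alternating sum over a bounded acyclic complex vanishes. -/
theorem AddFun.alt_sum (K : CochainComplex C ℤ) (hK : ∀ i, K.ExactAt i) (hP : ∀ i, P (K.X i))
    (a : ℤ) (m : ℕ) (hlow : IsZero (K.X (a - 1))) (hhigh : IsZero (K.X (a + m))) :
    ∑ j ∈ Finset.range m, (-1 : ℚ) ^ j * χ (K.X (a + j)) = 0 := by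
  have hPZ : ∀ t, P (Z K t) := fun t => h.ker _ (hP _) (hP _)
  have hstep : ∀ t : ℤ, χ (K.X t) = χ (Z K t) + χ (Z K (t + 1)) := by
    intro t
    have hS := ses_shortExact K t (hK (t + 1))
    have hP₁ : P (ses K t).X₁ := h.iso (sesX₁Iso K t).symm (hPZ t)
    have := h.add _ hS hP₁ (hP t) (hPZ (t + 1))
    rw [this, h.map_iso (sesX₁Iso K t) hP₁]
  have hz0 : χ (Z K a) = 0 := h.map_isZero (isZero_Z K a (hK a) hlow)
  have hzm : χ (Z K (a + m)) = 0 := by
    apply h.map_isZero
    rw [IsZero.iff_id_eq_zero, ← cancel_mono (kernel.ι _)]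
    exact hhigh.eq_of_tgt _ _
  have key : ∀ j : ℕ, ∑ k ∈ Finset.range j, (-1 : ℚ) ^ k * χ (K.X (a + k)) =
      - (-1 : ℚ) ^ j * χ (Z K (a + j)) := by
    intro j
    induction j with
    | zero => simp [hz0]
    | succ j ih =>
      rw [Finset.sum_range_succ, ih, hstep (a + j)]
      have : a + (j : ℤ) + 1 = a + ((j + 1 : ℕ) : ℤ) := by push_cast; ring
      rw [this, pow_succ]
      ring
  rw [key m, hzm, mul_zero]

end Groth.Agent.Lib.Helper2.EulerAbs
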