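import Groth.Agent.Lib.Helper2.Kos13

/-!
# Dimension counts along the long exact cohomology sequence (helper2)
-/

set_option backward.isDefEq.respectTransparency.types false
set_option autoImplicit false
universe u
open CategoryTheory CategoryTheory.Limits AlgebraicGeometry Opposite TopologicalSpace Abelian

noncomputable section
namespace Groth.Agent.Lib.Helper2.Kos14

open Groth.Agent.Lib.Helper2.HLesLin Groth.Agent.Lib.Helper2.HLes

theorem map_f_δ' {X : TopCat.{u}} {S : ShortComplex (CohTop.Ab X)} (hS : S.ShortExact) (p : ℕ)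
    (x₃ : CohTop.H S.X₃ p) : Sheaf.H.map S.f (p + 1) (δ hS p x₃) = 0 := by
  change (x₃.comp hS.extClass rfl).comp (Ext.mk₀ S.f) (add_zero (p + 1)) = 0
  rw [Ext.comp_assoc_of_third_deg_zero, ShortComplex.ShortExact.extClass_comp, Ext.comp_zero]

variable {X : Scheme.{u}} (S : ShortComplex (SheafOfModules.{u} X.ringCatSheaf)) (hS : S.ShortExact)

/-- `f ∘ δ = 0`. -/
theorem map_f_δ (p : ℕ) (x₃ : Coh.HH X S.X₃ p) :
    Sheaf.H.map ((SheafOfModules.toSheaf X.ringCatSheaf).map S.f) (p + 1)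
      (δ (shortExact_Sab S hS) p x₃) = 0 :=
  map_f_δ' (shortExact_Sab S hS) p x₃

variable (k : Type u) [Field k] [X.Over (Spec (CommRingCat.of k))]

include hS in
/-- `H^{p+1}(X₁) → H^{p+1}(X₂)` is surjective when `H^{p+1}(X₃) = 0`. -/
theorem surjective_HHlin_f (p : ℕ) (h₃ : Subsingleton (Coh.HH X S.X₃ p)) :
    Function.Surjective (Canon.HHlin k S.f p) := by
  intro x₂
  obtain ⟨x₁, hx₁⟩ := exact₂ (shortExact_Sab S hS) p x₂ (@Subsingleton.elim _ h₃ _ _)
  exact ⟨x₁, hx₁⟩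

include hS in
theorem finrank_le (p : ℕ) (h₃ : Subsingleton (Coh.HH X S.X₃ p))
    [Module.Finite k (Coh.HH X S.X₁ p)] :
    Module.finrank k (Coh.HH X S.X₂ p) ≤ Module.finrank k (Coh.HH X S.X₁ p) :=
  LinearMap.finrank_le_finrank_of_surjective (surjective_HHlin_f S hS k p h₃)

include hS in
/-- if `H^{p+1}(X₃) = 0` and `H^{p+1}(X₁)`, `H^{p+1}(X₂)` have the same (finite) dimension, then
`H^p(X₂) → H^p(X₃)` is surjective. -/
theorem surjective_g_of_finrank_eq (p : ℕ) (h₃ : Subsingleton (Coh.HH X S.X₃ (p + 1)))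
    [Module.Finite k (Coh.HH X S.X₁ (p + 1))] [Module.Finite k (Coh.HH X S.X₂ (p + 1))]
    (heq : Module.finrank k (Coh.HH X S.X₁ (p + 1)) = Module.finrank k (Coh.HH X S.X₂ (p + 1)))
    (x₃ : Coh.HH X S.X₃ p) :
    ∃ x₂ : Coh.HH X S.X₂ p,
      Sheaf.H.map ((SheafOfModules.toSheaf X.ringCatSheaf).map S.g) p x₂ = x₃ := by
  have hsurj := surjective_HHlin_f S hS k (p + 1) h₃
  have hinj : Function.Injective (Canon.HHlin k S.f (p + 1)) :=
    (LinearMap.injective_iff_surjective_of_finrank_eq_finrank heq).2 hsurj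
  have h0 : δ (shortExact_Sab S hS) p x₃ = 0 := by
    apply hinj
    exact (map_f_δ S hS p x₃).trans (map_zero (Canon.HHlin k S.f (p + 1))).symm
  exact exact₃ (shortExact_Sab S hS) p x₃ h0

include hS in
/-- if `H^{p+1}(X₃) = 0` and `H^p(X₂) → H^p(X₃)` is surjective, then `H^{p+1}(X₁)` and
`H^{p+1}(X₂)` have the same dimension. -/
theorem finrank_eq_of_surjective_g (p : ℕ) (h₃ : Subsingleton (Coh.HH X S.X₃ (p + 1)))
    (hg : ∀ x₃ : Coh.HH X S.X₃ p, ∃ x₂ : Coh.HH X S.X₂ p,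
      Sheaf.H.map ((SheafOfModules.toSheaf X.ringCatSheaf).map S.g) p x₂ = x₃) :
    Module.finrank k (Coh.HH X S.X₁ (p + 1)) = Module.finrank k (Coh.HH X S.X₂ (p + 1)) := by
  have hsurj := surjective_HHlin_f S hS k (p + 1) h₃
  have hinj : Function.Injective (Canon.HHlin k S.f (p + 1)) := by
    rw [injective_iff_map_eq_zero]
    intro x₁ hx₁
    obtain ⟨x₃, rfl⟩ := exact₁ (shortExact_Sab S hS) p x₁ hx₁
    obtain ⟨x₂, rfl⟩ := hg x₃
    exact δ_map_g (shortExact_Sab S hS) p x₂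
  exact (LinearEquiv.ofBijective (Canon.HHlin k S.f (p + 1)) ⟨hinj, hsurj⟩).finrank_eq

end Groth.Agent.Lib.Helper2.Kos14
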