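import Groth.Agent.Lib.Helper2.EulerAbs
import Groth.Agent.Lib.Helper2.HLesLin
import Groth.Agent.Lib.Helper2.Kos14
import Groth.Agent.Lib.Helper2.SerreFin2
import Groth.Agent.Lib.Helper2.Bridge5
import Groth.Agent.Lib.helper11.SG1
import Groth.Agent.Lib.Helper6.DevPow
import Groth.Agent.Lib.Helper6.DevRed

/-!
# The Euler characteristic on `P^n_A` is additive (helper2)

For an Artinian ring `A`, `chi n A M = Σ_{j ≤ n} (-1)^j length_A H^j(P^n_A, M)` is an additive
function on coherent modules.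
-/

set_option backward.isDefEq.respectTransparency.types false
set_option autoImplicit false
universe u
open CategoryTheory CategoryTheory.Limits AlgebraicGeometry Opposite TopologicalSpace Abelian

noncomputable section

namespace Groth.Agent.Lib.Helper2.EulerP1

open Groth.Agent.Lib.Helper2.HLesLin Groth.Agent.Lib.Helper2.HLes Groth.Agent.Lib.Helper2.EulerAbs
open Groth.Agent.Lib.helper11.SG1

section General

variable {X : Scheme.{u}} (S : ShortComplex (SheafOfModules.{u} X.ringCatSheaf)) (hS : S.ShortExact)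
variable (A : Type u) [CommRing A] [X.Over (Spec (CommRingCat.of A))]

theorem range_eq_ker₁ (p : ℕ) :
    LinearMap.range (δLin S hS A p) = LinearMap.ker (Canon.HHlin A S.f (p + 1)) := by
  ext x
  constructor
  · rintro ⟨y, rfl⟩
    rw [LinearMap.mem_ker]
    exact Groth.Agent.Lib.Helper2.Kos14.map_f_δ S hS p y
  · intro hx
    rw [LinearMap.mem_ker] at hx
    obtain ⟨y, hy⟩ := exact₁ (shortExact_Sab S hS) p x hx
    exact ⟨y, hy⟩

include hS in
theorem injective_HHlin_zero : Function.Injective (Canon.HHlin A S.f 0) := by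
  haveI : Mono ((SheafOfModules.toSheaf X.ringCatSheaf).map S.f) := (shortExact_Sab S hS).mono_f
  exact Ext.postcomp_mk₀_injective_of_mono _ ((SheafOfModules.toSheaf X.ringCatSheaf).map S.f)

end General

variable (n : ℕ) (A : Type u) [CommRing A]

/-- the Euler characteristic on projective space. -/
def chi (M : (CohB1.ProjSpace n A).Modules) : ℚ :=
  ∑ j ∈ Finset.range (n + 1), (-1 : ℚ) ^ j *
    ((Module.length A (Coh.HH (CohB1.ProjSpace n A) M j)).toNat : ℚ)

theorem chi_eq_L (M : (CohB1.ProjSpace n A).Modules) :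
    chi n A M = ∑ j ∈ Finset.range (n + 1), (-1 : ℚ) ^ j *
      L A (Coh.HH (CohB1.ProjSpace n A) M j) := rfl

variable [IsArtinianRing A]

theorem isFiniteLength_HH (M : (CohB1.ProjSpace n A).Modules) (hM : Coh.IsCoh M) (j : ℕ) :
    IsFiniteLength A (Coh.HH (CohB1.ProjSpace n A) M j) := by
  haveI : Module.Finite A (Coh.HH (CohB1.ProjSpace n A) M j) :=
    Groth.Agent.Lib.Helper2.SerreFin2.finite_HH n A (n + 1) j (by omega) M hM
  rw [isFiniteLength_iff_isNoetherian_isArtinian]
  exact ⟨inferInstance, inferInstance⟩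

theorem isLocallyNoetherian : IsLocallyNoetherian (CohB1.ProjSpace n A) := by
  haveI : IsNoetherian (Proj (Groth.Agent.Lib.Helper2.ProjCoh3.gr n A)) :=
    Groth.Agent.S2357.result (Groth.Agent.Lib.Helper2.ProjCoh3.gr n A)
  exact inferInstanceAs (IsLocallyNoetherian (Proj (Groth.Agent.Lib.Helper2.ProjCoh3.gr n A)))

theorem chi_add (S : ShortComplex (CohB1.ProjSpace n A).Modules) (hS : S.ShortExact)
    (h₁ : Coh.IsCoh S.X₁) (h₂ : Coh.IsCoh S.X₂) (h₃ : Coh.IsCoh S.X₃) :
    chi n A S.X₂ = chi n A S.X₁ + chi n A S.X₃ := by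
  rw [chi_eq_L, chi_eq_L, chi_eq_L]
  haveI : Coh.IsQCoh S.X₁ := h₁.1
  exact euler (S := A) (A := fun i => Coh.HH (CohB1.ProjSpace n A) S.X₁ i)
    (B := fun i => Coh.HH (CohB1.ProjSpace n A) S.X₂ i)
    (C := fun i => Coh.HH (CohB1.ProjSpace n A) S.X₃ i)
    (fun i => Canon.HHlin A S.f i) (fun i => Canon.HHlin A S.g i) (fun i => δLin S hS A i)
    (fun i => isFiniteLength_HH n A _ h₁ i) (fun i => isFiniteLength_HH n A _ h₂ i)
    (fun i => isFiniteLength_HH n A _ h₃ i) (injective_HHlin_zero S hS A)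
    (fun i => range_eq_ker₂ S hS A i) (fun i => range_eq_ker₃ S hS A i)
    (fun i => range_eq_ker₁ S hS A i) n (Groth.Agent.S0022.result n A S.X₁ (n + 1) (by omega))

theorem addFun : AddFun (fun M : (CohB1.ProjSpace n A).Modules => Coh.IsCoh M) (chi n A) where
  iso e hA := Groth.Agent.Lib.Helper6.DevCore.isCoh_of_iso e hA
  zero hA := Groth.Agent.Lib.Helper6.DevRed.isCoh_of_isZero hA
  ker f hA hB := by
    haveI := isLocallyNoetherian n A
    exact Groth.Agent.Lib.Helper6.DevCore.isCoh_kernel f hA hB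
  sigma r f hf := Groth.Agent.Lib.Helper6.DevPow.isCoh_sigma_fin r f hf
  add S hS h₁ h₂ h₃ := chi_add n A S hS h₁ h₂ h₃

end Groth.Agent.Lib.Helper2.EulerP1

namespace Groth.Agent.Lib.Helper2.EulerP1

open Groth.Agent.Lib.Helper2.HLesLin Groth.Agent.Lib.Helper2.HLes
open Groth.Agent.Lib.helper11.SG1

/-- **additivity of the Euler characteristic** on any scheme over an Artinian ring, given finiteness
of the cohomology modules and vanishing beyond degree `N` (integer form). -/
theorem euler_add_of_finite (A : Type u) [CommRing A] [IsArtinianRing A] (X : Scheme.{u})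
    [X.Over (Spec (CommRingCat.of A))] (S : ShortComplex X.Modules) (hS : S.ShortExact)
    (hfin : ∀ i : ℕ, Module.Finite A (Coh.HH X S.X₁ i) ∧ Module.Finite A (Coh.HH X S.X₂ i) ∧
      Module.Finite A (Coh.HH X S.X₃ i)) (N : ℕ)
    (hN : Subsingleton (Coh.HH X S.X₁ (N + 1))) :
    ((Finset.range (N + 1)).sum fun i => (-1 : ℤ) ^ i *
        ((Module.length A (Coh.HH X S.X₂ i)).toNat : ℤ)) =
      ((Finset.range (N + 1)).sum fun i => (-1 : ℤ) ^ i *
        ((Module.length A (Coh.HH X S.X₁ i)).toNat : ℤ)) +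
      ((Finset.range (N + 1)).sum fun i => (-1 : ℤ) ^ i *
        ((Module.length A (Coh.HH X S.X₃ i)).toNat : ℤ)) := by
  have hfl : ∀ (M : Type u) [AddCommGroup M] [Module A M], Module.Finite A M →
      IsFiniteLength A M := by
    intro M _ _ hM
    rw [isFiniteLength_iff_isNoetherian_isArtinian]
    exact ⟨inferInstance, inferInstance⟩
  have key := euler (S := A) (A := fun i => Coh.HH X S.X₁ i)
    (B := fun i => Coh.HH X S.X₂ i) (C := fun i => Coh.HH X S.X₃ i)
    (fun i => Canon.HHlin A S.f i) (fun i => Canon.HHlin A S.g i) (fun i => δLin S hS A i)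
    (fun i => hfl _ (hfin i).1) (fun i => hfl _ (hfin i).2.1)
    (fun i => hfl _ (hfin i).2.2) (injective_HHlin_zero S hS A)
    (fun i => range_eq_ker₂ S hS A i) (fun i => range_eq_ker₃ S hS A i)
    (fun i => range_eq_ker₁ S hS A i) N hN
  unfold L at key
  have : (((Finset.range (N + 1)).sum fun i => (-1 : ℤ) ^ i *
        ((Module.length A (Coh.HH X S.X₂ i)).toNat : ℤ) : ℤ) : ℚ) =
      ((((Finset.range (N + 1)).sum fun i => (-1 : ℤ) ^ i *
        ((Module.length A (Coh.HH X S.X₁ i)).toNat : ℤ)) +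
      ((Finset.range (N + 1)).sum fun i => (-1 : ℤ) ^ i *
        ((Module.length A (Coh.HH X S.X₃ i)).toNat : ℤ)) : ℤ) : ℚ) := by
    push_cast
    exact key
  exact_mod_cast this

end Groth.Agent.Lib.Helper2.EulerP1
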