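import Groth.Agent.Lib.Helper2.DualE1

/-!
# Dimension shifting for `Ext(X, -)` in a linear abelian category (helper2)
-/

set_option autoImplicit false
universe w t v u
open CategoryTheory CategoryTheory.Limits Abelian

noncomputable section

namespace Groth.Agent.Lib.Helper2.SD1

section Ext

variable {k : Type t} [CommRing k] {C : Type u} [Category.{v} C] [Abelian C] [Linear k C]
  [HasExt.{w} C] {S : ShortComplex C} (hS : S.ShortExact) (X : C)

variable (k S) in
/-- push forward along `S.g`. -/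
abbrev gStar (i : ℕ) : Ext X S.X₂ i →ₗ[k] Ext X S.X₃ i :=
  (Ext.mk₀ S.g).postcompOfLinear k X (add_zero i)

variable (k) in
/-- the connecting map. -/
abbrev δC (i j : ℕ) (h : i + 1 = j) : Ext X S.X₃ i →ₗ[k] Ext X S.X₁ j :=
  hS.extClass.postcompOfLinear k X h

theorem δC_surjective (i j : ℕ) (h : i + 1 = j) (h₂ : Subsingleton (Ext X S.X₂ j)) :
    Function.Surjective (δC k hS X i j h) := by
  intro x
  obtain ⟨y, hy⟩ := Ext.covariant_sequence_exact₁ X hS x (Subsingleton.elim _ _) h
  exact ⟨y, hy⟩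

theorem ker_δC (i j : ℕ) (h : i + 1 = j) :
    LinearMap.ker (δC k hS X i j h) = LinearMap.range (gStar k S X i) := by
  ext x
  constructor
  · intro hx
    rw [LinearMap.mem_ker] at hx
    obtain ⟨y, hy⟩ := Ext.covariant_sequence_exact₃ X hS x h hx
    exact ⟨y, hy⟩
  · rintro ⟨y, rfl⟩
    rw [LinearMap.mem_ker]
    change (y.comp (Ext.mk₀ S.g) (add_zero i)).comp hS.extClass h = 0
    rw [Ext.comp_assoc_of_second_deg_zero, ShortComplex.ShortExact.comp_extClass, Ext.comp_zero]

theorem δC_bijective (i j : ℕ) (h : i + 1 = j) (h₁ : Subsingleton (Ext X S.X₂ i))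
    (h₂ : Subsingleton (Ext X S.X₂ j)) : Function.Bijective (δC k hS X i j h) := by
  refine ⟨?_, δC_surjective hS X i j h h₂⟩
  rw [← LinearMap.ker_eq_bot, ker_δC, LinearMap.range_eq_bot]
  exact Subsingleton.elim _ _

end Ext

end Groth.Agent.Lib.Helper2.SD1
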