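import Groth.Agent.Lib.Helper2.SD4
import Groth.Agent.Lib.Helper2.SD1
import Groth.Agent.Lib.Helper6.ExtAcyc

/-!
# `Ext^j(F, G) ≃ H^j(ℋom(F, G))` linearly, for `F` finite locally free (helper2)
-/

set_option backward.isDefEq.respectTransparency.types false
set_option autoImplicit false
universe u
open CategoryTheory CategoryTheory.Limits AlgebraicGeometry Opposite TopologicalSpace Abelian

noncomputable section

namespace Groth.Agent.Lib.Helper2.SD5

open Groth.Agent.Lib.Helper1.ModFlat Groth.Agent.Lib.Helper6 Groth.Agent.Lib.Helper2.SD3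
  Groth.Agent.Lib.Helper2.SD4 Groth.Agent.Lib.Helper2.SD1 Groth.Agent.Lib.Helper2.DualE1
  Groth.Agent.Lib.Helper2.DualE2 Groth.Agent.Lib.Helper2.HLesLin

variable {X : Scheme.{u}} (A : Type u) [CommRing A] [X.Over (Spec (CommRingCat.of A))]

section LES

variable (S : ShortComplex (SheafOfModules.{u} X.ringCatSheaf)) (hS : S.ShortExact)

theorem δL_surjective (p p' : ℕ) (h : p + 1 = p') (h₂ : Subsingleton (Coh.HH X S.X₂ p')) :
    Function.Surjective (δL S hS A p p' h) := by
  rw [← LinearMap.range_eq_top, range_δL, LinearMap.ker_eq_top]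
  exact Subsingleton.elim _ _

end LES

instance : EnoughInjectives X.Modules :=
  inferInstanceAs (EnoughInjectives (ModSite.Mod X.sheaf))

/-- the internal hom functor, typed on `X.Modules`. -/
abbrev TX (F : X.Modules) : X.Modules ⥤ X.Modules := T F

instance (F : X.Modules) : (TX F).Additive := inferInstanceAs (T F).Additive

instance (F : X.Modules) : PreservesFiniteLimits (TX F) :=
  inferInstanceAs (PreservesFiniteLimits (T F))

variable [HasExt.{u} X.Modules] {F : X.Modules} (hF : FlatMod.IsFinLocFree F)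

include hF in
/-- **`Ext^j(F, G) ≃ H^j(ℋom(F, G))` for `F` finite locally free**. -/
theorem nonempty_ext_linearEquiv (j : ℕ) : ∀ G : X.Modules,
    Nonempty (Ext F G j ≃ₗ[A] Coh.HH X ((TX F).obj G) j) := by
  induction j with
  | zero => exact fun G => ⟨Ext.linearEquiv₀ ≪≫ₗ (ΦL F A G : (F ⟶ G) ≃ₗ[A] Coh.HH X ((TX F).obj G) 0)⟩
  | succ j ih =>
    intro G
    let S : ShortComplex X.Modules :=
      ShortComplex.mk (Injective.ι G) (cokernel.π (Injective.ι G)) (cokernel.condition _)
    have hS : S.ShortExact :=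
      { exact := ShortComplex.exact_cokernel _
        mono_f := inferInstanceAs (Mono (Injective.ι G))
        epi_g := inferInstanceAs (Epi (cokernel.π (Injective.ι G))) }
    haveI hI : Injective S.X₂ := inferInstanceAs (Injective (Injective.under G))
    let ST : ShortComplex X.Modules := S.map (TX F)
    have hST : ST.ShortExact := shortExact_map_T hF S hS
    have hE : ∀ i : ℕ, Subsingleton (Ext F S.X₂ (i + 1)) := fun i =>
      ⟨fun a b => by rw [Ext.eq_zero_of_injective a, Ext.eq_zero_of_injective b]⟩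
    have hH : ∀ i : ℕ, Subsingleton (Coh.HH X ((TX F).obj S.X₂) (i + 1)) := fun i =>
      @subsingleton_HH_T_of_injective X F S.X₂ hI i
    cases j with
    | zero =>
      refine nonempty_linearEquiv_of_coker
        (gStar A S F 0) (δC A hS F 0 1 rfl) (ker_δC hS F 0 1 rfl)
        (δC_surjective hS F 0 1 rfl (hE 0))
        (Canon.HHlin A ((TX F).map S.g) 0) (δL ST hST A 0 1 rfl)
        (ker_δL ST hST A 0 1 rfl)
        (δL_surjective A ST hST 0 1 rfl (hH 0))
        (Ext.linearEquiv₀ ≪≫ₗ ΦL F A S.X₂) (Ext.linearEquiv₀ ≪≫ₗ ΦL F A S.X₃) (fun a => ?_)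
      obtain ⟨φ, rfl⟩ : ∃ φ, Ext.mk₀ φ = a :=
        ⟨Ext.linearEquiv₀ (R := A) a, Ext.mk₀_linearEquiv₀_apply a⟩
      change ΦL F A S.X₃ (Ext.linearEquiv₀ (R := A)
          ((Ext.mk₀ φ).comp (Ext.mk₀ S.g) (add_zero 0))) =
        Canon.HHlin A ((TX F).map S.g) 0 (ΦL F A S.X₂ (Ext.linearEquiv₀ (R := A) (Ext.mk₀ φ)))
      rw [Ext.mk₀_comp_mk₀]
      have e1 : ∀ {Y : X.Modules} (ψ : F ⟶ Y), Ext.linearEquiv₀ (R := A) (Ext.mk₀ ψ) = ψ :=
        fun ψ => (Ext.linearEquiv₀ (R := A)).apply_symm_apply ψ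
      rw [e1, e1, ΦL_naturality]
    | succ j =>
      obtain ⟨e⟩ := ih S.X₃
      have hb1 := δC_bijective (k := A) hS F (j + 1) (j + 1 + 1) rfl (hE j) (hE (j + 1))
      have hb2 := δL_bijective ST hST A (j + 1) (j + 1 + 1) rfl (hH j) (hH (j + 1))
      exact ⟨(LinearEquiv.ofBijective _ hb1).symm ≪≫ₗ e ≪≫ₗ LinearEquiv.ofBijective _ hb2⟩

end Groth.Agent.Lib.Helper2.SD5
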