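import Groth.Agent.Lib.Helper2.Kos2
import Groth.Agent.Lib.Helper2.Kos3
import Groth.Agent.Lib.Helper2.DualE3
import Groth.Agent.Lib.Helper2.SD5
import Groth.Agent.Lib.Helper17.TensorQC

/-!
# Castelnuovo–Mumford regularity via `Ext` into twists (helper2)

On `P = P^n_k`: `H^i(F(e)) = 0 ↔ Ext^{n-i}(F, O(-n-1-e)) = 0` (`subsingleton_HH_iff`), so `F` is
`m`-regular iff `Ext^q(F, O(-m-1-q)) = 0` for `0 ≤ q < n`; the Koszul complex then gives
`m`-regular ⟹ `(m+1)`-regular (`isMRegular_succ`).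
-/

set_option backward.isDefEq.respectTransparency.types false
set_option autoImplicit false
universe u
open CategoryTheory CategoryTheory.Limits AlgebraicGeometry Opposite TopologicalSpace Abelian

noncomputable section

namespace Groth.Agent.Lib.Helper2.Kos4

open Groth.Agent.Lib.Helper2.ProjCoh3 Groth.Agent.Lib.Helper2.ProjCoh4 Groth.Agent.Lib.Helper2.ProjCoh5
  Groth.Agent.Lib.Helper2.SerreFin2 Groth.Agent.Lib.Helper28 Groth.Agent.Lib.Helper1.ModFlat
  Groth.Agent.Lib.Helper1.TensorAssoc3 Groth.Agent.Lib.Helper2.TwEq2 Groth.Agent.Lib.Helper2.TwEq1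

variable (n : ℕ) (R : Type u) [CommRing R]

section Prime

variable [HasExt.{u} (SheafOfModules.{u} (CohB1.ProjSpace n R).ringCatSheaf)]

/-- `O(e) ⊗ F ≅ F ⊗ O(e)`. -/
def swapIso (F : SheafOfModules.{u} (CohB1.ProjSpace n R).ringCatSheaf) (e : ℤ) :
    (tensL (OO n R) (Twist.twistProjSpace n R e)).obj F ≅
      CohB1.tensorMod F (Twist.twistProjSpace n R e) :=
  (tensLIso (OO n R) (Twist.twistProjSpace n R e)).app F

theorem nonempty_twist_iso_of_eq (a b : ℤ) (h : a = b) :
    Nonempty (Twist.twistProjSpace n R a ≅ Twist.twistProjSpace n R b) := by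
  subst h
  exact ⟨Iso.refl _⟩

/-- `Ext^p(F, O(b)) = 0` implies `Ext^p(F(e), O(b + e)) = 0`. -/
theorem subsingleton_ext_twist_of (F : SheafOfModules.{u} (CohB1.ProjSpace n R).ringCatSheaf)
    (e b c : ℤ) (hc : c = b + e) (p : ℕ)
    (h : Subsingleton (Ext (C := SheafOfModules.{u} (CohB1.ProjSpace n R).ringCatSheaf)
      F (Twist.twistProjSpace n R b) p)) :
    Subsingleton (Ext (C := SheafOfModules.{u} (CohB1.ProjSpace n R).ringCatSheaf)
      (CohB1.tensorMod F (Twist.twistProjSpace n R e)) (Twist.twistProjSpace n R c) p) := by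
  haveI := Groth.Agent.Lib.Helper8.SheafModGroth.enoughInjectives
    (Opens.grothendieckTopology (CohB1.ProjSpace n R)) (CohB1.ProjSpace n R).ringCatSheaf
  haveI := isEquivalence_tensL_twist n R (-e)
  apply subsingleton_ext_of_equivalence (tensL (OO n R) (Twist.twistProjSpace n R (-e)))
  obtain ⟨e1⟩ := nonempty_tensor_twist_iso_unit n R (-e) e (neg_add_cancel e)
  obtain ⟨e2⟩ := nonempty_tensor_twist_iso n R (-e) c
  obtain ⟨e3⟩ := nonempty_twist_iso_of_eq n R (-e + c) b (by omega)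
  have i1 : (tensL (OO n R) (Twist.twistProjSpace n R (-e))).obj
      (CohB1.tensorMod F (Twist.twistProjSpace n R e)) ≅ F :=
    (tensL (OO n R) (Twist.twistProjSpace n R (-e))).mapIso (swapIso n R F e).symm ≪≫
      cancelIso (OO n R) (Twist.twistProjSpace n R (-e)) (Twist.twistProjSpace n R e) e1 F
  exact subsingleton_ext_of_isos i1 (e2 ≪≫ e3) p h

/-- `Ext^p(F(e), O(b + e)) = 0` implies `Ext^p(F, O(b)) = 0`. -/
theorem subsingleton_ext_of_twist (F : SheafOfModules.{u} (CohB1.ProjSpace n R).ringCatSheaf)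
    (e b c : ℤ) (hc : c = b + e) (p : ℕ)
    (h : Subsingleton (Ext (C := SheafOfModules.{u} (CohB1.ProjSpace n R).ringCatSheaf)
      (CohB1.tensorMod F (Twist.twistProjSpace n R e)) (Twist.twistProjSpace n R c) p)) :
    Subsingleton (Ext (C := SheafOfModules.{u} (CohB1.ProjSpace n R).ringCatSheaf)
      F (Twist.twistProjSpace n R b) p) := by
  haveI := Groth.Agent.Lib.Helper8.SheafModGroth.enoughInjectives
    (Opens.grothendieckTopology (CohB1.ProjSpace n R)) (CohB1.ProjSpace n R).ringCatSheaf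
  haveI := isEquivalence_tensL_twist n R e
  apply subsingleton_ext_of_equivalence (tensL (OO n R) (Twist.twistProjSpace n R e))
  obtain ⟨e2⟩ := nonempty_tensor_twist_iso n R e b
  obtain ⟨e3⟩ := nonempty_twist_iso_of_eq n R (e + b) c (by omega)
  exact subsingleton_ext_of_isos (swapIso n R F e) (e2 ≪≫ e3) p h

end Prime

section Field

variable {n} {k : Type u} [Field k]

theorem subsingleton_dual_iff (V : Type u) [AddCommGroup V] [Module k V] :
    Subsingleton (Module.Dual k V) ↔ Subsingleton V := by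
  constructor
  · intro h
    refine ⟨fun a b => ?_⟩
    have key : ∀ v : V, v = 0 := fun v =>
      (Module.forall_dual_apply_eq_zero_iff k v).1 (fun f => by
        rw [Subsingleton.elim f 0]
        rfl)
    rw [key a, key b]
  · intro h
    refine ⟨fun f g => ?_⟩
    ext v
    rw [Subsingleton.elim v 0, map_zero, map_zero]

theorem isCoh_tensor_twist (F : (CohB1.ProjSpace n k).Modules) (hF : Coh.IsCoh F) (e : ℤ) :
    Coh.IsCoh (CohB1.tensorMod F (Twist.twistProjSpace n k e)) := by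
  have hO := isCoh_twist n k e
  haveI : F.IsQuasicoherent := hF.1
  haveI : SheafOfModules.IsFiniteType.{u} (R := (CohB1.ProjSpace n k).ringCatSheaf) F := hF.2
  haveI : (Twist.twistProjSpace n k e).IsQuasicoherent := hO.1
  haveI : SheafOfModules.IsFiniteType.{u} (R := (CohB1.ProjSpace n k).ringCatSheaf)
    (Twist.twistProjSpace n k e) := hO.2
  exact ⟨Groth.Agent.Lib.Helper17.TensorQC.isQuasicoherent_tensorMod F _,
    Groth.Agent.Lib.Helper17.TensorQC.isFiniteType_tensorMod F _⟩

variable [HasExt.{u} (CohB1.ProjSpace n k).Modules]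

/-- **`H^i(F(e)) = 0 ↔ Ext^{n-i}(F, O(-n-1-e)) = 0`**. -/
theorem subsingleton_HH_iff (F : (CohB1.ProjSpace n k).Modules) (hF : Coh.IsCoh F) (e : ℤ) (i : ℕ)
    (hi : i ≤ n) (b : ℤ) (hb : b = -((n : ℤ) + 1) - e) :
    Subsingleton (Coh.HH (CohB1.ProjSpace n k) (CohB1.tensorMod F (Twist.twistProjSpace n k e)) i) ↔
      Subsingleton (Ext F (Twist.twistProjSpace n k b) (n - i)) := by
  obtain ⟨e1⟩ := (Groth.Agent.Lib.Helper2.DualE3.main (n := n) (k := k) (n - i)
    (CohB1.tensorMod F (Twist.twistProjSpace n k e)) (isCoh_tensor_twist F hF e)).1 (Nat.sub_le n i)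
  have h : n - (n - i) = i := by omega
  rw [h] at e1
  rw [← subsingleton_dual_iff (k := k), ← e1.toEquiv.subsingleton_congr]
  constructor
  · intro h1
    exact @subsingleton_ext_of_twist n k _ ‹_› F e b (-((n : ℤ) + 1)) (by omega) (n - i) h1
  · intro h1
    exact @subsingleton_ext_twist_of n k _ ‹_› F e b (-((n : ℤ) + 1)) (by omega) (n - i) h1

/-- `m`-regularity in terms of `Ext` into twists. -/
theorem isMRegular_iff (F : (CohB1.ProjSpace n k).Modules) (hF : Coh.IsCoh F) (m : ℤ) :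
    Curv2.IsMRegular k n F m ↔
      ∀ q : ℕ, q < n → Subsingleton (Ext F (Twist.twistProjSpace n k (-m - 1 - q)) q) := by
  constructor
  · intro h q hq
    have h1 := h (n - q) (by omega) (by omega)
    rw [subsingleton_HH_iff F hF (m - ((n - q : ℕ) : ℤ)) (n - q) (by omega) (-m - 1 - q)
      (by push_cast [Nat.cast_sub hq.le]; ring)] at h1
    have h2 : n - (n - q) = q := by omega
    rwa [h2] at h1
  · intro h i hi1 hin
    rw [subsingleton_HH_iff F hF (m - (i : ℤ)) i hin (-m - 1 - ((n - i : ℕ) : ℤ))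
      (by push_cast [Nat.cast_sub hin]; ring)]
    exact h (n - i) (by omega)

omit [Field k] in
theorem subsingleton_ext_of_sigma_right {A : Type*} [Category A] [Abelian A] [HasExt.{u} A]
    (F B : A) (c : ℕ) (i₀ : Fin c) (p : ℕ)
    (h : Subsingleton (Ext F (∐ fun _ : Fin c => B) p)) : Subsingleton (Ext F B p) := by
  have key : ∀ x : Ext F B p, x = 0 := by
    intro x
    have h2 : (x.comp (Ext.mk₀ (Sigma.ι (fun _ : Fin c => B) i₀)) (add_zero p)).comp
        (Ext.mk₀ (Sigma.desc (fun _ : Fin c => 𝟙 B))) (add_zero p) = x := by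
      rw [Ext.comp_assoc_of_third_deg_zero, Ext.mk₀_comp_mk₀, Sigma.ι_desc, Ext.comp_mk₀_id]
    rw [← h2, Subsingleton.elim (x.comp (Ext.mk₀ (Sigma.ι (fun _ : Fin c => B) i₀)) (add_zero p)) 0,
      Ext.zero_comp]
  exact ⟨fun a b => (key a).trans (key b).symm⟩

/-- **Mumford**: an `m`-regular coherent module on `P^n_k` is `(m+1)`-regular. -/
theorem isMRegular_succ (F : (CohB1.ProjSpace n k).Modules) (hF : Coh.IsCoh F) (m : ℤ)
    (h : Curv2.IsMRegular k n F m) : Curv2.IsMRegular k n F (m + 1) := by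
  rw [isMRegular_iff F hF] at h ⊢
  intro j hj
  obtain ⟨C, hex, hterms, hzero⟩ := Groth.Agent.Lib.Helper2.Kos2.exists_koszul n k (-(m + 1) - 1 - j)
  have hchain := Groth.Agent.Lib.Helper2.Kos3.chain C hex (hzero (-1) (Or.inl (by omega))) F j
    (fun t q ht htq => by
      obtain ⟨t', rfl⟩ := Int.eq_ofNat_of_zero_le (by omega : (0 : ℤ) ≤ t)
      obtain ⟨e⟩ := hterms t' (by omega)
      refine Groth.Agent.Lib.Helper2.Kos3.subsingleton_ext_of_iso_right e F q ?_
      refine Groth.Agent.Lib.Helper2.Kos3.subsingleton_ext_sigma_right F _ q (fun _ => ?_)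
      have hq : q < n := by omega
      have h1 := h q hq
      have e2 : (-(m + 1) - 1 - (j : ℤ) + (t' : ℤ)) = -m - 1 - q := by omega
      rw [e2]
      exact h1)
  obtain ⟨e⟩ := hterms 0 (by omega)
  have h1 := Groth.Agent.Lib.Helper2.Kos3.subsingleton_ext_of_iso_right e.symm F j hchain
  have h2 := subsingleton_ext_of_sigma_right F (Twist.twistProjSpace n k (-(m + 1) - 1 - ↑j + ((0 : ℕ) : ℤ)))
    (Nat.choose (n + 1) 0) ⟨0, by simp⟩ j h1
  have e3 : (-(m + 1) - 1 - (j : ℤ) + ((0 : ℕ) : ℤ)) = -(m + 1) - 1 - j := by simp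
  rw [e3] at h2
  exact h2

end Field

section NoExt

variable {n} {k : Type u} [Field k]

/-- **Mumford**, without the `HasExt` hypothesis. -/
theorem isMRegular_succ' (F : (CohB1.ProjSpace n k).Modules) (hF : Coh.IsCoh F) (m : ℤ)
    (h : Curv2.IsMRegular k n F m) : Curv2.IsMRegular k n F (m + 1) := by
  haveI : HasExt.{u} (CohB1.ProjSpace n k).Modules := hasExt_of_enoughInjectives _
  exact isMRegular_succ F hF m h

end NoExt

end Groth.Agent.Lib.Helper2.Kos4
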