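import Groth.Agent.Lib.Helper2.Kos8
import Groth.Agent.Lib.Helper2.Kos4
import Groth.Agent.Lib.Helper16.Stk5

/-!
# The Koszul complex tensored with a module, and the Castelnuovo–Mumford lemma (helper2)

`cm_core`: if `H^q(G ⊗ O(e - q)) = 0` for `1 ≤ q ≤ n`, every global section of `G ⊗ O(e+1)` on `P^n_R`
is a sum `∑ x_i · y_i` with `y_i` global sections of `G ⊗ O(e)`.
-/

set_option backward.isDefEq.respectTransparency.types false
set_option autoImplicit false
universe u
open CategoryTheory CategoryTheory.Limits AlgebraicGeometry Opposite TopologicalSpace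

noncomputable section

namespace Groth.Agent.Lib.Helper2.Kos9

open Groth.Agent.Lib.Helper2.ProjCoh3 Groth.Agent.Lib.Helper2.ProjCoh4 Groth.Agent.Lib.Helper2.ProjCoh5
  Groth.Agent.Lib.Helper2.SerreFin2 Groth.Agent.Lib.Helper2.Kos1 Groth.Agent.Lib.Helper2.Kos2
  Groth.Agent.Lib.Helper2.Kos3 Groth.Agent.Lib.Helper2.Kos8 Groth.Agent.Lib.Helper2.TwEq2

section General

variable {X : Scheme.{u}} (G : X.Modules)

/-- `G ⊗ -`. -/
abbrev TG : X.Modules ⥤ X.Modules := DCoh.tensorBi.obj G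

theorem TG_obj (M : X.Modules) : (TG G).obj M = CohB1.tensorMod G M := rfl

open MonoidalCategory in
theorem isIso_stalk_TG_map (x : X) {N N' : X.Modules} (g : N ⟶ N')
    (h : IsIso ((DerSch.stalkFunctor X x).map g)) :
    IsIso ((TG G ⋙ DerSch.stalkFunctor X x).map g) := by
  have h1 := Groth.Agent.Lib.Helper16.Stk.stalkTensorIso_natR x G g
  have h2 : IsIso (((Groth.Agent.Lib.Helper16.Stk.stk x).obj G ◁
      (Groth.Agent.Lib.Helper16.Stk.stk x).map g) ≫
      (Groth.Agent.Lib.Helper16.Stk.stalkTensorIso x G N').hom) := by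
    haveI : IsIso ((Groth.Agent.Lib.Helper16.Stk.stk x).map g) := h
    infer_instance
  rw [h1] at h2
  show IsIso ((DerSch.stalkFunctor X x).map ((DCoh.tensorBi.obj G).map g))
  haveI := h2
  exact IsIso.of_isIso_comp_left (Groth.Agent.Lib.Helper16.Stk.stalkTensorIso x G N).hom _

end General

section Abstract

variable {C : Type*} [Category C] [Abelian C] {D : Type*} [Category D] [Abelian D]

theorem IsCopow.map (Φ : C ⥤ D) [Φ.Additive] {A B : C} {m : ℕ} (h : IsCopow A B m) :
    IsCopow (Φ.obj A) (Φ.obj B) m := by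
  obtain ⟨ι, hι, f, hc, hf, ⟨e⟩⟩ := h
  haveI : PreservesColimitsOfShape (Discrete ι) Φ := by
    haveI : Finite ι := Finite.of_fintype ι
    infer_instance
  exact ⟨ι, hι, fun i => Φ.obj (f i), hc, fun i => ⟨Φ.mapIso (hf i).some⟩,
    ⟨Φ.mapIso e ≪≫ PreservesCoproduct.iso Φ f⟩⟩

end Abstract

variable (n : ℕ) (R : Type u) [CommRing R] (G : (CohB1.ProjSpace n R).Modules)

/-- the Koszul complex tensored with `G` is acyclic. -/
theorem acyclic_TG_kos (N : ℤ) (d : ℤ) :
    (((TG G).mapHomologicalComplex (ComplexShape.up ℤ)).obj ((kos n R N (n + 1)).K d)).Acyclic := by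
  rw [← Groth.Agent.Lib.Helper16.BiCx.acyc_iff_acyclic,
    Groth.Agent.Lib.Helper16.Stk.acyc_iff_forall_stalk]
  intro x
  rw [Groth.Agent.Lib.Helper16.BiCx.acyc_iff_acyclic]
  obtain ⟨j, hj, hxj⟩ := exists_chart n R x
  exact acyclic_map (Ld n R) (μ n R) (hμ n R) N (TG G ⋙ DerSch.stalkFunctor (CohB1.ProjSpace n R) x) j
    (fun d' => isIso_stalk_TG_map G x (μ n R j d')
      (isIso_stalk_of_app_bijective (μ n R j d') (chart n R j hj)
        (fun W hW => ⟨app_injective n R j hj d' W hW, app_surjective n R j hj d' W hW⟩) x hxj))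
    (n + 1) hj d

section Core

open Abelian

variable [HasExt.{u} (CohB1.ProjSpace n R).Modules]

/-- **the Castelnuovo–Mumford lemma** (Ext form). -/
theorem cm_core (e : ℤ)
    (h : ∀ q : ℕ, 1 ≤ q → q ≤ n → Subsingleton (Coh.HH (CohB1.ProjSpace n R)
      (CohB1.tensorMod G (Twist.twistProjSpace n R (e - q))) q))
    (y : Coh.structureModule (CohB1.ProjSpace n R) ⟶ (TG G).obj (Ld n R (e + 1))) :
    ∃ z : ℕ → (Coh.structureModule (CohB1.ProjSpace n R) ⟶ (TG G).obj (Ld n R e)),
      y = ∑ i ∈ Finset.range (n + 1), z i ≫ (TG G).map (μ n R i e) := by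
  -- the complex
  let N : ℤ := 0
  let d : ℤ := e - n
  let K₀ : CochainComplex (CohB1.ProjSpace n R).Modules ℤ := (kos n R N (n + 1)).K d
  let K : CochainComplex (CohB1.ProjSpace n R).Modules ℤ :=
    ((TG G).mapHomologicalComplex (ComplexShape.up ℤ)).obj K₀
  have hK : ∀ i, K.ExactAt i := acyclic_TG_kos n R G N d
  obtain ⟨β, -, hβ2⟩ := exists_top (Ld n R) (μ n R) (hμ n R) N (n + 1)
  have hde : e + 1 = d + ((n + 1 : ℕ) : ℤ) := by
    show e + 1 = e - n + ((n + 1 : ℕ) : ℤ)
    push_cast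
    ring
  obtain ⟨γ, hγ⟩ := hβ2 d (e + 1) e hde rfl
  -- vanishing of the terms
  have hX : ∀ i : ℤ, IsCopow (K.X i) ((TG G).obj (Ld n R (e + 1 + (i - N)))) (cnt (n + 1) (i - N)) := by
    intro i
    have h1 := iter_X (Ld n R) (μ n R) (hμ n R) N (n + 1) d i
    have h2 := h1.congr (B' := Ld n R (e + 1 + (i - N))) (m' := cnt (n + 1) (i - N))
      (by rw [hde]) rfl
    exact IsCopow.map (TG G) h2
  have htop : IsZero (K.X (N + 1)) := by
    have h1 := hX (N + 1)
    have hc : cnt (n + 1) (N + 1 - N) = 0 := by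
      unfold cnt
      rw [if_neg (by omega)]
    rw [hc] at h1
    exact h1.isZero
  have hlow : ∀ t : ℤ, t < N - ((n + 1 : ℕ) : ℤ) → IsZero (K.X t) := by
    intro t ht
    have h1 := hX t
    have hc : cnt (n + 1) (t - N) = 0 := by
      unfold cnt
      rw [if_pos (by omega)]
      exact Nat.choose_eq_zero_of_lt (by omega)
    rw [hc] at h1
    exact h1.isZero
  have hExt : ∀ q : ℕ, 1 ≤ q →
      Subsingleton (Ext (Coh.structureModule (CohB1.ProjSpace n R)) (K.X (N - 1 - q)) q) := by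
    intro q hq
    have h1 := hX (N - 1 - q)
    by_cases hqn : q ≤ n
    · obtain ⟨e1⟩ := h1.nonempty_iso
      refine subsingleton_ext_of_iso_right e1 _ q ?_
      refine subsingleton_ext_sigma_right _ _ q (fun _ => ?_)
      have e2 : e + 1 + (N - 1 - (q : ℤ) - N) = e - q := by ring
      rw [e2]
      exact @subsingleton_ext_unit' n R _ ‹_› _ q (h q hq hqn)
    · have hc : cnt (n + 1) (N - 1 - (q : ℤ) - N) = 0 := by
        unfold cnt
        rw [if_pos (by omega)]
        exact Nat.choose_eq_zero_of_lt (by omega)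
      rw [hc] at h1
      exact subsingleton_ext_of_isZero_right h1.isZero _ q
  -- lift
  let y' : Coh.structureModule (CohB1.ProjSpace n R) ⟶ (TG G).obj (K₀.X N) :=
    y ≫ (TG G).map (β d (e + 1) hde).inv
  obtain ⟨z, hz⟩ : ∃ z : Coh.structureModule (CohB1.ProjSpace n R) ⟶ (TG G).obj (K₀.X (N - 1)),
      z ≫ (TG G).map (K₀.d (N - 1) N) = y' := chain' K hK N (n + 1) htop hlow _ hExt y'
  refine ⟨fun i => z ≫ (TG G).map (γ i), ?_⟩
  have h3 : (TG G).map (K₀.d (N - 1) N) ≫ (TG G).map (β d (e + 1) hde).hom =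
      ∑ i ∈ Finset.range (n + 1), (TG G).map (γ i) ≫ (TG G).map (μ n R i e) := by
    rw [← Functor.map_comp, hγ, Functor.map_sum]
    refine Finset.sum_congr rfl (fun i _ => ?_)
    rw [μ'_rfl, Functor.map_comp]
  have h4 : y = y' ≫ (TG G).map (β d (e + 1) hde).hom := by
    show y = (y ≫ (TG G).map (β d (e + 1) hde).inv) ≫ (TG G).map (β d (e + 1) hde).hom
    rw [Category.assoc, ← Functor.map_comp, Iso.inv_hom_id, CategoryTheory.Functor.map_id,
      Category.comp_id]
  have h5 : z ≫ (TG G).map (K₀.d (N - 1) N) = y' := hz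
  clear_value y'
  calc y = y' ≫ (TG G).map (β d (e + 1) hde).hom := h4
    _ = (z ≫ (TG G).map (K₀.d (N - 1) N)) ≫ (TG G).map (β d (e + 1) hde).hom := by rw [h5]
    _ = z ≫ ∑ i ∈ Finset.range (n + 1), (TG G).map (γ i) ≫ (TG G).map (μ n R i e) := by
        rw [Category.assoc, h3]
    _ = ∑ i ∈ Finset.range (n + 1), (z ≫ (TG G).map (γ i)) ≫ (TG G).map (μ n R i e) := by
        rw [Preadditive.comp_sum]
        exact Finset.sum_congr rfl (fun i _ => (Category.assoc _ _ _).symm)

end Core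

end Groth.Agent.Lib.Helper2.Kos9
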