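import Groth.Agent.Lib.Helper2.SmulHom
set_option backward.isDefEq.respectTransparency.types false
set_option autoImplicit false
set_option linter.style.haveILetI false

/-!
# Fitting's lemma for vector bundles on a smooth proper curve (helper2)

`exists_isIso_image`: for an endomorphism `f` of a locally free module on a smooth proper integral curve,
some power `g = f ^ n` (`n ≥ 1`) has `image.ι g ≫ factorThruImage g` an isomorphism of the image.
`isIso_or_isNilpotent`: an endomorphism of an indecomposable bundle is invertible or nilpotent.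
`isIso_or_isIso_of_isIso_add`: the endomorphism ring of an indecomposable bundle is local.
-/

universe u
open CategoryTheory CategoryTheory.Limits AlgebraicGeometry Opposite TopologicalSpace

namespace Groth.Agent.Lib.Helper2.Fitting
open Groth.Agent.Lib.Helper17.StalkExact Groth.Agent.Lib.Helper8.CurveTensor Groth.Agent.Lib.Helper4.GPRank
  Groth.Agent.Lib.Helper4.CurveVB

section stalk
variable {X : Scheme.{u}} {F G H : X.Modules}

theorem stalkLinearMap_apply (φ : F ⟶ G) (x : X) (m : F.presheaf.stalk x) :
    stalkLinearMap φ x m = stalkHom φ x m := rfl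

theorem stalkHom_comp (φ : F ⟶ G) (ψ : G ⟶ H) (x : X) (m : F.presheaf.stalk x) :
    stalkHom (φ ≫ ψ) x m = stalkHom ψ x (stalkHom φ x m) := by
  unfold stalkHom
  rw [CategoryTheory.Functor.map_comp]
  rfl

theorem stalkHom_id (x : X) (m : F.presheaf.stalk x) : stalkHom (𝟙 F) x m = m := by
  unfold stalkHom
  rw [CategoryTheory.Functor.map_id]
  rfl

theorem stalkHom_zero (x : X) (m : F.presheaf.stalk x) : stalkHom (0 : F ⟶ G) x m = 0 := by
  unfold stalkHom
  rw [CategoryTheory.Functor.map_zero]
  rfl

theorem stalkLinearMap_pow (f : End F) (x : X) (n : ℕ) :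
    stalkLinearMap (f ^ n : End F) x = (stalkLinearMap (f : F ⟶ F) x) ^ n := by
  induction n with
  | zero =>
    ext m
    show stalkHom (𝟙 F) x m = m
    exact stalkHom_id x m
  | succ n ih =>
    ext m
    rw [pow_succ, pow_succ, End.mul_def]
    show stalkHom ((f : F ⟶ F) ≫ (f ^ n : End F)) x m = _
    rw [stalkHom_comp, Module.End.mul_apply, ← ih]
    rfl

end stalk

variable (k : Type u) [Field k] (X : Scheme.{u}) [X.Over (Spec (CommRingCat.of k))] [IsIntegral X]
  [IsProper (X ↘ Spec (CommRingCat.of k))] [Smooth (X ↘ Spec (CommRingCat.of k))]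

include k in
/-- Fitting: some positive power of an endomorphism restricts to an automorphism of its image -/
theorem exists_isIso_image (hdim : topologicalKrullDim X = 1) {r : ℕ} {E : X.Modules}
    (hE : FlatMod.IsFinLocFreeOfRank r E) (f : End E) :
    ∃ n : ℕ, 1 ≤ n ∧ IsIso (Abelian.image.ι (f ^ n : End E) ≫ Abelian.factorThruImage (f ^ n : End E)) := by
  haveI : IsLocallyNoetherian X := Groth.Agent.Lib.Helper8.EulerK.isLocallyNoetherian k X
  have hEc := isCoh_of_isFinLocFreeOfRank E hE
  set η := genericPoint X with hη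
  haveI : Module.Finite (X.presheaf.stalk η) (E.presheaf.stalk η) :=
    Groth.Agent.Lib.Helper7.StalkFree.finite_stalk_of_isCoh X E hEc η
  haveI : IsNoetherian (X.presheaf.stalk η) (E.presheaf.stalk η) := isNoetherian_of_isNoetherianRing_of_finite _ _
  set T : Module.End (X.presheaf.stalk η) (E.presheaf.stalk η) := stalkLinearMap (f : E ⟶ E) η with hT
  obtain ⟨n, hn, hn1⟩ := (T.eventually_disjoint_ker_pow_range_pow.and (Filter.eventually_ge_atTop 1)).exists
  refine ⟨n, hn1, ?_⟩
  set g : E ⟶ E := (f ^ n : End E) with hg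
  have hgT : ∀ m, stalkHom g η m = (T ^ n) m := by
    intro m
    rw [hT, ← stalkLinearMap_pow]
    rfl
  set ι := Abelian.image.ι g with hι
  set π := Abelian.factorThruImage g with hπ
  have hfac : π ≫ ι = g := Abelian.image.fac g
  set θ := ι ≫ π with hθ
  have hgy : ∀ m, stalkHom g η m = stalkHom ι η (stalkHom π η m) := by
    intro m
    rw [← stalkHom_comp]
    exact congrArg (fun h => stalkHom h η m) hfac.symm
  -- θ is injective at the generic point
  have hinj : Function.Injective (stalkHom θ η) := by
    rw [injective_iff_map_eq_zero]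
    intro x hx
    obtain ⟨y, rfl⟩ := stalkHom_surjective_of_epi π η x
    have h1 : stalkHom ι η (stalkHom π η y) ∈ LinearMap.range (T ^ n) := by
      refine ⟨y, ?_⟩
      rw [← hgT, hgy]
    have h2 : stalkHom ι η (stalkHom π η y) ∈ LinearMap.ker (T ^ n) := by
      rw [LinearMap.mem_ker, ← hgT, hgy]
      have : stalkHom π η (stalkHom ι η (stalkHom π η y)) = stalkHom θ η (stalkHom π η y) := by
        rw [hθ, stalkHom_comp]
      rw [this, hx, map_zero]
    have h3 := (Submodule.disjoint_def.1 hn) _ h2 h1
    exact stalkHom_injective_of_mono ι η (h3.trans (map_zero _).symm)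
  obtain ⟨rK0, rI, -, hI, -, -, -, -, -⟩ := ker_im k X hdim g hE hE
  obtain ⟨rK, rI', hK, -, -, -, -, -, -⟩ := ker_im k X hdim θ hI hI
  have hK0 : rK = 0 := by
    rw [← grank_of_isFinLocFreeOfRank _ hK]
    haveI : Subsingleton ((kernel θ).presheaf.stalk (genericPoint X)) := by
      refine ⟨fun a b => ?_⟩
      apply stalkHom_injective_of_mono (kernel.ι θ) η
      apply hinj
      rw [← stalkHom_comp, ← stalkHom_comp, kernel.condition, stalkHom_zero, stalkHom_zero]
    exact Module.finrank_zero_of_subsingleton
  subst hK0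
  haveI : Mono θ := mono_of_isZero_kernel' X θ (isZero_of_rank_zero hK)
  exact (deg_le_of_mono_of_rank_eq k X hdim.le θ hI hI).2 rfl

end Groth.Agent.Lib.Helper2.Fitting
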