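import Groth.Agent.Lib.Helper2.Fitting1
set_option backward.isDefEq.respectTransparency.types false
set_option autoImplicit false
set_option linter.style.haveILetI false

/-!
# Endomorphisms of indecomposable bundles on a smooth proper curve (helper2)
-/

universe u
open CategoryTheory CategoryTheory.Limits AlgebraicGeometry Opposite TopologicalSpace

namespace Groth.Agent.Lib.Helper2.Fitting
open Groth.Agent.Lib.Helper4.CurveVB

variable (k : Type u) [Field k] (X : Scheme.{u}) [X.Over (Spec (CommRingCat.of k))] [IsIntegral X]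
  [IsProper (X ↘ Spec (CommRingCat.of k))] [Smooth (X ↘ Spec (CommRingCat.of k))]

include k in
/-- an endomorphism of an indecomposable bundle is invertible or nilpotent -/
theorem isIso_or_isNilpotent (hdim : topologicalKrullDim X = 1) {r : ℕ} {E : X.Modules}
    (hE : FlatMod.IsFinLocFreeOfRank r E)
    (hind : ∀ (E₁ E₂ : X.Modules), Nonempty (E ≅ E₁ ⊞ E₂) → IsZero E₁ ∨ IsZero E₂) (f : End E) :
    IsIso (f : E ⟶ E) ∨ IsNilpotent f := by
  obtain ⟨n, hn1, hiso⟩ := exists_isIso_image k X hdim hE f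
  set g : E ⟶ E := (f ^ n : End E) with hg
  set ι := Abelian.image.ι g with hι
  set π := Abelian.factorThruImage g with hπ
  have hfac : π ≫ ι = g := Abelian.image.fac g
  haveI := hiso
  set ρ := π ≫ inv (ι ≫ π) with hρ
  have hιρ : ι ≫ ρ = 𝟙 _ := by rw [hρ, ← Category.assoc, IsIso.hom_inv_id]
  let S : ShortComplex X.Modules := ShortComplex.mk (kernel.ι ρ) ρ (kernel.condition ρ)
  have hS : S.Exact := ShortComplex.exact_of_f_is_kernel _ (kernelIsKernel ρ)
  let spl : S.Splitting := ShortComplex.Splitting.ofExactOfSection S hS ι hιρ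
    (inferInstanceAs (Mono (kernel.ι ρ)))
  have e : E ≅ kernel ρ ⊞ Abelian.image g := spl.isoBinaryBiproduct
  rcases hind _ _ ⟨e⟩ with hz | hz
  · left
    haveI : Mono ρ := mono_of_isZero_kernel' X ρ hz
    haveI : IsSplitEpi ρ := ⟨⟨ι, hιρ⟩⟩
    haveI : IsIso ρ := isIso_of_mono_of_isSplitEpi ρ
    have hι' : ι = inv ρ := by
      rw [← cancel_mono ρ, hιρ, IsIso.inv_hom_id]
    haveI : IsIso ι := by rw [hι']; infer_instance
    have hπ' : π = inv ι ≫ (ι ≫ π) := by rw [IsIso.inv_hom_id_assoc]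
    haveI : IsIso π := by rw [hπ']; infer_instance
    haveI : IsIso g := by rw [← hfac]; infer_instance
    obtain ⟨m, rfl⟩ : ∃ m, n = m + 1 := ⟨n - 1, by omega⟩
    have h1 : g = (f : E ⟶ E) ≫ (f ^ m : End E) := by
      show (f ^ (m + 1) : End E) = _
      rw [pow_succ, End.mul_def]
    have h2 : g = (f ^ m : End E) ≫ (f : E ⟶ E) := by
      show (f ^ (m + 1) : End E) = _
      rw [pow_succ', End.mul_def]
    haveI : IsSplitMono (f : E ⟶ E) :=
      ⟨⟨(f ^ m : End E) ≫ inv g, by rw [← Category.assoc, ← h1, IsIso.hom_inv_id]⟩⟩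
    haveI : IsSplitEpi (f : E ⟶ E) :=
      ⟨⟨inv g ≫ (f ^ m : End E), by rw [Category.assoc, ← h2, IsIso.inv_hom_id]⟩⟩
    exact isIso_of_mono_of_isSplitEpi _
  · right
    refine ⟨n, ?_⟩
    show g = 0
    rw [← hfac, hz.eq_of_tgt π 0, zero_comp]

include k in
/-- the endomorphism ring of an indecomposable bundle is local -/
theorem isIso_or_isIso_of_isIso_add (hdim : topologicalKrullDim X = 1) {r : ℕ} {E : X.Modules}
    (hE : FlatMod.IsFinLocFreeOfRank r E)
    (hind : ∀ (E₁ E₂ : X.Modules), Nonempty (E ≅ E₁ ⊞ E₂) → IsZero E₁ ∨ IsZero E₂) (f₁ f₂ : E ⟶ E)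
    (h : IsIso (f₁ + f₂)) : IsIso f₁ ∨ IsIso f₂ := by
  haveI := h
  set u := f₁ + f₂ with hu
  set h₁ : End E := f₁ ≫ inv u with hh₁
  rcases isIso_or_isNilpotent k X hdim hE hind h₁ with h1 | h1
  · left
    haveI := h1
    have : f₁ = (h₁ : E ⟶ E) ≫ u := by rw [hh₁, Category.assoc, IsIso.inv_hom_id, Category.comp_id]
    rw [this]
    infer_instance
  · right
    have h2 : IsUnit (1 - h₁) := h1.isUnit_one_sub
    have h3 : IsIso ((1 - h₁ : End E) : E ⟶ E) := (isUnit_iff_isIso _).1 h2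
    have h4 : ((1 - h₁ : End E) : E ⟶ E) = f₂ ≫ inv u := by
      show 𝟙 E - f₁ ≫ inv u = f₂ ≫ inv u
      have h5 : (f₁ + f₂) ≫ inv u = 𝟙 E := IsIso.hom_inv_id u
      rw [← h5, Preadditive.add_comp]
      abel
    haveI := h3
    have : f₂ = ((1 - h₁ : End E) : E ⟶ E) ≫ u := by
      rw [h4, Category.assoc, IsIso.inv_hom_id, Category.comp_id]
    rw [this]
    infer_instance

theorem isIso_neg {C : Type*} [Category C] [Preadditive C] {A B : C} (g : A ⟶ B) [IsIso g] : IsIso (-g) :=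
  ⟨⟨-inv g, by rw [Preadditive.neg_comp, Preadditive.comp_neg, neg_neg, IsIso.hom_inv_id],
    by rw [Preadditive.neg_comp, Preadditive.comp_neg, neg_neg, IsIso.inv_hom_id]⟩⟩

omit [IsIntegral X] [IsProper (X ↘ Spec (CommRingCat.of k))] [Smooth (X ↘ Spec (CommRingCat.of k))] in
theorem toSheaf_map_sub_smulK {E : X.Modules} (f : E ⟶ E) (c : k) :
    (SheafOfModules.toSheaf X.ringCatSheaf).map (f - Groth.Agent.Lib.Helper2.SmulHom.smulK k E c) =
      (SheafOfModules.toSheaf X.ringCatSheaf).map f -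
        Coh.smulAb E (Coh.toGlobal (X ↘ Spec (CommRingCat.of k)) c) := by
  haveI hadd : (SheafOfModules.toSheaf.{u} X.ringCatSheaf).Additive := inferInstance
  have h1 : (SheafOfModules.toSheaf.{u} X.ringCatSheaf).map (f - Groth.Agent.Lib.Helper2.SmulHom.smulK k E c) =
      (SheafOfModules.toSheaf.{u} X.ringCatSheaf).map f -
        (SheafOfModules.toSheaf.{u} X.ringCatSheaf).map (Groth.Agent.Lib.Helper2.SmulHom.smulK k E c) :=
    Functor.map_sub _
  rw [← Groth.Agent.Lib.Helper2.SmulHom.toSheaf_map_smulK]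
  exact h1

theorem isIso_toSheaf_map {Y : Scheme.{u}} {E F : Y.Modules} (g : E ⟶ F) [hg : IsIso g] :
    IsIso ((SheafOfModules.toSheaf Y.ringCatSheaf).map g) := by
  obtain ⟨gi, h1, h2⟩ : ∃ gi : F ⟶ E, g ≫ gi = 𝟙 E ∧ gi ≫ g = 𝟙 F := ⟨inv g, IsIso.hom_inv_id g, IsIso.inv_hom_id g⟩
  exact ⟨⟨(SheafOfModules.toSheaf.{u} Y.ringCatSheaf).map gi,
    ((SheafOfModules.toSheaf.{u} Y.ringCatSheaf).map_comp g gi).symm.trans
      ((congrArg (fun h => (SheafOfModules.toSheaf.{u} Y.ringCatSheaf).map h) h1).trans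
        ((SheafOfModules.toSheaf.{u} Y.ringCatSheaf).map_id E)),
    ((SheafOfModules.toSheaf.{u} Y.ringCatSheaf).map_comp gi g).symm.trans
      ((congrArg (fun h => (SheafOfModules.toSheaf.{u} Y.ringCatSheaf).map h) h2).trans
        ((SheafOfModules.toSheaf.{u} Y.ringCatSheaf).map_id F))⟩⟩

/-- the eigenvalue of an endomorphism of an indecomposable bundle is unique -/
theorem eigenvalue_unique (hdim : topologicalKrullDim X = 1) {r : ℕ} {E : X.Modules}
    (hE : FlatMod.IsFinLocFreeOfRank r E)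
    (hind : ∀ (E₁ E₂ : X.Modules), Nonempty (E ≅ E₁ ⊞ E₂) → IsZero E₁ ∨ IsZero E₂) (f : E ⟶ E) (a b : k)
    (ha : ¬ IsIso ((SheafOfModules.toSheaf X.ringCatSheaf).map f -
      Coh.smulAb E (Coh.toGlobal (X ↘ Spec (CommRingCat.of k)) a)))
    (hb : ¬ IsIso ((SheafOfModules.toSheaf X.ringCatSheaf).map f -
      Coh.smulAb E (Coh.toGlobal (X ↘ Spec (CommRingCat.of k)) b))) : a = b := by
  by_contra hab
  have hba : b - a ≠ 0 := sub_ne_zero.2 (Ne.symm hab)
  set sa := Groth.Agent.Lib.Helper2.SmulHom.smulK k E a with hsa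
  set sb := Groth.Agent.Lib.Helper2.SmulHom.smulK k E b with hsb
  have hsum : (f - sa) + (sb - f) = Groth.Agent.Lib.Helper2.SmulHom.smulK k E (b - a) := by
    have h1 : sb = Groth.Agent.Lib.Helper2.SmulHom.smulK k E (b - a) + sa := by
      rw [hsb, hsa, ← Groth.Agent.Lib.Helper2.SmulHom.smulK_add, sub_add_cancel]
    rw [h1]
    abel
  have hiso : IsIso ((f - sa) + (sb - f)) := by
    rw [hsum]
    refine ⟨⟨Groth.Agent.Lib.Helper2.SmulHom.smulK k E (b - a)⁻¹, ?_, ?_⟩⟩
    · rw [← Groth.Agent.Lib.Helper2.SmulHom.smulK_mul, mul_inv_cancel₀ hba,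
        Groth.Agent.Lib.Helper2.SmulHom.smulK_one]
    · rw [← Groth.Agent.Lib.Helper2.SmulHom.smulK_mul, inv_mul_cancel₀ hba,
        Groth.Agent.Lib.Helper2.SmulHom.smulK_one]
  rcases isIso_or_isIso_of_isIso_add k X hdim hE hind _ _ hiso with h | h
  · apply ha
    haveI := h
    rw [← toSheaf_map_sub_smulK]
    exact isIso_toSheaf_map _
  · apply hb
    haveI := h
    have h0 : IsIso (f - sb) := by
      have : f - sb = -(sb - f) := by abel
      rw [this]
      exact isIso_neg _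
    haveI := h0
    rw [← toSheaf_map_sub_smulK]
    exact isIso_toSheaf_map _

end Groth.Agent.Lib.Helper2.Fitting
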