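import Groth.Agent.Lib.Helper2.TorKill
import Mathlib.RingTheory.Flat.Localization
import Mathlib.RingTheory.Localization.BaseChange

/-!
Helper library (helper2): flatness from flatness away from `f` and modulo `f` (`f` regular).
-/

set_option autoImplicit false

namespace Groth.Agent.Lib.Helper2.FlatAway

open TensorProduct

variable {A : Type*} {M : Type*} [CommRing A] [AddCommGroup M] [Module A M] (f : A)

/-- `M ⊗ (f) → M` is injective when `f` is `M`-regular. -/
lemma lTensor_span_singleton_injective (hM : IsSMulRegular M f) :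
    Function.Injective ((Ideal.span {f}).subtype.lTensor M) := by
  let θ : A →ₗ[A] (Ideal.span {f} : Ideal A) :=
    { toFun := fun a => ⟨a * f, Ideal.mem_span_singleton'.mpr ⟨a, rfl⟩⟩
      map_add' := fun a b => Subtype.ext (by simp [add_mul])
      map_smul' := fun r a => Subtype.ext (by simp [mul_assoc]) }
  have hθ : Function.Surjective θ := by
    rintro ⟨y, hy⟩
    obtain ⟨a, rfl⟩ := Ideal.mem_span_singleton'.mp hy
    exact ⟨a, rfl⟩
  rw [injective_iff_map_eq_zero]
  intro x hx
  obtain ⟨y, rfl⟩ := LinearMap.lTensor_surjective M hθ x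
  obtain ⟨m, rfl⟩ := (TensorProduct.rid A M).symm.surjective y
  rw [TensorProduct.rid_symm_apply, LinearMap.lTensor_tmul, LinearMap.lTensor_tmul] at hx
  have h2 : f • m = 0 := by
    have := congrArg (TensorProduct.rid A M) hx
    rw [map_zero, TensorProduct.rid_tmul] at this
    simpa [θ] using this
  have h3 : m = 0 := hM (by show f • m = f • 0; rw [h2, smul_zero])
  rw [h3, map_zero, map_zero]

/-- multiplication by `f` is injective on `M ⊗ J` for every ideal `J`. -/
lemma smul_injective_tensor_ideal (hA : f ∈ nonZeroDivisors A) (hM : IsSMulRegular M f)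
    [Module.Flat (A ⧸ Ideal.span {f}) ((A ⧸ Ideal.span {f}) ⊗[A] M)] (J : Ideal A)
    (x : M ⊗[A] J) (hx : f • x = 0) : x = 0 := by
  let N' : Submodule A J := (Ideal.span {f}) • (⊤ : Submodule A J)
  have hN' : Function.Injective (N'.subtype.lTensor M) :=
    TorKill.lTensor_subtype_injective (Ideal.span {f})
      (lTensor_span_singleton_injective f hM) N' le_rfl
  let φ : J →ₗ[A] N' :=
    { toFun := fun j => ⟨f • j, Submodule.smul_mem_smul (Ideal.mem_span_singleton_self f)
        Submodule.mem_top⟩
      map_add' := fun a b => Subtype.ext (by simp)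
      map_smul' := fun r a => Subtype.ext (smul_comm f r a) }
  have hφinj : Function.Injective φ := by
    rw [injective_iff_map_eq_zero]
    intro j hj
    have h1 : f • j = 0 := congrArg (fun z : N' => (z : J)) hj
    have h2 : f * (j : A) = 0 := by
      have := congrArg (fun z : J => (z : A)) h1
      simpa using this
    apply Subtype.ext
    rw [mul_comm] at h2
    exact (mem_nonZeroDivisors_iff_right.mp hA) _ h2
  have hφsurj : Function.Surjective φ := by
    rintro ⟨y, hy⟩
    have : ∃ j : J, f • j = y := by
      refine Submodule.smul_induction_on hy ?_ ?_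
      · intro r hr j _
        obtain ⟨a, rfl⟩ := Ideal.mem_span_singleton'.mp hr
        exact ⟨a • j, by rw [mul_comm, mul_smul]⟩
      · rintro a b ⟨ja, rfl⟩ ⟨jb, rfl⟩
        exact ⟨ja + jb, smul_add _ _ _⟩
    obtain ⟨j, hj⟩ := this
    exact ⟨j, Subtype.ext hj⟩
  let e : J ≃ₗ[A] N' := LinearEquiv.ofBijective φ ⟨hφinj, hφsurj⟩
  have hcomp : N'.subtype ∘ₗ φ = f • LinearMap.id := by
    ext j; rfl
  have hinj : Function.Injective ((N'.subtype ∘ₗ φ).lTensor M) := by
    rw [LinearMap.lTensor_comp, LinearMap.coe_comp]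
    exact hN'.comp (LinearEquiv.lTensor M e).injective
  rw [hcomp, LinearMap.lTensor_smul, LinearMap.lTensor_id] at hinj
  apply hinj
  simpa using hx

/-- If `f` is regular on `A` and `M`, `M_f` is `A`-flat and `M/fM` is `A/f`-flat, then `M` is
`A`-flat. -/
theorem flat_of_flat_away_of_flat_quotient (hA : f ∈ nonZeroDivisors A) (hM : IsSMulRegular M f)
    {Mf : Type*} [AddCommGroup Mf] [Module A Mf] (g : M →ₗ[A] Mf)
    [IsLocalizedModule (Submonoid.powers f) g] [Module.Flat A Mf]
    [Module.Flat (A ⧸ Ideal.span {f}) ((A ⧸ Ideal.span {f}) ⊗[A] M)] : Module.Flat A M := by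
  rw [Module.Flat.iff_lTensor_injective]
  intro J _
  rw [injective_iff_map_eq_zero]
  intro x hx
  have h1 : J.subtype.lTensor Mf (g.rTensor J x) = 0 := by
    rw [← LinearMap.comp_apply, LinearMap.lTensor_comp_rTensor, ← LinearMap.rTensor_comp_lTensor,
      LinearMap.comp_apply, hx, map_zero]
  have h2 : g.rTensor J x = 0 := by
    have hinj : Function.Injective (J.subtype.lTensor Mf) :=
      Module.Flat.lTensor_preserves_injective_linearMap _ J.injective_subtype
    exact hinj (by rw [h1, map_zero])
  have h3 : TensorProduct.AlgebraTensorModule.rTensor A J g x = 0 := h2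
  obtain ⟨⟨_, n, rfl⟩, hs⟩ := (IsLocalizedModule.eq_zero_iff (Submonoid.powers f)
    (TensorProduct.AlgebraTensorModule.rTensor A J g)).mp h3
  have hs' : f ^ n • x = 0 := hs
  clear hs h3 h2 h1 hx
  induction n with
  | zero => simpa using hs'
  | succ n ih =>
    apply ih
    apply smul_injective_tensor_ideal f hA hM J
    rw [← mul_smul, ← pow_succ']
    exact hs'

end Groth.Agent.Lib.Helper2.FlatAway
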