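import Mathlib.RingTheory.Flat.Basic
import Mathlib.RingTheory.Flat.Stability
import Mathlib.LinearAlgebra.TensorProduct.Tower

/-!
Helper library (helper2): for a flat `T`-algebra `S'` (e.g. a localization), kernels of
`(S' ⊗[T] N) ⊗[R'] φ` are generated by kernels of `N ⊗[R'] φ`.
-/

set_option autoImplicit false

namespace Groth.Agent.Lib.Helper2.FlatLoc

open TensorProduct

variable {R' T S' : Type*} [CommRing R'] [CommRing T] [CommRing S'] [Algebra R' T] [Algebra T S']
  [Algebra R' S'] [IsScalarTower R' T S'] [Module.Flat T S']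
  (N : Type*) [AddCommGroup N] [Module T N] [Module R' N] [IsScalarTower R' T N]
  {Y' Y : Type*} [AddCommGroup Y'] [Module R' Y'] [AddCommGroup Y] [Module R' Y]
  (φ : Y' →ₗ[R'] Y)

/-- the map `N → S' ⊗[T] N`, `n ↦ s' ⊗ n`, as an `R'`-linear map -/
noncomputable def mkR (R' T : Type*) {S' : Type*} [CommRing R'] [CommRing T] [CommRing S']
    [Algebra R' T] [Algebra T S'] [Algebra R' S'] [IsScalarTower R' T S']
    (N : Type*) [AddCommGroup N] [Module T N] [Module R' N] [IsScalarTower R' T N] (s' : S') :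
    N →ₗ[R'] S' ⊗[T] N :=
  (TensorProduct.mk T S' N s').restrictScalars R'

omit [Module.Flat T S'] in
@[simp] lemma mkR_apply (s' : S') (n : N) : mkR R' T N s' n = s' ⊗ₜ[T] n := rfl

theorem lTensor_injective_of_forall_ker
    (h : ∀ y : N ⊗[R'] Y', φ.lTensor N y = 0 → (mkR R' T N (1 : S')).rTensor Y' y = 0) :
    Function.Injective (φ.lTensor (S' ⊗[T] N)) := by
  -- `mkR s'` factors through `mkR 1`
  have hs : ∀ (s' : S') (y : N ⊗[R'] Y'), φ.lTensor N y = 0 →
      (mkR R' T N s').rTensor Y' y = 0 := by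
    intro s' y hy
    let ms : S' ⊗[T] N →ₗ[R'] S' ⊗[T] N :=
      ((LinearMap.mulLeft T s').rTensor N).restrictScalars R'
    have hfac : mkR R' T N s' = ms ∘ₗ mkR R' T N (1 : S') := by
      ext n
      simp [ms]
    rw [hfac, LinearMap.rTensor_comp, LinearMap.comp_apply, h y hy, map_zero]
  let ψ : N ⊗[R'] Y' →ₗ[T] N ⊗[R'] Y := AlgebraTensorModule.lTensor T N φ
  have hex : Function.Exact ((LinearMap.ker ψ).subtype.lTensor S') (ψ.lTensor S') :=
    Module.Flat.lTensor_exact S' (LinearMap.exact_subtype_ker_map ψ)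
  have hnat : ∀ z : (S' ⊗[T] N) ⊗[R'] Y',
      AlgebraTensorModule.assoc R' T T S' N Y (φ.lTensor (S' ⊗[T] N) z) =
        ψ.lTensor S' (AlgebraTensorModule.assoc R' T T S' N Y' z) := by
    intro z
    induction z with
    | zero => simp
    | add a b ha hb => simp only [map_add, ha, hb]
    | tmul pm i =>
      induction pm with
      | zero => simp
      | add a b ha hb => simp only [add_tmul, map_add, ha, hb]
      | tmul p m => simp [ψ]
  have hsymm : ∀ (s' : S') (y : N ⊗[R'] Y'),
      (AlgebraTensorModule.assoc R' T T S' N Y').symm (s' ⊗ₜ y) =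
        (mkR R' T N s').rTensor Y' y := by
    intro s' y
    induction y with
    | zero => simp
    | add a b ha hb => simp only [tmul_add, map_add, ha, hb]
    | tmul n y' => simp
  have key : ∀ b : S' ⊗[T] (LinearMap.ker ψ),
      (AlgebraTensorModule.assoc R' T T S' N Y').symm
        ((LinearMap.ker ψ).subtype.lTensor S' b) = 0 := by
    intro b
    induction b with
    | zero => simp
    | add a b ha hb => simp only [map_add, ha, hb, add_zero]
    | tmul s' y =>
      rw [LinearMap.lTensor_tmul, Submodule.subtype_apply, hsymm]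
      exact hs s' y.1 (LinearMap.mem_ker.mp y.2)
  rw [injective_iff_map_eq_zero]
  intro u hu
  have h1 : ψ.lTensor S' (AlgebraTensorModule.assoc R' T T S' N Y' u) = 0 := by
    rw [← hnat, hu, map_zero]
  obtain ⟨b, hb⟩ := (hex _).mp h1
  have h2 := key b
  rw [hb, LinearEquiv.symm_apply_apply] at h2
  exact h2

end Groth.Agent.Lib.Helper2.FlatLoc
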