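import Mathlib
import Groth.Agent.Lib.Helper2.FullCech12

/-!
# Sheaf cohomology of a union of affine basic opens is Čech cohomology
-/

set_option autoImplicit false
universe u

open CategoryTheory CategoryTheory.Limits AlgebraicGeometry Opposite TopologicalSpace

namespace Groth.Agent.Lib.Helper2.FullCech15

open Groth.Agent.Lib.Helper17.CechElem

theorem preimage_finset_inf {X : Scheme.{u}} {ι : Type u} (V : ι → X.Opens) (U : X.Opens)
    (s : Finset ι) :
    (s.inf fun i => U.ι ⁻¹ᵁ V i) = U.ι ⁻¹ᵁ (s.inf V) := by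
  classical
  induction s using Finset.induction_on with
  | empty => rfl
  | insert a t ha ih => rw [Finset.inf_insert, Finset.inf_insert, ih]; rfl

theorem isAffineOpen_inf {X : Scheme.{u}} {ι : Type u} (g : ι → Γ(X, ⊤))
    (haff : ∀ i, IsAffineOpen (X.basicOpen (g i)))
    (s : Finset ι) (hs : s.Nonempty) :
    IsAffineOpen (s.inf (fun i => X.basicOpen (g i))) := by
  rw [← Groth.Agent.Lib.Helper2.FullCech4.basicOpen_prod s g]
  obtain ⟨i₀, hi₀⟩ := hs
  have hle : X.basicOpen (∏ a ∈ s, g a) ≤ X.basicOpen (g i₀) := by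
    rw [Groth.Agent.Lib.Helper2.FullCech4.basicOpen_prod]
    exact Finset.inf_le hi₀
  have h1 := (haff i₀).basicOpen
    (X.presheaf.map (homOfLE (le_top : X.basicOpen (g i₀) ≤ ⊤)).op (∏ a ∈ s, g a))
  rw [Scheme.basicOpen_res] at h1
  rwa [inf_eq_right.2 hle] at h1

/-- the cohomology of the open subscheme `U = ⋃ X_{g_i}` (all `X_{g_i}` affine) of a quasi-coherent
module is its Čech cohomology with respect to the `X_{g_i}`. -/
theorem cech_equiv_HHon (X : Scheme.{u}) {ι : Type u} (g : ι → Γ(X, ⊤))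
    (haff : ∀ i, IsAffineOpen (X.basicOpen (g i)))
    (F : X.Modules) [F.IsQuasicoherent] (q : ℕ) (U : X.Opens)
    (hU : U = ⨆ i, X.basicOpen (g i)) :
    Nonempty ((K (fun i => X.basicOpen (g i)) F.presheaf).homology q ≃+
      Coh.HHon X F U q) := by
  classical
  have hVU : ∀ i, X.basicOpen (g i) ≤ U := by
    intro i
    rw [hU]
    exact le_iSup (fun i => X.basicOpen (g i)) i
  have hcov : ⨆ i, Groth.Agent.Lib.Helper2.FullCech12.Vr (fun i => X.basicOpen (g i)) U i = ⊤ := by
    unfold Groth.Agent.Lib.Helper2.FullCech12.Vr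
    rw [← Scheme.Hom.preimage_iSup, ← hU]
    exact Scheme.Opens.ι_preimage_self U
  have haffU : ∀ s : Finset ι, s.Nonempty →
      IsAffineOpen (⨅ i ∈ s,
        Groth.Agent.Lib.Helper2.FullCech12.Vr (fun i => X.basicOpen (g i)) U i) := by
    intro s hs
    have h1 : (⨅ i ∈ s,
        Groth.Agent.Lib.Helper2.FullCech12.Vr (fun i => X.basicOpen (g i)) U i) =
        U.ι ⁻¹ᵁ (s.inf (fun i => X.basicOpen (g i))) := by
      rw [← Finset.inf_eq_iInf]
      exact preimage_finset_inf (fun i => X.basicOpen (g i)) U s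
    rw [h1]
    refine (isAffineOpen_inf g haff s hs).preimage_of_isOpenImmersion U.ι ?_
    rw [Scheme.Opens.opensRange_ι]
    obtain ⟨i₀, hi₀⟩ := hs
    exact (Finset.inf_le hi₀).trans (hVU i₀)
  haveI : Coh.IsQCoh (F.restrict U.ι) :=
    inferInstanceAs ((Scheme.Modules.restrictFunctor U.ι).obj F).IsQuasicoherent
  have key := Groth.Agent.S0013.result (U : Scheme.{u})
    (Groth.Agent.Lib.Helper2.FullCech12.Vr (fun i => X.basicOpen (g i)) U)
    hcov haffU (F.restrict U.ι) q
  obtain ⟨e1⟩ := key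
  have e1'' : (↑(CohB1.cechH
      (Groth.Agent.Lib.Helper2.FullCech12.Vr (fun i => X.basicOpen (g i)) U)
        (F.restrict U.ι) q) ≃+
      Coh.HH (↑U) (F.restrict U.ι) q) := e1
  obtain ⟨e2⟩ := Groth.Agent.Lib.Helper2.FullCech12.cech_restrict_equiv
    (fun i => X.basicOpen (g i)) U hVU F q
  exact ⟨e2.trans e1''⟩

end Groth.Agent.Lib.Helper2.FullCech15
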