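import Groth.Agent.Lib.Helper8.GGKill
import Groth.Agent.Lib.Helper8.MinPtsC
import Groth.Agent.Lib.Helper8.InvInverse
import Groth.Agent.Lib.Helper8.CurveRR
import Groth.Agent.Lib.Helper4.Snapper8
import Groth.Agent.Lib.Helper28.TwistGG
import Groth.Agent.Lib.Helper17.GrVan
import Groth.Agent.Lib.Helper4.VA6

/-!
# Ample invertible modules on one-dimensional proper schemes with `H¹(O) = 0` are globally generated (helper2)

Let `X` be proper over a field, of dimension at most one (not necessarily reduced or irreducible), with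
`H¹(X, O_X) = 0`, and let `L` be ample.  Every nonzero coherent quotient `E` of `L` has `χ(E) > 0` (Snapper's polynomial
`χ(E ⊗ L⁻¹ ⊗ L^n) = a n + b` has `a ≥ 0` by Serre's theorem and `b = h⁰(E ⊗ L⁻¹) > 0`), hence a nonzero section `s`;
the cokernel of `s` is again a quotient of `L` with smaller `χ`, and helper8's `gg_of_shortExact` closes the induction.
-/

set_option backward.isDefEq.respectTransparency.types false
set_option autoImplicit false
universe u
open CategoryTheory CategoryTheory.Limits AlgebraicGeometry Opposite TopologicalSpace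
noncomputable section

namespace Groth.Agent.Lib.Helper2.G0GG

open Groth.Agent.Lib.Helper4.NumPoly

section numpoly

variable {ι : Type*} [Fintype ι] [DecidableEq ι] {G : Type*} [AddCommGroup G]

theorem isNumPolyLt_Δ {e : ℕ} {f : (ι → ℕ) → G} (hf : IsNumPolyLt (e + 1) f) (i : ι) :
    IsNumPolyLt e (Δ i f) := by
  intro P hP
  rw [← pair_mul_X_sub_one]
  apply hf
  rw [pow_succ]
  exact Ideal.mul_mem_mul hP (Ideal.subset_span ⟨i, rfl⟩)

theorem linear_of_isNumPolyLt_two (f : (Fin 1 → ℕ) → ℚ) (hf : IsNumPolyLt 2 f) (m : ℕ) :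
    f (fun _ => m) = f 0 + m * (f (fun _ => 1) - f 0) := by
  have h1 : IsNumPolyLt 1 (Δ 0 f) := isNumPolyLt_Δ hf 0
  have h0 : Δ 0 (Δ 0 f) = 0 := (isNumPolyLt_zero_iff _).1 (isNumPolyLt_Δ h1 0)
  have hs : ∀ j : ℕ, (fun _ : Fin 1 => j) + Pi.single 0 1 = fun _ => j + 1 := by
    intro j
    funext i
    have : i = 0 := Subsingleton.elim _ _
    subst this
    simp
  have hz : (0 : Fin 1 → ℕ) = fun _ => 0 := rfl
  have hstep : ∀ j : ℕ, f (fun _ => j + 1) - f (fun _ => j) = f (fun _ => 1) - f 0 := by
    intro j
    induction j with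
    | zero => rw [hz]
    | succ j ih =>
      have h2 := congrFun h0 (fun _ => j)
      simp only [Δ, Pi.zero_apply, hs] at h2
      linarith
  induction m with
  | zero => rw [hz]; simp
  | succ m ih =>
    have := hstep m
    push_cast
    linarith

end numpoly

section main

open Groth.Agent.Lib.Helper8.EulerK Groth.Agent.Lib.Helper8.GGKill Groth.Agent.Lib.Helper8.GGCoh
  Groth.Agent.Lib.Helper8.KillA Groth.Agent.Lib.Helper2.HLes Groth.Agent.Lib.Helper2.HLesLin

variable (k : Type u) [Field k] (X : Scheme.{u}) [X.Over (Spec (CommRingCat.of k))]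
  [IsProper (X ↘ Spec (CommRingCat.of k))]

include k in
theorem isNoetherian : IsNoetherian X := by
  haveI := isLocallyNoetherian k X
  haveI : CompactSpace X := QuasiCompact.compactSpace_of_compactSpace (X ↘ Spec (CommRingCat.of k))
  exact {}

/-- `χ = h⁰ - h¹` on a proper scheme of dimension at most one -/
theorem euler_eq_sub (hdim : topologicalKrullDim X ≤ 1) (F : X.Modules) :
    Curv2.euler k X F =
      (Module.finrank k (Coh.HH X F 0) : ℤ) - (Module.finrank k (Coh.HH X F 1) : ℤ) := by
  haveI := isNoetherian k X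
  rw [euler_eq_sum k X F 2 (fun p hp => by
    obtain ⟨q, rfl⟩ : ∃ q, p = q + 2 := ⟨p - 2, by omega⟩
    exact subsingleton_HH_add_two hdim F q)]
  simp [Finset.sum_range_succ]
  ring

/-- Snapper in dimension one: `χ(F ⊗ L^n)` is an affine function of `n` -/
theorem exists_linear (hdim : topologicalKrullDim X ≤ 1) (F : X.Modules) (hF : Coh.IsCoh F)
    (L : X.Modules) (hL : PicF.IsInvertible L) :
    ∃ a b : ℚ, ∀ n : ℕ,
      (Curv2.euler k X (CohB1.tensorMod F (CohB1.tensorPow L n)) : ℚ) = b + n * a := by
  have hsupp : topologicalKrullDim (CohB1.support F) ≤ (1 : ℕ) :=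
    (topologicalKrullDim_subspace_le X _).trans hdim
  have h := Groth.Agent.Lib.Helper4.Snapper.snapper k X F hF 1 hsupp 1 (fun _ => L) (fun _ => hL)
  exact ⟨_, _, fun n => linear_of_isNumPolyLt_two _ h n⟩

variable {X}
variable (hdim : topologicalKrullDim X ≤ 1) (hO : Subsingleton (Coh.HH X (Coh.structureModule X) 1))

omit [IsProper (X ↘ Spec (CommRingCat.of k))] in
theorem isGloballyGenerated_of_isZero {E : X.Modules} (hz : IsZero E) : Curv2.IsGloballyGenerated E :=
  isGloballyGenerated_of_kills E (fun _ π _ => hz.eq_of_src π 0)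

include hdim hO in
/-- a nonzero coherent quotient of the structure sheaf has positive Euler characteristic -/
theorem euler_pos_of_epi_unit (F : X.Modules) (hF : Coh.IsCoh F) (q : Coh.structureModule X ⟶ F)
    (hq : Epi q) (hne : ¬ IsZero F) : 0 < Curv2.euler k X F := by
  haveI := isNoetherian k X
  have hgg : Curv2.IsGloballyGenerated F :=
    isGloballyGenerated_of_epi (Groth.Agent.Lib.Helper8.MinPtsC.gg_structureModule X) q hq
  haveI h1 : Subsingleton (Coh.HH X F 1) := subsingleton_H1_of_gg hdim hO hF hgg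
  have hq0 : q ≠ 0 := fun h => hne (IsZero.of_epi_eq_zero q h)
  have hx : HHmap q 0 (unitH X) ≠ 0 := fun h =>
    hq0 (hom_eq_of_HHmap_unitH_eq q 0 (h.trans (HHmap_zero_unitH F).symm))
  haveI := finite_HH k X F hF 0
  have hpos : 0 < Module.finrank k (Coh.HH X F 0) :=
    Module.finrank_pos_iff.2 ⟨⟨_, _, hx⟩⟩
  rw [euler_eq_sub k X hdim F, Module.finrank_zero_of_subsingleton (M := Coh.HH X F 1)]
  push_cast
  omega

include hdim hO in
/-- a nonzero coherent quotient of an ample invertible module has positive Euler characteristic -/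
theorem euler_pos_of_quotient {L : X.Modules} (hL : CohB1.IsAmple L) (E : X.Modules) (hE : Coh.IsCoh E)
    (π : L ⟶ E) (hπ : Epi π) (hne : ¬ IsZero E) : 0 < Curv2.euler k X E := by
  haveI := isNoetherian k X
  obtain ⟨M, hM, ⟨eM⟩⟩ := Groth.Agent.Lib.Helper8.InvInverse.exists_isInverseOf hL.1
  have hcM := Groth.Agent.Lib.Helper6.K0Op.isCoh_of_isInvertible M hM
  have hF₀ : Coh.IsCoh (CohB1.tensorMod E M) := Groth.Agent.Lib.Helper6.K0Op.isCoh_tensorMod _ _ hE hcM
  obtain ⟨eU⟩ := Groth.Agent.Lib.Helper4.Snapper.nonempty_tensor_unit_iso E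
  have e1 : CohB1.tensorMod (CohB1.tensorMod E M) (CohB1.tensorPow L 1) ≅ E :=
    PicGrp.tensorModIso (Iso.refl _) (Groth.Agent.Lib.Helper4.VA2.unitorL L) ≪≫
      Groth.Agent.Lib.Helper16.TA.assocIso E M L ≪≫ PicGrp.tensorModIso (Iso.refl E) eM ≪≫ eU
  obtain ⟨eU₀⟩ := Groth.Agent.Lib.Helper4.Snapper.nonempty_tensor_unit_iso (CohB1.tensorMod E M)
  let q₀ : Coh.structureModule X ⟶ CohB1.tensorMod E M :=
    eM.inv ≫ (Groth.Agent.Lib.Helper6.K0Inv.braidIso M L).hom ≫ (DCoh.tensorBi.map π).app M
  have hq₀ : Epi q₀ := by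
    have h1 : Epi ((DCoh.tensorBi.map π).app M) := epi_tensor π hπ M
    have h2 : Epi ((Groth.Agent.Lib.Helper6.K0Inv.braidIso M L).hom ≫ (DCoh.tensorBi.map π).app M) :=
      @epi_comp _ _ _ _ _ _ inferInstance _ h1
    exact @epi_comp _ _ _ _ _ _ inferInstance _ h2
  have hne₀ : ¬ IsZero (CohB1.tensorMod E M) := fun h =>
    hne ((Groth.Agent.Lib.Helper17.Graded.isZero_tensorMod_of_isZero _ _ h).of_iso e1.symm)
  have hb := euler_pos_of_epi_unit k hdim hO _ hF₀ q₀ hq₀ hne₀
  obtain ⟨a, b, hab⟩ := exists_linear k X hdim _ hF₀ L hL.1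
  have h0 : (Curv2.euler k X (CohB1.tensorMod E M) : ℚ) = b := by
    have := hab 0
    rw [show Curv2.euler k X (CohB1.tensorMod (CohB1.tensorMod E M) (CohB1.tensorPow L 0)) =
      Curv2.euler k X (CohB1.tensorMod E M) from euler_congr k eU₀] at this
    simpa using this
  have h1 : (Curv2.euler k X E : ℚ) = b + a := by
    have := hab 1
    rw [euler_congr k e1] at this
    simpa using this
  obtain ⟨n₀, hn₀⟩ := Groth.Agent.Lib.Helper28.GenLocus.exists_forall_isGloballyGenerated hL _ hF₀
  have ha : 0 ≤ a := by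
    by_contra hneg'
    have hneg : a < 0 := not_le.1 hneg'
    obtain ⟨n, hn⟩ := exists_nat_gt (max (n₀ : ℚ) (b / (-a)))
    have hn1 : n₀ ≤ n := by exact_mod_cast (le_max_left _ _).trans hn.le
    have hn2 : b / (-a) < n := (le_max_right _ _).trans_lt hn
    have hgg := hn₀ n hn1
    have hcn : Coh.IsCoh (CohB1.tensorMod (CohB1.tensorMod E M) (CohB1.tensorPow L n)) :=
      Groth.Agent.Lib.Helper6.K0Op.isCoh_tensorMod _ _ hF₀
        (Groth.Agent.Lib.Helper6.K0Op.isCoh_of_isInvertible _
          (Groth.Agent.Lib.Helper28.GenLocus.isInvertible_tensorPow hL.1 n))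
    haveI := subsingleton_H1_of_gg hdim hO hcn hgg
    have hnn : 0 ≤ Curv2.euler k X (CohB1.tensorMod (CohB1.tensorMod E M) (CohB1.tensorPow L n)) := by
      rw [euler_eq_sub k X hdim, Module.finrank_zero_of_subsingleton (M := Coh.HH X _ 1)]
      push_cast
      omega
    have h2 : (0 : ℚ) ≤ b + n * a := by
      rw [← hab n]
      exact_mod_cast hnn
    have hlt : b < n * (-a) := by rwa [div_lt_iff₀ (neg_pos.2 hneg)] at hn2
    linarith
  have hbpos : (0 : ℚ) < b := by
    rw [← h0]
    exact_mod_cast hb
  have h3 : (0 : ℚ) < (Curv2.euler k X E : ℚ) := by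
    rw [h1]
    linarith
  exact_mod_cast h3

include hdim hO in
/-- every coherent quotient of an ample invertible module is globally generated (induction on `χ`) -/
theorem gg_of_quotient {L : X.Modules} (hL : CohB1.IsAmple L) :
    ∀ (N : ℕ) (E : X.Modules), Coh.IsCoh E → ∀ π : L ⟶ E, Epi π → Curv2.euler k X E ≤ N →
      Curv2.IsGloballyGenerated E := by
  haveI := isNoetherian k X
  have hcO : Coh.IsCoh (Coh.structureModule X) := Groth.Agent.Lib.Helper6.DevRed.isCoh_structureModule
  intro N
  induction N with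
  | zero =>
    intro E hE π hπ hle
    by_cases hz : IsZero E
    · exact isGloballyGenerated_of_isZero hz
    · have := euler_pos_of_quotient k hdim hO hL E hE π hπ hz
      exact absurd hle (by push_cast; omega)
  | succ N ih =>
    intro E hE π hπ hle
    by_cases hz : IsZero E
    · exact isGloballyGenerated_of_isZero hz
    · have hpos := euler_pos_of_quotient k hdim hO hL E hE π hπ hz
      rw [euler_eq_sub k X hdim E] at hpos
      haveI := finite_HH k X E hE 0
      have hh0 : 0 < Module.finrank k (Coh.HH X E 0) := by omega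
      have hnt : Nontrivial (Coh.HH X E 0) := Module.finrank_pos_iff.1 hh0
      obtain ⟨s, hs⟩ := Groth.Agent.Lib.Helper8.CurveRR.exists_section_ne_zero E hnt
      let S : ShortComplex X.Modules :=
        ShortComplex.mk (kernel.ι (cokernel.π s)) (cokernel.π s) (kernel.condition _)
      have hS : S.ShortExact :=
        { exact := ShortComplex.exact_of_f_is_kernel _ (kernelIsKernel (cokernel.π s))
          mono_f := by dsimp [S]; infer_instance
          epi_g := by dsimp [S]; infer_instance }
      have hcI : Coh.IsCoh (kernel (cokernel.π s)) :=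
        Groth.Agent.Lib.Helper6.DevCore.isCoh_image s hcO hE
      have hcC : Coh.IsCoh (cokernel s) := Groth.Agent.Lib.Helper6.DevCore.isCoh_cokernel s hcO hE
      have hqI : Epi (Abelian.factorThruImage s) := inferInstance
      have hneI : ¬ IsZero (kernel (cokernel.π s)) := by
        intro h
        apply hs
        rw [← Abelian.image.fac s, h.eq_of_tgt (Abelian.factorThruImage s) 0, zero_comp]
      have hggI : Curv2.IsGloballyGenerated (kernel (cokernel.π s)) :=
        isGloballyGenerated_of_epi (Groth.Agent.Lib.Helper8.MinPtsC.gg_structureModule X)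
          (Abelian.factorThruImage s) hqI
      have hposI := euler_pos_of_epi_unit k hdim hO _ hcI (Abelian.factorThruImage s) hqI hneI
      have hadd := euler_add k X S hS hcI hE hcC
      have hleC : Curv2.euler k X (cokernel s) ≤ N := by
        change Curv2.euler k X E = Curv2.euler k X (kernel (cokernel.π s)) + Curv2.euler k X (cokernel s) at hadd
        push_cast at hle
        omega
      have hggC : Curv2.IsGloballyGenerated (cokernel s) :=
        ih (cokernel s) hcC (π ≫ cokernel.π s) (epi_comp _ _) hleC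
      exact gg_of_shortExact hdim hO S hS hcI hggI hggC

include k hdim hO in
/-- **an ample invertible module on a proper scheme of dimension at most one with `H¹(O) = 0` is globally
generated** -/
theorem isGloballyGenerated_of_isAmple {L : X.Modules} (hL : CohB1.IsAmple L) :
    Curv2.IsGloballyGenerated L := by
  haveI := isNoetherian k X
  have hcL := Groth.Agent.Lib.Helper6.K0Op.isCoh_of_isInvertible L hL.1
  exact gg_of_quotient k hdim hO hL (Curv2.euler k X L).toNat L hcL (𝟙 L) inferInstance
    (Int.self_le_toNat _)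

end main

end Groth.Agent.Lib.Helper2.G0GG
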