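import Groth.Agent.Lib.Helper2.IdealMul
import Groth.Agent.Lib.Helper8.G1Gen
import Groth.Agent.Lib.Helper8.PointBundle
import Groth.Agent.Lib.Helper8.DegGroup
import Groth.Agent.Lib.Helper8.H0Field
import Groth.Agent.Lib.Helper8.PicCl
import Groth.Agent.Lib.Helper28.AmpleIso
import Groth.Agent.S1564

/-!
# Twists of the structure sheaf of a curve of arithmetic genus one by a smooth rational point (helper2)
-/

set_option backward.isDefEq.respectTransparency.types false
set_option autoImplicit false
universe u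
open CategoryTheory CategoryTheory.Limits AlgebraicGeometry Opposite TopologicalSpace

noncomputable section

namespace Groth.Agent.Lib.Helper2.G1Twist

open Groth.Agent.Lib.Helper8.EulerK Groth.Agent.Lib.Helper8.PointDeg Groth.Agent.Lib.Helper28
  Groth.Agent.Lib.Helper28.HomMod Groth.Agent.Lib.Helper28.GenLocus Groth.Agent.Lib.Helper28.AmpleUnit
  Groth.Agent.Lib.Helper28.IdealDual

variable (k : Type u) [Field k] (C : Scheme.{u}) [C.Over (Spec (CommRingCat.of k))] [IsIntegral C]
  [IsProper (C ↘ Spec (CommRingCat.of k))]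

section

variable (hdim : topologicalKrullDim C = 1) (p : C) (hp : IsClosed ({p} : Set C))
  (hreg : IsRegularLocalRing (C.presheaf.stalk p))
  (hQ1 : Module.finrank k (Coh.HH C (ClSub.quotMod (ptI p hp)) 0) = 1)

include k hdim hreg in
theorem isEffCartier_pt : BlowUp.IsEffCartierIdeal (ptI p hp) := by
  haveI : IsLocallyNoetherian C := isLocallyNoetherian k C
  obtain ⟨p1, p2⟩ := Groth.Agent.Lib.Helper8.LowDeg.maximalIdeal_isPrincipal_of_regular hdim.le p
    (Groth.Agent.Lib.Helper8.NormalPt.ne_genericPoint_of_isClosed hdim p hp) hreg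
  exact Groth.Agent.Lib.Helper8.PointCartier.isEffCartierIdeal_vanishingIdeal_singleton p hp p1 p2

include hdim hreg hQ1 in
theorem deg_idealMod_pt : Curv2.deg k C (ClSub.idealMod (ptI p hp)) 1 = -1 := by
  have hE := isEffCartier_pt k C hdim p hp hreg
  have hI : PicF.IsInvertible (ClSub.idealMod (ptI p hp)) := isInvertible_idealMod _ hE
  obtain ⟨hA, hAinv⟩ := Groth.Agent.Lib.Helper8.PointBundle.exists_inverse C _ hE
  have hdA := Groth.Agent.Lib.Helper8.PointBundle.deg_inverse k C _ (fun z hz => by
    have hz' : z ∈ ((Scheme.IdealSheafData.vanishingIdeal ⟨{p}, hp⟩).support : Set C) := hz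
    rw [Scheme.IdealSheafData.coe_support_vanishingIdeal] at hz'
    have : z = p := hz'
    rw [this]; exact hp) _ hA hAinv
  have hdI := Groth.Agent.Lib.Helper8.DegGroup.deg_inverse_eq_neg k C hdim.le hA hI
    (by
      obtain ⟨e⟩ := hAinv
      exact ⟨Groth.Agent.Lib.Helper6.K0Inv.braidIso _ _ ≪≫ e⟩)
  rw [hdI, hdA, hQ1]
  rfl

include hdim hreg hQ1 in
theorem deg_idealMod_pow (m : ℕ) :
    Curv2.deg k C (ClSub.idealMod ((ptI p hp) ^ (m + 1))) 1 = -((m : ℤ) + 1) := by
  have hE := isEffCartier_pt k C hdim p hp hreg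
  induction m with
  | zero =>
    rw [zero_add, pow_one, deg_idealMod_pt k C hdim p hp hreg hQ1]
    simp
  | succ m ih =>
    have hEm := IdealMul.isEffCartierIdeal_pow _ hE m
    obtain ⟨e⟩ := IdealMul.nonempty_iso_tensor _ _ hEm hE
    have h1 : Curv2.deg k C (ClSub.idealMod ((ptI p hp) ^ (m + 1 + 1))) 1 =
        Curv2.deg k C (CohB1.tensorMod (ClSub.idealMod ((ptI p hp) ^ (m + 1)))
          (ClSub.idealMod (ptI p hp))) 1 := by
      unfold Curv2.deg
      rw [pow_succ, euler_congr k e]
    rw [h1, Groth.Agent.Lib.Helper8.DegGroup.deg_tensorMod k C hdim.le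
      (isInvertible_idealMod _ hEm) (isInvertible_idealMod _ hE), ih,
      deg_idealMod_pt k C hdim p hp hreg hQ1]
    push_cast
    ring

attribute [local instance] Groth.Agent.Lib.Helper8.PicCl.commMonoid in
/-- an inverse of an invertible module is its dual. -/
theorem nonempty_iso_dual_of_isInverseOf {X : Scheme.{u}} {L J : X.Modules} (hJ : PicF.IsInvertible J)
    (hL : ClSub.IsInverseOf L J) : Nonempty (L ≅ dual J) := by
  have h1 : PicF.cl L * PicF.cl J = 1 := (Groth.Agent.Lib.Helper8.PicCl.isInverseOf_iff L J).1 hL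
  have h2 : PicF.cl (dual J) * PicF.cl J = 1 :=
    (Groth.Agent.Lib.Helper8.PicCl.isInverseOf_iff _ _).1
      (Groth.Agent.Lib.Helper8.InvInverse.isInverseOf_dual hJ)
  have h3 : PicF.cl J * PicF.cl (dual J) = 1 := by rw [mul_comm]; exact h2
  have h4 : PicF.cl L = PicF.cl (dual J) := left_inv_eq_right_inv h1 h3
  exact (Groth.Agent.Lib.Helper8.PicCl.cl_eq_iff _ _).1 h4

include hdim hreg hQ1 in
/-- **the twists `O(np)` on a curve of arithmetic genus one**. -/
theorem main (hpa : Curv2.euler k C (Coh.structureModule C) = 0) (n : ℕ) (L : C.Modules)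
    (hL : ClSub.IsInverseOf L (ClSub.idealMod ((ptI p hp) ^ n))) :
    Module.finrank k (Coh.HH C (Coh.structureModule C) 0) = 1 ∧
      Module.finrank k (Coh.HH C (Coh.structureModule C) 1) = 1 ∧
      (n = 1 → Module.finrank k (Coh.HH C L 0) = 1) ∧
      (2 ≤ n → Module.finrank k (Coh.HH C L 0) = n) ∧
      (1 ≤ n → Subsingleton (Coh.HH C L 1)) ∧
      (2 ≤ n → Curv2.IsGloballyGenerated L) := by
  haveI : IsLocallyNoetherian C := isLocallyNoetherian k C
  have h0 : Module.finrank k (Coh.HH C (Coh.structureModule C) 0) = 1 :=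
    Groth.Agent.Lib.Helper8.H0Field.finrank_H0_eq_one (X := C) (k := k) _ 0 hQ1
  have hOinv := isInvertible_structureModule C
  have hcO := Groth.Agent.Lib.Helper6.K0Op.isCoh_of_isInvertible _ hOinv
  have eO := Groth.Agent.Lib.Helper8.CurveRR.euler_eq_sub k C hdim.le _ hcO.1
  rw [hpa, h0] at eO
  have h1 : Module.finrank k (Coh.HH C (Coh.structureModule C) 1) = 1 := by
    have : ((Module.finrank k (Coh.HH C (Coh.structureModule C) 1) : ℕ) : ℤ) = 1 := by
      push_cast at eO
      linarith
    exact_mod_cast this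
  have hg : Curv2.genus k C = 1 := h1
  refine ⟨h0, h1, ?_⟩
  cases n with
  | zero =>
    refine ⟨fun h => absurd h (by omega), fun h => absurd h (by omega),
      fun h => absurd h (by omega), fun h => absurd h (by omega)⟩
  | succ m =>
    have hE := isEffCartier_pt k C hdim p hp hreg
    have hEn := IdealMul.isEffCartierIdeal_pow _ hE m
    have hJ : PicF.IsInvertible (ClSub.idealMod ((ptI p hp) ^ (m + 1))) :=
      isInvertible_idealMod _ hEn
    obtain ⟨eL⟩ := nonempty_iso_dual_of_isInverseOf hJ hL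
    have hLinv : PicF.IsInvertible L :=
      Groth.Agent.Lib.Helper28.AmpleIso.isInvertible_of_iso eL.symm (isInvertible_dual hJ)
    have hdegL : Curv2.deg k C L 1 = (m : ℤ) + 1 := by
      rw [Groth.Agent.Lib.Helper8.DegGroup.deg_inverse_eq_neg k C hdim.le hJ hLinv hL,
        deg_idealMod_pow k C hdim p hp hreg hQ1 m]
      ring
    have hcL := Groth.Agent.Lib.Helper6.K0Op.isCoh_of_isInvertible _ hLinv
    have eLs := Groth.Agent.Lib.Helper8.CurveRR.euler_eq_sub k C hdim.le L hcL.1
    have hχL : Curv2.euler k C L = (m : ℤ) + 1 := by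
      have : Curv2.deg k C L 1 = Curv2.euler k C L := by
        unfold Curv2.deg
        rw [hpa]; ring
      rw [← this, hdegL]
    rw [hχL] at eLs
    haveI := finite_HH k C _ hcL 0
    haveI := finite_HH k C _ hcL 1
    have hpos : 0 < Module.finrank k (Coh.HH C L 0) := by
      have : (0 : ℤ) < (Module.finrank k (Coh.HH C L 0) : ℤ) := by linarith
      exact_mod_cast this
    have hnt : Nontrivial (Coh.HH C L 0) := Module.nontrivial_of_finrank_pos (R := k) hpos
    obtain ⟨b1, b2⟩ := Groth.Agent.S1564.result k C hdim h0 L hLinv hnt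
    have hh0 : Module.finrank k (Coh.HH C L 0) = m + 1 := by
      have hle : (Module.finrank k (Coh.HH C L 0) : ℤ) ≤ (m : ℤ) + 1 := by
        by_contra hgt
        have heq : (Module.finrank k (Coh.HH C L 0) : ℤ) = Curv2.deg k C L 1 + 1 := by
          rw [hdegL] at b1 ⊢
          omega
        have := b2 heq (by rw [hdegL]; positivity)
        omega
      have : (Module.finrank k (Coh.HH C L 0) : ℤ) = (m : ℤ) + 1 := by linarith
      exact_mod_cast this
    have hh1 : Module.finrank k (Coh.HH C L 1) = 0 := by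
      have : (Module.finrank k (Coh.HH C L 1) : ℤ) = 0 := by
        rw [hh0] at eLs
        push_cast at eLs
        linarith
      exact_mod_cast this
    refine ⟨fun _ => by rw [hh0]; omega, fun _ => hh0, fun _ =>
      Groth.Agent.Lib.Helper8.CurveRR.subsingleton_of_finrank_eq_zero k hh1, fun h2 => ?_⟩
    apply Groth.Agent.Lib.Helper8.GGPoint.isGloballyGenerated_of_forall_mem_genLocus
    intro x
    by_cases hxp : x = p
    · subst hxp
      exact Groth.Agent.Lib.Helper8.G1Gen.exists_section_mem_genLocus k C hdim hg L hLinv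
        (by rw [hdegL]; omega) x hreg
    · refine ⟨tI ((ptI p hp) ^ (m + 1)) ≫ eL.inv, ?_⟩
      have h3 := genLocus_comp_iso (tI ((ptI p hp) ^ (m + 1))) eL.symm
      change CohB1.genLocus L (tI ((ptI p hp) ^ (m + 1)) ≫ eL.inv) = _ at h3
      rw [h3, genLocus_tI _ hEn]
      change x ∉ (((ptI p hp) ^ (m + 1)).support : Set C)
      rw [Scheme.IdealSheafData.support_pow_succ, Scheme.IdealSheafData.coe_support_vanishingIdeal]
      exact hxp

end

end Groth.Agent.Lib.Helper2.G1Twist
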