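import Mathlib

/-!
# Additive functors commute with the extension of complexes along an embedding (helper2)
-/

set_option autoImplicit false
universe u

open CategoryTheory CategoryTheory.Limits

namespace Groth.Agent.Lib.Helper2.GC1

section Extend

variable {ι ι' : Type*} {c : ComplexShape ι} {c' : ComplexShape ι'} (e : c.Embedding c') [e.IsRelIff]
  {𝒜 ℬ : Type*} [Category 𝒜] [Category ℬ] [Preadditive 𝒜] [Preadditive ℬ] [HasZeroObject 𝒜] [HasZeroObject ℬ]
  (Φ : 𝒜 ⥤ ℬ) [Φ.Additive] (K : HomologicalComplex 𝒜 c)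

/-- the restriction of `Φ(K.extend e)` maps to `Φ(K)` -/
noncomputable def restrictMap :
    ((Φ.mapHomologicalComplex c').obj (K.extend e)).restriction e ⟶ (Φ.mapHomologicalComplex c).obj K where
  f i := Φ.map (K.extendXIso e rfl).hom
  comm' i j _ := by
    change Φ.map (K.extendXIso e rfl).hom ≫ Φ.map (K.d i j) =
      Φ.map ((K.extend e).d (e.f i) (e.f j)) ≫ Φ.map (K.extendXIso e rfl).hom
    rw [← Φ.map_comp, ← Φ.map_comp, K.extend_d_eq e rfl rfl]
    simp

theorem hasLift_restrictMap : e.HasLift (restrictMap e Φ K) := by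
  intro j hj i' hi'
  have hz : IsZero ((K.extend e).X i') := by
    apply K.isZero_extend_X e i'
    intro i hi
    subst hi
    exact hj.2 i hi'
  change Φ.map ((K.extend e).d i' (e.f j)) ≫ _ = 0
  rw [hz.eq_of_src ((K.extend e).d i' (e.f j)) 0, Φ.map_zero, zero_comp]

/-- the comparison `Φ(K.extend e) ⟶ Φ(K).extend e` -/
noncomputable def mapExtend :
    (Φ.mapHomologicalComplex c').obj (K.extend e) ⟶ ((Φ.mapHomologicalComplex c).obj K).extend e :=
  e.liftExtend (restrictMap e Φ K) (hasLift_restrictMap e Φ K)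

instance isIso_mapExtend : IsIso (mapExtend e Φ K) := by
  haveI : ∀ i', IsIso ((mapExtend e Φ K).f i') := by
    intro i'
    by_cases hi' : ∃ i, e.f i = i'
    · obtain ⟨i, hi⟩ := hi'
      rw [mapExtend, e.isIso_liftExtend_f_iff _ _ hi]
      change IsIso (Φ.map (K.extendXIso e rfl).hom)
      infer_instance
    · have h1 : IsZero ((K.extend e).X i') := K.isZero_extend_X e i' (by simpa using hi')
      have h2 : IsZero (((Φ.mapHomologicalComplex c').obj (K.extend e)).X i') := Φ.map_isZero h1
      have h3 : IsZero ((((Φ.mapHomologicalComplex c).obj K).extend e).X i') :=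
        HomologicalComplex.isZero_extend_X _ e i' (by simpa using hi')
      exact ⟨0, h2.eq_of_src _ _, h3.eq_of_src _ _⟩
  exact HomologicalComplex.Hom.isIso_of_components _

end Extend

end Groth.Agent.Lib.Helper2.GC1
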