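import Groth.Agent.Lib.Helper2.GC1
import Groth.Agent.Lib.Helper8.ChainRes
import Groth.Agent.Lib.helper11.ConeQis
import Groth.Prelude.Def_ega3

/-!
# A complex of flat modules with finite cohomology, universally acyclic in high degrees, is computed by
a bounded above complex of finite free modules (helper2)
-/

set_option autoImplicit false
universe u

open CategoryTheory CategoryTheory.Limits CochainComplex HomologicalComplex

namespace Groth.Agent.Lib.Helper2.GC2

section General

variable {𝒞 : Type*} [Category 𝒞] [Preadditive 𝒞] [HasBinaryBiproducts 𝒞]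

/-- `inr` is an isomorphism in the degrees where the source of the map vanishes -/
theorem isIso_inr_f {G E : CochainComplex 𝒞 ℤ} (w : G ⟶ E) (i : ℤ) (hz : IsZero (G.X (i + 1))) :
    IsIso ((mappingCone.inr w).f i) := by
  refine ⟨(mappingCone.snd w).v i i (add_zero i), mappingCone.inr_f_snd_v w i, ?_⟩
  have h := mappingCone.id_X w i (i + 1) rfl
  rw [hz.eq_of_tgt ((mappingCone.fst w).1.v i (i + 1) rfl) 0, zero_comp, zero_add] at h
  exact h

end General

section Abelian

variable {𝒜 : Type*} [Category 𝒜] [Abelian 𝒜]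

theorem quasiIsoAt_of_isIso_f {K L : CochainComplex 𝒜 ℤ} (ψ : K ⟶ L) (q : ℤ)
    (h1 : IsIso (ψ.f (q - 1))) (h2 : IsIso (ψ.f q)) (h3 : IsIso (ψ.f (q + 1))) : QuasiIsoAt ψ q := by
  rw [quasiIsoAt_iff' ψ (q - 1) q (q + 1) (by simp) (by simp)]
  haveI : Epi ((shortComplexFunctor' 𝒜 (ComplexShape.up ℤ) (q - 1) q (q + 1)).map ψ).τ₁ := by
    change Epi (ψ.f (q - 1))
    infer_instance
  haveI : IsIso ((shortComplexFunctor' 𝒜 (ComplexShape.up ℤ) (q - 1) q (q + 1)).map ψ).τ₂ := by
    change IsIso (ψ.f q)
    infer_instance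
  haveI : Mono ((shortComplexFunctor' 𝒜 (ComplexShape.up ℤ) (q - 1) q (q + 1)).map ψ).τ₃ := by
    change Mono (ψ.f (q + 1))
    infer_instance
  exact ShortComplex.quasiIso_of_epi_of_isIso_of_mono _

end Abelian


section Mod

open CohIII Groth.Agent.Lib.helper11 MonoidalCategory

attribute [-instance] CategoryTheory.ShortComplex.hasHomology_of_preserves

variable {A : Type u} [CommRing A]

/-- An acyclic complex of flat modules which is universally acyclic in high degrees is universally
acyclic. -/
theorem isZero_TFun_of_acyclic' (Q : CochainComplex (ModuleCat.{u} A) ℤ)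
    (hflat : ∀ i, Module.Flat A (Q.X i)) (b : ℤ)
    (hb : ∀ i, b ≤ i → ∀ M : ModuleCat.{u} A, IsZero ((TFun Q i).obj M))
    (hac : ∀ i, IsZero (Q.homology i)) (p : ℤ) (M : ModuleCat.{u} A) :
    IsZero ((TFun Q p).obj M) := by
  have hT : ∀ (n : ℕ) (M : ModuleCat.{u} A), IsZero ((TFun Q (b - (n : ℤ))).obj M) := by
    intro n
    induction n with
    | zero =>
      intro M
      simp only [Nat.cast_zero, sub_zero]
      exact hb b le_rfl M
    | succ n ih =>
      intro M
      have hrel : (ComplexShape.up ℤ).Rel (b - ((n + 1 : ℕ) : ℤ)) (b - (n : ℤ)) := by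
        change b - ((n + 1 : ℕ) : ℤ) + 1 = b - (n : ℤ)
        push_cast
        ring
      exact TFunZero.isZero_TFun_obj_of_rel Q hflat _ _ hrel ih (hac _) M
  by_cases hp : p ≤ b
  · have h1 : p = b - ((b - p).toNat : ℤ) := by
      rw [Int.toNat_of_nonneg (by omega)]
      ring
    rw [h1]
    exact hT _ M
  · exact hb p (by omega) M

/-- A quasi-isomorphism from a bounded above complex of flat modules to a complex of flat modules
which is universally acyclic in high degrees stays a quasi-isomorphism after tensoring. -/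
theorem quasiIso_tensor_of_univ_acyclic {G E : CochainComplex (ModuleCat.{u} A) ℤ} (w : G ⟶ E)
    [QuasiIso w] (hG : ∀ i, Module.Flat A (G.X i)) (hE : ∀ i, Module.Flat A (E.X i)) (t : ℤ)
    (hGz : ∀ i, t ≤ i → IsZero (G.X i))
    (hEv : ∀ i, t ≤ i → ∀ M : ModuleCat.{u} A, IsZero ((tensorObj E M).homology i))
    (M : ModuleCat.{u} A) :
    QuasiIso (((tensorRight M).mapHomologicalComplex (ComplexShape.up ℤ)).map w) := by
  have hac := (ConeQis.quasiIso_iff_exactAt_mappingCone w).mp inferInstance
  have hac' : ∀ i, IsZero ((mappingCone w).homology i) := fun i =>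
    (HomologicalComplex.exactAt_iff_isZero_homology _ _).mp (hac i)
  have hflat := ConeBasic.flat_X w hG hE
  have hb : ∀ i, t + 1 ≤ i → ∀ N : ModuleCat.{u} A, IsZero ((TFun (mappingCone w) i).obj N) := by
    intro q hq N
    let ψ := ((tensorRight N).mapHomologicalComplex (ComplexShape.up ℤ)).map (mappingCone.inr w)
    have hiso : ∀ i, t ≤ i + 1 → IsIso (ψ.f i) := by
      intro i hi
      haveI := isIso_inr_f w i (hGz _ hi)
      change IsIso ((tensorRight N).map ((mappingCone.inr w).f i))
      infer_instance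
    have hq1 := quasiIsoAt_of_isIso_f ψ q (hiso _ (by omega)) (hiso _ (by omega)) (hiso _ (by omega))
    rw [quasiIsoAt_iff_isIso_homologyMap] at hq1
    exact IsZero.of_iso (hEv q (by omega) N) (asIso (homologyMap ψ q)).symm
  rw [ConeQis.quasiIso_iff_exactAt_mappingCone]
  intro n
  rw [HomologicalComplex.exactAt_iff_isZero_homology]
  have h1 := isZero_TFun_of_acyclic' (mappingCone w) hflat (t + 1) hb hac' n M
  have e := CochainComplex.mappingCone.mapHomologicalComplexIso w (MonoidalCategory.tensorRight M)
  exact IsZero.of_iso h1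
    ((HomologicalComplex.homologyFunctor (ModuleCat.{u} A) (ComplexShape.up ℤ) n).mapIso e).symm

end Mod

end Groth.Agent.Lib.Helper2.GC2
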