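import Groth.Agent.Lib.Helper2.GC2

/-!
# The Grothendieck complex: algebra (helper2)

A cochain complex `C` (indexed by `ℕ`) of flat modules over a noetherian ring with finite cohomology
such that `C ⊗ M` is acyclic in degrees `≥ t` for all `M`, is computed universally by a bounded above
complex of finite free modules.
-/

set_option autoImplicit false
universe u

open CategoryTheory CategoryTheory.Limits CochainComplex HomologicalComplex

namespace Groth.Agent.Lib.Helper2.GC3

open CohIII Groth.Agent.Lib.helper11 MonoidalCategory Groth.Agent.Lib.Helper2.GC1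
  Groth.Agent.Lib.Helper2.GC2

attribute [-instance] CategoryTheory.ShortComplex.hasHomology_of_preserves
attribute [local instance] HasDerivedCategory.standard

open Groth.Agent.Lib.Helper8 Groth.Agent.Lib.Helper8.PC7 Groth.Agent.Lib.Helper8.PC8
  Groth.Agent.Lib.Helper8.PC18 Groth.Agent.Lib.Helper8.PCMod2 Groth.Agent.Lib.Helper8.PCNoeth

variable {A : Type u} [CommRing A]

/-- the extension to `ℤ` -/
noncomputable abbrev ext (C : CochainComplex (ModuleCat.{u} A) ℕ) : CochainComplex (ModuleCat.{u} A) ℤ :=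
  C.extend ComplexShape.embeddingUpNat

theorem flat_ext_X (C : CochainComplex (ModuleCat.{u} A) ℕ) (hflat : ∀ n, Module.Flat A (C.X n)) (i : ℤ) :
    Module.Flat A ((ext C).X i) := by
  by_cases hi : ∃ n, ComplexShape.embeddingUpNat.f n = i
  · obtain ⟨n, hn⟩ := hi
    haveI := hflat n
    exact Module.Flat.of_linearEquiv (C.extendXIso ComplexShape.embeddingUpNat hn).toLinearEquiv
  · have hz : IsZero ((ext C).X i) := C.isZero_extend_X _ i (by simpa using hi)
    haveI := ModuleCat.subsingleton_of_isZero hz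
    infer_instance

/-- the homology of `(ext C) ⊗ M` in degree `p : ℕ` -/
noncomputable def tensorExtHomologyIso (C : CochainComplex (ModuleCat.{u} A) ℕ) (M : ModuleCat.{u} A) (p : ℕ) :
    (tensorObj (ext C) M).homology (p : ℤ) ≅ (tensorObj C M).homology p :=
  (HomologicalComplex.homologyFunctor _ _ (p : ℤ)).mapIso
      (asIso (mapExtend ComplexShape.embeddingUpNat (tensorRight M) C)) ≪≫
    (tensorObj C M).extendHomologyIso ComplexShape.embeddingUpNat (j := p) (j' := (p : ℤ)) rfl

theorem isZero_tensorExt_homology_neg (C : CochainComplex (ModuleCat.{u} A) ℕ) (M : ModuleCat.{u} A) (i : ℤ)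
    (hi : i < 0) : IsZero ((tensorObj (ext C) M).homology i) := by
  have h1 : IsZero ((tensorObj (ext C) M).X i) := by
    apply (tensorRight M).map_isZero
    apply C.isZero_extend_X
    intro n hn
    change (n : ℤ) = i at hn
    omega
  exact (HomologicalComplex.ExactAt.of_isZero h1).isZero_homology


/-- the homology of `ext C` -/
theorem ext_homology (C : CochainComplex (ModuleCat.{u} A) ℕ) (i : ℤ) :
    (∃ n : ℕ, (n : ℤ) = i ∧ Nonempty ((ext C).homology i ≅ C.homology n)) ∨
      IsZero ((ext C).homology i) := by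
  by_cases hi : 0 ≤ i
  · left
    refine ⟨i.toNat, Int.toNat_of_nonneg hi, ?_⟩
    exact ⟨C.extendHomologyIso ComplexShape.embeddingUpNat (j := i.toNat) (j' := i)
      (Int.toNat_of_nonneg hi)⟩
  · right
    have h1 : IsZero ((ext C).X i) := by
      apply C.isZero_extend_X
      intro n hn
      change (n : ℤ) = i at hn
      omega
    exact (HomologicalComplex.ExactAt.of_isZero h1).isZero_homology

/-- **The Grothendieck complex.** -/
theorem exists_finFree_complex [IsNoetherianRing A]
    (C : CochainComplex (ModuleCat.{u} A) ℕ) (hflat : ∀ n, Module.Flat A (C.X n))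
    (hfin : ∀ n, Module.Finite A (C.homology n)) (t : ℕ)
    (hvan0 : ∀ p : ℕ, t ≤ p → IsZero (C.homology p))
    (hvan : ∀ (M : ModuleCat.{u} A) (p : ℕ), t ≤ p → IsZero ((tensorObj C M).homology p)) :
    ∃ L : CochainComplex (ModuleCat.{u} A) ℤ,
      (∀ i, Module.Finite A (L.X i) ∧ Module.Free A (L.X i)) ∧
      (∃ b : ℤ, ∀ i, b < i → IsZero (L.X i)) ∧
      ∀ (M : ModuleCat.{u} A) (p : ℕ), Nonempty ((tensorObj C M).homology p ≅ T L (p : ℤ) M) := by
  let E := ext C
  let K : Dual.D A := DerivedCategory.Q.obj E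
  have hK : ∀ n : ℤ, Nonempty ((DerivedCategory.homologyFunctor (ModuleCat.{u} A) n).obj K ≅
      E.homology n) := fun n => ⟨hIsoD E n⟩
  have hac : ∀ i : ℤ, (t : ℤ) ≤ i → IsZero (E.homology i) := by
    intro i hi
    rcases ext_homology C i with ⟨n, hn, ⟨e⟩⟩ | h
    · exact (hvan0 n (by omega)).of_iso e
    · exact h
  have hfinE : ∀ i : ℤ, Module.Finite A (E.homology i) := by
    intro i
    rcases ext_homology C i with ⟨n, hn, ⟨e⟩⟩ | h
    · haveI := hfin n
      exact Module.Finite.equiv e.symm.toLinearEquiv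
    · haveI := ModuleCat.subsingleton_of_isZero h
      infer_instance
  have hb : ∃ b : ℤ, ∀ j : ℤ, b < j → Subsingleton (Dual.HD A K j) := by
    refine ⟨t, fun j hj => ?_⟩
    obtain ⟨e⟩ := hK j
    exact ModuleCat.subsingleton_of_isZero ((hac j (by omega)).of_iso e)
  have hfinK : ∀ j : ℤ, Module.Finite A (Dual.HD A K j) := fun j => by
    obtain ⟨e⟩ := hK j
    have := hfinE j
    exact Module.Finite.equiv e.symm.toLinearEquiv
  have hM : ∀ n : ℤ, IsNPC (ffProp A) n (DerivedCategory.Q.obj E) :=
    isPC_of_finite_homology K hb hfinK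
  obtain ⟨G, w, hG, hw, hz⟩ := resolution_zero (ffProp A) ffProp_sum ffProp_hqs ffProp_hql hM
    (t : ℤ) hac
  refine ⟨G, hG.2, hG.1, fun M p => ?_⟩
  haveI := hw
  have hEv : ∀ i : ℤ, (t : ℤ) ≤ i → ∀ N : ModuleCat.{u} A, IsZero ((tensorObj E N).homology i) := by
    intro i hi N
    have h0 : i = ((i.toNat : ℕ) : ℤ) := (Int.toNat_of_nonneg (by omega)).symm
    rw [h0]
    exact (hvan N i.toNat (by omega)).of_iso (tensorExtHomologyIso C N i.toNat)
  have hq := quasiIso_tensor_of_univ_acyclic w
    (fun i => by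
      haveI := (hG.2 i).2
      haveI := (hG.2 i).1
      infer_instance)
    (flat_ext_X C hflat) (t : ℤ) hz hEv M
  have hq1 : QuasiIsoAt (((tensorRight M).mapHomologicalComplex (ComplexShape.up ℤ)).map w) (p : ℤ) :=
    hq.quasiIsoAt (p : ℤ)
  rw [quasiIsoAt_iff_isIso_homologyMap] at hq1
  exact ⟨(tensorExtHomologyIso C M p).symm ≪≫
    (asIso (homologyMap (((tensorRight M).mapHomologicalComplex (ComplexShape.up ℤ)).map w) (p : ℤ))).symm⟩

end Groth.Agent.Lib.Helper2.GC3
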