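import Groth.Agent.Lib.Helper2.GC3
import Groth.Agent.Lib.Helper2.BC5
import Groth.Agent.Lib.Helper4.ProperFinal
import Groth.Agent.S0010

/-!
# The Grothendieck complex of a flat coherent module on a proper scheme (helper2)
-/

set_option backward.isDefEq.respectTransparency.types false
set_option autoImplicit false
universe u
open CategoryTheory CategoryTheory.Limits AlgebraicGeometry Opposite TopologicalSpace TensorProduct
  MonoidalCategory
noncomputable section

namespace Groth.Agent.Lib.Helper2.GC4

open Groth.Agent.Lib.Helper2.BC1 Groth.Agent.Lib.Helper2.BC3 Groth.Agent.Lib.Helper2.BC4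
  Groth.Agent.Lib.Helper2.BC5 Groth.Agent.Lib.Helper2.GC3

/-- a quasi-compact scheme has a finite affine cover -/
theorem exists_finite_affine_cover (X : Scheme.{u}) [CompactSpace X] :
    ∃ (t : ℕ) (U : Fin t → X.Opens), (∀ i, IsAffineOpen (U i)) ∧ ⨆ i, U i = ⊤ := by
  obtain ⟨s, hs, hU⟩ := (isCompact_iff_finite_and_eq_biUnion_affineOpens (X := X) (U := ⊤)).1
    isCompact_univ
  haveI := hs.fintype
  let e := Fintype.equivFin s
  refine ⟨Fintype.card s, fun k => ((e.symm k : s) : X.affineOpens).1, fun k => (e.symm k).1.2, ?_⟩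
  rw [hU]
  apply le_antisymm
  · refine iSup_le fun k => ?_
    exact le_iSup₂_of_le (e.symm k).1 (e.symm k).2 le_rfl
  · refine iSup₂_le fun i hi => ?_
    refine le_iSup_of_le (e ⟨i, hi⟩) ?_
    simp

/-- in a scheme separated over an affine base, finite intersections of affine opens are affine -/
theorem isAffineOpen_inf_of_isSeparated {X S : Scheme.{u}} (f : X ⟶ S) [IsSeparated f] [IsAffine S]
    (V W : X.Opens) (hV : IsAffineOpen V) (hW : IsAffineOpen W) : IsAffineOpen (V ⊓ W) := by
  haveI : IsAffineHom (pullback.diagonal f) := inferInstance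
  exact (isAffineHom_diagonal_iff (f := f)).1 inferInstance ⊤ (isAffineOpen_top S) V le_top W le_top hV hW

theorem isAffineOpen_biInf {X : Scheme.{u}}
    (hd : ∀ V W : X.Opens, IsAffineOpen V → IsAffineOpen W → IsAffineOpen (V ⊓ W))
    {ι : Type u} (U : ι → X.Opens) (hU : ∀ i, IsAffineOpen (U i)) (s : Finset ι) (hs : s.Nonempty) :
    IsAffineOpen (⨅ i ∈ s, U i) := by
  classical
  induction hs using Finset.Nonempty.cons_induction with
  | singleton a => simpa using hU a
  | cons a s ha hs ih =>
    rw [Finset.cons_eq_insert, Finset.iInf_insert]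
    exact hd _ _ (hU a) ih


/-- **The Grothendieck complex** of a flat coherent module on a proper scheme over a noetherian ring. -/
theorem exists_grothendieck_complex (A : Type u) [CommRing A] [IsNoetherianRing A] (X : Scheme.{u})
    [X.Over (Spec (CommRingCat.of A))] [IsProper (X ↘ Spec (CommRingCat.of A))] (F : X.Modules)
    (hF : Coh.IsCoh F) (hfl : FlatMod.IsFlatOver (X ↘ Spec (CommRingCat.of A)) F) :
    ∃ L : CochainComplex (ModuleCat.{u} A) ℤ,
      (∀ i, Module.Finite A (L.X i) ∧ Module.Free A (L.X i)) ∧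
      (∃ b : ℤ, ∀ i, b < i → IsZero (L.X i)) ∧
      ∀ (M : Type u) [AddCommGroup M] [Module A M] (p : ℕ),
        Nonempty (Coh.HH X (CohIII.tensorA A F M) p ≃+ CohIII.T L (p : ℤ) (ModuleCat.of A M)) := by
  haveI : F.IsQuasicoherent := hF.1
  haveI : CompactSpace X := QuasiCompact.compactSpace_of_compactSpace (X ↘ Spec (CommRingCat.of A))
  obtain ⟨t, U0, hU0, hcov0⟩ := exists_finite_affine_cover X
  let U : ULift.{u} (Fin t) → X.Opens := fun i => U0 i.down
  have hcov : ⨆ i, U i = ⊤ := by
    rw [← hcov0]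
    apply le_antisymm
    · exact iSup_le fun i => le_iSup U0 i.down
    · exact iSup_le fun i => le_iSup U ⟨i⟩
  have hd : ∀ V W : X.Opens, IsAffineOpen V → IsAffineOpen W → IsAffineOpen (V ⊓ W) :=
    isAffineOpen_inf_of_isSeparated (X ↘ Spec (CommRingCat.of A))
  have hU : ∀ s : Finset (ULift.{u} (Fin t)), s.Nonempty → IsAffineOpen (⨅ i ∈ s, U i) :=
    isAffineOpen_biInf hd U (fun i => hU0 i.down)
  have hqM : ∀ (M : Type u) [AddCommGroup M] [Module A M], Coh.IsQCoh (CohIII.tensorA A F M) := by
    intro M _ _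
    rw [tensorA_eq]
    change SheafOfModules.IsQuasicoherent (CohB1.tensorMod F (pullTilde A (X := X) M))
    infer_instance
  obtain ⟨L, hL1, hL2, hL3⟩ := exists_finFree_complex (cechA A F U)
    (flat_cechA_X A U F hfl hU)
    (fun n => by
      obtain ⟨e⟩ := nonempty_linearEquiv A F U hcov hU n
      haveI := Groth.Agent.Lib.Helper4.ProperFinal.finite_HH A X F hF n
      exact Module.Finite.equiv e.symm)
    t
    (fun p hp => by
      obtain ⟨e⟩ := nonempty_linearEquiv A F U hcov hU p
      haveI : Subsingleton (Coh.HH X F p) := Groth.Agent.S0010.result X t U0 hU0 hcov0 hd F p hp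
      haveI := e.toEquiv.subsingleton
      exact ModuleCat.isZero_of_subsingleton _)
    (fun M p hp => by
      obtain ⟨e⟩ := nonempty_equiv_tensor A M F U hcov hU p
      haveI := hqM M
      haveI : Subsingleton (Coh.HH X (CohIII.tensorA A F M) p) :=
        Groth.Agent.S0010.result X t U0 hU0 hcov0 hd _ p hp
      haveI := e.symm.toEquiv.subsingleton
      exact ModuleCat.isZero_of_subsingleton _)
  refine ⟨L, hL1, hL2, fun M _ _ p => ?_⟩
  obtain ⟨e⟩ := nonempty_equiv_tensor A M F U hcov hU p
  obtain ⟨i⟩ := hL3 (ModuleCat.of A M) p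
  exact ⟨e.trans i.toLinearEquiv.toAddEquiv⟩

end Groth.Agent.Lib.Helper2.GC4
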