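import Groth.Agent.Lib.Helper2.GC3

/-!
# The Grothendieck complex, naturally in the module (helper2)
-/

set_option autoImplicit false
set_option backward.isDefEq.respectTransparency false
universe u

open CategoryTheory CategoryTheory.Limits CochainComplex HomologicalComplex

namespace Groth.Agent.Lib.Helper2.GN1

open Groth.Agent.Lib.Helper2.GC1

section Extend

variable {ι ι' : Type*} {c : ComplexShape ι} {c' : ComplexShape ι'} (e : c.Embedding c') [e.IsRelIff]
  {𝒜 ℬ : Type*} [Category 𝒜] [Category ℬ] [Preadditive 𝒜] [Preadditive ℬ] [HasZeroObject 𝒜] [HasZeroObject ℬ]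
  {Φ Φ' : 𝒜 ⥤ ℬ} [Φ.Additive] [Φ'.Additive] (τ : Φ ⟶ Φ') (K : HomologicalComplex 𝒜 c)

theorem mapExtend_f_hom {i : ι} {i' : ι'} (hi : e.f i = i') :
    (mapExtend e Φ K).f i' ≫ (((Φ.mapHomologicalComplex c).obj K).extendXIso e hi).hom =
      Φ.map (K.extendXIso e hi).hom := by
  subst hi
  rw [mapExtend, e.liftExtend_f _ _ rfl]
  simp only [HomologicalComplex.restrictionXIso, restrictMap, eqToIso_refl, Iso.refl_inv,
    Category.assoc, Iso.inv_hom_id, Category.comp_id]
  exact Category.id_comp _

/-- naturality of `mapExtend` in the functor -/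
theorem mapExtend_naturality :
    (NatTrans.mapHomologicalComplex τ c').app (K.extend e) ≫ mapExtend e Φ' K =
      mapExtend e Φ K ≫ HomologicalComplex.extendMap ((NatTrans.mapHomologicalComplex τ c).app K) e := by
  ext i'
  by_cases hi' : ∃ i, e.f i = i'
  · obtain ⟨i, hi⟩ := hi'
    rw [← cancel_mono (((Φ'.mapHomologicalComplex c).obj K).extendXIso e hi).hom]
    change (τ.app _ ≫ (mapExtend e Φ' K).f i') ≫ _ = ((mapExtend e Φ K).f i' ≫
      (HomologicalComplex.extendMap ((NatTrans.mapHomologicalComplex τ c).app K) e).f i') ≫ _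
    rw [Category.assoc, mapExtend_f_hom e K hi, HomologicalComplex.extendMap_f _ e hi]
    simp only [Category.assoc, Iso.inv_hom_id, Category.comp_id]
    rw [← Category.assoc, mapExtend_f_hom e K hi]
    exact (τ.naturality _).symm
  · exact (HomologicalComplex.isZero_extend_X _ e i' (by simpa using hi')).eq_of_tgt _ _

end Extend


section Mod

open CohIII Groth.Agent.Lib.helper11 MonoidalCategory Groth.Agent.Lib.Helper2.GC2 Groth.Agent.Lib.Helper2.GC3

attribute [-instance] CategoryTheory.ShortComplex.hasHomology_of_preserves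
attribute [local instance] HasDerivedCategory.standard

open Groth.Agent.Lib.Helper8 Groth.Agent.Lib.Helper8.PC7 Groth.Agent.Lib.Helper8.PC8
  Groth.Agent.Lib.Helper8.PC18 Groth.Agent.Lib.Helper8.PCMod2 Groth.Agent.Lib.Helper8.PCNoeth

variable {A : Type u} [CommRing A]

theorem tensorExtHomologyIso_naturality (C : CochainComplex (ModuleCat.{u} A) ℕ) {M N : ModuleCat.{u} A}
    (g : M ⟶ N) (p : ℕ) :
    homologyMap (tensorMap (ext C) g) (p : ℤ) ≫ (tensorExtHomologyIso C N p).hom =
      (tensorExtHomologyIso C M p).hom ≫ homologyMap (tensorMap C g) p := by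
  have h1 := mapExtend_naturality ComplexShape.embeddingUpNat ((tensoringRight (ModuleCat.{u} A)).map g) C
  change homologyMap (tensorMap (ext C) g) (p : ℤ) ≫
      (homologyMap (mapExtend ComplexShape.embeddingUpNat (tensorRight N) C) (p : ℤ) ≫
        ((tensorObj C N).extendHomologyIso ComplexShape.embeddingUpNat (j := p) (j' := (p : ℤ)) rfl).hom) =
    (homologyMap (mapExtend ComplexShape.embeddingUpNat (tensorRight M) C) (p : ℤ) ≫
        ((tensorObj C M).extendHomologyIso ComplexShape.embeddingUpNat (j := p) (j' := (p : ℤ)) rfl).hom) ≫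
      homologyMap (tensorMap C g) p
  rw [← Category.assoc, ← homologyMap_comp]
  have h2 : tensorMap (ext C) g ≫ mapExtend ComplexShape.embeddingUpNat (tensorRight N) C =
      mapExtend ComplexShape.embeddingUpNat (tensorRight M) C ≫
        HomologicalComplex.extendMap (tensorMap C g) ComplexShape.embeddingUpNat := h1
  rw [h2, homologyMap_comp, Category.assoc, Category.assoc,
    HomologicalComplex.extendHomologyIso_hom_naturality]

/-- **The Grothendieck complex**, naturally in the module. -/
theorem exists_finFree_complex_natural [IsNoetherianRing A]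
    (C : CochainComplex (ModuleCat.{u} A) ℕ) (hflat : ∀ n, Module.Flat A (C.X n))
    (hfin : ∀ n, Module.Finite A (C.homology n)) (t : ℕ)
    (hvan0 : ∀ p : ℕ, t ≤ p → IsZero (C.homology p))
    (hvan : ∀ (M : ModuleCat.{u} A) (p : ℕ), t ≤ p → IsZero ((tensorObj C M).homology p)) :
    ∃ L : CochainComplex (ModuleCat.{u} A) ℤ,
      (∀ i, Module.Finite A (L.X i) ∧ Module.Free A (L.X i)) ∧
      (∀ i : ℤ, (t : ℤ) ≤ i → IsZero (L.X i)) ∧
      ∀ p : ℕ, Nonempty (TFun C p ≅ TFun L (p : ℤ)) := by
  let E := ext C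
  let K : Dual.D A := DerivedCategory.Q.obj E
  have hK : ∀ n : ℤ, Nonempty ((DerivedCategory.homologyFunctor (ModuleCat.{u} A) n).obj K ≅
      E.homology n) := fun n => ⟨hIsoD E n⟩
  have hac : ∀ i : ℤ, (t : ℤ) ≤ i → IsZero (E.homology i) := by
    intro i hi
    rcases ext_homology C i with ⟨n, hn, ⟨e⟩⟩ | h
    · exact (hvan0 n (by omega)).of_iso e
    · exact h
  have hfinE : ∀ i : ℤ, Module.Finite A (E.homology i) := by
    intro i
    rcases ext_homology C i with ⟨n, hn, ⟨e⟩⟩ | h
    · haveI := hfin n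
      exact Module.Finite.equiv e.symm.toLinearEquiv
    · haveI := ModuleCat.subsingleton_of_isZero h
      infer_instance
  have hb : ∃ b : ℤ, ∀ j : ℤ, b < j → Subsingleton (Dual.HD A K j) := by
    refine ⟨t, fun j hj => ?_⟩
    obtain ⟨e⟩ := hK j
    exact ModuleCat.subsingleton_of_isZero ((hac j (by omega)).of_iso e)
  have hfinK : ∀ j : ℤ, Module.Finite A (Dual.HD A K j) := fun j => by
    obtain ⟨e⟩ := hK j
    have := hfinE j
    exact Module.Finite.equiv e.symm.toLinearEquiv
  have hM : ∀ n : ℤ, IsNPC (ffProp A) n (DerivedCategory.Q.obj E) :=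
    isPC_of_finite_homology K hb hfinK
  obtain ⟨G, w, hG, hw, hz⟩ := resolution_zero (ffProp A) ffProp_sum ffProp_hqs ffProp_hql hM
    (t : ℤ) hac
  refine ⟨G, hG.2, hz, fun p => ?_⟩
  haveI := hw
  have hEv : ∀ i : ℤ, (t : ℤ) ≤ i → ∀ N : ModuleCat.{u} A, IsZero ((tensorObj E N).homology i) := by
    intro i hi N
    have h0 : i = ((i.toNat : ℕ) : ℤ) := (Int.toNat_of_nonneg (by omega)).symm
    rw [h0]
    exact (hvan N i.toNat (by omega)).of_iso (tensorExtHomologyIso C N i.toNat)
  have hq : ∀ M : ModuleCat.{u} A,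
      QuasiIso (((tensorRight M).mapHomologicalComplex (ComplexShape.up ℤ)).map w) := fun M =>
    quasiIso_tensor_of_univ_acyclic w
      (fun i => by
        haveI := (hG.2 i).2
        haveI := (hG.2 i).1
        infer_instance)
      (flat_ext_X C hflat) (t : ℤ) hz hEv M
  have hq1 : ∀ M : ModuleCat.{u} A, IsIso (homologyMap
      (((tensorRight M).mapHomologicalComplex (ComplexShape.up ℤ)).map w) (p : ℤ)) := fun M => by
    have := (hq M).quasiIsoAt (p : ℤ)
    rwa [quasiIsoAt_iff_isIso_homologyMap] at this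
  refine ⟨NatIso.ofComponents (fun M => (tensorExtHomologyIso C M p).symm ≪≫
    (asIso (homologyMap (((tensorRight M).mapHomologicalComplex (ComplexShape.up ℤ)).map w)
      (p : ℤ))).symm) ?_⟩
  intro M N g
  -- naturality
  have n1 : homologyMap (tensorMap C g) p ≫ (tensorExtHomologyIso C N p).inv =
      (tensorExtHomologyIso C M p).inv ≫ homologyMap (tensorMap E g) (p : ℤ) := by
    rw [Iso.comp_inv_eq, Category.assoc, Iso.eq_inv_comp]
    exact (tensorExtHomologyIso_naturality C g p).symm
  have n2 : tensorMap G g ≫ ((tensorRight N).mapHomologicalComplex (ComplexShape.up ℤ)).map w =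
      ((tensorRight M).mapHomologicalComplex (ComplexShape.up ℤ)).map w ≫ tensorMap E g :=
    ((NatTrans.mapHomologicalComplex ((tensoringRight (ModuleCat.{u} A)).map g)
      (ComplexShape.up ℤ)).naturality w).symm
  have n3 : homologyMap (tensorMap E g) (p : ℤ) ≫
      inv (homologyMap (((tensorRight N).mapHomologicalComplex (ComplexShape.up ℤ)).map w) (p : ℤ)) =
      inv (homologyMap (((tensorRight M).mapHomologicalComplex (ComplexShape.up ℤ)).map w) (p : ℤ)) ≫
        homologyMap (tensorMap G g) (p : ℤ) := by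
    rw [IsIso.comp_inv_eq, Category.assoc, IsIso.eq_inv_comp, ← homologyMap_comp, ← homologyMap_comp, n2]
  change homologyMap (tensorMap C g) p ≫ (tensorExtHomologyIso C N p).inv ≫ inv _ =
    ((tensorExtHomologyIso C M p).inv ≫ inv _) ≫ homologyMap (tensorMap G g) (p : ℤ)
  rw [← Category.assoc, n1, Category.assoc, n3, Category.assoc]

end Mod

end Groth.Agent.Lib.Helper2.GN1
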