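import Groth.Agent.Lib.Helper2.GN1
import Groth.Agent.Lib.Helper2.GC4
import Groth.Agent.Lib.Helper2.BN3

/-!
# The Grothendieck complex of a flat coherent module on a proper scheme, naturally in the module
(helper2)

`exists_grothendieck_complex_natural`: for `X` proper over a noetherian ring `A` and `F` coherent and
flat over `A` there is a bounded above complex `L` of finite free `A`-modules with
`H^p(X, s^* M~ ⊗ F) ≅ H^p(L ⊗_A M)` naturally in the `A`-module `M`, for every `p`.
-/

set_option backward.isDefEq.respectTransparency.types false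
set_option autoImplicit false
universe u
open CategoryTheory CategoryTheory.Limits AlgebraicGeometry Opposite TopologicalSpace TensorProduct
  MonoidalCategory
noncomputable section

namespace Groth.Agent.Lib.Helper2.GN2

open Groth.Agent.Lib.Helper2.BC1 Groth.Agent.Lib.Helper2.BC3 Groth.Agent.Lib.Helper2.BC4
  Groth.Agent.Lib.Helper2.BC5 Groth.Agent.Lib.Helper2.GC3 Groth.Agent.Lib.Helper2.GC4
  Groth.Agent.Lib.Helper2.GN1 Groth.Agent.Lib.Helper2.BN1 Groth.Agent.Lib.Helper2.BN3

/-- **The Grothendieck complex**, naturally in the module: `X` proper over a noetherian ring `A`,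
`F` coherent and flat over `A`; there is a complex `L` of finite free `A`-modules, zero in degrees
`≥ t` for some `t`, such that `M ↦ H^p(X, s^* M~ ⊗ F)` is isomorphic to `M ↦ H^p(L ⊗_A M)` as
functors from `A`-modules to abelian groups, for all `p`. -/
theorem exists_grothendieck_complex_natural (A : Type u) [CommRing A] [IsNoetherianRing A]
    (X : Scheme.{u}) [X.Over (Spec (CommRingCat.of A))] [IsProper (X ↘ Spec (CommRingCat.of A))]
    (F : X.Modules) (hF : Coh.IsCoh F) (hfl : FlatMod.IsFlatOver (X ↘ Spec (CommRingCat.of A)) F) :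
    ∃ (L : CochainComplex (ModuleCat.{u} A) ℤ) (t : ℕ),
      (∀ i, Module.Finite A (L.X i) ∧ Module.Free A (L.X i)) ∧
      (∀ i : ℤ, (t : ℤ) ≤ i → IsZero (L.X i)) ∧
      ∀ p : ℕ, Nonempty (CohIII.tensorAFunctor A F ⋙ CohIII.HAb X p ≅
        CohIII.TFun L (p : ℤ) ⋙ forget₂ (ModuleCat.{u} A) AddCommGrpCat.{u}) := by
  haveI : F.IsQuasicoherent := hF.1
  haveI : CompactSpace X := QuasiCompact.compactSpace_of_compactSpace (X ↘ Spec (CommRingCat.of A))
  obtain ⟨t, U0, hU0, hcov0⟩ := exists_finite_affine_cover X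
  let U : ULift.{u} (Fin t) → X.Opens := fun i => U0 i.down
  have hcov : ⨆ i, U i = ⊤ := by
    rw [← hcov0]
    apply le_antisymm
    · exact iSup_le fun i => le_iSup U0 i.down
    · exact iSup_le fun i => le_iSup U ⟨i⟩
  have hd : ∀ V W : X.Opens, IsAffineOpen V → IsAffineOpen W → IsAffineOpen (V ⊓ W) :=
    isAffineOpen_inf_of_isSeparated (X ↘ Spec (CommRingCat.of A))
  have hU : ∀ s : Finset (ULift.{u} (Fin t)), s.Nonempty → IsAffineOpen (⨅ i ∈ s, U i) :=
    isAffineOpen_biInf hd U (fun i => hU0 i.down)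
  have hnat := fun p => nonempty_natIso A F U hcov hU p
  obtain ⟨L, hL1, hL2, hL3⟩ := exists_finFree_complex_natural (cechA A F U)
    (flat_cechA_X A U F hfl hU)
    (fun n => by
      obtain ⟨e⟩ := nonempty_linearEquiv A F U hcov hU n
      haveI := Groth.Agent.Lib.Helper4.ProperFinal.finite_HH A X F hF n
      exact Module.Finite.equiv e.symm)
    t
    (fun p hp => by
      obtain ⟨e⟩ := nonempty_linearEquiv A F U hcov hU p
      haveI : Subsingleton (Coh.HH X F p) := Groth.Agent.S0010.result X t U0 hU0 hcov0 hd F p hp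
      haveI := e.toEquiv.subsingleton
      exact ModuleCat.isZero_of_subsingleton _)
    (fun M p hp => by
      obtain ⟨e⟩ := hnat p
      have e1 := e.app M
      haveI hq : Coh.IsQCoh (TA A F M) := (inferInstance : (TA A F M).IsQuasicoherent)
      haveI : Subsingleton (Coh.HH X (TA A F M) p) :=
        Groth.Agent.S0010.result X t U0 hU0 hcov0 hd _ p hp
      have hz : IsZero ((CohIII.tensorAFunctor A F ⋙ CohIII.HAb X p).obj M) := by
        haveI : Subsingleton ((CohIII.tensorAFunctor A F ⋙ CohIII.HAb X p).obj M : AddCommGrpCat.{u}) :=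
          (inferInstance : Subsingleton (Coh.HH X (TA A F M) p))
        exact AddCommGrpCat.isZero_of_subsingleton _
      have hz2 : IsZero ((forget₂ (ModuleCat.{u} A) AddCommGrpCat.{u}).obj
          ((CohIII.tensorObj (cechA A F U) M).homology p)) := hz.of_iso e1.symm
      haveI : Subsingleton ((CohIII.tensorObj (cechA A F U) M).homology p : ModuleCat.{u} A) :=
        AddCommGrpCat.subsingleton_of_isZero hz2
      exact ModuleCat.isZero_of_subsingleton _)
  refine ⟨L, t, hL1, hL2, fun p => ?_⟩
  obtain ⟨e1⟩ := hnat p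
  obtain ⟨e2⟩ := hL3 p
  exact ⟨e1 ≪≫ Functor.isoWhiskerRight e2 (forget₂ (ModuleCat.{u} A) AddCommGrpCat.{u})⟩

end Groth.Agent.Lib.Helper2.GN2
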