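import Mathlib
import Groth.Prelude.Def_ega3

/-!
# `TFun` of isomorphic complexes (helper2)
-/

set_option autoImplicit false
universe u
open CategoryTheory CategoryTheory.Limits MonoidalCategory

namespace Groth.Agent.Lib.Helper2.GN4

open CohIII

variable {A : Type u} [CommRing A] {ι : Type} {c : ComplexShape ι}

/-- a morphism of complexes induces a natural transformation of the functors `T_p` -/
noncomputable def TFunMap {P P' : HomologicalComplex (ModuleCat.{u} A) c} (f : P ⟶ P') (p : ι) :
    TFun P p ⟶ TFun P' p where
  app M := HomologicalComplex.homologyMap (((tensorRight M).mapHomologicalComplex c).map f) p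
  naturality M N g := by
    change HomologicalComplex.homologyMap (tensorMap P g) p ≫ HomologicalComplex.homologyMap _ p =
      HomologicalComplex.homologyMap _ p ≫ HomologicalComplex.homologyMap (tensorMap P' g) p
    rw [← HomologicalComplex.homologyMap_comp, ← HomologicalComplex.homologyMap_comp]
    congr 1
    exact ((NatTrans.mapHomologicalComplex ((tensoringRight (ModuleCat.{u} A)).map g) c).naturality f).symm

/-- isomorphic complexes have isomorphic functors `T_p` -/
noncomputable def TFunIso {P P' : HomologicalComplex (ModuleCat.{u} A) c} (e : P ≅ P') (p : ι) :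
    TFun P p ≅ TFun P' p where
  hom := TFunMap e.hom p
  inv := TFunMap e.inv p
  hom_inv_id := by
    ext M : 2
    change HomologicalComplex.homologyMap _ p ≫ HomologicalComplex.homologyMap _ p = 𝟙 _
    rw [← HomologicalComplex.homologyMap_comp, ← Functor.map_comp, e.hom_inv_id,
      CategoryTheory.Functor.map_id, HomologicalComplex.homologyMap_id]
  inv_hom_id := by
    ext M : 2
    change HomologicalComplex.homologyMap _ p ≫ HomologicalComplex.homologyMap _ p = 𝟙 _
    rw [← HomologicalComplex.homologyMap_comp, ← Functor.map_comp, e.inv_hom_id,
      CategoryTheory.Functor.map_id, HomologicalComplex.homologyMap_id]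

end Groth.Agent.Lib.Helper2.GN4
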