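import Groth.Agent.Lib.Helper2.Kos2
import Groth.Agent.Lib.Helper2.ProjCoh8
import Groth.Agent.Lib.Helper28.RelTildeMap
import Groth.Prelude.Def_KLin

/-!
# Multiplication by homogeneous polynomials on the twisting sheaves of `P^n` (helper2)
-/

set_option backward.isDefEq.respectTransparency.types false
set_option autoImplicit false
universe u
open CategoryTheory CategoryTheory.Limits AlgebraicGeometry Opposite TopologicalSpace

noncomputable section

namespace Groth.Agent.Lib.Helper2.GSplit1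

open Groth.Agent.Lib.Helper2.ProjCoh3 Groth.Agent.Lib.Helper2.ProjCoh4 Groth.Agent.Lib.Helper2.ProjCoh5
  Groth.Agent.Lib.Helper2.SerreFin2 Groth.Agent.Lib.Helper28 Groth.Agent.Lib.Helper28.QCohLoc
  Groth.Agent.Lib.Helper2.Dual1 Groth.Agent.Lib.Helper2.Kos2

variable (n : ℕ) (R : Type u) [CommRing R]

/-- multiplication by a homogeneous polynomial of degree `c`. -/
def mulP {c : ℕ} (P : PA n R) (hP : P ∈ gr n R c) {t t' : ℤ} (h : (c : ℤ) + t = t') :
    Ld n R t ⟶ Ld n R t' :=
  mulHom (gr n R) h (TwistGen.gsec (gr n R) P hP)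

theorem val_mulP {c : ℕ} (P : PA n R) (hP : P ∈ gr n R c) {t t' : ℤ} (h : (c : ℤ) + t = t')
    (W : (Proj (gr n R)).Opens) (s : Γ(Twist.twist (gr n R) t, W)) (x : W) :
    TwistQC.val (gr n R) ((mulP n R P hP h).app W s) x =
      Localization.mk P 1 * TwistQC.val (gr n R) s x := by
  have h1 : (mulP n R P hP h).app W s = mulB (gr n R) h
      (res (Twist.twist (gr n R) ((c : ℕ) : ℤ)) (le_top : W ≤ ⊤) (TwistGen.gsec (gr n R) P hP)) s :=
    rfl
  exact (congrArg (fun z => TwistQC.val (gr n R) z x) h1).trans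
    ((val_mulB (gr n R) h _ s x).trans rfl)

theorem mulP_add_app {c : ℕ} (P Q : PA n R) (hP : P ∈ gr n R c) (hQ : Q ∈ gr n R c) {t t' : ℤ}
    (h : (c : ℤ) + t = t') (W : (Proj (gr n R)).Opens) (s : Γ(Twist.twist (gr n R) t, W)) :
    (mulP n R (P + Q) (Submodule.add_mem _ hP hQ) h).app W s =
      (mulP n R P hP h).app W s + (mulP n R Q hQ h).app W s := by
  apply TwistQC.ext_val
  intro x
  refine (val_mulP n R (P + Q) _ h W s x).trans ?_
  refine Eq.trans ?_ (TwistMul.val_add (gr n R) ((mulP n R P hP h).app W s)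
    ((mulP n R Q hQ h).app W s) x).symm
  rw [val_mulP, val_mulP, ← Localization.add_mk_self, add_mul]

theorem mulP_add {c : ℕ} (P Q : PA n R) (hP : P ∈ gr n R c) (hQ : Q ∈ gr n R c) {t t' : ℤ}
    (h : (c : ℤ) + t = t') :
    mulP n R (P + Q) (Submodule.add_mem _ hP hQ) h = mulP n R P hP h + mulP n R Q hQ h := by
  apply Scheme.Modules.hom_ext
  intro W
  ext s
  exact mulP_add_app n R P Q hP hQ h W s

theorem smulMod_app (a : R) {t : ℤ} (W : (Proj (gr n R)).Opens)
    (s : Γ(Twist.twist (gr n R) t, W)) :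
    (Formal.smulMod R (Ld n R t) a).app W s = ProjCoh8.smulSec a s := rfl

theorem mk_smul (a : R) (P : PA n R) (x : Proj (gr n R)) :
    (Localization.mk (a • P) 1 : Twist.Loc (gr n R) x) =
      Localization.mk (MvPolynomial.C a) 1 * Localization.mk P 1 := by
  rw [Localization.mk_mul, one_mul, MvPolynomial.smul_eq_C_mul]

theorem mulP_smul_app {c : ℕ} (a : R) (P : PA n R) (hP : P ∈ gr n R c) {t t' : ℤ}
    (h : (c : ℤ) + t = t') (W : (Proj (gr n R)).Opens) (s : Γ(Twist.twist (gr n R) t, W)) :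
    (mulP n R (a • P) (Submodule.smul_mem _ a hP) h).app W s =
      (mulP n R P hP h).app W (ProjCoh8.smulSec a s) := by
  apply TwistQC.ext_val
  intro x
  obtain ⟨j, hj, hx⟩ := exists_chart n R x.1
  rw [val_mulP, val_mulP, ProjCoh8.smulSec_eq, TwistQC.val_smul,
    ProjCoh8.val_valO_rho (gr n R) (X_mem n R ⟨j, hj⟩) Nat.one_pos _ W x hx, mk_smul]
  have h0 : ((algebraMap R (gr n R 0) a : gr n R 0) : PA n R) = MvPolynomial.C a := rfl
  rw [h0]
  ring

theorem mulP_smul {c : ℕ} (a : R) (P : PA n R) (hP : P ∈ gr n R c) {t t' : ℤ}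
    (h : (c : ℤ) + t = t') :
    mulP n R (a • P) (Submodule.smul_mem _ a hP) h = a • mulP n R P hP h := by
  rw [KLin.smul_def]
  apply Scheme.Modules.hom_ext
  intro W
  ext s
  exact mulP_smul_app n R a P hP h W s

theorem mk_ne_zero [IsDomain R] (P : PA n R) (hP0 : P ≠ 0) (x : Proj (gr n R)) :
    (Localization.mk P 1 : Twist.Loc (gr n R) x) ≠ 0 := by
  intro h0
  have hle : x.asHomogeneousIdeal.toIdeal.primeCompl ≤ nonZeroDivisors (PA n R) :=
    Ideal.primeCompl_le_nonZeroDivisors _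
  have hinj := IsLocalization.injective (Twist.Loc (gr n R) x) hle
  apply hP0
  apply hinj
  rw [map_zero, ← h0]
  exact (Localization.mk_one_eq_algebraMap P).symm

theorem mulP_app_injective [IsDomain R] {c : ℕ} (P : PA n R) (hP : P ∈ gr n R c) (hP0 : P ≠ 0)
    {t t' : ℤ} (h : (c : ℤ) + t = t') (W : (Proj (gr n R)).Opens) :
    Function.Injective ((mulP n R P hP h).app W) := by
  intro s s' hss
  apply TwistQC.ext_val
  intro x
  have h1 : TwistQC.val (gr n R) ((mulP n R P hP h).app W s) x =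
      TwistQC.val (gr n R) ((mulP n R P hP h).app W s') x :=
    congrArg (fun z => TwistQC.val (gr n R) z x) hss
  rw [val_mulP, val_mulP] at h1
  have hle : x.1.asHomogeneousIdeal.toIdeal.primeCompl ≤ nonZeroDivisors (PA n R) :=
    Ideal.primeCompl_le_nonZeroDivisors _
  haveI : IsDomain (Twist.Loc (gr n R) x.1) :=
    IsLocalization.isDomain_localization hle
  exact mul_left_cancel₀ (mk_ne_zero n R P hP0 x.1) h1

theorem mono_mulP [IsDomain R] {c : ℕ} (P : PA n R) (hP : P ∈ gr n R c) (hP0 : P ≠ 0)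
    {t t' : ℤ} (h : (c : ℤ) + t = t') : Mono (mulP n R P hP h) :=
  Groth.Agent.Lib.Helper28.QCohLoc.mono_of_injective _
    (fun W => mulP_app_injective n R P hP hP0 h W)

end Groth.Agent.Lib.Helper2.GSplit1
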