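import Groth.Agent.Lib.Helper2.GSplit1
import Groth.Agent.Lib.Helper2.GSplit2
import Groth.Agent.Lib.Helper2.SerreVan
import Groth.Agent.Lib.Helper2.ProjCoh11

/-!
# Vanishing of `H^0(E(t))` for `t ≪ 0`, `E` flat coherent on `P^n_k`, `n ≥ 1` (helper2)
-/

set_option backward.isDefEq.respectTransparency.types false
set_option autoImplicit false
universe u
open CategoryTheory CategoryTheory.Limits AlgebraicGeometry Opposite TopologicalSpace

noncomputable section

namespace Groth.Agent.Lib.Helper2.GSplit3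

open Groth.Agent.Lib.Helper2.ProjCoh3 Groth.Agent.Lib.Helper2.ProjCoh4 Groth.Agent.Lib.Helper2.ProjCoh5
  Groth.Agent.Lib.Helper2.SerreFin2 Groth.Agent.Lib.Helper2.Kos2 Groth.Agent.Lib.Helper2.GSplit1
  Groth.Agent.Lib.Helper2.GSplit2 Groth.Agent.Lib.Helper2.SerreVan

variable (n : ℕ) (k : Type u) [Field k] (E : (CohB1.ProjSpace n k).Modules)

/-- `H^0(E(t))`. -/
abbrev W (t : ℤ) : Type u :=
  Coh.HH (CohB1.ProjSpace n k) (CohB1.tensorMod E (Twist.twistProjSpace n k t)) 0

/-- the action of a homogeneous polynomial on `H^0(E(*))`. -/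
def Op {c : ℕ} (P : PA n k) (hP : P ∈ gr n k c) {t t' : ℤ} (h : (c : ℤ) + t = t') :
    W n k E t →ₗ[k] W n k E t' :=
  Canon.HHlin k ((TL E).map (mulP n k P hP h)) 0

theorem Op_add {c : ℕ} (P Q : PA n k) (hP : P ∈ gr n k c) (hQ : Q ∈ gr n k c) {t t' : ℤ}
    (h : (c : ℤ) + t = t') (v : W n k E t) :
    Op n k E (P + Q) (Submodule.add_mem _ hP hQ) h v = Op n k E P hP h v + Op n k E Q hQ h v := by
  have h1 : (TL E).map (mulP n k (P + Q) (Submodule.add_mem _ hP hQ) h) =
      (TL E).map (mulP n k P hP h) + (TL E).map (mulP n k Q hQ h) := by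
    rw [mulP_add, Functor.map_add]
  exact (congrArg (fun φ => Canon.HHlin k φ 0 v) h1).trans (HHlin_add_apply k _ _ 0 v)

theorem Op_smul {c : ℕ} (a : k) (P : PA n k) (hP : P ∈ gr n k c) {t t' : ℤ}
    (h : (c : ℤ) + t = t') (v : W n k E t) :
    Op n k E (a • P) (Submodule.smul_mem _ a hP) h v = a • Op n k E P hP h v := by
  have h1 : (TL E).map (mulP n k (a • P) (Submodule.smul_mem _ a hP) h) =
      a • (TL E).map (mulP n k P hP h) := by
    rw [mulP_smul, TL_map_smul]
  exact (congrArg (fun φ => Canon.HHlin k φ 0 v) h1).trans (HHlin_smul_apply k a _ 0 v)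

theorem Op_injective (hE : FlatMod.IsFlat E) {c : ℕ} (P : PA n k) (hP : P ∈ gr n k c)
    (hP0 : P ≠ 0) {t t' : ℤ} (h : (c : ℤ) + t = t') : Function.Injective (Op n k E P hP h) := by
  haveI := mono_mulP n k P hP hP0 h
  haveI := mono_TL_map E hE (mulP n k P hP h)
  exact injective_HHlin_zero_of_mono k ((TL E).map (mulP n k P hP h))

/-- the linear map `P ↦ P • v`. -/
def L {c : ℕ} {t t' : ℤ} (h : (c : ℤ) + t = t') (v : W n k E t) : gr n k c →ₗ[k] W n k E t' where
  toFun P := Op n k E P.1 P.2 h v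
  map_add' P Q := Op_add n k E P.1 Q.1 P.2 Q.2 h v
  map_smul' a P := Op_smul n k E a P.1 P.2 h v

theorem finite_W (hcoh : Coh.IsCoh E) (t : ℤ) : Module.Finite k (W n k E t) :=
  finite_HH n k (n + 1) 0 (by omega) _ (isCoh_Tw n k t E hcoh)

theorem finrank_gr (c : ℕ) : Module.finrank k (gr n k c) = (n + c).choose c :=
  Groth.Agent.Lib.Helper2.ProjCoh11.finrank_homogeneousSubmodule k n c

/-- `H^0(E(t)) = 0` for `t ≪ 0`. -/
theorem exists_vanishing (hn : 1 ≤ n) (hE : FlatMod.IsFlat E) (hcoh : Coh.IsCoh E) :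
    ∃ t₁ : ℤ, ∀ t : ℤ, t ≤ t₁ → Subsingleton (W n k E t) := by
  haveI hfin : ∀ t, Module.Finite k (W n k E t) := finite_W n k E hcoh
  let d : ℤ → ℕ := fun t => Module.finrank k (W n k E t)
  have hX0 : (MvPolynomial.X 0 : PA n k) ∈ gr n k 1 := X_mem n k 0
  have hX0ne : (MvPolynomial.X 0 : PA n k) ≠ 0 := MvPolynomial.X_ne_zero 0
  have hstep : ∀ t : ℤ, d t ≤ d (t + 1) := fun t =>
    LinearMap.finrank_le_finrank_of_injective
      (Op_injective n k E hE _ hX0 hX0ne (show ((1 : ℕ) : ℤ) + t = t + 1 by push_cast; ring))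
  have hmono : Monotone d := monotone_int_of_le_succ hstep
  have hne : (Set.range d).Nonempty := ⟨d 0, 0, rfl⟩
  obtain ⟨t₁, ht₁⟩ := Nat.sInf_mem hne
  have hmin : ∀ t, d t₁ ≤ d t := fun t => by
    rw [ht₁]
    exact Nat.sInf_le ⟨t, rfl⟩
  have hconst : ∀ t, t ≤ t₁ → d t = d t₁ := fun t ht => le_antisymm (hmono ht) (hmin t)
  have hzero : d t₁ = 0 := by
    by_contra hc
    set c := d t₁ with hc_def
    have hcpos : 0 < c := Nat.pos_of_ne_zero hc
    have hdt : d (t₁ - c) = c := hconst _ (by omega)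
    have hpos : 0 < Module.finrank k (W n k E (t₁ - c)) := by
      change 0 < d (t₁ - c)
      omega
    obtain ⟨v, hv⟩ := Module.finrank_pos_iff_exists_ne_zero.1 hpos
    have hh : ((c : ℕ) : ℤ) + (t₁ - c) = t₁ := by ring
    have hlt : Module.finrank k (W n k E t₁) < Module.finrank k (gr n k c) := by
      rw [finrank_gr]
      change c < _
      have h1 : (1 + c).choose c ≤ (n + c).choose c := Nat.choose_le_choose c (by omega)
      have h2 : (1 + c).choose c = c + 1 := by
        rw [add_comm, Nat.choose_succ_self_right]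
      omega
    haveI : Module.Finite k (gr n k c) := Module.finite_of_finrank_pos (by omega)
    have hker := LinearMap.ker_ne_bot_of_finrank_lt (f := L n k E hh v) hlt
    obtain ⟨P, hPker, hP0⟩ := (Submodule.ne_bot_iff _).1 hker
    have hPv : Op n k E P.1 P.2 hh v = 0 := hPker
    have hP0' : (P : PA n k) ≠ 0 := fun h0 => hP0 (Subtype.ext h0)
    have := Op_injective n k E hE P.1 P.2 hP0' hh
    apply hv
    apply this
    rw [hPv, map_zero]
  refine ⟨t₁, fun t ht => ?_⟩
  have h0 : Module.finrank k (W n k E t) = 0 := (hconst t ht).trans hzero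
  exact Module.finrank_zero_iff.1 h0

end Groth.Agent.Lib.Helper2.GSplit3
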