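import Groth.Agent.Lib.Helper2.Horr4

/-!
# Horrocks' splitting criterion: sums of twisting sheaves satisfy the condition (helper2)
-/

set_option backward.isDefEq.respectTransparency.types false
set_option autoImplicit false
universe u
open CategoryTheory CategoryTheory.Limits AlgebraicGeometry Opposite TopologicalSpace Abelian

noncomputable section
namespace Groth.Agent.Lib.Helper2.Horr5

open Groth.Agent.Lib.Helper2.ProjCoh3 Groth.Agent.Lib.Helper2.ProjCoh4 Groth.Agent.Lib.Helper2.ProjCoh5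
  Groth.Agent.Lib.Helper2.SerreVan Groth.Agent.Lib.Helper2.Horr3 Groth.Agent.Lib.Helper2.DualE2

variable {n : ℕ} {k : Type u} [Field k]

theorem HorrCond.of_iso {F G : (CohB1.ProjSpace n k).Modules} (e : F ≅ G) (hG : HorrCond G) :
    HorrCond F := by
  obtain ⟨⟨n₀, h0⟩, h1⟩ := hG
  exact ⟨⟨n₀, fun t ht => subsingleton_HH_of_iso k ((Tw n k t).mapIso e.symm) 0 (h0 t ht)⟩,
    fun t i hi hin => subsingleton_HH_of_iso k ((Tw n k t).mapIso e.symm) i (h1 t i hi hin)⟩

/-- cohomology of a twisted finite sum of twisting sheaves. -/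
theorem subsingleton_HH_Tw_sigma' {r : ℕ} (a : Fin r → ℤ) (t : ℤ) (p : ℕ)
    (h : ∀ j, ¬ (p = 0 ∧ 0 ≤ a j + t) ∧ ¬ (p = n ∧ a j + t ≤ -((n : ℤ) + 1))) :
    Subsingleton (Coh.HH (CohB1.ProjSpace n k)
      (CohB1.tensorMod (∐ fun j => Twist.twistProjSpace n k (a j))
        (Twist.twistProjSpace n k t)) p) := by
  have e : (Tw n k t).obj (∐ fun j => Twist.twistProjSpace n k (a j)) ≅
      ∐ fun j => Twist.twistProjSpace n k (a j + t) :=
    PreservesCoproduct.iso (Tw n k t) (fun j => Twist.twistProjSpace n k (a j)) ≪≫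
      Sigma.mapIso (fun j => (nonempty_Tw_twist_iso n k (a j) t).some)
  refine subsingleton_HH_of_iso k e.symm p ?_
  refine subsingleton_HH_sigma k _ p (fun j => ?_)
  exact subsingleton_HH n k (a j + t) p (h j).1 (h j).2

/-- finite sums of twisting sheaves satisfy the Horrocks condition. -/
theorem horrCond_sigma (hn : 1 ≤ n) {r : ℕ} (a : Fin r → ℤ) :
    HorrCond (∐ fun j => Twist.twistProjSpace n k (a j) : (CohB1.ProjSpace n k).Modules) := by
  refine ⟨⟨-(∑ j, |a j|) - 1, fun t ht => ?_⟩, fun t i hi hin => ?_⟩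
  · refine subsingleton_HH_Tw_sigma' a t 0 (fun j => ⟨fun h => ?_, fun h => ?_⟩)
    · have h1 : |a j| ≤ ∑ j, |a j| :=
        Finset.single_le_sum (f := fun j => |a j|) (fun i _ => abs_nonneg (a i)) (Finset.mem_univ j)
      have h2 : a j ≤ |a j| := le_abs_self (a j)
      have := h.2
      omega
    · have := h.1
      omega
  · refine subsingleton_HH_Tw_sigma' a t i (fun j => ⟨fun h => ?_, fun h => ?_⟩)
    · have := h.1
      omega
    · have := h.1
      omega

/-- **Horrocks' splitting criterion** on `P^n_k`, `n ≥ 1`. -/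
theorem horrocks (hn : 1 ≤ n) (F : (CohB1.ProjSpace n k).Modules) (hF : Coh.IsCoh F) :
    (∃ (r : ℕ) (a : Fin r → ℤ), Nonempty (F ≅ ∐ fun j => Twist.twistProjSpace n k (a j))) ↔
      HorrCond F := by
  constructor
  · rintro ⟨r, a, ⟨e⟩⟩
    exact HorrCond.of_iso e (horrCond_sigma hn a)
  · intro hH
    exact Groth.Agent.Lib.Helper2.Horr4.exists_iso_sigma hn F hF hH

end Groth.Agent.Lib.Helper2.Horr5
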