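import Groth.Agent.Lib.Helper2.GSplit3
import Groth.Agent.Lib.Helper2.GSplit4
import Groth.Agent.Lib.Helper2.Horr5
import Groth.Agent.Lib.Helper29.FreeIso4

/-!
# Splitting of locally free sheaves on `P^n_k`: existence with the rank, sorting, uniqueness (helper2)
-/

set_option backward.isDefEq.respectTransparency.types false
set_option autoImplicit false
universe u
open CategoryTheory CategoryTheory.Limits AlgebraicGeometry Opposite TopologicalSpace

noncomputable section

namespace Groth.Agent.Lib.Helper2.GSplit5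

open Groth.Agent.Lib.Helper2.ProjCoh3 Groth.Agent.Lib.Helper2.ProjCoh4 Groth.Agent.Lib.Helper2.ProjCoh5
  Groth.Agent.Lib.Helper2.SerreFin2 Groth.Agent.Lib.Helper2.SerreVan Groth.Agent.Lib.Helper2.Horr3
  Groth.Agent.Lib.Helper2.Horr5 Groth.Agent.Lib.Helper2.DualE2 Groth.Agent.Lib.Helper2.Horr4

theorem isCoh_of_isFinLocFreeOfRank {X : Scheme.{u}} (M : X.Modules) {r : ℕ}
    (h : FlatMod.IsFinLocFreeOfRank r M) : Coh.IsCoh M := by
  have h' : FlatMod.IsFinLocFree M := fun x => by
    obtain ⟨U, hxU, e⟩ := h x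
    exact ⟨U, r, hxU, e⟩
  exact ⟨Groth.Agent.Lib.Helper29.FreeIso.isQuasicoherent_of_isFinLocFree M h',
    Groth.Agent.Lib.Helper29.FreeIso.isFiniteType_of_isFinLocFree M h'⟩

variable {n : ℕ} {k : Type u} [Field k]

/-- a locally free sheaf of rank `r` on `P^n_k`, `n ≥ 1`, without intermediate cohomology is a sum
of `r` twisting sheaves. -/
theorem exists_iso_sigma_of_locFree (hn : 1 ≤ n) (E : (CohB1.ProjSpace n k).Modules) {r : ℕ}
    (hE : FlatMod.IsFinLocFreeOfRank r E)
    (hH : ∀ (t : ℤ) (i : ℕ), 1 ≤ i → i < n → Subsingleton (Coh.HH (CohB1.ProjSpace n k)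
      (CohB1.tensorMod E (Twist.twistProjSpace n k t)) i)) :
    ∃ a : Fin r → ℤ, Nonempty (E ≅ ∐ fun j => Twist.twistProjSpace n k (a j)) := by
  have hcoh := isCoh_of_isFinLocFreeOfRank E hE
  have hflat := Groth.Agent.Lib.Helper6.K0Op.isFlat_of_isFinLocFreeOfRank E hE
  have hcond : HorrCond E :=
    ⟨Groth.Agent.Lib.Helper2.GSplit3.exists_vanishing n k E hn hflat hcoh, hH⟩
  obtain ⟨r', a, ⟨e⟩⟩ := (horrocks hn E hcoh).2 hcond
  obtain rfl := Groth.Agent.Lib.Helper2.GSplit4.rank_eq n k hE a e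
  exact ⟨a, ⟨e⟩⟩

/-- sorting the twists. -/
theorem exists_antitone {r : ℕ} (a : Fin r → ℤ) :
    ∃ d : Fin r → ℤ, Antitone d ∧
      Nonempty ((∐ fun j => Twist.twistProjSpace n k (a j)) ≅
        ∐ fun j => Twist.twistProjSpace n k (d j)) := by
  refine ⟨a ∘ Tuple.sort (fun i => -a i), fun i j hij => ?_, ⟨?_⟩⟩
  · have h := Tuple.monotone_sort (fun i => -a i) hij
    simp only [Function.comp_apply] at h ⊢
    omega
  · exact (Sigma.reindex (Tuple.sort (fun i => -a i))
      (fun j => Twist.twistProjSpace n k (a j))).symm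

section Count

theorem finrank_HH_zero_sigma : ∀ (r : ℕ) (M : Fin r → (CohB1.ProjSpace n k).Modules),
    (∀ j, Coh.IsCoh (M j)) →
    Module.finrank k (Coh.HH (CohB1.ProjSpace n k) (∐ M) 0) =
      ∑ j, Module.finrank k (Coh.HH (CohB1.ProjSpace n k) (M j) 0)
  | 0, M, _ => by
    haveI : Subsingleton (Coh.HH (CohB1.ProjSpace n k) (∐ M) 0) :=
      subsingleton_HH_sigma k M 0 (fun j => Fin.elim0 j)
    rw [Module.finrank_zero_of_subsingleton]
    simp
  | r + 1, M, hM => by
    obtain ⟨e⟩ := nonempty_sigma_cons_iso M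
    have hcoh : Coh.IsCoh (∐ M) := Groth.Agent.Lib.Helper6.DevPow.isCoh_sigma_fin _ M hM
    have hcoh2 : Coh.IsCoh (M 0 ⊞ ∐ fun i : Fin r => M i.succ) :=
      Groth.Agent.Lib.Helper6.DevCore.isCoh_of_iso e.symm hcoh
    haveI : Module.Finite k (Coh.HH (CohB1.ProjSpace n k)
        (M 0 ⊞ ∐ fun i : Fin r => M i.succ) 0) := finite_HH n k (n + 1) 0 (by omega) _ hcoh2
    let S : ShortComplex (CohB1.ProjSpace n k).Modules :=
      ShortComplex.mk (biprod.inl : M 0 ⟶ M 0 ⊞ ∐ fun i : Fin r => M i.succ) biprod.snd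
        biprod.inl_snd
    have hS : S.ShortExact := (ShortComplex.Splitting.ofHasBinaryBiproduct _ _).shortExact
    have h1 := Groth.Agent.Lib.Helper2.Horr2.finrank_HH_zero_of_split (k := k) S hS biprod.inr
      biprod.inr_snd
    have h2 := finrank_HH_zero_sigma r (fun i => M i.succ) (fun i => hM i.succ)
    rw [← LinearEquiv.finrank_eq (Groth.Agent.Lib.Helper2.Bridge5.HHlinEquiv k e 0),
      Fin.sum_univ_succ, ← h2]
    exact h1

/-- `h^0(O(m))`. -/
def g (n : ℕ) (k : Type u) [Field k] (m : ℤ) : ℕ :=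
  Module.finrank k (Coh.HH (CohB1.ProjSpace n k) (Twist.twistProjSpace n k m) 0)

theorem g_neg (hn : 1 ≤ n) (m : ℤ) (hm : m < 0) : g n k m = 0 := by
  haveI : Subsingleton (Coh.HH (CohB1.ProjSpace n k) (Twist.twistProjSpace n k m) 0) :=
    subsingleton_HH n k m 0 (fun h => by omega) (fun h => by omega)
  exact Module.finrank_zero_of_subsingleton

theorem g_zero_pos : 0 < g n k 0 :=
  Groth.Agent.Lib.Helper2.Horr2.finrank_HH_zero_twist_pos (n := n) (k := k) 0

theorem finrank_W_sigma {r : ℕ} (d : Fin r → ℤ) (t : ℤ) :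
    Module.finrank k (Coh.HH (CohB1.ProjSpace n k)
      (CohB1.tensorMod (∐ fun j => Twist.twistProjSpace n k (d j))
        (Twist.twistProjSpace n k t)) 0) = ∑ j, g n k (d j + t) := by
  have e : (Tw n k t).obj (∐ fun j => Twist.twistProjSpace n k (d j)) ≅
      ∐ fun j => Twist.twistProjSpace n k (d j + t) :=
    PreservesCoproduct.iso (Tw n k t) (fun j => Twist.twistProjSpace n k (d j)) ≪≫
      Sigma.mapIso (fun j => (nonempty_Tw_twist_iso n k (d j) t).some)
  have h1 := LinearEquiv.finrank_eq (Groth.Agent.Lib.Helper2.Bridge5.HHlinEquiv k e 0)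
  exact h1.trans (finrank_HH_zero_sigma r _ (fun j => isCoh_twist n k (d j + t)))

end Count

/-- the combinatorial uniqueness statement. -/
theorem antitone_unique_aux {r : ℕ} (g : ℤ → ℕ) (hg0 : ∀ m, m < 0 → g m = 0) (hg1 : 0 < g 0)
    (d d' : Fin r → ℤ) (hd' : Antitone d') (i : Fin r)
    (hlt : ∀ j, j < i → d j = d' j) (hgt : d' i < d i) :
    ∑ j, g (d' j + -(d i)) < ∑ j, g (d j + -(d i)) := by
  apply Finset.sum_lt_sum
  · intro j _
    by_cases hj : j < i
    · rw [hlt j hj]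
    · have h1 : d' j ≤ d' i := hd' (not_lt.1 hj)
      rw [hg0 (d' j + -(d i)) (by omega)]
      exact Nat.zero_le _
  · refine ⟨i, Finset.mem_univ i, ?_⟩
    rw [hg0 (d' i + -(d i)) (by omega), add_neg_cancel]
    exact hg1

theorem antitone_unique {r : ℕ} (g : ℤ → ℕ) (hg0 : ∀ m, m < 0 → g m = 0) (hg1 : 0 < g 0)
    (d d' : Fin r → ℤ) (hd : Antitone d) (hd' : Antitone d')
    (h : ∀ t : ℤ, ∑ j, g (d j + t) = ∑ j, g (d' j + t)) : d = d' := by
  by_contra hne
  have hex : ∃ i, d i ≠ d' i := by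
    by_contra hall
    push Not at hall
    exact hne (funext hall)
  classical
  let i := Fin.find (fun i => d i ≠ d' i) hex
  have hi : d i ≠ d' i := Fin.find_spec hex
  have hmin : ∀ j, j < i → d j = d' j := fun j hj => by
    by_contra hjn
    exact Fin.find_min hex hj hjn
  rcases lt_or_gt_of_ne hi with hlt | hgt
  · have := antitone_unique_aux g hg0 hg1 d' d hd i (fun j hj => (hmin j hj).symm) hlt
    rw [h (-(d' i))] at this
    exact lt_irrefl _ this
  · have := antitone_unique_aux g hg0 hg1 d d' hd' i hmin hgt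
    rw [h (-(d i))] at this
    exact lt_irrefl _ this

/-- uniqueness of the splitting type. -/
theorem unique_antitone (hn : 1 ≤ n) {r : ℕ} (d d' : Fin r → ℤ) (hd : Antitone d)
    (hd' : Antitone d')
    (e : (∐ fun j => Twist.twistProjSpace n k (d j)) ≅ ∐ fun j => Twist.twistProjSpace n k (d' j)) :
    d = d' := by
  refine antitone_unique (g n k) (fun m hm => g_neg hn m hm) g_zero_pos d d' hd hd' (fun t => ?_)
  rw [← finrank_W_sigma d t, ← finrank_W_sigma d' t]
  exact LinearEquiv.finrank_eq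
    (Groth.Agent.Lib.Helper2.Bridge5.HHlinEquiv k ((Tw n k t).mapIso e) 0)

end Groth.Agent.Lib.Helper2.GSplit5
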