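import Groth.Agent.Lib.Helper2.GSplit5
import Groth.Agent.Lib.Helper29.FreeIso2

/-!
# Locally free sheaves on `P^0_k` are free (helper2)
-/

set_option backward.isDefEq.respectTransparency.types false
set_option autoImplicit false
universe u
open CategoryTheory CategoryTheory.Limits AlgebraicGeometry Opposite TopologicalSpace

noncomputable section

namespace Groth.Agent.Lib.Helper2.GSplit6

open Groth.Agent.Lib.Helper2.ProjCoh3 Groth.Agent.Lib.Helper2.ProjCoh4 Groth.Agent.Lib.Helper2.ProjCoh5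
  Groth.Agent.Lib.Helper2.Kos2

/-- a locally free module on a one-point scheme is free. -/
theorem nonempty_iso_freeMod_of_subsingleton {X : Scheme.{u}} [Subsingleton X] [Nonempty X]
    (E : X.Modules) {r : ℕ} (hE : FlatMod.IsFinLocFreeOfRank r E) :
    Nonempty (E ≅ FlatMod.freeMod X r) := by
  obtain ⟨x⟩ := ‹Nonempty X›
  obtain ⟨U, hxU, ⟨e⟩⟩ := hE x
  have hU : U = ⊤ := by
    apply Opens.ext
    ext y
    simp only [Opens.coe_top, Set.mem_univ, iff_true]
    rw [Subsingleton.elim y x]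
    exact hxU
  subst hU
  obtain ⟨τ, hτ⟩ := Groth.Agent.Lib.Helper29.FreeIso.exists_isBasisOn_of_iso E ⊤ r e
  exact Groth.Agent.Lib.Helper29.FreeIso.nonempty_iso_freeMod E τ
    (fun W c hc => hτ.1 W le_top c hc) (fun W t pt hpt => hτ.2 W le_top t pt hpt)

variable (k : Type u) [Field k]

theorem toIdeal_eq_bot (x : Proj (gr 0 k)) : x.asHomogeneousIdeal.toIdeal = ⊥ := by
  obtain ⟨j, hj, hx⟩ := exists_chart 0 k x
  have hj0 : j = 0 := by omega
  subst hj0
  have hX : (MvPolynomial.X 0 : PA 0 k) ∉ x.asHomogeneousIdeal.toIdeal :=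
    (Proj.mem_basicOpen (gr 0 k) _ x).1 hx
  have hprime : x.asHomogeneousIdeal.toIdeal.IsPrime := x.isPrime
  rw [eq_bot_iff]
  intro f hf
  rw [Ideal.mem_bot]
  have hhom := x.asHomogeneousIdeal.isHomogeneous
  have key : ∀ d, (DirectSum.decompose (gr 0 k) f d : PA 0 k) = 0 := by
    intro d
    have hmem : (DirectSum.decompose (gr 0 k) f d : PA 0 k) ∈ x.asHomogeneousIdeal.toIdeal :=
      hhom d hf
    have hXd : (MvPolynomial.X 0 : PA 0 k) ^ d ∈ gr 0 k d := by
      have := SetLike.pow_mem_graded d (X_mem 0 k 0)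
      simpa using this
    have hfr : Module.finrank k (gr 0 k d) = 1 := by
      rw [Groth.Agent.Lib.Helper2.GSplit3.finrank_gr]
      simp
    have hv : (⟨(MvPolynomial.X 0 : PA 0 k) ^ d, hXd⟩ : gr 0 k d) ≠ 0 := by
      intro h0
      have := congrArg Subtype.val h0
      exact pow_ne_zero d (MvPolynomial.X_ne_zero (0 : Fin 1)) this
    obtain ⟨c, hc⟩ := (finrank_eq_one_iff_of_nonzero' _ hv).1 hfr (DirectSum.decompose (gr 0 k) f d)
    have hc' : c • ((MvPolynomial.X 0 : PA 0 k) ^ d) =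
        (DirectSum.decompose (gr 0 k) f d : PA 0 k) := congrArg Subtype.val hc
    rw [← hc']
    by_cases hc0 : c = 0
    · rw [hc0, zero_smul]
    · exfalso
      rw [← hc', MvPolynomial.smul_eq_C_mul] at hmem
      rcases hprime.mem_or_mem hmem with h1 | h1
      · apply hprime.ne_top
        rw [Ideal.eq_top_iff_one]
        have h2 : (MvPolynomial.C c⁻¹ : PA 0 k) * MvPolynomial.C c = 1 := by
          rw [← MvPolynomial.C_mul, inv_mul_cancel₀ hc0, MvPolynomial.C_1]
        rw [← h2]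
        exact Ideal.mul_mem_left _ _ h1
      · exact hX (hprime.mem_of_pow_mem d h1)
  classical
  rw [← DirectSum.sum_support_decompose (gr 0 k) f]
  exact Finset.sum_eq_zero (fun d _ => key d)

instance subsingleton_proj0 : Subsingleton (CohB1.ProjSpace 0 k) := by
  refine ⟨fun x y => ?_⟩
  apply ProjectiveSpectrum.ext
  apply HomogeneousIdeal.toIdeal_injective
  exact (toIdeal_eq_bot k x).trans (toIdeal_eq_bot k y).symm

/-- locally free sheaves on `P^0_k` are sums of (arbitrary) twisting sheaves. -/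
theorem exists_iso_sigma_zero (E : (CohB1.ProjSpace 0 k).Modules) {r : ℕ}
    (hE : FlatMod.IsFinLocFreeOfRank r E) :
    ∃ a : Fin r → ℤ, Nonempty (E ≅ ∐ fun j => Twist.twistProjSpace 0 k (a j)) := by
  obtain ⟨e⟩ := nonempty_iso_freeMod_of_subsingleton E hE
  obtain ⟨e₂⟩ := Groth.Agent.Lib.Helper2.TwEq2.nonempty_twist_iso_unit 0 k 0 rfl
  exact ⟨fun _ => 0, ⟨e ≪≫ Sigma.mapIso (fun _ => e₂.symm)⟩⟩

end Groth.Agent.Lib.Helper2.GSplit6
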