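import Groth.Agent.Lib.Helper2.GN1
import Groth.Agent.Lib.helper11.TFunZero
import Groth.Agent.Lib.helper11.TFunCorep4

/-!
# Vanishing of the functors `T^p` above and below (helper2)

* `exists_finFree_complex_natural'`: the Grothendieck complex, with the vanishing of `T^i` in negative
  degrees recorded.
* `isZero_tensor_homology_of_ge`: descending induction: `T^p = 0` for `p ≥ t₀` and `H^p(C) = 0` for `p ≥ t`
  give `T^p = 0` for `p ≥ t`.
* `subsingleton_of_hom_residueField`: a finite module without nonzero maps to the residue fields of the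
  maximal ideals is zero.
* `isZero_TFun_of_fibres`: ascending induction: `T^i = 0` for `i < 0` and `T^p(κ(y)) = 0` for all `y` and
  `p < d'` give `T^i = 0` for `i < d'`.
-/

set_option autoImplicit false
set_option backward.isDefEq.respectTransparency false
universe u

open CategoryTheory CategoryTheory.Limits CochainComplex HomologicalComplex Opposite

namespace Groth.Agent.Lib.Helper2.GT1

open Groth.Agent.Lib.Helper2.GC1 Groth.Agent.Lib.Helper2.GC2 Groth.Agent.Lib.Helper2.GC3
  Groth.Agent.Lib.Helper2.GN1 CohIII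

variable {A : Type u} [CommRing A]

/-- descending induction on the vanishing of `T^p`. -/
theorem isZero_tensor_homology_of_ge (C : CochainComplex (ModuleCat.{u} A) ℕ)
    (hflat : ∀ n, Module.Flat A (C.X n)) (t₀ t : ℕ)
    (hvan₀ : ∀ (M : ModuleCat.{u} A) (p : ℕ), t₀ ≤ p → IsZero ((tensorObj C M).homology p))
    (hvan : ∀ p : ℕ, t ≤ p → IsZero (C.homology p)) :
    ∀ (M : ModuleCat.{u} A) (p : ℕ), t ≤ p → IsZero ((tensorObj C M).homology p) := by
  have key : ∀ k : ℕ, ∀ p : ℕ, t ≤ p → t₀ ≤ p + k → ∀ M : ModuleCat.{u} A,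
      IsZero ((TFun C p).obj M) := by
    intro k
    induction k with
    | zero =>
      intro p _ hp M
      exact hvan₀ M p (by omega)
    | succ k ih =>
      intro p hp hpk M
      exact Groth.Agent.Lib.helper11.TFunZero.isZero_TFun_obj_of_rel C hflat p (p + 1) rfl
        (fun N => ih (p + 1) (by omega) (by omega) N) (hvan p hp) M
  intro M p hp
  exact key t₀ p hp (by omega) M

section Mod

open CohIII Groth.Agent.Lib.helper11 MonoidalCategory Groth.Agent.Lib.Helper2.GC2 Groth.Agent.Lib.Helper2.GC3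

attribute [-instance] CategoryTheory.ShortComplex.hasHomology_of_preserves
attribute [local instance] HasDerivedCategory.standard

open Groth.Agent.Lib.Helper8 Groth.Agent.Lib.Helper8.PC7 Groth.Agent.Lib.Helper8.PC8
  Groth.Agent.Lib.Helper8.PC18 Groth.Agent.Lib.Helper8.PCMod2 Groth.Agent.Lib.Helper8.PCNoeth

/-- **The Grothendieck complex**, naturally in the module. -/
theorem exists_finFree_complex_natural' [IsNoetherianRing A]
    (C : CochainComplex (ModuleCat.{u} A) ℕ) (hflat : ∀ n, Module.Flat A (C.X n))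
    (hfin : ∀ n, Module.Finite A (C.homology n)) (t : ℕ)
    (hvan0 : ∀ p : ℕ, t ≤ p → IsZero (C.homology p))
    (hvan : ∀ (M : ModuleCat.{u} A) (p : ℕ), t ≤ p → IsZero ((tensorObj C M).homology p)) :
    ∃ L : CochainComplex (ModuleCat.{u} A) ℤ,
      (∀ i, Module.Finite A (L.X i) ∧ Module.Free A (L.X i)) ∧
      (∀ i : ℤ, (t : ℤ) ≤ i → IsZero (L.X i)) ∧
      (∀ p : ℕ, Nonempty (TFun C p ≅ TFun L (p : ℤ))) ∧
      ∀ i : ℤ, i < 0 → ∀ M : ModuleCat.{u} A, IsZero ((TFun L i).obj M) := by
  let E := ext C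
  let K : Dual.D A := DerivedCategory.Q.obj E
  have hK : ∀ n : ℤ, Nonempty ((DerivedCategory.homologyFunctor (ModuleCat.{u} A) n).obj K ≅
      E.homology n) := fun n => ⟨hIsoD E n⟩
  have hac : ∀ i : ℤ, (t : ℤ) ≤ i → IsZero (E.homology i) := by
    intro i hi
    rcases ext_homology C i with ⟨n, hn, ⟨e⟩⟩ | h
    · exact (hvan0 n (by omega)).of_iso e
    · exact h
  have hfinE : ∀ i : ℤ, Module.Finite A (E.homology i) := by
    intro i
    rcases ext_homology C i with ⟨n, hn, ⟨e⟩⟩ | h
    · haveI := hfin n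
      exact Module.Finite.equiv e.symm.toLinearEquiv
    · haveI := ModuleCat.subsingleton_of_isZero h
      infer_instance
  have hb : ∃ b : ℤ, ∀ j : ℤ, b < j → Subsingleton (Dual.HD A K j) := by
    refine ⟨t, fun j hj => ?_⟩
    obtain ⟨e⟩ := hK j
    exact ModuleCat.subsingleton_of_isZero ((hac j (by omega)).of_iso e)
  have hfinK : ∀ j : ℤ, Module.Finite A (Dual.HD A K j) := fun j => by
    obtain ⟨e⟩ := hK j
    have := hfinE j
    exact Module.Finite.equiv e.symm.toLinearEquiv
  have hM : ∀ n : ℤ, IsNPC (ffProp A) n (DerivedCategory.Q.obj E) :=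
    isPC_of_finite_homology K hb hfinK
  obtain ⟨G, w, hG, hw, hz⟩ := resolution_zero (ffProp A) ffProp_sum ffProp_hqs ffProp_hql hM
    (t : ℤ) hac
  haveI := hw
  have hEv : ∀ i : ℤ, (t : ℤ) ≤ i → ∀ N : ModuleCat.{u} A, IsZero ((tensorObj E N).homology i) := by
    intro i hi N
    have h0 : i = ((i.toNat : ℕ) : ℤ) := (Int.toNat_of_nonneg (by omega)).symm
    rw [h0]
    exact (hvan N i.toNat (by omega)).of_iso (tensorExtHomologyIso C N i.toNat)
  have hq : ∀ M : ModuleCat.{u} A,
      QuasiIso (((tensorRight M).mapHomologicalComplex (ComplexShape.up ℤ)).map w) := fun M =>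
    quasiIso_tensor_of_univ_acyclic w
      (fun i => by
        haveI := (hG.2 i).2
        haveI := (hG.2 i).1
        infer_instance)
      (flat_ext_X C hflat) (t : ℤ) hz hEv M
  refine ⟨G, hG.2, hz, fun p => ?_, fun i hi M => ?_⟩
  swap
  · have h1 := (hq M).quasiIsoAt i
    rw [quasiIsoAt_iff_isIso_homologyMap] at h1
    exact (isZero_tensorExt_homology_neg C M i hi).of_iso (asIso (homologyMap
      (((tensorRight M).mapHomologicalComplex (ComplexShape.up ℤ)).map w) i))
  have hq1 : ∀ M : ModuleCat.{u} A, IsIso (homologyMap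
      (((tensorRight M).mapHomologicalComplex (ComplexShape.up ℤ)).map w) (p : ℤ)) := fun M => by
    have := (hq M).quasiIsoAt (p : ℤ)
    rwa [quasiIsoAt_iff_isIso_homologyMap] at this
  refine ⟨NatIso.ofComponents (fun M => (tensorExtHomologyIso C M p).symm ≪≫
    (asIso (homologyMap (((tensorRight M).mapHomologicalComplex (ComplexShape.up ℤ)).map w)
      (p : ℤ))).symm) ?_⟩
  intro M N g
  -- naturality
  have n1 : homologyMap (tensorMap C g) p ≫ (tensorExtHomologyIso C N p).inv =
      (tensorExtHomologyIso C M p).inv ≫ homologyMap (tensorMap E g) (p : ℤ) := by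
    rw [Iso.comp_inv_eq, Category.assoc, Iso.eq_inv_comp]
    exact (tensorExtHomologyIso_naturality C g p).symm
  have n2 : tensorMap G g ≫ ((tensorRight N).mapHomologicalComplex (ComplexShape.up ℤ)).map w =
      ((tensorRight M).mapHomologicalComplex (ComplexShape.up ℤ)).map w ≫ tensorMap E g :=
    ((NatTrans.mapHomologicalComplex ((tensoringRight (ModuleCat.{u} A)).map g)
      (ComplexShape.up ℤ)).naturality w).symm
  have n3 : homologyMap (tensorMap E g) (p : ℤ) ≫
      inv (homologyMap (((tensorRight N).mapHomologicalComplex (ComplexShape.up ℤ)).map w) (p : ℤ)) =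
      inv (homologyMap (((tensorRight M).mapHomologicalComplex (ComplexShape.up ℤ)).map w) (p : ℤ)) ≫
        homologyMap (tensorMap G g) (p : ℤ) := by
    rw [IsIso.comp_inv_eq, Category.assoc, IsIso.eq_inv_comp, ← homologyMap_comp, ← homologyMap_comp, n2]
  change homologyMap (tensorMap C g) p ≫ (tensorExtHomologyIso C N p).inv ≫ inv _ =
    ((tensorExtHomologyIso C M p).inv ≫ inv _) ≫ homologyMap (tensorMap G g) (p : ℤ)
  rw [← Category.assoc, n1, Category.assoc, n3, Category.assoc]

end Mod

section Corep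

/-- a finite module without nonzero maps to the residue fields of the maximal ideals is zero. -/
theorem subsingleton_of_hom_residueField (Q : Type u) [AddCommGroup Q] [Module A Q] [Module.Finite A Q]
    (h : ∀ (m : Ideal A) [m.IsMaximal] (f : Q →ₗ[A] m.ResidueField), f = 0) : Subsingleton Q := by
  by_contra hne
  rw [not_subsingleton_iff_nontrivial] at hne
  have hbt : (⊥ : Submodule A Q) ≠ ⊤ := bot_ne_top
  rcases eq_top_or_exists_le_coatom (⊥ : Submodule A Q) with h1 | ⟨N, hN, -⟩
  · exact hbt h1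
  · haveI : IsSimpleModule A (Q ⧸ N) := isSimpleModule_iff_isCoatom.2 hN
    obtain ⟨I, hI, ⟨e⟩⟩ := isSimpleModule_iff_quot_maximal.1 (inferInstance : IsSimpleModule A (Q ⧸ N))
    haveI := hI
    have hker : I ≤ LinearMap.ker (Algebra.linearMap A I.ResidueField) := by
      intro x hx
      rw [LinearMap.mem_ker, Algebra.linearMap_apply]
      exact (Ideal.algebraMap_residueField_eq_zero).2 hx
    let g : (A ⧸ I) →ₗ[A] I.ResidueField := Submodule.liftQ I (Algebra.linearMap A I.ResidueField) hker
    let f : Q →ₗ[A] I.ResidueField := g ∘ₗ e.toLinearMap ∘ₗ N.mkQ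
    have hf := h I f
    obtain ⟨q, hq⟩ := N.mkQ_surjective (e.symm (Submodule.Quotient.mk (1 : A)))
    have h1 : f q = 1 := by
      change g (e (N.mkQ q)) = 1
      rw [hq, LinearEquiv.apply_symm_apply]
      change Submodule.liftQ I (Algebra.linearMap A I.ResidueField) hker (Submodule.Quotient.mk 1) = 1
      rw [Submodule.liftQ_apply, Algebra.linearMap_apply, map_one]
    rw [hf] at h1
    exact zero_ne_one h1

end Corep

section Asc

variable [IsNoetherianRing A]

/-- one step of the ascending induction. -/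
theorem isZero_TFun_step (L : CochainComplex (ModuleCat.{u} A) ℤ)
    (hL : ∀ i, Module.Finite A (L.X i) ∧ Module.Flat A (L.X i)) (q p : ℤ) (hqp : q + 1 = p)
    (hq : ∀ M : ModuleCat.{u} A, IsZero ((TFun L q).obj M))
    (hfib : ∀ (m : Ideal A) [m.IsMaximal],
      IsZero ((TFun L p).obj (ModuleCat.of A m.ResidueField))) :
    ∀ M : ModuleCat.{u} A, IsZero ((TFun L p).obj M) := by
  have hflat : ∀ i, Module.Flat A (L.X i) := fun i => (hL i).2
  have hm : (TFun L p).PreservesMonomorphisms :=
    (Groth.Agent.Lib.helper11.TFunBasic.preservesEpi_iff_preservesMono L hflat q p hqp).mp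
      (Groth.Agent.Lib.helper11.TFunZero.exact_of_forall_isZero L q hq).2
  haveI := (hL p).1
  haveI := (hL ((ComplexShape.up ℤ).next p)).1
  obtain ⟨Q, hQfin, ⟨e⟩⟩ :=
    Groth.Agent.Lib.helper11.TFunCorep4.exists_corep_of_preservesMono L p hflat hm
  haveI := hQfin
  have hQ0 : Subsingleton Q := by
    apply subsingleton_of_hom_residueField (A := A) Q
    intro m _ f
    have hz : IsZero (((linearCoyoneda A (ModuleCat.{u} A)).obj (op Q)).obj
        (ModuleCat.of A m.ResidueField)) := (hfib m).of_iso (e.app _).symm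
    haveI := ModuleCat.subsingleton_of_isZero hz
    have h1 : (ModuleCat.ofHom f : Q ⟶ ModuleCat.of A m.ResidueField) = 0 :=
      Subsingleton.elim (α := (((linearCoyoneda A (ModuleCat.{u} A)).obj (op Q)).obj
        (ModuleCat.of A m.ResidueField) : ModuleCat.{u} A)) _ _
    have h2 := congrArg ModuleCat.Hom.hom h1
    simpa using h2
  intro M
  have hQz : IsZero Q := ModuleCat.isZero_of_subsingleton Q
  haveI : Subsingleton (((linearCoyoneda A (ModuleCat.{u} A)).obj (op Q)).obj M : ModuleCat.{u} A) :=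
    ⟨fun a b => hQz.eq_of_src (a : Q ⟶ M) b⟩
  exact (ModuleCat.isZero_of_subsingleton _).of_iso (e.app M)

/-- ascending induction on the vanishing of `T^p`, from the fibres. -/
theorem isZero_TFun_of_fibres (L : CochainComplex (ModuleCat.{u} A) ℤ)
    (hL : ∀ i, Module.Finite A (L.X i) ∧ Module.Flat A (L.X i))
    (hneg : ∀ i : ℤ, i < 0 → ∀ M : ModuleCat.{u} A, IsZero ((TFun L i).obj M)) (d' : ℕ)
    (hfib : ∀ (m : Ideal A) [m.IsMaximal] (p : ℕ), p < d' →
      IsZero ((TFun L (p : ℤ)).obj (ModuleCat.of A m.ResidueField))) :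
    ∀ i : ℤ, i < (d' : ℤ) → ∀ M : ModuleCat.{u} A, IsZero ((TFun L i).obj M) := by
  have key : ∀ p : ℕ, p < d' → ∀ M : ModuleCat.{u} A, IsZero ((TFun L (p : ℤ)).obj M) := by
    intro p
    induction p with
    | zero =>
      intro hp
      exact isZero_TFun_step L hL (-1) ((0 : ℕ) : ℤ) (by simp) (hneg (-1) (by omega))
        (fun m _ => hfib m 0 hp)
    | succ p ih =>
      intro hp
      exact isZero_TFun_step L hL (p : ℤ) ((p + 1 : ℕ) : ℤ) (by push_cast; ring) (ih (by omega))
        (fun m _ => hfib m (p + 1) hp)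
  intro i hi M
  by_cases h0 : i < 0
  · exact hneg i h0 M
  · have h1 : i = ((i.toNat : ℕ) : ℤ) := (Int.toNat_of_nonneg (by omega)).symm
    rw [h1]
    exact key i.toNat (by omega) M

end Asc

end Groth.Agent.Lib.Helper2.GT1
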