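import Groth.Agent.Lib.Helper2.GT1
import Groth.Agent.Lib.helper11.TFunOpcycles
import Groth.Agent.Lib.helper11.DRankFlat2
import Groth.Agent.S14613

/-!
# Trimming a bounded above complex of finite projective modules from below (helper2)
-/

set_option autoImplicit false
set_option backward.isDefEq.respectTransparency false
universe u

open CategoryTheory CategoryTheory.Limits CochainComplex HomologicalComplex Opposite

namespace Groth.Agent.Lib.Helper2.GT2

open CohIII MonoidalCategory

attribute [-instance] CategoryTheory.ShortComplex.hasHomology_of_preserves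

variable {A : Type u} [CommRing A] [IsNoetherianRing A]

theorem exists_trim (L : CochainComplex (ModuleCat.{u} A) ℤ)
    (hL : ∀ i, Module.Finite A (L.X i) ∧ Module.Projective A (L.X i))
    (b : ℤ) (hb : ∀ i, b < i → IsZero (L.X i)) (d' : ℤ)
    (hlow : ∀ i : ℤ, i < d' → ∀ M : ModuleCat.{u} A, IsZero ((TFun L i).obj M)) :
    ∃ K : CochainComplex (ModuleCat.{u} A) ℤ,
      (∀ i, Module.Finite A (K.X i) ∧ Module.Projective A (K.X i)) ∧
      (∀ i : ℤ, i < d' → IsZero (K.X i)) ∧
      (∀ i : ℤ, IsZero (L.X i) → IsZero (K.X i)) ∧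
      ∀ (M : ModuleCat.{u} A) (p : ℤ), Nonempty (T L p M ≅ T K p M) := by
  have hflat : ∀ i, Module.Flat A (L.X i) := fun i => by
    haveI := (hL i).2
    infer_instance
  -- the opcycles in degree d' are finite projective
  have hfin_op : Module.Finite A (L.opcycles d') := by
    haveI := (hL d').1
    have hs : Function.Surjective (L.pOpcycles d').hom :=
      (ModuleCat.epi_iff_surjective _).mp inferInstance
    exact Module.Finite.of_surjective (L.pOpcycles d').hom hs
  have hflat_op : Module.Flat A (L.opcycles d') := by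
    rw [← Groth.Agent.Lib.helper11.TFunOpcycles.preservesMono_iff_flat_opcycles L d' hflat]
    exact (Groth.Agent.Lib.helper11.TFunBasic.preservesEpi_iff_preservesMono L hflat (d' - 1) d'
      (by simp)).mp
      (Groth.Agent.Lib.helper11.TFunZero.exact_of_forall_isZero L (d' - 1)
        (hlow (d' - 1) (by omega))).2
  have hproj_op : Module.Projective A (L.opcycles d') := by
    haveI := hfin_op
    haveI := hflat_op
    haveI : Module.FinitePresentation A (L.opcycles d') := Module.finitePresentation_of_finite A _
    exact Module.Flat.projective_of_finitePresentation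
  let K := L.truncGE d'
  have hK0 : ∀ i : ℤ, i < d' → IsZero (K.X i) := fun i hi => K.isZero_of_isStrictlyGE d' i hi
  have hKX : ∀ i : ℤ, d' < i → Nonempty (K.X i ≅ L.X i) := fun i hi => ⟨L.truncGEXIso d' i hi⟩
  have hKd : Nonempty (K.X d' ≅ L.opcycles d') := ⟨L.truncGEXIsoOpcycles d'⟩
  have hKfp : ∀ i, Module.Finite A (K.X i) ∧ Module.Projective A (K.X i) := by
    intro i
    rcases lt_trichotomy i d' with hi | hi | hi
    · haveI := ModuleCat.subsingleton_of_isZero (hK0 i hi)
      exact ⟨inferInstance, Module.Projective.of_free⟩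
    · subst hi
      obtain ⟨e⟩ := hKd
      haveI := hfin_op
      haveI := hproj_op
      exact ⟨Module.Finite.equiv e.toLinearEquiv.symm, Module.Projective.of_equiv e.toLinearEquiv.symm⟩
    · obtain ⟨e⟩ := hKX i hi
      haveI := (hL i).1
      haveI := (hL i).2
      exact ⟨Module.Finite.equiv e.toLinearEquiv.symm, Module.Projective.of_equiv e.toLinearEquiv.symm⟩
  have hKz : ∀ i : ℤ, IsZero (L.X i) → IsZero (K.X i) := by
    intro i hz
    rcases lt_trichotomy i d' with hi | hi | hi
    · exact hK0 i hi
    · subst hi
      obtain ⟨e⟩ := hKd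
      have : IsZero (L.opcycles i) := by
        haveI : Epi (L.pOpcycles i) := inferInstance
        exact IsZero.of_epi (L.pOpcycles i) hz
      exact this.of_iso e
    · obtain ⟨e⟩ := hKX i hi
      exact hz.of_iso e
  refine ⟨K, hKfp, hK0, hKz, fun M p => ?_⟩
  have hKflat : ∀ i, Module.Flat A (K.X i) := fun i => by
    haveI := (hKfp i).2
    infer_instance
  haveI hGE : L.IsGE d' := by
    rw [CochainComplex.isGE_iff]
    intro i hi
    rw [HomologicalComplex.exactAt_iff_isZero_homology]
    have h1 := hlow i hi (ModuleCat.of A A)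
    haveI : Subsingleton (T L i (ModuleCat.of A A)) := ModuleCat.subsingleton_of_isZero h1
    haveI : Subsingleton (L.homology i) :=
      (Groth.Agent.Lib.helper11.DRankFlat.TAEquiv L i).symm.toEquiv.subsingleton
    exact ModuleCat.isZero_of_subsingleton _
  haveI : QuasiIso (L.πTruncGE d') := inferInstance
  have hq := Groth.Agent.S14613.result A L K hflat hKflat ⟨b, hb⟩
    ⟨b, fun i hi => hKz i (hb i hi)⟩ (L.πTruncGE d') M
  have hq1 := hq.quasiIsoAt p
  rw [quasiIsoAt_iff_isIso_homologyMap] at hq1
  exact ⟨asIso (homologyMap (((tensorRight M).mapHomologicalComplex (ComplexShape.up ℤ)).map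
    (L.πTruncGE d')) p)⟩

end Groth.Agent.Lib.Helper2.GT2
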