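import Mathlib.Algebra.Module.LocalizedModule.Basic
import Mathlib.Data.Fintype.Lattice
import Mathlib.Data.Finite.Prod

/-! Small helpers for glueing localized modules. -/

namespace Groth.Agent.Lib.Helper2.GlueLoc

lemma exists_uniform {ι : Type*} [Finite ι] (P : ι → ℕ → Prop)
    (hmono : ∀ j n n', n ≤ n' → P j n → P j n') (h : ∀ j, ∃ n, P j n) : ∃ n, ∀ j, P j n := by
  cases nonempty_fintype ι
  choose n hn using h
  exact ⟨Finset.univ.sup n, fun j => hmono j _ _ (Finset.le_sup (Finset.mem_univ j)) (hn j)⟩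

lemma ker_v {R : Type*} [CommRing R] {M N T : Type*} [AddCommGroup M] [AddCommGroup N]
    [AddCommGroup T] [Module R M] [Module R N] [Module R T] (a b : R) (g : M →ₗ[R] N)
    [IsLocalizedModule (Submonoid.powers a) g] (t : M →ₗ[R] T)
    [IsLocalizedModule (Submonoid.powers (b * a)) t] (v : N →ₗ[R] T) (hv : v ∘ₗ g = t) (z : N)
    (hz : v z = 0) : ∃ n : ℕ, b ^ n • z = 0 := by
  obtain ⟨⟨w, ⟨_, ⟨e, rfl⟩⟩⟩, hw⟩ := IsLocalizedModule.surj (Submonoid.powers a) g z
  change a ^ e • z = g w at hw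
  have h0 : t w = 0 := by
    rw [← hv, LinearMap.comp_apply, ← hw, map_smul, hz, smul_zero]
  obtain ⟨⟨_, ⟨N', rfl⟩⟩, hN⟩ :=
    (IsLocalizedModule.eq_zero_iff (Submonoid.powers (b * a)) t).mp h0
  change (b * a) ^ N' • w = 0 at hN
  refine ⟨N', ?_⟩
  have h1 : (a ^ (N' + e)) • (b ^ N' • z) = 0 := by
    have : g ((b * a) ^ N' • w) = 0 := by rw [hN, map_zero]
    rw [map_smul, ← hw, smul_smul] at this
    rw [smul_smul]
    convert this using 2
    ring
  have hinj := IsLocalizedModule.smul_injective g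
    (⟨a ^ (N' + e), ⟨N' + e, rfl⟩⟩ : Submonoid.powers a)
  apply hinj
  change a ^ (N' + e) • (b ^ N' • z) = a ^ (N' + e) • (0 : N)
  rw [h1, smul_zero]

end Groth.Agent.Lib.Helper2.GlueLoc
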