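import Mathlib
import Groth.Agent.S11653
import Groth.Agent.S11660
import Groth.Agent.Lib.helper11.LCFinite

/-!
# Grothendieck's finiteness theorem for quotients of regular rings (helper2)

`finite_below_iff` : `H^i_I(M)` is finite for all `i ≤ n` iff `n < depth M_p + ht((I+p)/p)` for all
primes `p` not containing `I`.
-/

set_option autoImplicit false

namespace Groth.Agent.Lib.Helper2.GrothFin

universe u

open CategoryTheory Groth.Agent.Lib.helper11.LCKit

variable (S : Type u) [CommRing S] [IsRegularRing S] (R : Type u) [CommRing R]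
  [IsNoetherianRing R] (π : S →+* R) (hπ : Function.Surjective π) (I : Ideal R) (M : Type u)
  [AddCommGroup M] [Module R M] [Module.Finite R M]

omit [IsRegularRing S] in
theorem lt_finDimRel_iff (n : ℕ) :
    ((n : ℕ∞) + 1 ≤ LocCoh.finDimRel I I M) ↔
      ∀ i, i ≤ n → I ≤ (Module.annihilator R (LocCoh.H I i M)).radical := by
  unfold LocCoh.finDimRel
  constructor
  · intro h i hi
    by_contra hni
    have h1 : (⨅ (i : ℕ) (_ : ¬ I ≤ (Module.annihilator R (LocCoh.H I i M)).radical), (i : ℕ∞)) ≤
        i := iInf₂_le i hni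
    have h2 : ((n + 1 : ℕ) : ℕ∞) ≤ (i : ℕ∞) := by
      rw [Nat.cast_add, Nat.cast_one]
      exact h.trans h1
    have : n + 1 ≤ i := by exact_mod_cast h2
    omega
  · intro h
    refine le_iInf₂ (fun i hi => ?_)
    have hlt : n < i := by
      by_contra hle
      exact hi (h i (by omega))
    have : n + 1 ≤ i := hlt
    exact_mod_cast this

include hπ in
theorem finite_below_iff (n : ℕ) :
    (∀ i, i ≤ n → Module.Finite R (LocCoh.H I i M)) ↔
      ∀ p : PrimeSpectrum R, ¬ I ≤ p.asIdeal → (n : ℕ∞) < LocCoh.adjDepth I M p := by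
  have h1 := Groth.Agent.S11653.result R I I M
  have h2 := Groth.Agent.S11660.result S R π hπ I I M
  have heq : LocCoh.finDimRel I I M = LocCoh.minAdjDepth I I M := le_antisymm h1 h2
  constructor
  · intro hfin p hp
    have hrad : ∀ i, i ≤ n → I ≤ (Module.annihilator R (LocCoh.H I i M)).radical := by
      intro i hi
      haveI := hfin i hi
      obtain ⟨k, hk⟩ := exists_pow_kills_of_finite I (LocCoh.H I i M)
        (fun z => exists_pow_smul_eq_zero I i (ModuleCat.of R M) z)
      intro c hc
      exact ⟨k, Module.mem_annihilator.2 (fun z => hk _ (Ideal.pow_mem_pow hc k) z)⟩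
    have h3 := (lt_finDimRel_iff R I M n).2 hrad
    rw [heq] at h3
    have h4 : LocCoh.minAdjDepth I I M ≤ LocCoh.adjDepth I M p := iInf₂_le p hp
    exact (ENat.add_one_le_iff (ENat.coe_ne_top n)).1 (h3.trans h4)
  · intro h
    have h3 : (n : ℕ∞) + 1 ≤ LocCoh.minAdjDepth I I M := by
      unfold LocCoh.minAdjDepth
      exact le_iInf₂ (fun p hp => (ENat.add_one_le_iff (ENat.coe_ne_top n)).2 (h p hp))
    rw [← heq] at h3
    have hrad := (lt_finDimRel_iff R I M n).1 h3
    have hex : ∀ i, ∃ k : ℕ, i ≤ n → I ^ k ≤ Module.annihilator R (LocCoh.H I i M) := by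
      intro i
      by_cases hi : i ≤ n
      · obtain ⟨k, hk⟩ := Ideal.exists_pow_le_of_le_radical_of_fg (hrad i hi)
          (IsNoetherian.noetherian I)
        exact ⟨k, fun _ => hk⟩
      · exact ⟨0, fun h => absurd h hi⟩
    choose ν hν using hex
    have hkill : ∀ i, i ≤ n → ∀ a ∈ I ^ ((Finset.range (n + 1)).sup ν + 1),
        ∀ x : (localCohomology I i).obj (ModuleCat.of R M), a • x = 0 := by
      intro i hi a ha x
      have hle : ν i ≤ (Finset.range (n + 1)).sup ν + 1 :=
        (Finset.le_sup (f := ν) (Finset.mem_range.2 (by omega))).trans (Nat.le_succ _)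
      exact Module.mem_annihilator.1 (hν i hi (Ideal.pow_le_pow_right hle ha)) x
    have hIJ : I ≤ (I ^ ((Finset.range (n + 1)).sup ν + 1)).radical := by
      rw [Ideal.radical_pow I (Nat.succ_ne_zero _)]
      exact Ideal.le_radical
    exact finite_of_kills I n M _ hIJ hkill

end Groth.Agent.Lib.Helper2.GrothFin
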