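import Mathlib
import Groth.Agent.Lib.Helper2.SamuelDim

set_option autoImplicit false
universe u v w

namespace Groth.Agent.Lib.Helper2.SamuelPoly

open Groth.Agent.Lib.Helper2.BinPoly Groth.Agent.Lib.Helper2.RelLength
  Groth.Agent.Lib.Helper2.HilbSerre Groth.Agent.Lib.Helper2.HilbSamuel
  Groth.Agent.Lib.Helper2.SamuelI Groth.Agent.Lib.Helper2.SamuelDim
open Filter Polynomial

section Existence

variable {A : Type u} [CommRing A] [IsNoetherianRing A] [Finite (MaximalSpectrum A)]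
  (I : Ideal A) (M : Type v) [AddCommGroup M] [Module A M] [Module.Finite A M]

/-- `P` is a Hilbert–Samuel polynomial of `M` with respect to `I`. -/
def HSI (P : Polynomial ℚ) : Prop :=
  ∃ T : ℕ, ∀ t : ℕ, T ≤ t → ((chiI I M t : ℕ) : ℚ) = P.eval (t : ℚ)

variable {M}

theorem exists_HSI (hI : ∃ N, (Ring.jacobson A) ^ N ≤ I) : ∃ P, HSI I M P := by
  obtain ⟨s, x, hx⟩ := Submodule.fg_iff_exists_fin_generating_family.1
    (IsNoetherian.noetherian I)
  have hJ : Ideal.span (Set.range x) = I := hx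
  let ξ : Fin s → M →ₗ[A] M := fun i => LinearMap.lsmul A M (x i)
  have hacc : ACC ξ (fun n => RI I M n) := by
    have := acc_samuel (M := M) x
    rw [hJ] at this
    exact this
  have hxi : ∀ i, x i ∈ I := fun i => hJ ▸ Ideal.subset_span ⟨i, rfl⟩
  have hN : Stable ξ (fun n => RI I M n) := by
    rintro i n _ ⟨m, hm, rfl⟩
    exact smul_mem_RI I (hxi i) hm
  have hN' : Stable ξ (fun n => RI I M (n + 1)) := by
    rintro i n _ ⟨m, hm, rfl⟩
    exact smul_mem_RI I (hxi i) hm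
  have hfin : ∀ n, rl (RI I M (n + 1)) (RI I M n) ≠ ⊤ := fun n =>
    ne_top_of_le_ne_top (LI_ne_top I hI (n + 1))
      (rl_le_of_le_right (RI_anti I (Nat.le_succ n)) le_top)
  have hbin := hilbert_serre ξ (fun i j m => smul_comm _ _ _) (fun n => RI I M n) hacc s le_rfl
    (fun n => RI I M (n + 1)) (fun n => RI I M n) hN' hN (fun n => RI_anti I (Nat.le_succ n))
    (fun n => le_rfl) (fun i hi => absurd i.2 (not_lt.2 hi)) hfin
  have hC : IsBinPoly s (fun _ => (0 : ℤ)) :=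
    (isBinPoly_zero_iff.2 ⟨0, fun _ _ => rfl⟩).mono (Nat.zero_le s)
  have hH : IsBinPoly (s + 1) (fun n => ((LI I M n).toNat : ℤ)) := by
    refine IsBinPoly.integrate hC hbin.neg 0 (fun i _ => ?_)
    have h1 : LI I M (i + 1) = rl (RI I M (i + 1)) (RI I M i) + LI I M i :=
      rl_add (RI_anti I (Nat.le_succ i)) le_top
    have h2 : (LI I M (i + 1)).toNat = (rl (RI I M (i + 1)) (RI I M i)).toNat + (LI I M i).toNat := by
      rw [h1, ENat.toNat_add (hfin i) (LI_ne_top I hI i)]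
    simp only [h2]
    push_cast
    ring
  obtain ⟨c, N, hc⟩ := hH
  refine ⟨∑ k ∈ Finset.range (s + 1), (c k : ℚ) • Polynomial.preHilbertPoly ℚ k 0, N,
    fun n hn => ?_⟩
  have h3 : ((LI I M n).toNat : ℤ) = ∑ k ∈ Finset.range (s + 1), c k * b k n := hc n hn
  have h4 : ((chiI I M n : ℕ) : ℚ) = (((LI I M n).toNat : ℤ) : ℚ) := by
    unfold chiI
    push_cast
    rfl
  rw [h4, h3, Polynomial.eval_finset_sum]
  push_cast
  apply Finset.sum_congr rfl
  intro k _
  rw [Polynomial.eval_smul, Polynomial.preHilbertPoly_eq_choose_sub_add ℚ k (Nat.zero_le n)]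
  simp [b]

theorem HSI.nonneg {P : Polynomial ℚ} (h : HSI I M P) :
    ∃ N : ℕ, ∀ n : ℕ, N ≤ n → 0 ≤ P.eval (n : ℚ) := by
  obtain ⟨N, hN⟩ := h
  exact ⟨N, fun n hn => by rw [← hN n hn]; exact Nat.cast_nonneg _⟩

theorem HSI.natDegree_le {P Q : Polynomial ℚ} (hI : ∃ N, (Ring.jacobson A) ^ N ≤ I)
    (hP : HSI I M P) (hQ : HS A M Q) : P.natDegree ≤ Q.natDegree := by
  obtain ⟨N₀, hN₀⟩ := hI
  have hN₁ : (Ring.jacobson A) ^ (N₀ + 1) ≤ I :=
    (Ideal.pow_le_pow_right (Nat.le_succ N₀)).trans hN₀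
  obtain ⟨T, hT⟩ := hP
  obtain ⟨T', hT'⟩ := hQ
  have h1 := natDegree_le_of_eventually_le P (Q.comp (C ((N₀ + 1 : ℕ) : ℚ) * X))
    (HSI.nonneg I ⟨T, hT⟩)
    ⟨max T T', fun t ht => by
      have h1 : LI I M t ≤ L A M ((N₀ + 1) * t) := LI_le_of_pow_le hN₁ t
      have h2 : (LI I M t).toNat ≤ (L A M ((N₀ + 1) * t)).toNat :=
        ENat.toNat_le_toNat h1 (L_ne_top _)
      have h3 : T' ≤ (N₀ + 1) * t := by
        have := le_of_max_le_right ht
        nlinarith
      rw [← hT t (le_of_max_le_left ht), eval_comp, eval_mul, eval_C, eval_X]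
      have e1 : (((N₀ + 1 : ℕ) : ℚ) * (t : ℚ)) = (((N₀ + 1) * t : ℕ) : ℚ) := by push_cast; ring
      rw [e1, ← hT' _ h3]
      unfold chiI
      exact_mod_cast h2⟩
  refine h1.trans ?_
  refine natDegree_comp_le.trans ?_
  have : (C ((N₀ + 1 : ℕ) : ℚ) * X : Polynomial ℚ).natDegree ≤ 1 :=
    (natDegree_C_mul_le _ _).trans natDegree_X_le
  calc Q.natDegree * (C ((N₀ + 1 : ℕ) : ℚ) * X : Polynomial ℚ).natDegree
      ≤ Q.natDegree * 1 := Nat.mul_le_mul_left _ this
    _ = Q.natDegree := mul_one _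

theorem HSI.natDegree_ge {P Q : Polynomial ℚ} (hI : ∃ N, (Ring.jacobson A) ^ N ≤ I)
    (hI' : I ≤ Ring.jacobson A) (hP : HSI I M P) (hQ : HS A M Q) :
    Q.natDegree ≤ P.natDegree := by
  obtain ⟨T, hT⟩ := hP
  obtain ⟨T', hT'⟩ := hQ
  exact natDegree_le_of_eventually_le Q P (HS.nonneg ⟨T', hT'⟩)
    ⟨max T T', fun t ht => by
      rw [← hT t (le_of_max_le_left ht), ← hT' t (le_of_max_le_right ht)]
      have h1 : L A M t ≤ LI I M t := LI_le_of_le hI' t
      have h2 : (L A M t).toNat ≤ (LI I M t).toNat := ENat.toNat_le_toNat h1 (LI_ne_top I hI t)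
      unfold chiI
      exact_mod_cast h2⟩

end Existence

section PolyLimits

theorem eval_map_natCast (P : Polynomial ℚ) (t : ℕ) :
    (P.map (algebraMap ℚ ℝ)).eval (t : ℝ) = ((P.eval (t : ℚ) : ℚ) : ℝ) := by
  have : (t : ℝ) = algebraMap ℚ ℝ (t : ℚ) := by simp
  rw [this, Polynomial.eval_map_algebraMap, Polynomial.aeval_algebraMap_apply,
    Polynomial.aeval_def, Algebra.algebraMap_self, Polynomial.eval₂_id]
  rfl

theorem tendsto_coeff (P : Polynomial ℚ) (d : ℕ) (hd : P.natDegree ≤ d) (c : ℝ) :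
    Tendsto (fun t : ℕ => c * ((P.eval (t : ℚ) : ℚ) : ℝ) / (t : ℝ) ^ d) atTop
      (nhds (c * ((P.coeff d : ℚ) : ℝ))) := by
  set P' : Polynomial ℝ := P.map (algebraMap ℚ ℝ) with hP'
  have hinj : Function.Injective (algebraMap ℚ ℝ) := (algebraMap ℚ ℝ).injective
  have hdeg' : P'.degree = P.degree := Polynomial.degree_map_eq_of_injective hinj P
  have hcoeff : P'.coeff d = ((P.coeff d : ℚ) : ℝ) := by
    rw [hP', Polynomial.coeff_map]
    rfl
  have key : Tendsto (fun x : ℝ => eval x P' / eval x (X ^ d : Polynomial ℝ)) atTop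
      (nhds (P'.coeff d)) := by
    by_cases hlt : P.degree < (d : WithBot ℕ)
    · have h0 : P'.coeff d = 0 := by
        rw [hcoeff, Polynomial.coeff_eq_zero_of_degree_lt hlt]
        simp
      rw [h0]
      apply Polynomial.div_tendsto_zero_of_degree_lt
      rw [hdeg', Polynomial.degree_X_pow]
      exact hlt
    · have hle : P.degree ≤ (d : WithBot ℕ) :=
        (Polynomial.degree_le_natDegree).trans (by exact_mod_cast hd)
      have heq : P.degree = (d : WithBot ℕ) := le_antisymm hle (not_lt.1 hlt)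
      have h1 := Polynomial.div_tendsto_leadingCoeff_div_of_degree_eq P' (X ^ d : Polynomial ℝ)
        (by rw [hdeg', Polynomial.degree_X_pow, heq])
      have hP0 : P ≠ 0 := by
        rintro rfl
        simp at heq
      have hnd : P'.natDegree = d := by
        have : P.natDegree = d := Polynomial.natDegree_eq_of_degree_eq_some heq
        rw [hP', Polynomial.natDegree_map_eq_of_injective hinj, this]
      rw [Polynomial.leadingCoeff_X_pow, div_one, Polynomial.leadingCoeff, hnd] at h1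
      exact h1
  have h2 : Tendsto (fun t : ℕ => eval (t : ℝ) P' / eval (t : ℝ) (X ^ d : Polynomial ℝ)) atTop
      (nhds (P'.coeff d)) := key.comp tendsto_natCast_atTop_atTop
  have h3 := h2.const_mul c
  rw [hcoeff] at h3
  refine h3.congr (fun t => ?_)
  rw [eval_map_natCast, Polynomial.eval_pow, Polynomial.eval_X]
  ring

theorem leadingCoeff_nonneg_of_eventually_nonneg (P : Polynomial ℚ)
    (h0 : ∃ N : ℕ, ∀ n : ℕ, N ≤ n → 0 ≤ P.eval (n : ℚ)) : 0 ≤ P.leadingCoeff := by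
  by_cases hd : P.natDegree = 0
  · have hPC := Polynomial.eq_C_of_natDegree_eq_zero hd
    obtain ⟨N, hN⟩ := h0
    have := hN N le_rfl
    rw [hPC, Polynomial.eval_C] at this
    rw [hPC, Polynomial.leadingCoeff_C]
    exact this
  · by_contra hneg
    push_neg at hneg
    have hPpos : 0 < P.degree := Polynomial.natDegree_pos_iff_degree_pos.1 (Nat.pos_of_ne_zero hd)
    have ht := P.tendsto_atBot_of_leadingCoeff_nonpos hPpos hneg.le
    have hcast : Tendsto (fun n : ℕ => (n : ℚ)) atTop atTop := tendsto_natCast_atTop_atTop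
    have ht' : Tendsto (fun n : ℕ => P.eval (n : ℚ)) atTop atBot := ht.comp hcast
    have hev := ht'.eventually (eventually_lt_atBot 0)
    obtain ⟨N, hN⟩ := h0
    obtain ⟨n, hn1, hn2⟩ := (hev.and (eventually_ge_atTop N)).exists
    linarith [hN n hn2]

open fwdDiff in
theorem leadingCoeff_mul_factorial_int (P : Polynomial ℚ)
    (h : ∃ T : ℕ, ∀ t : ℕ, T ≤ t → ∃ z : ℤ, P.eval (t : ℚ) = (z : ℚ)) :
    ∃ z : ℤ, P.leadingCoeff * (P.natDegree.factorial : ℚ) = (z : ℚ) := by
  obtain ⟨T, hT⟩ := h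
  have h1 := congrFun (Polynomial.fwdDiff_iter_degree_eq_factorial P) (T : ℚ)
  rw [fwdDiff_iter_eq_sum_shift] at h1
  choose! zf hzf using hT
  refine ⟨∑ k ∈ Finset.range (P.natDegree + 1),
    ((-1 : ℤ) ^ (P.natDegree - k) * (P.natDegree.choose k : ℤ)) * zf (T + k), ?_⟩
  have h2 : (P.leadingCoeff • (P.natDegree.factorial : ℚ → ℚ)) (T : ℚ)
      = P.leadingCoeff * (P.natDegree.factorial : ℚ) := by
    simp
  rw [← h2, ← h1]
  push_cast
  apply Finset.sum_congr rfl
  intro k _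
  have e1 : ((T : ℚ) + k • (1 : ℚ)) = ((T + k : ℕ) : ℚ) := by
    push_cast
    simp
  rw [e1, hzf (T + k) (Nat.le_add_right T k)]
  simp [zsmul_eq_mul]

end PolyLimits

section Mult

variable {A : Type u} [CommRing A] [IsNoetherianRing A] [Finite (MaximalSpectrum A)]
  (I : Ideal A)

theorem HSI.tendsto {M : Type v} [AddCommGroup M] [Module A M] [Module.Finite A M]
    {P : Polynomial ℚ} (hP : HSI I M P) (d : ℕ) (hd : P.natDegree ≤ d) (c : ℝ) :
    Tendsto (fun t : ℕ => c *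
      ((Module.length A (M ⧸ (I ^ t • (⊤ : Submodule A M)))).toNat : ℝ) / (t : ℝ) ^ d) atTop
      (nhds (c * ((P.coeff d : ℚ) : ℝ))) := by
  obtain ⟨T, hT⟩ := hP
  refine (tendsto_coeff P d hd c).congr' ?_
  filter_upwards [eventually_ge_atTop T] with t ht
  rw [← hT t ht, chiI_eq]
  norm_cast

/-- the multiplicity exists when `dim M ≤ d`. -/
theorem exists_mult (hI : ∃ N, (Ring.jacobson A) ^ N ≤ I)
    (M : Type v) [AddCommGroup M] [Module A M] [Module.Finite A M] (d : ℕ)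
    (hd : Module.supportDim A M ≤ d) :
    ∃ e : ℝ, 0 ≤ e ∧ Tendsto (fun t : ℕ => (d.factorial : ℝ) *
      ((Module.length A (M ⧸ (I ^ t • (⊤ : Submodule A M)))).toNat : ℝ) / (t : ℝ) ^ d) atTop
      (nhds e) := by
  obtain ⟨P, hP⟩ := exists_HSI I (M := M) hI
  obtain ⟨Q, hQ⟩ := exists_HS (A := A) (M := M)
  have h1 : P.natDegree ≤ d := (HSI.natDegree_le I hI hP hQ).trans (HS.natDegree_le_supportDim hQ d hd)
  refine ⟨(d.factorial : ℝ) * ((P.coeff d : ℚ) : ℝ), ?_, HSI.tendsto I hP d h1 _⟩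
  apply mul_nonneg (by positivity)
  by_cases h2 : P.natDegree = d
  · have := leadingCoeff_nonneg_of_eventually_nonneg P (HSI.nonneg I hP)
    rw [Polynomial.leadingCoeff, h2] at this
    exact_mod_cast this
  · rw [Polynomial.coeff_eq_zero_of_natDegree_lt (lt_of_le_of_ne h1 h2)]
    simp

/-- the multiplicity is a positive integer when `dim M = d`. -/
theorem exists_mult_pos (hI : ∃ N, (Ring.jacobson A) ^ N ≤ I) (hI' : I ≤ Ring.jacobson A)
    (M : Type u) [AddCommGroup M] [Module A M] [Module.Finite A M] [Nontrivial M] (d : ℕ)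
    (hd : Module.supportDim A M = d) :
    ∃ e : ℝ, 1 ≤ e ∧ Tendsto (fun t : ℕ => (d.factorial : ℝ) *
      ((Module.length A (M ⧸ (I ^ t • (⊤ : Submodule A M)))).toNat : ℝ) / (t : ℝ) ^ d) atTop
      (nhds e) := by
  obtain ⟨P, hP⟩ := exists_HSI I (M := M) hI
  obtain ⟨Q, hQ⟩ := exists_HS (A := A) (M := M)
  have hQd : Q.natDegree = d := by
    apply le_antisymm (HS.natDegree_le_supportDim hQ d (le_of_eq hd))
    have := HS.supportDim_le_natDegree hQ
    rw [hd] at this
    exact_mod_cast this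
  have hPd : P.natDegree = d := by
    rw [← hQd]
    exact le_antisymm (HSI.natDegree_le I hI hP hQ) (HSI.natDegree_ge I hI hI' hP hQ)
  refine ⟨(d.factorial : ℝ) * ((P.coeff d : ℚ) : ℝ), ?_, HSI.tendsto I hP d (le_of_eq hPd) _⟩
  have hlc0 := leadingCoeff_nonneg_of_eventually_nonneg P (HSI.nonneg I hP)
  -- P ≠ 0
  obtain ⟨T, hT⟩ := hP
  have hP0 : P ≠ 0 := by
    rintro rfl
    have h1 := hT (max T 1) (le_max_left _ _)
    rw [Polynomial.eval_zero] at h1
    have h2 : chiI I M (max T 1) = 0 := by exact_mod_cast h1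
    have h3 : L A M (max T 1) ≤ LI I M (max T 1) := LI_le_of_le hI' _
    have h4 : 1 ≤ L A M (max T 1) := one_le_L (le_max_right _ _)
    have h5 : (chiI I M (max T 1) : ℕ∞) = LI I M (max T 1) := coe_chiI I hI _
    rw [h2] at h5
    rw [← h5] at h3
    have := h4.trans h3
    simp at this
  have hlc : 0 < P.leadingCoeff := lt_of_le_of_ne hlc0 (Ne.symm (Polynomial.leadingCoeff_ne_zero.2 hP0))
  obtain ⟨z, hz⟩ := leadingCoeff_mul_factorial_int P
    ⟨T, fun t ht => ⟨(chiI I M t : ℤ), by rw [← hT t ht]; norm_cast⟩⟩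
  rw [hPd] at hz
  have hzpos : 0 < z := by
    have : (0 : ℚ) < (z : ℚ) := by
      rw [← hz]
      positivity
    exact_mod_cast this
  have hz1 : (1 : ℚ) ≤ (z : ℚ) := by exact_mod_cast hzpos
  have e1 : P.coeff d = P.leadingCoeff := by rw [Polynomial.leadingCoeff, hPd]
  have e2 : (d.factorial : ℝ) * ((P.coeff d : ℚ) : ℝ) = ((z : ℚ) : ℝ) := by
    rw [← hz, e1]
    push_cast
    ring
  rw [e2]
  exact_mod_cast hz1

end Mult

end Groth.Agent.Lib.Helper2.SamuelPoly
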