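import Mathlib

/-!
# Finite chains and strict series in a partial order (helper2)

`terms s` is the finite set of terms of `s : LTSeries α`; a finite nonempty chain is the set of terms of a strict
series (`exists_series`); consecutive elements of `terms s` are consecutive terms.
-/

set_option autoImplicit false
universe u

namespace Groth.Agent.Lib.Helper2.HNChain

open Classical

variable {α : Type u} [PartialOrder α]

/-- the finite set of terms of a strict series -/
noncomputable def terms (s : LTSeries α) : Finset α := Finset.image s.toFun Finset.univ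

theorem mem_terms {s : LTSeries α} {a : α} : a ∈ terms s ↔ ∃ i, s i = a := by
  unfold terms
  simp

theorem mem_terms_self (s : LTSeries α) (i : Fin (s.length + 1)) : s i ∈ terms s :=
  mem_terms.2 ⟨i, rfl⟩

theorem isChain_terms (s : LTSeries α) : IsChain (· ≤ ·) (terms s : Set α) := by
  intro a ha b hb _
  obtain ⟨i, rfl⟩ := mem_terms.1 (Finset.mem_coe.1 ha)
  obtain ⟨j, rfl⟩ := mem_terms.1 (Finset.mem_coe.1 hb)
  rcases le_total i j with h | h
  · exact Or.inl (s.strictMono.monotone h)
  · exact Or.inr (s.strictMono.monotone h)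

/-- `A` and `B` are consecutive in `C` -/
def Consec (C : Finset α) (A B : α) : Prop := ∀ D ∈ C, ¬ (A < D ∧ D < B)

theorem consec_terms (s : LTSeries α) (i : Fin s.length) : Consec (terms s) (s i.castSucc) (s i.succ) := by
  intro D hD
  obtain ⟨j, rfl⟩ := mem_terms.1 hD
  rintro ⟨h1, h2⟩
  have h1' := s.strictMono.lt_iff_lt.1 h1
  have h2' := s.strictMono.lt_iff_lt.1 h2
  rw [Fin.lt_def] at h1' h2'
  simp only [Fin.val_castSucc, Fin.val_succ] at h1' h2'
  omega

theorem exists_of_consec (s : LTSeries α) {A B : α} (hA : A ∈ terms s) (hB : B ∈ terms s) (hAB : A < B)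
    (hc : Consec (terms s) A B) : ∃ i : Fin s.length, s i.castSucc = A ∧ s i.succ = B := by
  obtain ⟨a, rfl⟩ := mem_terms.1 hA
  obtain ⟨b, rfl⟩ := mem_terms.1 hB
  have hab : a < b := s.strictMono.lt_iff_lt.1 hAB
  have hab' : a.val < b.val := hab
  have hb : b.val < s.length + 1 := b.2
  have key : b.val = a.val + 1 := by
    by_contra hne
    have h1 : a.val + 1 < b.val := by omega
    refine hc (s ⟨a.val + 1, by omega⟩) (mem_terms_self s _) ⟨?_, ?_⟩
    · exact s.strictMono (by rw [Fin.lt_def]; simp)
    · exact s.strictMono (by rw [Fin.lt_def]; exact h1)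
  refine ⟨⟨a.val, by omega⟩, ?_, ?_⟩
  · congr 1
  · congr 1
    exact Fin.ext (by simp [key])

theorem head_eq (s : LTSeries α) {a : α} (ha : a ∈ terms s) (hmin : ∀ x ∈ terms s, a ≤ x) : s.head = a := by
  obtain ⟨i, rfl⟩ := mem_terms.1 ha
  refine le_antisymm (s.strictMono.monotone (Fin.zero_le i)) (hmin _ (mem_terms_self s _))

theorem last_eq (s : LTSeries α) {a : α} (ha : a ∈ terms s) (hmax : ∀ x ∈ terms s, x ≤ a) : s.last = a := by
  obtain ⟨i, rfl⟩ := mem_terms.1 ha
  refine le_antisymm (hmax _ (mem_terms_self s _)) (s.strictMono.monotone (Fin.le_last i))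

/-- a finite nonempty chain is the set of terms of a strict series -/
theorem exists_series (C : Finset α) (hne : C.Nonempty) (hC : IsChain (· ≤ ·) (C : Set α)) :
    ∃ s : LTSeries α, terms s = C := by
  letI : LinearOrder ↥(C : Set α) := hC.linearOrder
  haveI : Fintype ↥(C : Set α) := Fintype.ofFinite _
  have hcard : 0 < Fintype.card ↥(C : Set α) := by
    obtain ⟨x, hx⟩ := hne
    exact Fintype.card_pos_iff.2 ⟨⟨x, hx⟩⟩
  obtain ⟨n, hn⟩ : ∃ n, Fintype.card ↥(C : Set α) = n + 1 := ⟨Fintype.card ↥(C : Set α) - 1, by omega⟩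
  let e := monoEquivOfFin ↥(C : Set α) hn
  refine ⟨⟨n, fun i => (e i).1, fun i => ?_⟩, ?_⟩
  · show (e i.castSucc).1 < (e i.succ).1
    have h : e i.castSucc < e i.succ := e.strictMono (Fin.castSucc_lt_succ (i := i))
    exact h
  · ext a
    rw [mem_terms]
    constructor
    · rintro ⟨i, rfl⟩
      exact (e i).2
    · intro ha
      exact ⟨e.symm ⟨a, ha⟩, by simp⟩

end Groth.Agent.Lib.Helper2.HNChain
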