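import Groth.Agent.Lib.Helper4.HilbPoly2
import Groth.Prelude.Def_W4c2simpsonmod1HP

/-!
# Comparing the two forms of the reduced comparison of polynomials (helper2)
-/

set_option autoImplicit false
open Polynomial

namespace Groth.Agent.Lib.Helper2.HNChain

open Groth.Agent.Lib.Helper4.HilbPoly

theorem rankOf_eq_alpha (d : ℕ) (φ : ℚ[X]) : W4c2simpsonmod1.rankOf d φ = StabCat.alpha d φ := rfl

theorem wRedLE_of_redLE {d : ℕ} {ψ φ : ℚ[X]} (hψ : 0 < StabCat.alpha d ψ) (hφ : 0 < StabCat.alpha d φ)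
    (h : StabCat.RedLE d ψ φ) : W4c2simpsonmod1.RedLE d ψ φ := by
  rw [redLE_iff] at h
  obtain ⟨N, hN⟩ := h
  refine ⟨(N : ℤ), fun m hm => ?_⟩
  rw [rankOf_eq_alpha, rankOf_eq_alpha, div_le_div_iff₀ hψ hφ]
  have hm0 : 0 ≤ m := le_trans (Int.natCast_nonneg N) hm
  obtain ⟨m', rfl⟩ := Int.eq_ofNat_of_zero_le hm0
  have := hN m' (by exact_mod_cast hm)
  have hc : (((m' : ℤ) : ℚ)) = (m' : ℚ) := by push_cast; rfl
  rw [hc]
  linarith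

theorem redLE_of_wRedLE {d : ℕ} {ψ φ : ℚ[X]} (hψ : 0 < StabCat.alpha d ψ) (hφ : 0 < StabCat.alpha d φ)
    (h : W4c2simpsonmod1.RedLE d ψ φ) : StabCat.RedLE d ψ φ := by
  rw [redLE_iff]
  obtain ⟨N, hN⟩ := h
  refine ⟨N.toNat, fun m hm => ?_⟩
  have := hN (m : ℤ) (by omega)
  rw [rankOf_eq_alpha, rankOf_eq_alpha, div_le_div_iff₀ hψ hφ] at this
  have hc : (((m : ℤ) : ℚ)) = (m : ℚ) := by push_cast; rfl
  rw [hc] at this
  linarith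

theorem wRedLT_of_redLT {d : ℕ} {ψ φ : ℚ[X]} (hψ : 0 < StabCat.alpha d ψ) (hφ : 0 < StabCat.alpha d φ)
    (h : StabCat.RedLT d ψ φ) : W4c2simpsonmod1.RedLT d ψ φ := by
  rw [redLT_iff] at h
  obtain ⟨N, hN⟩ := h
  refine ⟨(N : ℤ), fun m hm => ?_⟩
  rw [rankOf_eq_alpha, rankOf_eq_alpha, div_lt_div_iff₀ hψ hφ]
  have hm0 : 0 ≤ m := le_trans (Int.natCast_nonneg N) hm
  obtain ⟨m', rfl⟩ := Int.eq_ofNat_of_zero_le hm0
  have := hN m' (by exact_mod_cast hm)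
  have hc : (((m' : ℤ) : ℚ)) = (m' : ℚ) := by push_cast; rfl
  rw [hc]
  linarith

theorem redLT_of_wRedLT {d : ℕ} {ψ φ : ℚ[X]} (hψ : 0 < StabCat.alpha d ψ) (hφ : 0 < StabCat.alpha d φ)
    (h : W4c2simpsonmod1.RedLT d ψ φ) : StabCat.RedLT d ψ φ := by
  rw [redLT_iff]
  obtain ⟨N, hN⟩ := h
  refine ⟨N.toNat, fun m hm => ?_⟩
  have := hN (m : ℤ) (by omega)
  rw [rankOf_eq_alpha, rankOf_eq_alpha, div_lt_div_iff₀ hψ hφ] at this
  have hc : (((m : ℤ) : ℚ)) = (m : ℚ) := by push_cast; rfl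
  rw [hc] at this
  linarith

theorem wRedLE_refl (d : ℕ) (φ : ℚ[X]) : W4c2simpsonmod1.RedLE d φ φ := ⟨0, fun _ _ => le_refl _⟩

end Groth.Agent.Lib.Helper2.HNChain
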