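import Groth.Agent.Lib.Helper2.HNChain2
import Groth.Agent.Lib.Helper2.EulerP2
import Groth.Agent.Lib.Helper2.IntNum1
import Groth.Agent.Lib.Helper2.SerreFin2
import Groth.Agent.Lib.Helper28.TwistGenD
import Groth.Agent.Lib.Helper28.VeryAmpleImm
import Groth.Agent.Lib.Helper28.TwistCov
import Groth.Agent.Lib.Helper28.ProjSpaceBasic
import Groth.Agent.Lib.Helper4.HilbPoly3
import Groth.Agent.Lib.Helper4.ProperFinal
import Groth.Agent.S10829

/-!
# Hilbert polynomials on projective space: twists by all integers versus powers of `O(1)` (helper2)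
-/

set_option backward.isDefEq.respectTransparency.types false
set_option autoImplicit false
set_option linter.style.haveILetI false
universe u
open CategoryTheory CategoryTheory.Limits AlgebraicGeometry Polynomial

namespace Groth.Agent.Lib.Helper2.HNChain

open Groth.Agent.Lib.Helper4.HilbPoly

variable (k : Type u) [Field k] (n : ℕ)

/-- `φ` computes `χ(F(m))` for every integer `m` -/
def ZHP (F : (CohB1.ProjSpace n k).Modules) (φ : ℚ[X]) : Prop :=
  ∀ m : ℤ, (Curv2.euler k (CohB1.ProjSpace n k)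
    (CohB1.tensorMod F (Twist.twistProjSpace n k m)) : ℚ) = φ.eval (m : ℚ)

instance isProper_projSpace : IsProper ((CohB1.ProjSpace n k) ↘ (Spec (CommRingCat.of k))) :=
  Groth.Agent.Lib.Helper28.ProjSpaceBasic.isProper_toSpec n k

theorem isAmple_O1 : CohB1.IsAmple (Twist.twistProjSpace n k ((1 : ℕ) : ℤ)) := by
  haveI : CompactSpace (Proj (CohB1.polyGrading n k)) :=
    inferInstanceAs (CompactSpace (CohB1.ProjSpace n k))
  have hcov := Groth.Agent.Lib.Helper28.VeryAmpleImm.projSpace_cover n k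
  exact Groth.Agent.Lib.Helper28.TwistGenD.isAmple_twist_of_cover (CohB1.polyGrading n k) 1 one_pos hcov

theorem euler_twist_nat (F : (CohB1.ProjSpace n k).Modules) (m : ℕ) :
    Curv2.euler k (CohB1.ProjSpace n k) (CohB1.tensorMod F (Twist.twistProjSpace n k (m : ℤ))) =
      Curv2.euler k (CohB1.ProjSpace n k)
        (CohB1.tensorMod F (CohB1.tensorPow (Twist.twistProjSpace n k ((1 : ℕ) : ℤ)) m)) := by
  haveI : CompactSpace (Proj (CohB1.polyGrading n k)) :=
    inferInstanceAs (CompactSpace (CohB1.ProjSpace n k))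
  have hcov := Groth.Agent.Lib.Helper28.VeryAmpleImm.projSpace_cover n k
  obtain ⟨e⟩ := Groth.Agent.Lib.Helper28.TwistCov.nonempty_twist_iso_tensorPow (CohB1.polyGrading n k) hcov m
  exact Groth.Agent.Lib.Helper8.EulerK.euler_congr k (PicGrp.tensorModIso (Iso.refl F) e)

theorem isHilbPoly_of_ZHP {F : (CohB1.ProjSpace n k).Modules} {φ : ℚ[X]} (h : ZHP k n F φ) :
    ShStab.IsHilbPoly k (CohB1.ProjSpace n k) (Twist.twistProjSpace n k ((1 : ℕ) : ℤ)) F φ := by
  intro m
  have hm := h (m : ℤ)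
  have hcast : ((m : ℤ) : ℚ) = (m : ℚ) := by push_cast; rfl
  rw [hcast, euler_twist_nat k n F m] at hm
  exact hm

theorem exists_ZHP (F : (CohB1.ProjSpace n k).Modules) (hF : Coh.IsCoh F) : ∃ φ : ℚ[X], ZHP k n F φ := by
  obtain ⟨P, hP⟩ := Groth.Agent.Lib.Helper2.EulerP2.exists_hilbert_polynomial n k F hF
  refine ⟨P, fun m => ?_⟩
  rw [← hP m]
  have hdimX : topologicalKrullDim ↥(CohB1.ProjSpace n k) = (n : WithBot ℕ∞) :=
    Groth.Agent.S10829.result k n
  have hcohT : Coh.IsCoh (Twist.twistProjSpace n k m) :=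
    Groth.Agent.Lib.Helper2.SerreFin2.isCoh_twist n k _
  have hcoh1 : Coh.IsCoh (CohB1.tensorMod F (Twist.twistProjSpace n k m)) :=
    Groth.Agent.Lib.Helper6.K0Op.isCoh_tensorMod _ _ hF hcohT
  rw [← Groth.Agent.Lib.Helper2.IntNum1.eulerCharLE_eq_euler k (CohB1.ProjSpace n k) n hdimX.le]
  unfold FGA.eulerCharLE Groth.Agent.Lib.Helper2.EulerP2.hilb Groth.Agent.Lib.Helper2.EulerP1.chi
  push_cast
  refine Finset.sum_congr rfl fun j _ => ?_
  haveI : Module.Finite k (Coh.HH (CohB1.ProjSpace n k) (CohB1.tensorMod F (Twist.twistProjSpace n k m)) j) :=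
    Groth.Agent.Lib.Helper4.ProperFinal.finite_HH k _ _ hcoh1 j
  rw [Module.length_eq_finrank]
  simp

theorem ZHP_of_isHilbPoly {F : (CohB1.ProjSpace n k).Modules} (hF : Coh.IsCoh F) {φ : ℚ[X]}
    (h : ShStab.IsHilbPoly k (CohB1.ProjSpace n k) (Twist.twistProjSpace n k ((1 : ℕ) : ℤ)) F φ) :
    ZHP k n F φ := by
  obtain ⟨ψ, hψ⟩ := exists_ZHP k n F hF
  have := isHilbPoly_unique k h (isHilbPoly_of_ZHP k n hψ)
  rw [this]
  exact hψ

end Groth.Agent.Lib.Helper2.HNChain
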