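import Groth.Agent.Lib.Helper2.HNChain1
import Groth.Agent.Lib.Helper2.HNChain3
import Groth.Agent.Lib.Helper4.HNUniq1
import Groth.Agent.Lib.Helper4.HilbPoly7
import Groth.Agent.Lib.Helper4.SubPre3

/-!
# The Harder–Narasimhan filtration on projective space as a finite chain of subobjects (helper2)

Translation of helper4's `HNUniq.existsUnique_isHNFiltration` (strict series form, powers of an ample module) to the
form with a finite chain of subobjects and Hilbert polynomials for all integer twists on `P^n_k`.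
-/

set_option backward.isDefEq.respectTransparency.types false
set_option autoImplicit false
set_option linter.style.haveILetI false
universe u
open CategoryTheory CategoryTheory.Limits AlgebraicGeometry Polynomial

namespace Groth.Agent.Lib.Helper2.HNChain

open Groth.Agent.Lib.Helper4.HilbPoly Groth.Agent.Lib.Helper4.SubPre Groth.Agent.Lib.Helper4.HNFilt
  Groth.Agent.Lib.Helper4.HNUniq

variable (k : Type u) [Field k] (n d : ℕ)

/-- pure of dimension `d`, in the form of the statement -/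
def PureD (Q : (CohB1.ProjSpace n k).Modules) : Prop :=
  topologicalKrullDim ↥(CohB1.support Q) = (d : WithBot ℕ∞) ∧
    ∀ (G : (CohB1.ProjSpace n k).Modules) (ι : G ⟶ Q), Mono ι → Coh.IsCoh G → ¬ IsZero G →
      topologicalKrullDim ↥(CohB1.support G) = (d : WithBot ℕ∞)

/-- p-semistable, in the form of the statement -/
def SSW (Q : (CohB1.ProjSpace n k).Modules) : Prop :=
  ∀ (G : (CohB1.ProjSpace n k).Modules) (ι : G ⟶ Q), Mono ι → Coh.IsCoh G → ¬ IsZero G →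
    ∀ φ ψ : Polynomial ℚ, ZHP k n Q φ → ZHP k n G ψ → W4c2simpsonmod1.RedLE d ψ φ

variable {k n d}

theorem isSemistable_of {Q : (CohB1.ProjSpace n k).Modules} (hQ : Coh.IsCoh Q) (h0 : ¬ IsZero Q)
    (hp : PureD k n d Q) (hs : SSW k n d Q) :
    ShStab.IsSemistable k (CohB1.ProjSpace n k) (Twist.twistProjSpace n k ((1 : ℕ) : ℤ)) Q d := by
  have hO1 := isAmple_O1 k n
  refine ⟨hQ, h0, hp.2, ?_⟩
  intro F ι hι hF hF0 _ pF pE hpF hpE
  have zF := ZHP_of_isHilbPoly k n hF hpF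
  have zE := ZHP_of_isHilbPoly k n hQ hpE
  have w := hs F ι hι hF hF0 pE pF zE zF
  exact redLE_of_wRedLE (alpha_pos k hO1 hF (hp.2 F ι hι hF hF0) hpF) (alpha_pos k hO1 hQ hp.1 hpE) w

theorem of_isSemistable {Q : (CohB1.ProjSpace n k).Modules}
    (h : ShStab.IsSemistable k (CohB1.ProjSpace n k) (Twist.twistProjSpace n k ((1 : ℕ) : ℤ)) Q d) :
    PureD k n d Q ∧ SSW k n d Q := by
  have hO1 := isAmple_O1 k n
  obtain ⟨hQ, h0, hpure, hss⟩ := h
  have hdim := dim_support_of_isPure hQ h0 hpure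
  refine ⟨⟨hdim, hpure⟩, ?_⟩
  intro G ι hι hG hG0 φ ψ zφ zψ
  have hpφ := isHilbPoly_of_ZHP k n zφ
  have hpψ := isHilbPoly_of_ZHP k n zψ
  by_cases hiso : IsIso ι
  · have h1 := isHilbPoly_of_iso k hO1.1 (asIso ι) hG hpψ
    have h2 : ψ = φ := isHilbPoly_unique k h1 hpφ
    rw [h2]
    exact wRedLE_refl d φ
  · have h1 := hss G ι hι hG hG0 hiso ψ φ hpψ hpφ
    exact wRedLE_of_redLE (alpha_pos k hO1 hG (hpure G ι hι hG hG0) hpψ) (alpha_pos k hO1 hQ hdim hpφ) h1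

theorem wRedLT_of {Q₁ Q₂ : (CohB1.ProjSpace n k).Modules} (h₁ : Coh.IsCoh Q₁) (h₂ : Coh.IsCoh Q₂)
    (hd₁ : topologicalKrullDim ↥(CohB1.support Q₁) = (d : WithBot ℕ∞))
    (hd₂ : topologicalKrullDim ↥(CohB1.support Q₂) = (d : WithBot ℕ∞))
    (h : ∀ p q : ℚ[X], ShStab.IsHilbPoly k (CohB1.ProjSpace n k) (Twist.twistProjSpace n k ((1 : ℕ) : ℤ)) Q₁ p →
      ShStab.IsHilbPoly k (CohB1.ProjSpace n k) (Twist.twistProjSpace n k ((1 : ℕ) : ℤ)) Q₂ q → StabCat.RedLT d q p)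
    (ψ ψ' : ℚ[X]) (z : ZHP k n Q₁ ψ) (z' : ZHP k n Q₂ ψ') : W4c2simpsonmod1.RedLT d ψ' ψ := by
  have hO1 := isAmple_O1 k n
  have hp := isHilbPoly_of_ZHP k n z
  have hp' := isHilbPoly_of_ZHP k n z'
  exact wRedLT_of_redLT (alpha_pos k hO1 h₂ hd₂ hp') (alpha_pos k hO1 h₁ hd₁ hp) (h ψ ψ' hp hp')

theorem redLT_of {Q₁ Q₂ : (CohB1.ProjSpace n k).Modules} (h₁ : Coh.IsCoh Q₁) (h₂ : Coh.IsCoh Q₂)
    (hd₁ : topologicalKrullDim ↥(CohB1.support Q₁) = (d : WithBot ℕ∞))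
    (hd₂ : topologicalKrullDim ↥(CohB1.support Q₂) = (d : WithBot ℕ∞))
    (h : ∀ ψ ψ' : ℚ[X], ZHP k n Q₁ ψ → ZHP k n Q₂ ψ' → W4c2simpsonmod1.RedLT d ψ' ψ)
    (p q : ℚ[X]) (hp : ShStab.IsHilbPoly k (CohB1.ProjSpace n k) (Twist.twistProjSpace n k ((1 : ℕ) : ℤ)) Q₁ p)
    (hq : ShStab.IsHilbPoly k (CohB1.ProjSpace n k) (Twist.twistProjSpace n k ((1 : ℕ) : ℤ)) Q₂ q) :
    StabCat.RedLT d q p := by
  have hO1 := isAmple_O1 k n
  have z := ZHP_of_isHilbPoly k n h₁ hp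
  have z' := ZHP_of_isHilbPoly k n h₂ hq
  exact redLT_of_wRedLT (alpha_pos k hO1 h₂ hd₂ hq) (alpha_pos k hO1 h₁ hd₁ hp) (h p q z z')

/-- the terms of a Harder–Narasimhan filtration are coherent -/
theorem isCoh_term {E : (CohB1.ProjSpace n k).Modules} (s : LTSeries (Subobject E))
    (hs : ShStab.IsHNFiltration k (CohB1.ProjSpace n k) (Twist.twistProjSpace n k ((1 : ℕ) : ℤ)) E d s) :
    ∀ (m : ℕ) (h : m < s.length + 1), Coh.IsCoh ((s ⟨m, h⟩ : Subobject E) : (CohB1.ProjSpace n k).Modules) := by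
  haveI : IsLocallyNoetherian (CohB1.ProjSpace n k) :=
    Groth.Agent.Lib.Helper8.EulerK.isLocallyNoetherian k (CohB1.ProjSpace n k)
  intro m
  induction m with
  | zero =>
    intro h
    have h1 : s ⟨0, h⟩ = ⊥ := hs.1
    rw [h1]
    exact Groth.Agent.Lib.Helper6.DevRed.isCoh_of_isZero (isZero_bot_coe E)
  | succ m ih =>
    intro h
    have hm : m < s.length := by omega
    have hx : Coh.IsCoh ((s (Fin.castSucc ⟨m, hm⟩) : Subobject E) : (CohB1.ProjSpace n k).Modules) := ih (by omega)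
    have hSE := shortExact_ofLE (le_of_lt (s.step ⟨m, hm⟩))
    exact isCoh_of_shortExact _ hSE hx (hs.2.2.1 ⟨m, hm⟩).1

end Groth.Agent.Lib.Helper2.HNChain
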