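import Groth.Agent.Lib.Helper2.HNChain4
import Groth.Agent.Lib.Helper4.HNExist1

/-!
# Harder–Narasimhan filtration on `P^n_k` as a finite chain of subobjects: the main statement (helper2)
-/

set_option backward.isDefEq.respectTransparency.types false
set_option autoImplicit false
set_option linter.style.haveILetI false
universe u
open CategoryTheory CategoryTheory.Limits AlgebraicGeometry Polynomial

namespace Groth.Agent.Lib.Helper2.HNChain

open Groth.Agent.Lib.Helper4.HilbPoly Groth.Agent.Lib.Helper4.SubPre Groth.Agent.Lib.Helper4.HNFilt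
  Groth.Agent.Lib.Helper4.HNUniq Groth.Agent.Lib.Helper4.HNExist

variable (k : Type u) [Field k] (n d : ℕ)

/-- the conditions on a finite chain of subobjects -/
def IsHNChain (E : (CohB1.ProjSpace n k).Modules) (C : Finset (Subobject E)) : Prop :=
  ⊥ ∈ C ∧ ⊤ ∈ C ∧ IsChain (fun A B : Subobject E => A ≤ B) (↑C : Set (Subobject E)) ∧
    (∀ A ∈ C, Coh.IsCoh (A : (CohB1.ProjSpace n k).Modules)) ∧
    (∀ A ∈ C, ∀ B ∈ C, ∀ hAB : A < B, (∀ D ∈ C, ¬ (A < D ∧ D < B)) →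
      PureD k n d (cokernel (Subobject.ofLE A B hAB.le)) ∧ SSW k n d (cokernel (Subobject.ofLE A B hAB.le))) ∧
    (∀ A ∈ C, ∀ B ∈ C, ∀ B' ∈ C, ∀ hAB : A < B, ∀ hBB : B < B',
      (∀ D ∈ C, ¬ (A < D ∧ D < B)) → (∀ D ∈ C, ¬ (B < D ∧ D < B')) →
      ∀ ψ ψ' : Polynomial ℚ, ZHP k n (cokernel (Subobject.ofLE A B hAB.le)) ψ →
        ZHP k n (cokernel (Subobject.ofLE B B' hBB.le)) ψ' → W4c2simpsonmod1.RedLT d ψ' ψ)

variable {k n d}

theorem isHNChain_terms {E : (CohB1.ProjSpace n k).Modules} (s : LTSeries (Subobject E))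
    (hs : ShStab.IsHNFiltration k (CohB1.ProjSpace n k) (Twist.twistProjSpace n k ((1 : ℕ) : ℤ)) E d s) :
    IsHNChain k n d E (terms s) := by
  have hcoh := isCoh_term s hs
  have hfac : ∀ i : Fin s.length, Coh.IsCoh (StabCat.factor s i) ∧
      topologicalKrullDim ↥(CohB1.support (StabCat.factor s i)) = (d : WithBot ℕ∞) := fun i =>
    ⟨(hs.2.2.1 i).1, dim_support_of_isPure (hs.2.2.1 i).1 (hs.2.2.1 i).2.1 (hs.2.2.1 i).2.2.1⟩
  refine ⟨mem_terms.2 ⟨0, hs.1⟩, mem_terms.2 ⟨Fin.last _, hs.2.1⟩, isChain_terms s, ?_, ?_, ?_⟩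
  · intro A hA
    obtain ⟨i, rfl⟩ := mem_terms.1 hA
    exact hcoh i.val i.2
  · intro A hA B hB hAB hc
    obtain ⟨i, rfl, rfl⟩ := exists_of_consec s hA hB hAB hc
    exact of_isSemistable (hs.2.2.1 i)
  · intro A hA B hB B' hB' hAB hBB hc hc' ψ ψ' z z'
    obtain ⟨i, hiA, hiB⟩ := exists_of_consec s hA hB hAB hc
    obtain ⟨j, hjB, hjB'⟩ := exists_of_consec s hB hB' hBB hc'
    have hinj : j.castSucc = i.succ := s.strictMono.injective (hjB.trans hiB.symm)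
    have hij : i.val + 1 = j.val := by
      have := congrArg Fin.val hinj
      simp only [Fin.val_castSucc, Fin.val_succ] at this
      omega
    obtain ⟨iv, hiv⟩ := i
    obtain ⟨jv, hjv⟩ := j
    simp only at hij
    subst hij
    subst hiA
    subst hiB
    subst hjB'
    exact wRedLT_of (hfac ⟨iv, hiv⟩).1 (hfac ⟨iv + 1, hjv⟩).1 (hfac ⟨iv, hiv⟩).2 (hfac ⟨iv + 1, hjv⟩).2
      (hs.2.2.2 ⟨iv, hiv⟩ ⟨iv + 1, hjv⟩ rfl) ψ ψ' z z'

theorem isHNFiltration_of_isHNChain {E : (CohB1.ProjSpace n k).Modules} (s : LTSeries (Subobject E))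
    (h : IsHNChain k n d E (terms s)) :
    ShStab.IsHNFiltration k (CohB1.ProjSpace n k) (Twist.twistProjSpace n k ((1 : ℕ) : ℤ)) E d s := by
  obtain ⟨hbot, htop, -, hcohC, hc, hd⟩ := h
  have hmem : ∀ i, s i ∈ terms s := mem_terms_self s
  have hss : ∀ i : Fin s.length,
      ShStab.IsSemistable k (CohB1.ProjSpace n k) (Twist.twistProjSpace n k ((1 : ℕ) : ℤ)) (StabCat.factor s i) d := by
    intro i
    obtain ⟨hp, hsw⟩ := hc _ (hmem i.castSucc) _ (hmem i.succ) (s.step i) (consec_terms s i)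
    refine isSemistable_of
      (Groth.Agent.Lib.Helper6.DevCore.isCoh_cokernel _ (hcohC _ (hmem i.castSucc)) (hcohC _ (hmem i.succ)))
      (fun hz => absurd (le_of_isZero_cokernel_ofLE _ hz) (not_le_of_gt (s.step i))) hp hsw
  refine ⟨head_eq s hbot (fun x _ => bot_le), last_eq s htop (fun x _ => le_top), hss, ?_⟩
  intro i j hij p q hp hq
  obtain ⟨iv, hiv⟩ := i
  obtain ⟨jv, hjv⟩ := j
  simp only at hij
  subst hij
  have h1 := hss ⟨iv, hiv⟩
  have h2 := hss ⟨iv + 1, hjv⟩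
  refine redLT_of h1.1 h2.1 (dim_support_of_isPure h1.1 h1.2.1 h1.2.2.1) (dim_support_of_isPure h2.1 h2.2.1 h2.2.2.1)
    (fun ψ ψ' z z' => ?_) p q hp hq
  exact hd _ (hmem (Fin.castSucc ⟨iv, hiv⟩)) _ (hmem (Fin.succ ⟨iv, hiv⟩)) _ (hmem (Fin.succ ⟨iv + 1, hjv⟩))
    (s.step ⟨iv, hiv⟩) (s.step ⟨iv + 1, hjv⟩) (consec_terms s ⟨iv, hiv⟩) (consec_terms s ⟨iv + 1, hjv⟩) ψ ψ' z z'

variable (k n d)

theorem main (E : (CohB1.ProjSpace n k).Modules) (hE : Coh.IsCoh E) (hpure : PureD k n d E) :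
    ∃! C : Finset (Subobject E), IsHNChain k n d E C := by
  have hO1 := isAmple_O1 k n
  have h0 : ¬ IsZero E := by
    intro hz
    have h1 := hpure.1
    rw [Groth.Agent.Lib.Helper16.K0Supp.support_of_isZero hz, dim_empty] at h1
    exact absurd h1 (by simp)
  obtain ⟨s, hs⟩ := exists_isHNFiltration k hO1 d E hE h0 hpure.2
  refine ⟨terms s, isHNChain_terms s hs, ?_⟩
  intro C' hC'
  obtain ⟨s', hs'⟩ := exists_series C' ⟨⊥, hC'.1⟩ hC'.2.2.1
  rw [← hs'] at hC' ⊢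
  have hHN := isHNFiltration_of_isHNChain s' hC'
  rw [hn_unique k hO1 s' s hHN hs]

end Groth.Agent.Lib.Helper2.HNChain
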