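import Mathlib
import Groth.Agent.Lib.Helper2.HZDepth5
import Groth.Agent.Lib.Helper6.LocCohZLocal2

/-!
# Vanishing of the local cohomology sheaves of a coherent module below `n` and depth of stalks
-/

set_option autoImplicit false
set_option linter.style.haveILetI false
universe u

open CategoryTheory CategoryTheory.Limits AlgebraicGeometry Opposite TopologicalSpace

namespace Groth.Agent.Lib.Helper2.HZDepth6

section Top

variable {X : TopCat.{u}} (U : Opens X) (F : CohTop.Ab X)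

/-- `H^0` with supports vanishes if it does so locally. -/
theorem subsingleton_HZ_zero_of_local
    (h : ∀ (V : Opens X) (p : X), p ∈ V → ∃ W : Opens X, W ≤ V ∧ p ∈ W ∧
      Subsingleton (LocCohZ.HZ F 0 (inf_le_left : W ⊓ U ≤ W))) (V : Opens X) :
    Subsingleton (LocCohZ.HZ F 0 (inf_le_left : V ⊓ U ≤ V)) := by
  rw [(LocCohZ.sect0Equiv F (inf_le_left : V ⊓ U ≤ V)).toEquiv.subsingleton_congr]
  constructor
  rintro ⟨s, hs⟩ ⟨t, ht⟩
  apply Subtype.ext
  change s = t
  choose W hWV hpW hsub using h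
  let ι := {p : X // p ∈ V}
  refine TopCat.Sheaf.eq_of_locally_eq' F (fun i : ι => W V i.1 i.2) V
    (fun i => homOfLE (hWV V i.1 i.2)) ?_ s t (fun i => ?_)
  · intro y hy
    exact Opens.mem_iSup.2 ⟨⟨y, hy⟩, hpW V y hy⟩
  · have hsub' := hsub V i.1 i.2
    rw [(LocCohZ.sect0Equiv F (inf_le_left : W V i.1 i.2 ⊓ U ≤ W V i.1 i.2)).toEquiv.subsingleton_congr]
      at hsub'
    have key : ∀ s : F.obj.obj (op V), s ∈ LocCohZ.sectZ F (inf_le_left : V ⊓ U ≤ V) →
        F.obj.map (homOfLE (hWV V i.1 i.2)).op s ∈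
          LocCohZ.sectZ F (inf_le_left : W V i.1 i.2 ⊓ U ≤ W V i.1 i.2) := by
      intro s hs
      rw [AddMonoidHom.mem_ker] at hs ⊢
      have e : (homOfLE (hWV V i.1 i.2)).op ≫ (homOfLE (inf_le_left : W V i.1 i.2 ⊓ U ≤ W V i.1 i.2)).op =
          (homOfLE (inf_le_left : V ⊓ U ≤ V)).op ≫
            (homOfLE (inf_le_inf_right U (hWV V i.1 i.2) : W V i.1 i.2 ⊓ U ≤ V ⊓ U)).op := rfl
      change (F.obj.map _ ≫ F.obj.map _).hom s = 0
      rw [← F.obj.map_comp, e, F.obj.map_comp]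
      change (F.obj.map _).hom ((F.obj.map _).hom s) = 0
      rw [hs, map_zero]
    have := @Subsingleton.elim _ hsub' ⟨_, key s hs⟩ ⟨_, key t ht⟩
    exact congrArg Subtype.val this

end Top

open Groth.Agent.Lib.Helper6.LocCohZLocal Groth.Agent.Lib.Helper6.LocCohZLocal2

variable (X : Scheme.{u}) [IsLocallyNoetherian X] (U : X.Opens) (M : X.Modules)
  [M.IsQuasicoherent] [SheafOfModules.IsFiniteType.{u} (R := X.ringCatSheaf) M] (n : ℕ)

theorem exists_affine (V : X.Opens) (p : X) (hp : p ∈ V) :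
    ∃ W : X.Opens, IsAffineOpen W ∧ W ≤ V ∧ p ∈ W := by
  obtain ⟨_, ⟨W, hW, rfl⟩, hpW, hWV⟩ :=
    (X.isBasis_affineOpens).exists_subset_of_mem_open hp V.2
  exact ⟨W, hW, hWV, hpW⟩

/-- **Depth criterion for the vanishing of local cohomology sheaves.** -/
theorem main :
    (∀ i : ℕ, i < n → IsZero ((LocCohZ.HZsh (X := X.carrier) U i).obj (Coh.toAb M))) ↔
      ∀ x : X, x ∉ (U : Set X) →
        (n : ℕ∞) ≤ LocCoh.depth (X.presheaf.stalk x) (M.presheaf.stalk x) := by
  constructor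
  · intro h x hxU
    obtain ⟨W, hW, -, hxW⟩ := exists_affine X ⊤ x (Opens.mem_top x)
    have h1 := (isZero_HZsh_lt_iff (X := X.carrier) U (Coh.toAb M) n).1 h W
    exact (Groth.Agent.Lib.Helper2.HZDepth5.thmB M U W n hW).1 h1 x hxW hxU
  · intro h
    have key : ∀ W : X.Opens, IsAffineOpen W → ∀ j : ℕ, j < n →
        Subsingleton (LocCohZ.HZ (X := X.carrier) (Coh.toAb M) j (inf_le_left : W ⊓ U ≤ W)) :=
      fun W hW => (Groth.Agent.Lib.Helper2.HZDepth5.thmB M U W n hW).2 (fun x _ hxU => h x hxU)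
    intro i hi
    cases i with
    | zero =>
      refine (isZero_HZsh_zero_iff (X := X.carrier) U (Coh.toAb M)).2
        (subsingleton_HZ_zero_of_local (X := X.carrier) U (Coh.toAb M) ?_)
      intro V p hp
      obtain ⟨W, hW, hWV, hpW⟩ := exists_affine X V p hp
      exact ⟨W, hWV, hpW, key W hW 0 hi⟩
    | succ k =>
      refine isZero_HZsh_of_locVan (X := X.carrier) U k (Coh.toAb M) ?_
      intro V x p hp
      obtain ⟨W, hW, hWV, hpW⟩ := exists_affine X V p hp
      refine ⟨W, hWV, hpW, ?_⟩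
      exact @Subsingleton.elim _ (key W hW (k + 1) hi) _ _

end Groth.Agent.Lib.Helper2.HZDepth6
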