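import Mathlib
import Groth.Agent.Lib.Helper2.HZDepth6
import Groth.Agent.Lib.Helper2.SSCollapse
import Groth.Agent.Lib.Helper6.LocCohZSS
import Groth.Agent.Lib.Helper29.FPFree

/-!
# `Γ(X, ℋ^d_Y(M)) ≅ H^d_Y(X, M)` when `ℋ^q_Y(M) = 0` for `q < d`; depth of flat modules
-/

set_option autoImplicit false
set_option linter.style.haveILetI false
universe u

open CategoryTheory CategoryTheory.Limits AlgebraicGeometry Opposite TopologicalSpace

namespace Groth.Agent.Lib.Helper2.HZDepth7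

section Depth

variable {R : Type u} [CommRing R]

theorem isWeaklyRegular_of_flat (N : Type u) [AddCommGroup N] [Module R N] [Module.Flat R N]
    (rs : List R) (h : RingTheory.Sequence.IsWeaklyRegular R rs) :
    RingTheory.Sequence.IsWeaklyRegular N rs :=
  ((TensorProduct.lid R N).isWeaklyRegular_congr rs).1 h.isWeaklyRegular_rTensor

theorem idealDepth_le_of_flat (I : Ideal R) (hI : I ≠ ⊤) (N : Type u) [AddCommGroup N] [Module R N]
    [Module.Flat R N] : LocCoh.idealDepth I R ≤ LocCoh.idealDepth I N := by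
  classical
  unfold LocCoh.idealDepth
  have h1 : ¬ (I • (⊤ : Submodule R R) = ⊤) := by
    rw [smul_eq_mul, Ideal.mul_top]
    exact hI
  rw [if_neg h1]
  split_ifs with h2
  · exact le_top
  · refine iSup₂_le fun rs hrs => ?_
    exact le_iSup₂_of_le rs ⟨isWeaklyRegular_of_flat N rs hrs.1, hrs.2⟩ le_rfl

theorem depth_le_of_flat [IsLocalRing R] (N : Type u) [AddCommGroup N] [Module R N]
    [Module.Flat R N] : LocCoh.depth R R ≤ LocCoh.depth R N :=
  idealDepth_le_of_flat _ (IsLocalRing.maximalIdeal.isMaximal R).ne_top N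

end Depth

section Top

variable {X : TopCat.{u}} (U : Opens X) (F : CohTop.Ab X) (d : ℕ)

theorem ext_eq_zero_of_isZero_tgt {C : Type*} [Category C] [Abelian C] [HasExt C] {A G : C}
    (hG : IsZero G) {p : ℕ} (x : Abelian.Ext A G p) : x = 0 := by
  rw [← Abelian.Ext.comp_mk₀_id x, hG.eq_of_src (𝟙 G) 0, Abelian.Ext.mk₀_zero,
    Abelian.Ext.comp_zero]

theorem subsingleton_HU_of_isZero (G : CohTop.Ab X) (hG : IsZero G) (p : ℕ) (V : Opens X) :
    Subsingleton (CohTop.HU G p V) := by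
  constructor
  intro a b
  exact (ext_eq_zero_of_isZero_tgt hG (p := p) a).trans (ext_eq_zero_of_isZero_tgt hG (p := p) b).symm

/-- edge isomorphism of the local-to-global spectral sequence in the lowest nonzero row. -/
theorem nonempty_sections_HZsh_equiv
    (h : ∀ q : ℕ, q < d → IsZero ((LocCohZ.HZsh U q).obj F)) :
    Nonempty (((LocCohZ.HZsh U d).obj F).obj.obj (op ⊤) ≃+ LocCohZ.HZc F d U) := by
  obtain ⟨E, a, hfin, -, hE⟩ := Groth.Agent.Lib.Helper6.LocCohZSS.locToGlob U F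
  have hzero : ∀ p q : ℤ, (p < 0 ∨ q < d) → IsZero ((E.page 2 le_rfl).X (p, q)) := by
    intro p q hpq
    obtain ⟨e⟩ := hE p q
    refine IsZero.of_iso ?_ e
    split_ifs with h1
    · have hq : q.toNat < d := by
        rcases hpq with h2 | h2
        · lia
        · lia
      haveI := subsingleton_HU_of_isZero ((LocCohZ.HZsh U q.toNat).obj F) (h q.toNat hq)
        p.toNat ⊤
      exact AddCommGrpCat.isZero_of_subsingleton _
    · exact AddCommGrpCat.isZero_of_subsingleton _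
  obtain ⟨e1⟩ := Groth.Agent.Lib.Helper2.SSCollapse.collapse E a ((0 : ℤ), (d : ℤ))
    (hfin _) (fun p hp => hzero _ _ (by
      change p ≠ 0 at hp
      rcases lt_or_gt_of_ne hp with h1 | h1
      · exact Or.inl h1
      · right
        change (0 : ℤ) + (d : ℤ) - p < d
        lia))
    (fun r hr => hzero _ _ (by
      right
      change (d : ℤ) + (1 - r) < d
      lia))
    (fun r hr => hzero _ _ (by
      left
      change (0 : ℤ) - r < 0
      lia))
  obtain ⟨e2⟩ := hE 0 d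
  have key3 : ∀ (n : ℤ) (m : ℕ), n = (m : ℤ) →
      Nonempty ((if 0 ≤ n then AddCommGrpCat.of (LocCohZ.HZc F n.toNat U)
        else AddCommGrpCat.of PUnit.{u + 1}) ≅ AddCommGrpCat.of (LocCohZ.HZc F m U)) := by
    intro n m hnm
    subst hnm
    exact ⟨eqToIso (by simp)⟩
  obtain ⟨e3⟩ := key3 ((0 : ℤ) + (d : ℤ)) d (by simp)
  have e4 : (if (0 : ℤ) ≤ 0 ∧ (0 : ℤ) ≤ (d : ℤ) then
      AddCommGrpCat.of (CohTop.HU ((LocCohZ.HZsh U (d : ℤ).toNat).obj F) (0 : ℤ).toNat ⊤)
      else AddCommGrpCat.of PUnit.{u + 1}) ≅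
      AddCommGrpCat.of (CohTop.HU ((LocCohZ.HZsh U d).obj F) 0 ⊤) :=
    eqToIso (by simp)
  have e5 : AddCommGrpCat.of (LocCohZ.HZc F d U) ≅
      AddCommGrpCat.of (CohTop.HU ((LocCohZ.HZsh U d).obj F) 0 ⊤) :=
    e3.symm ≪≫ e1 ≪≫ e2 ≪≫ e4
  exact ⟨(e5.addCommGroupIsoToAddEquiv.trans
    (Groth.Agent.Lib.Helper2.FullCech13.e0 ((LocCohZ.HZsh U d).obj F) ⊤)).symm⟩

end Top

/-- the statement of S14116. -/
theorem main (X : Scheme.{u}) [IsLocallyNoetherian X] (U : X.Opens) (d : ℕ)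
    (hdepth : ∀ x : X, x ∉ (U : Set X) →
      (d : ℕ∞) ≤ LocCoh.depth (X.presheaf.stalk x) (X.presheaf.stalk x))
    (M : X.Modules) (hM : FlatMod.IsFinLocFree M) :
    Nonempty (((LocCohZ.HZsh (X := X.carrier) U d).obj (Coh.toAb M)).obj.obj (op ⊤) ≃+
      LocCohZ.HZM X M d U) := by
  haveI := Groth.Agent.Lib.Helper29.FreeIso.isQuasicoherent_of_isFinLocFree M hM
  haveI := Groth.Agent.Lib.Helper29.FreeIso.isFiniteType_of_isFinLocFree M hM
  refine nonempty_sections_HZsh_equiv (X := X.carrier) U (Coh.toAb M) d ?_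
  intro q hq
  refine (Groth.Agent.Lib.Helper2.HZDepth6.main X U M d).2 ?_ q hq
  intro x hx
  haveI := Groth.Agent.Lib.Helper29.FPFree.free_stalk_of_isFinLocFree M hM x
  exact (hdepth x hx).trans (depth_le_of_flat _)

end Groth.Agent.Lib.Helper2.HZDepth7
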