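import Mathlib
import Groth.Agent.Lib.helper11.LCKit2
import Groth.Agent.Lib.helper11.GlDimRegular

/-!
# Vanishing of local cohomology above the dimension when the local rings along `V(I)` are
regular
-/

set_option autoImplicit false
universe u

open CategoryTheory CategoryTheory.Abelian CategoryTheory.Limits

namespace Groth.Agent.Lib.Helper2.LCReg

open Groth.Agent.Lib.helper11.LCKit

variable {A : Type u} [CommRing A]

theorem subsingleton_localizedModule_of_smul_eq_zero (N : ModuleCat.{u} A) (S : Submonoid A)
    (s : A) (hs : s ∈ S) (h : ∀ x : N, s • x = 0) : Subsingleton (N.localizedModule S) := by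
  have key : ∀ y : N.localizedModule S, y = 0 := by
    intro y
    obtain ⟨⟨x, t⟩, rfl⟩ := IsLocalizedModule.mk'_surjective S (N.localizedModuleMkLinearMap S) y
    change IsLocalizedModule.mk' (N.localizedModuleMkLinearMap S) x t = 0
    rw [IsLocalizedModule.mk'_eq_zero' (N.localizedModuleMkLinearMap S) t]
    exact ⟨⟨s, hs⟩, h x⟩
  exact ⟨fun a b => (key a).trans (key b).symm⟩

theorem hasProjectiveDimensionLT_Q [IsNoetherianRing A] (I : Ideal A) (n : ℕ)
    (h : ∀ p : PrimeSpectrum A, I ≤ p.asIdeal →
      IsRegularLocalRing (Localization.AtPrime p.asIdeal) ∧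
        ringKrullDim (Localization.AtPrime p.asIdeal) < ((n + 1 : ℕ) : WithBot ℕ∞))
    (k : ℕ) : HasProjectiveDimensionLT (Q I k) (n + 1) := by
  change HasProjectiveDimensionLE (Q I k) n
  rw [ModuleCat.hasProjectiveDimensionLE_iff_forall_primeSpectrum]
  intro p
  by_cases hp : I ≤ p.asIdeal
  · obtain ⟨hreg, hdim⟩ := h p hp
    have h1 : ringKrullDim (Localization.AtPrime p.asIdeal) =
        ((IsLocalRing.maximalIdeal (Localization.AtPrime p.asIdeal)).spanFinrank : ℕ) :=
      (IsRegularLocalRing.spanFinrank_maximalIdeal (R := Localization.AtPrime p.asIdeal)).symm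
    have h2 : (IsLocalRing.maximalIdeal (Localization.AtPrime p.asIdeal)).spanFinrank < n + 1 := by
      rw [h1] at hdim
      exact_mod_cast hdim
    have h4 := Groth.Agent.Lib.helper11.GlDimRegular.hasProjectiveDimensionLT_of_isRegularLocalRing
      _ h1 ((Q I k).localizedModule p.asIdeal.primeCompl)
    exact hasProjectiveDimensionLT_of_ge _
      ((IsLocalRing.maximalIdeal (Localization.AtPrime p.asIdeal)).spanFinrank + 1) (n + 1)
      (by omega)
  · obtain ⟨s, hsI, hsp⟩ := SetLike.not_le_iff_exists.1 hp
    haveI : Subsingleton ((Q I k).localizedModule p.asIdeal.primeCompl) := by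
      refine subsingleton_localizedModule_of_smul_eq_zero (Q I k) p.asIdeal.primeCompl (s ^ k)
        (pow_mem (show s ∈ p.asIdeal.primeCompl from hsp) k) ?_
      intro x
      obtain ⟨a, rfl⟩ := Ideal.Quotient.mk_surjective x
      have : (s ^ k) • (Ideal.Quotient.mk (I ^ k) a) = Ideal.Quotient.mk (I ^ k) (s ^ k * a) := rfl
      rw [this, Ideal.Quotient.eq_zero_iff_mem]
      exact Ideal.mul_mem_right _ _ (Ideal.pow_mem_pow hsI k)
    have hz : IsZero ((Q I k).localizedModule p.asIdeal.primeCompl) :=
      ModuleCat.isZero_of_subsingleton _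
    haveI := hz.hasProjectiveDimensionLT_zero
    exact hasProjectiveDimensionLT_of_ge _ 0 (n + 1) (by omega)

theorem ext_eq_zero_of_isZero_src {C : Type*} [Category C] [Abelian C] [HasExt C] {N G : C}
    (hN : IsZero N) {p : ℕ} (x : Abelian.Ext N G p) : x = 0 := by
  rw [← Abelian.Ext.mk₀_id_comp x, hN.eq_of_src (𝟙 N) 0, Abelian.Ext.mk₀_zero,
    Abelian.Ext.zero_comp]

/-- **vanishing above the dimension along a regular locus**. -/
theorem subsingleton_H_of_regular [IsNoetherianRing A] (I : Ideal A) (i : ℕ)
    (h : ∀ p : PrimeSpectrum A, I ≤ p.asIdeal →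
      IsRegularLocalRing (Localization.AtPrime p.asIdeal) ∧
        ringKrullDim (Localization.AtPrime p.asIdeal) < (i : WithBot ℕ∞))
    (M : Type u) [AddCommGroup M] [Module A M] : Subsingleton (LocCoh.H I i M) := by
  apply subsingleton_of_forall_ext
  intro k
  cases i with
  | zero =>
    -- no prime contains `I`
    have hI : I = ⊤ := by
      by_contra hne
      obtain ⟨m, hm, hIm⟩ := Ideal.exists_le_maximal I hne
      obtain ⟨-, hdim⟩ := h ⟨m, hm.isPrime⟩ hIm
      have : (0 : WithBot ℕ∞) ≤ ringKrullDim (Localization.AtPrime m) := ringKrullDim_nonneg_of_nontrivial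
      exact absurd (lt_of_le_of_lt this hdim) (by simp)
    by_cases hk : k = 0
    · subst hk
      -- `I ^ 0 = ⊤` as well
      have hz : IsZero (Q I 0) := by
        haveI : Subsingleton (A ⧸ I ^ 0) := by
          rw [pow_zero, Ideal.one_eq_top]
          exact Ideal.Quotient.subsingleton_iff.2 rfl
        exact ModuleCat.isZero_of_subsingleton _
      exact ⟨fun a b => (ext_eq_zero_of_isZero_src hz a).trans (ext_eq_zero_of_isZero_src hz b).symm⟩
    · have hz : IsZero (Q I k) := by
        haveI : Subsingleton (A ⧸ I ^ k) := by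
          rw [hI, Ideal.top_pow]
          exact Ideal.Quotient.subsingleton_iff.2 rfl
        exact ModuleCat.isZero_of_subsingleton _
      exact ⟨fun a b => (ext_eq_zero_of_isZero_src hz a).trans (ext_eq_zero_of_isZero_src hz b).symm⟩
  | succ n =>
    haveI := hasProjectiveDimensionLT_Q I n h k
    exact HasProjectiveDimensionLT.subsingleton (Q I k) (n + 1) (n + 1) le_rfl (ModuleCat.of A M)

end Groth.Agent.Lib.Helper2.LCReg
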