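import Mathlib
import Groth.Agent.Lib.Helper2.HZDepth6
import Groth.Agent.Lib.Helper2.LCReg

/-!
# Vanishing of local cohomology sheaves above the dimension on a regular scheme
-/

set_option autoImplicit false
set_option linter.style.haveILetI false
universe u

open CategoryTheory CategoryTheory.Limits AlgebraicGeometry Opposite TopologicalSpace

namespace Groth.Agent.Lib.Helper2.HZReg

open Groth.Agent.Lib.Helper2.CechGeo4 Groth.Agent.Lib.Helper2.CechGeo5
  Groth.Agent.Lib.Helper28.QCohLoc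
open Groth.Agent.Lib.Helper7.Hartogs (idealOf mem_idealOf)
open Groth.Agent.Lib.Helper6.LocCohZLocal Groth.Agent.Lib.Helper6.LocCohZLocal2

section Affine

variable {Y : Scheme.{u}} [IsAffine Y] [IsLocallyNoetherian Y] (F : Y.Modules) [F.IsQuasicoherent]
  (U : Y.Opens) (i : ℕ)

/-- **affine case**. -/
theorem thmA_reg
    (hreg : ∀ y : Y, y ∉ U → IsRegularLocalRing (Y.presheaf.stalk y) ∧
      ringKrullDim (Y.presheaf.stalk y) < (i : WithBot ℕ∞)) :
    Subsingleton (LocCohZ.HZM Y F i U) := by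
  classical
  have hW : IsAffineOpen (⊤ : Y.Opens) := isAffineOpen_top Y
  haveI : IsNoetherianRing Γ(Y, ⊤) := IsLocallyNoetherian.component_noetherian ⟨⊤, hW⟩
  obtain ⟨s, hs⟩ := (isNoetherianRing_iff_ideal_fg Γ(Y, ⊤)).1 inferInstance (idealOf U ⊤)
  have hset : {a : Γ(Y, ⊤) | a ∈ s.toList} = (s : Set Γ(Y, ⊤)) := by
    ext a
    simp
  have hspan : Ideal.span {a : Γ(Y, ⊤) | a ∈ s.toList} = idealOf U ⊤ := by
    rw [hset]
    exact hs
  have hU : Uof s.toList = U := Groth.Agent.Lib.Helper2.HZDepth3.Uof_eq U s.toList hspan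
  obtain ⟨e⟩ := Groth.Agent.Lib.Helper2.HZDepth2.hz_localCohomology s.toList F i
  rw [hU, hspan] at e
  rw [e.toEquiv.subsingleton_congr]
  apply Groth.Agent.Lib.Helper2.LCReg.subsingleton_H_of_regular
  intro p hp
  have hxU : hW.fromSpec p ∉ U := by
    intro hx
    obtain ⟨c, hcU, hxc⟩ := hW.exists_basicOpen_le ⟨hW.fromSpec p, hx⟩ (Opens.mem_top _)
    have hcp : c ∈ p.asIdeal := hp ((mem_idealOf U c).2 hcU)
    have h1 : p ∈ hW.fromSpec ⁻¹ᵁ Y.basicOpen c := hxc
    rw [hW.fromSpec_preimage_basicOpen] at h1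
    exact h1 hcp
  have hpp : hW.primeIdealOf ⟨hW.fromSpec p, Opens.mem_top _⟩ = p := by
    apply hW.fromSpec.isOpenEmbedding.injective
    exact hW.fromSpec_primeIdealOf ⟨hW.fromSpec p, Opens.mem_top _⟩
  obtain ⟨h1, h2⟩ := hreg _ hxU
  letI := Y.presheaf.algebra_section_stalk ⟨hW.fromSpec p, Opens.mem_top _⟩
  have hloc := hW.isLocalization_stalk ⟨hW.fromSpec p, Opens.mem_top _⟩
  rw [hpp] at hloc
  have e' : Localization.AtPrime p.asIdeal ≃ₐ[Γ(Y, ⊤)] Y.presheaf.stalk (hW.fromSpec p) :=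
    IsLocalization.algEquiv p.asIdeal.primeCompl _ _
  refine ⟨IsRegularLocalRing.of_ringEquiv e'.symm.toRingEquiv, ?_⟩
  rw [ringKrullDim_eq_of_ringEquiv e'.toRingEquiv]
  exact h2

end Affine

variable (X : Scheme.{u}) [IsLocallyNoetherian X] (U : X.Opens) (M : X.Modules)
  [M.IsQuasicoherent] (i : ℕ)

/-- a local cohomology sheaf vanishes if cohomology with supports vanishes over all affine
opens. -/
theorem isZero_HZsh_of_affine
    (key : ∀ W : X.Opens, IsAffineOpen W →
      Subsingleton (LocCohZ.HZ (X := X.carrier) (Coh.toAb M) i (inf_le_left : W ⊓ U ≤ W))) :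
    IsZero ((LocCohZ.HZsh (X := X.carrier) U i).obj (Coh.toAb M)) := by
  cases i with
  | zero =>
    refine (isZero_HZsh_zero_iff (X := X.carrier) U (Coh.toAb M)).2
      (Groth.Agent.Lib.Helper2.HZDepth6.subsingleton_HZ_zero_of_local (X := X.carrier) U
        (Coh.toAb M) ?_)
    intro V p hp
    obtain ⟨W, hW, hWV, hpW⟩ := Groth.Agent.Lib.Helper2.HZDepth6.exists_affine X V p hp
    exact ⟨W, hWV, hpW, key W hW⟩
  | succ k =>
    refine isZero_HZsh_of_locVan (X := X.carrier) U k (Coh.toAb M) ?_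
    intro V x p hp
    obtain ⟨W, hW, hWV, hpW⟩ := Groth.Agent.Lib.Helper2.HZDepth6.exists_affine X V p hp
    refine ⟨W, hWV, hpW, ?_⟩
    exact @Subsingleton.elim _ (key W hW) _ _

/-- **vanishing above the dimension on a regular scheme** (the statement of S6038, for
quasi-coherent modules). -/
theorem main (hreg : ∀ x : X, IsRegularLocalRing (X.presheaf.stalk x))
    (hi : ∀ x : X, x ∉ (U : Set X) → ringKrullDim (X.presheaf.stalk x) < (i : WithBot ℕ∞)) :
    IsZero ((LocCohZ.HZsh (X := X.carrier) U i).obj (Coh.toAb M)) := by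
  apply isZero_HZsh_of_affine
  intro W hW
  haveI : IsAffine (W : Scheme.{u}) := hW
  obtain ⟨e⟩ := Groth.Agent.Lib.Helper2.HZDepth4.nonempty_HZ_equiv M U W i
  rw [e.toEquiv.subsingleton_congr]
  apply thmA_reg
  intro y hy
  have e' := Groth.Agent.Lib.Helper2.HZDepth5.psi W.ι y
  refine ⟨@IsRegularLocalRing.of_ringEquiv _ _ (hreg (W.ι y)) _ _ e'.symm, ?_⟩
  rw [ringKrullDim_eq_of_ringEquiv e']
  exact hi (W.ι y) (fun hx => hy hx)

end Groth.Agent.Lib.Helper2.HZReg
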