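import Groth.Agent.Lib.Helper4.Snapper13
import Groth.Agent.Lib.Helper4.Snapper14
import Mathlib.Algebra.Group.ForwardDiff

/-!
# The degree of the Hilbert polynomial is the dimension of the support (helper2)

For `X` proper over a field `k`, `L` ample and `F` coherent with `dim Supp F = r`, every polynomial `P` with
`P(m) = χ(F ⊗ L^m)` for all natural `m` has degree exactly `r`.
-/

set_option backward.isDefEq.respectTransparency.types false
set_option autoImplicit false
universe u
open CategoryTheory CategoryTheory.Limits AlgebraicGeometry Opposite TopologicalSpace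

noncomputable section

namespace Groth.Agent.Lib.Helper2.HilbDeg

open Groth.Agent.Lib.Helper6.K0Filt Groth.Agent.Lib.Helper6.K0Len Groth.Agent.Lib.Helper6.K0Op
  Groth.Agent.Lib.Helper6.K0Tensor Groth.Agent.Lib.Helper4.Snapper

open scoped fwdDiff

/-- forward differences of an integer sequence and of a rational function agreeing on the naturals -/
theorem cast_fwdDiff_iter : ∀ (s : ℕ) (a : ℕ → ℤ) (g : ℚ → ℚ), (∀ m : ℕ, g m = a m) →
    ∀ m : ℕ, ((fwdDiff (1 : ℚ))^[s] g) (m : ℚ) = ((((fwdDiff (1 : ℕ))^[s] a) m : ℤ) : ℚ) := by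
  intro s
  induction s with
  | zero => intro a g h m; simpa using h m
  | succ s ih =>
    intro a g h m
    rw [Function.iterate_succ_apply, Function.iterate_succ_apply]
    apply ih
    intro m
    simp only [fwdDiff]
    have h1 := h (m + 1)
    push_cast at h1 ⊢
    rw [h1, h m]

section main

variable (k : Type u) [Field k] {X : Scheme.{u}} [X.Over (Spec (CommRingCat.of k))]
    [IsProper (X ↘ (Spec (CommRingCat.of k)))]

/-- the iterated forward differences of `m ↦ χ(T_L^m c)` are `m ↦ χ((T_L - 1)^s T_L^m c)` -/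
theorem fwdDiff_iter_eulerHom (L : X.Modules) (c : K0 X) (s : ℕ) :
    (fwdDiff (1 : ℕ))^[s] (fun m : ℕ => eulerHom k X ((Top L ^ m) c)) =
      fun m : ℕ => hcoef k X L s ((Top L ^ m) c) := by
  induction s with
  | zero =>
    funext m
    show _ = eulerHom k X (((Top L - 1 : AddMonoid.End (K0 X)) ^ 0) ((Top L ^ m) c))
    rw [pow_zero]
    rfl
  | succ s ih =>
    rw [Function.iterate_succ_apply', ih]
    funext m
    show hcoef k X L s ((Top L ^ (m + 1)) c) - hcoef k X L s ((Top L ^ m) c) =
      eulerHom k X (((Top L - 1 : AddMonoid.End (K0 X)) ^ (s + 1)) ((Top L ^ m) c))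
    rw [← map_sub, pow_succ (Top L - 1 : AddMonoid.End (K0 X)) s, pow_succ' (Top L) m]
    rfl

theorem natDegree_eq (L : X.Modules) (hL : CohB1.IsAmple L) (F : X.Modules) (hF : Coh.IsCoh F) (r : ℕ)
    (hsupp : topologicalKrullDim (CohB1.support F) = (r : WithBot ℕ∞)) (P : Polynomial ℚ)
    (hP : ∀ m : ℕ, P.eval (m : ℚ) =
      ((Curv2.euler k X (CohB1.tensorMod F (CohB1.tensorPow L m)) : ℤ) : ℚ)) :
    P.natDegree = r := by
  haveI : IsNoetherian X := isNoetherian_of_proper k
  set c : K0 X := cls F with hc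
  have hcmem : c ∈ Hlt X (r + 1) := cls_mem_Hlt F hF r hsupp.le
  have hPa : ∀ m : ℕ, P.eval (m : ℚ) = ((eulerHom k X ((Top L ^ m) c) : ℤ) : ℚ) := by
    intro m
    rw [hP m, eulerHom_Top_pow_cls k L hL.1 F hF m]
  -- the `d`-th difference of `P` at `0`
  have hdiff : ∀ d : ℕ, ((fwdDiff (1 : ℚ))^[d] P.eval) (0 : ℚ) = ((hcoef k X L d c : ℤ) : ℚ) := by
    intro d
    have h1 := cast_fwdDiff_iter d (fun m : ℕ => eulerHom k X ((Top L ^ m) c)) P.eval hPa 0
    rw [fwdDiff_iter_eulerHom k L c d] at h1
    simp only [Nat.cast_zero, pow_zero] at h1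
    exact h1
  have hpos : 0 < hcoef k X L r c := hcoef_pos k L hL r F hF hsupp
  rcases lt_trichotomy P.natDegree r with hlt | heq | hgt
  · exfalso
    have h0 := congrFun (Polynomial.fwdDiff_iter_eq_zero_of_degree_lt hlt) (0 : ℚ)
    rw [hdiff r] at h0
    simp only [Pi.zero_apply] at h0
    have : (hcoef k X L r c : ℤ) = 0 := by exact_mod_cast h0
    omega
  · exact heq
  · exfalso
    have h0 := congrFun (Polynomial.fwdDiff_iter_degree_eq_factorial P) (0 : ℚ)
    rw [hdiff P.natDegree] at h0
    have hz : hcoef k X L P.natDegree c = 0 :=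
      hcoef_eq_zero k L hL.1 P.natDegree c (Hlt_mono_le (by omega) hcmem)
    rw [hz] at h0
    simp only [Int.cast_zero, Pi.smul_apply, smul_eq_mul] at h0
    have hfac : ((P.natDegree.factorial : ℚ → ℚ) (0 : ℚ)) = (P.natDegree.factorial : ℚ) := rfl
    rw [hfac] at h0
    have hlc : P.leadingCoeff = 0 := by
      rcases mul_eq_zero.1 h0.symm with h | h
      · exact h
      · exfalso
        exact (Nat.cast_ne_zero.2 (Nat.factorial_ne_zero _)) h
    rw [Polynomial.leadingCoeff_eq_zero] at hlc
    rw [hlc, Polynomial.natDegree_zero] at hgt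
    omega

end main

end Groth.Agent.Lib.Helper2.HilbDeg
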