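import Mathlib

/-!
Helper library (helper2): `Hom(M, N)` versus `Hom(M, N/IⁿN)` for finite modules over a Noetherian
ring, via a finite presentation of `M` and the Artin–Rees lemma.

Main result `exists_const`: there is `c` such that
* a hom `M → N` with image in `I^(n+c) N` lies in `I^n Hom(M, N)`;
* every hom `M → N / I^(n+c) N` agrees modulo `I^n N` with a genuine hom `M → N`.
-/

set_option autoImplicit false

namespace Groth.Agent.Lib.Helper2.HomAR

variable {A : Type*} [CommRing A]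

lemma pi_mem_smul_top {N : Type*} [AddCommGroup N] [Module A N] (J : Ideal A) {a : ℕ}
    (x : Fin a → N) (hx : ∀ i, x i ∈ J • (⊤ : Submodule A N)) :
    x ∈ J • (⊤ : Submodule A (Fin a → N)) := by
  classical
  rw [← Finset.univ_sum_single x]
  refine Submodule.sum_mem _ (fun i _ => ?_)
  have h2 : LinearMap.single A (fun _ : Fin a => N) i (x i) ∈
      (J • (⊤ : Submodule A N)).map (LinearMap.single A (fun _ : Fin a => N) i) :=
    Submodule.mem_map_of_mem (hx i)
  rw [Submodule.map_smul''] at h2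
  exact Submodule.smul_mono le_rfl le_top h2

lemma apply_mem_smul_top {N : Type*} [AddCommGroup N] [Module A N] (J : Ideal A) {b : ℕ}
    (y : Fin b → N) (hy : y ∈ J • (⊤ : Submodule A (Fin b → N))) (j : Fin b) :
    y j ∈ J • (⊤ : Submodule A N) := by
  have h2 : LinearMap.proj (R := A) (φ := fun _ : Fin b => N) j y ∈
      (J • (⊤ : Submodule A (Fin b → N))).map (LinearMap.proj j) :=
    Submodule.mem_map_of_mem hy
  rw [Submodule.map_smul''] at h2
  exact Submodule.smul_mono le_rfl le_top h2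

section pres

variable {M : Type*} [AddCommGroup M] [Module A M] (N : Type*) [AddCommGroup N] [Module A N]
  {a b : ℕ} (π : (Fin b → A) →ₗ[A] M) (ρ : (Fin a → A) →ₗ[A] (Fin b → A))

/-- evaluate a hom on the images of the standard basis -/
noncomputable def Θ : (M →ₗ[A] N) →ₗ[A] (Fin b → N) :=
  LinearMap.pi (fun j => LinearMap.applyₗ (π (Pi.single j 1)))

/-- the hom out of the free module determined by a family -/
noncomputable def hom : (Fin b → N) →ₗ[A] ((Fin b → A) →ₗ[A] N) :=
  Fintype.bilinearCombination A A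

/-- the relations map `N^b → N^a` -/
noncomputable def Amap : (Fin b → N) →ₗ[A] (Fin a → N) :=
  LinearMap.pi (fun i => (LinearMap.applyₗ (ρ (Pi.single i 1))) ∘ₗ hom N)

variable {N}

lemma Θ_apply (φ : M →ₗ[A] N) (j : Fin b) : Θ N π φ j = φ (π (Pi.single j 1)) := rfl

lemma hom_single (x : Fin b → N) (j : Fin b) (r : A) : hom N x (Pi.single j r) = r • x j :=
  Fintype.linearCombination_apply_single A x j r

lemma hom_apply (x : Fin b → N) (f : Fin b → A) : hom N x f = ∑ j, f j • x j :=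
  Fintype.linearCombination_apply A x f

lemma Amap_apply (x : Fin b → N) (i : Fin a) : Amap N ρ x i = hom N x (ρ (Pi.single i 1)) := rfl

lemma single_eq_smul {n : ℕ} (j : Fin n) (r : A) :
    (Pi.single j r : Fin n → A) = r • Pi.single j 1 := by
  rw [← Pi.single_smul, smul_eq_mul, mul_one]

lemma hom_Θ (φ : M →ₗ[A] N) : hom N (Θ N π φ) = φ ∘ₗ π := by
  apply LinearMap.pi_ext
  intro j r
  rw [hom_single, Θ_apply, LinearMap.comp_apply, single_eq_smul j r, map_smul, map_smul]

lemma Θ_injective (hπ : Function.Surjective π) : Function.Injective (Θ N π) := by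
  intro φ₁ φ₂ h
  have h1 : φ₁ ∘ₗ π = φ₂ ∘ₗ π := by rw [← hom_Θ, ← hom_Θ, h]
  ext m
  obtain ⟨f, rfl⟩ := hπ m
  exact LinearMap.congr_fun h1 f

lemma Amap_Θ (hρ : LinearMap.range ρ ≤ LinearMap.ker π) (φ : M →ₗ[A] N) :
    Amap N ρ (Θ N π φ) = 0 := by
  funext i
  rw [Amap_apply, hom_Θ, LinearMap.comp_apply]
  have : ρ (Pi.single i 1) ∈ LinearMap.ker π := hρ (LinearMap.mem_range_self _ _)
  rw [LinearMap.mem_ker.mp this, map_zero]
  rfl

lemma exists_of_Amap_eq_zero (hπ : Function.Surjective π)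
    (hρ : LinearMap.ker π ≤ LinearMap.range ρ) (x : Fin b → N) (hx : Amap N ρ x = 0) :
    ∃ φ : M →ₗ[A] N, ∀ f, φ (π f) = hom N x f := by
  have hz : (hom N x) ∘ₗ ρ = 0 := by
    apply LinearMap.pi_ext
    intro i r
    rw [LinearMap.comp_apply, single_eq_smul i r, map_smul, map_smul, ← Amap_apply, hx]
    simp
  have hker : LinearMap.ker π ≤ LinearMap.ker (hom N x) := by
    intro f hf
    obtain ⟨g, rfl⟩ := hρ hf
    exact LinearMap.congr_fun hz g
  refine ⟨((LinearMap.ker π).liftQ (hom N x) hker) ∘ₗ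
      (π.quotKerEquivOfSurjective hπ).symm.toLinearMap, fun f => ?_⟩
  have : (π.quotKerEquivOfSurjective hπ).symm (π f) = Submodule.Quotient.mk f := by
    rw [LinearEquiv.symm_apply_eq]
    rfl
  show (LinearMap.ker π).liftQ (hom N x) hker
    ((π.quotKerEquivOfSurjective hπ).symm (π f)) = _
  rw [this]
  rfl

end pres

/-- the Artin–Rees constant for `Hom` -/
theorem exists_const [IsNoetherianRing A] (I : Ideal A) (M N : Type*) [AddCommGroup M]
    [Module A M] [Module.Finite A M] [AddCommGroup N] [Module A N] [Module.Finite A N] :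
    ∃ c : ℕ,
      (∀ (n : ℕ) (φ : M →ₗ[A] N), (∀ m, φ m ∈ I ^ (n + c) • (⊤ : Submodule A N)) →
        φ ∈ I ^ n • (⊤ : Submodule A (M →ₗ[A] N))) ∧
      (∀ (n : ℕ) (ψ : M →ₗ[A] N ⧸ (I ^ (n + c) • ⊤ : Submodule A N)),
        ∃ φ : M →ₗ[A] N, ∀ m x₀, ψ m = Submodule.Quotient.mk x₀ →
          φ m - x₀ ∈ I ^ n • (⊤ : Submodule A N)) := by
  classical
  obtain ⟨b, π, hπ⟩ := Module.Finite.exists_fin' A M
  obtain ⟨a, ρ₀, hρ₀⟩ := Module.Finite.exists_fin' A (LinearMap.ker π)
  let ρ : (Fin a → A) →ₗ[A] (Fin b → A) := (LinearMap.ker π).subtype ∘ₗ ρ₀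
  have hρ : LinearMap.range ρ = LinearMap.ker π := by
    rw [LinearMap.range_comp, LinearMap.range_eq_top.mpr hρ₀, Submodule.map_top,
      Submodule.range_subtype]
  obtain ⟨c₁, hc₁⟩ := Ideal.exists_pow_inf_eq_pow_smul I (LinearMap.range (Θ N π))
  obtain ⟨c₂, hc₂⟩ := Ideal.exists_pow_inf_eq_pow_smul I (LinearMap.range (Amap N ρ))
  refine ⟨c₁ + c₂, ?_, ?_⟩
  · intro n φ hφ
    have h1 : Θ N π φ ∈ I ^ (n + (c₁ + c₂)) • (⊤ : Submodule A (Fin b → N)) :=
      pi_mem_smul_top _ _ (fun j => hφ _)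
    have h2 : Θ N π φ ∈ I ^ (n + (c₁ + c₂)) • (⊤ : Submodule A (Fin b → N)) ⊓
        LinearMap.range (Θ N π) := ⟨h1, LinearMap.mem_range_self _ _⟩
    rw [hc₁ _ (by omega)] at h2
    have h3 : Θ N π φ ∈ (I ^ n • (⊤ : Submodule A (M →ₗ[A] N))).map (Θ N π) := by
      rw [Submodule.map_smul'', Submodule.map_top]
      exact Submodule.smul_mono (Ideal.pow_le_pow_right (by omega)) inf_le_right h2
    obtain ⟨φ', hφ', hΘ⟩ := h3
    rwa [← Θ_injective π hπ hΘ]
  · intro n ψ
    have hx_ex : ∀ j : Fin b, ∃ xj : N,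
        (Submodule.Quotient.mk xj : N ⧸ (I ^ (n + (c₁ + c₂)) • ⊤ : Submodule A N)) =
          ψ (π (Pi.single j 1)) :=
      fun j => Submodule.Quotient.mk_surjective _ _
    choose x hx using hx_ex
    have hF2 : ∀ f : Fin b → A,
        (Submodule.Quotient.mk (hom N x f) : N ⧸ (I ^ (n + (c₁ + c₂)) • ⊤ : Submodule A N)) =
          ψ (π f) := by
      have : ((I ^ (n + (c₁ + c₂)) • ⊤ : Submodule A N)).mkQ ∘ₗ hom N x = ψ ∘ₗ π := by
        apply LinearMap.pi_ext
        intro j r
        simp only [LinearMap.comp_apply, Submodule.mkQ_apply]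
        rw [hom_single, single_eq_smul j r, map_smul, map_smul, Submodule.Quotient.mk_smul, hx]
      intro f
      exact LinearMap.congr_fun this f
    have hAx : Amap N ρ x ∈ I ^ (n + (c₁ + c₂)) • (⊤ : Submodule A (Fin a → N)) := by
      apply pi_mem_smul_top
      intro i
      rw [← Submodule.Quotient.mk_eq_zero, Amap_apply, hF2]
      have : ρ (Pi.single i 1) ∈ LinearMap.ker π := by
        rw [← hρ]
        exact LinearMap.mem_range_self _ _
      rw [LinearMap.mem_ker.mp this, map_zero]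
    have hAx2 : Amap N ρ x ∈ (I ^ n • (⊤ : Submodule A (Fin b → N))).map (Amap N ρ) := by
      have h1 : Amap N ρ x ∈ I ^ (n + (c₁ + c₂)) • (⊤ : Submodule A (Fin a → N)) ⊓
          LinearMap.range (Amap N ρ) := ⟨hAx, LinearMap.mem_range_self _ _⟩
      rw [hc₂ _ (by omega)] at h1
      rw [Submodule.map_smul'', Submodule.map_top]
      exact Submodule.smul_mono (Ideal.pow_le_pow_right (by omega)) inf_le_right h1
    obtain ⟨y, hy, hAy⟩ := hAx2
    have hAx' : Amap N ρ (x - y) = 0 := by rw [map_sub, hAy, sub_self]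
    obtain ⟨φ, hφ⟩ := exists_of_Amap_eq_zero π ρ hπ hρ.ge (x - y) hAx'
    refine ⟨φ, fun m x₀ hm => ?_⟩
    obtain ⟨f, rfl⟩ := hπ m
    rw [hφ, map_sub, LinearMap.sub_apply]
    have h1 : hom N x f - x₀ ∈ I ^ n • (⊤ : Submodule A N) := by
      have : hom N x f - x₀ ∈ I ^ (n + (c₁ + c₂)) • (⊤ : Submodule A N) := by
        rw [← Submodule.Quotient.mk_eq_zero, Submodule.Quotient.mk_sub, hF2, hm, sub_self]
      exact Submodule.smul_mono_left (Ideal.pow_le_pow_right (by omega)) this
    have h2 : hom N y f ∈ I ^ n • (⊤ : Submodule A N) := by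
      rw [hom_apply]
      exact Submodule.sum_mem _
        (fun j _ => Submodule.smul_mem _ _ (apply_mem_smul_top _ y hy j))
    have : hom N x f - hom N y f - x₀ = (hom N x f - x₀) - hom N y f := by abel
    rw [this]
    exact Submodule.sub_mem _ h1 h2

end Groth.Agent.Lib.Helper2.HomAR
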