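import Groth.Agent.Lib.Helper17.Frame
import Groth.Agent.Lib.Helper28.ModGlueHom
import Groth.Agent.Lib.Helper28.QCohGlobal
import Mathlib

/-!
# Extending morphisms of modules from a basic open (helper2)

For a quasi-compact quasi-separated scheme `X`, a global function `g`, a module `F` admitting a finite
cover by quasi-compact framed opens (e.g. `F` finite locally free on a qcqs scheme) and a
quasi-coherent module `G`:

* `exists_hom_extension`: a (sectionwise) morphism `F|_{X_g} → G|_{X_g}` extends to `F ⟶ G` after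
  multiplication by a power of `g`;
* `exists_pow_smul_eq_of_eq_on_basicOpen`: two morphisms `F ⟶ G` agreeing over `X_g` agree after
  multiplication by a power of `g`.
-/

set_option autoImplicit false
universe u
open CategoryTheory CategoryTheory.Limits AlgebraicGeometry Opposite TopologicalSpace

namespace Groth.Agent.Lib.Helper2.HomExt

open Groth.Agent.Lib.Helper28 Groth.Agent.Lib.Helper28.QCohLoc Groth.Agent.Lib.Helper17.Frame

variable {X : Scheme.{u}}

/-- uniform exponents over a finite family -/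
theorem exists_uniform {ι : Type*} [Finite ι] (P : ι → ℕ → Prop)
    (mono : ∀ i n m, n ≤ m → P i n → P i m) (h : ∀ i, ∃ n, P i n) : ∃ n, ∀ i, P i n := by
  classical
  cases nonempty_fintype ι
  choose n hn using h
  exact ⟨Finset.univ.sup n, fun i => mono i _ _ (Finset.le_sup (Finset.mem_univ i)) (hn i)⟩

section Coef

variable {L : X.Modules} {U : X.Opens} {n : ℕ} {γ : Fin n → Γ(L, U)} (hγ : IsFrame L U γ)

theorem coef_zero {V : X.Opens} (hV : V ≤ U) (j : Fin n) : hγ.coef hV (0 : Γ(L, V)) j = 0 := by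
  have h := hγ.coef_add hV (0 : Γ(L, V)) 0 j
  rw [add_zero] at h
  exact left_eq_add.mp h

theorem coef_finset_sum {V : X.Opens} (hV : V ≤ U) {κ : Type*} (s : Finset κ) (c : κ → Γ(X, V))
    (y : κ → Γ(L, V)) (j : Fin n) :
    hγ.coef hV (∑ k ∈ s, c k • y k : Γ(L, V)) j = ∑ k ∈ s, c k * hγ.coef hV (y k) j := by
  classical
  induction s using Finset.induction_on with
  | empty => simp only [Finset.sum_empty]; exact coef_zero hγ hV j
  | insert a s ha ih =>
    rw [Finset.sum_insert ha, Finset.sum_insert ha, hγ.coef_add, hγ.coef_smul_left, ih]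

/-- a morphism of modules is determined on a framed open by its values on the frame -/
theorem app_eq_sum_coef {G : X.Modules} (Ψ : L ⟶ G) {V : X.Opens} (hV : V ≤ U) (x : Γ(L, V)) :
    Ψ.app V x = (∑ l, hγ.coef hV x l • res G hV (Ψ.app U (γ l)) : Γ(G, V)) := by
  conv_lhs => rw [← hγ.coef_sum hV x]
  rw [map_sum]
  refine Finset.sum_congr rfl fun l _ => ?_
  rw [Scheme.Modules.Hom.app_smul, app_res]

end Coef

/-- a finite cover by quasi-compact framed opens -/
structure FramedCover (F : X.Modules) where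
  ι : Type
  fin : Finite ι
  W : ι → X.Opens
  compact : ∀ i, IsCompact (W i : Set X)
  cov : ∀ x : X, ∃ i, x ∈ W i
  n : ι → ℕ
  δ : ∀ i, Fin (n i) → Γ(F, W i)
  frame : ∀ i, IsFrame F (W i) (δ i)

variable {F G : X.Modules}

/-- the restriction of a global function to an open -/
noncomputable abbrev gOn (g : Γ(X, ⊤)) (V : X.Opens) : Γ(X, V) := resO (le_top : V ≤ ⊤) g

theorem gOn_res (g : Γ(X, ⊤)) {V V' : X.Opens} (h : V' ≤ V) : resO h (gOn g V) = gOn g V' :=
  resO_resO _ _ _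

theorem basicOpen_gOn (g : Γ(X, ⊤)) (V : X.Opens) : X.basicOpen (gOn g V) = V ⊓ X.basicOpen g :=
  basicOpen_resO _ g

theorem basicOpen_gOn_le (g : Γ(X, ⊤)) (V : X.Opens) : X.basicOpen (gOn g V) ≤ X.basicOpen g := by
  rw [basicOpen_gOn]; exact inf_le_right

/-- **uniqueness up to a power of `g`**: two morphisms out of a module with a finite framed cover into a
quasi-coherent module which agree over `X_g` agree after multiplication by a power of `g`. -/
theorem exists_pow_smul_eq_of_eq_on_basicOpen [G.IsQuasicoherent] (C : FramedCover F) (g : Γ(X, ⊤))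
    (Ψ Ψ' : F ⟶ G)
    (h : ∀ (V : X.Opens), V ≤ X.basicOpen g → ∀ x : Γ(F, V), Ψ.app V x = Ψ'.app V x) :
    ∃ m : ℕ, ∀ (V : X.Opens) (x : Γ(F, V)),
      ((gOn g V) ^ m • Ψ.app V x : Γ(G, V)) = ((gOn g V) ^ m • Ψ'.app V x : Γ(G, V)) := by
  haveI := C.fin
  -- uniform exponent killing the differences on the frames
  have key : ∃ m : ℕ, ∀ p : Σ i : C.ι, Fin (C.n i),
      ((gOn g (C.W p.1)) ^ m • (Ψ.app (C.W p.1) (C.δ p.1 p.2) - Ψ'.app (C.W p.1) (C.δ p.1 p.2)) :
        Γ(G, C.W p.1)) = 0 := by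
    refine exists_uniform _ ?_ ?_
    · intro p n m hnm hn
      rw [← tsub_add_cancel_of_le hnm, pow_add, mul_smul, hn, smul_zero]
    · intro p
      refine exists_pow_smul_eq_zero_of_isCompact G (C.compact p.1) (gOn g (C.W p.1)) _ ?_
      rw [res_sub, ← app_res, ← app_res, h _ (basicOpen_gOn_le g _), sub_self]
  obtain ⟨m, hm⟩ := key
  refine ⟨m, fun V x => ?_⟩
  -- check locally on `V ⊓ W i`
  refine eq_of_locally_eq G (fun i : C.ι => V ⊓ C.W i) V (fun i => inf_le_left) ?_ _ _ fun i => ?_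
  · intro q hq
    obtain ⟨i, hi⟩ := C.cov q
    exact Opens.mem_iSup.mpr ⟨i, ⟨hq, hi⟩⟩
  · have hVi : V ⊓ C.W i ≤ C.W i := inf_le_right
    rw [res_smul, res_smul, resO_pow, gOn_res, ← app_res, ← app_res,
      app_eq_sum_coef (C.frame i) Ψ hVi, app_eq_sum_coef (C.frame i) Ψ' hVi,
      Finset.smul_sum, Finset.smul_sum]
    refine Finset.sum_congr rfl fun l _ => ?_
    rw [smul_comm, smul_comm _ ((C.frame i).coef hVi _ l)]
    congr 1
    have h1 := congrArg (res G hVi) (hm ⟨i, l⟩)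
    rw [res_zero, res_smul, resO_pow, gOn_res, res_sub, smul_sub, sub_eq_zero] at h1
    exact h1

/-- a sectionwise morphism `F|_O → G|_O` over an open `O` -/
structure LocHom (F G : X.Modules) (O : X.Opens) where
  φ : ∀ V : X.Opens, V ≤ O → Γ(F, V) → Γ(G, V)
  add : ∀ (V : X.Opens) (hV : V ≤ O) (x y : Γ(F, V)), φ V hV (x + y) = φ V hV x + φ V hV y
  smul : ∀ (V : X.Opens) (hV : V ≤ O) (a : Γ(X, V)) (x : Γ(F, V)), φ V hV (a • x) = a • φ V hV x
  nat : ∀ (V : X.Opens) (hV : V ≤ O) (V' : X.Opens) (h : V' ≤ V) (x : Γ(F, V)),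
    φ V' (h.trans hV) (res F h x) = res G h (φ V hV x)

namespace LocHom

variable {O : X.Opens} (ψ : LocHom F G O)

theorem map_zero' (V : X.Opens) (hV : V ≤ O) : ψ.φ V hV 0 = 0 := by
  have h := ψ.add V hV 0 0
  rw [add_zero] at h
  exact left_eq_add.mp h

theorem map_sum' (V : X.Opens) (hV : V ≤ O) {κ : Type*} (s : Finset κ) (c : κ → Γ(X, V))
    (y : κ → Γ(F, V)) :
    ψ.φ V hV (∑ k ∈ s, c k • y k : Γ(F, V)) = (∑ k ∈ s, c k • ψ.φ V hV (y k) : Γ(G, V)) := by
  classical
  induction s using Finset.induction_on with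
  | empty => simp only [Finset.sum_empty]; exact ψ.map_zero' V hV
  | insert a s ha ih =>
    rw [Finset.sum_insert ha, Finset.sum_insert ha, ψ.add, ψ.smul, ih]

/-- the restriction of a morphism to an open, sectionwise -/
noncomputable def ofHom (Ψ : F ⟶ G) (O : X.Opens) : LocHom F G O where
  φ V _ x := Ψ.app V x
  add V _ x y := map_add _ x y
  smul V _ a x := Scheme.Modules.Hom.app_smul Ψ a x
  nat V _ V' h x := app_res Ψ h x

end LocHom

section Glue

variable (C : FramedCover F) (E : ∀ p : Σ i : C.ι, Fin (C.n i), Γ(G, C.W p.1))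

/-- the local map defined by prescribed values `E` on the frames -/
noncomputable def locMap (i : C.ι) (V : X.Opens) (hV : V ≤ C.W i) (x : Γ(F, V)) : Γ(G, V) :=
  ∑ l, (C.frame i).coef hV x l • res G hV (E ⟨i, l⟩)

theorem locMap_add (i : C.ι) (V : X.Opens) (hV : V ≤ C.W i) (x y : Γ(F, V)) :
    locMap C E i V hV (x + y) = locMap C E i V hV x + locMap C E i V hV y := by
  unfold locMap
  rw [← Finset.sum_add_distrib]
  refine Finset.sum_congr rfl fun l _ => ?_
  rw [(C.frame i).coef_add, add_smul]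

theorem locMap_smul (i : C.ι) (V : X.Opens) (hV : V ≤ C.W i) (a : Γ(X, V)) (x : Γ(F, V)) :
    locMap C E i V hV (a • x : Γ(F, V)) = (a • locMap C E i V hV x : Γ(G, V)) := by
  unfold locMap
  rw [Finset.smul_sum]
  refine Finset.sum_congr rfl fun l _ => ?_
  rw [(C.frame i).coef_smul_left, mul_smul]

theorem locMap_res (i : C.ι) (V : X.Opens) (hV : V ≤ C.W i) (V' : X.Opens) (h : V' ≤ V)
    (x : Γ(F, V)) :
    locMap C E i V' (h.trans hV) (res F h x) = res G h (locMap C E i V hV x) := by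
  unfold locMap
  rw [Groth.Agent.Lib.Helper29.FreeIso.res_sum_smul]
  refine Finset.sum_congr rfl fun l _ => ?_
  rw [(C.frame i).coef_res hV h, res_res]

/-- consistency of the prescribed values on overlaps -/
def Consistent : Prop :=
  ∀ (i i' : C.ι) (l : Fin (C.n i)),
    res G (inf_le_left : C.W i ⊓ C.W i' ≤ C.W i) (E ⟨i, l⟩) =
      (∑ l', (C.frame i').coef inf_le_right
          (res F (inf_le_left : C.W i ⊓ C.W i' ≤ C.W i) (C.δ i l)) l' •
        res G (inf_le_right : C.W i ⊓ C.W i' ≤ C.W i') (E ⟨i', l'⟩) : Γ(G, C.W i ⊓ C.W i'))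

variable {C E}

theorem locMap_indep (hE : Consistent C E) {i i' : C.ι} (V : X.Opens) (hV : V ≤ C.W i)
    (hV' : V ≤ C.W i') (x : Γ(F, V)) : locMap C E i V hV x = locMap C E i' V hV' x := by
  have hVii : V ≤ C.W i ⊓ C.W i' := le_inf hV hV'
  have h1 : ∀ l : Fin (C.n i), res G hV (E ⟨i, l⟩) =
      (∑ l', (C.frame i').coef hV' (res F hV (C.δ i l)) l' • res G hV' (E ⟨i', l'⟩) : Γ(G, V)) := by
    intro l
    rw [← res_res G (inf_le_left : C.W i ⊓ C.W i' ≤ C.W i) hVii, hE i i' l,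
      Groth.Agent.Lib.Helper29.FreeIso.res_sum_smul]
    refine Finset.sum_congr rfl fun l' _ => ?_
    rw [res_res, ← (C.frame i').coef_res inf_le_right hVii, res_res]
  have h2 : ∀ l' : Fin (C.n i'), (C.frame i').coef hV' x l' =
      ∑ l, (C.frame i).coef hV x l * (C.frame i').coef hV' (res F hV (C.δ i l)) l' := by
    intro l'
    conv_lhs => rw [← (C.frame i).coef_sum hV x]
    exact coef_finset_sum (C.frame i') hV' Finset.univ _ _ l'
  unfold locMap
  calc (∑ l, (C.frame i).coef hV x l • res G hV (E ⟨i, l⟩) : Γ(G, V))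
      = ∑ l, ∑ l', ((C.frame i).coef hV x l * (C.frame i').coef hV' (res F hV (C.δ i l)) l') •
          res G hV' (E ⟨i', l'⟩) := by
        refine Finset.sum_congr rfl fun l _ => ?_
        rw [h1 l, Finset.smul_sum]
        refine Finset.sum_congr rfl fun l' _ => ?_
        rw [mul_smul]
    _ = ∑ l', ∑ l, ((C.frame i).coef hV x l * (C.frame i').coef hV' (res F hV (C.δ i l)) l') •
          res G hV' (E ⟨i', l'⟩) := Finset.sum_comm
    _ = ∑ l', (C.frame i').coef hV' x l' • res G hV' (E ⟨i', l'⟩) := by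
        refine Finset.sum_congr rfl fun l' _ => ?_
        rw [h2 l', Finset.sum_smul]

/-- the local maps glue -/
noncomputable def glueData (hE : Consistent C E) : LocalHomData F G where
  B V := ∃ i, V ≤ C.W i
  down V V' h hV := ⟨hV.choose, h.trans hV.choose_spec⟩
  cov x := by
    obtain ⟨i, hi⟩ := C.cov x
    exact ⟨C.W i, ⟨i, le_rfl⟩, hi⟩
  φ V hV x := locMap C E hV.choose V hV.choose_spec x
  add V hV x y := locMap_add C E _ V _ x y
  smul V hV a x := locMap_smul C E _ V _ a x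
  nat V hV V' h x := by
    rw [← locMap_res C E hV.choose V hV.choose_spec V' h x]
    exact locMap_indep hE V' _ _ _

theorem glue_app (hE : Consistent C E) (i : C.ι) (V : X.Opens) (hV : V ≤ C.W i) (x : Γ(F, V)) :
    (glueData hE).hom.app V x = locMap C E i V hV x := by
  rw [LocalHomData.hom_app (glueData hE) V ⟨i, hV⟩ x]
  exact locMap_indep hE V _ _ _

end Glue

section Ext

variable (C : FramedCover F) (g : Γ(X, ⊤)) (ψ : LocHom F G (X.basicOpen g))

/-- the value to be extended for the frame element `(i, l)`: a section of `G` over `W_i ∩ X_g` -/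
noncomputable def target (p : Σ i : C.ι, Fin (C.n i)) : Γ(G, X.basicOpen (gOn g (C.W p.1))) :=
  ψ.φ _ (basicOpen_gOn_le g _) (res F (X.basicOpen_le _) (C.δ p.1 p.2))

variable {C g ψ}

theorem res_of_ext {k : ℕ} {p : Σ i : C.ι, Fin (C.n i)} {E : Γ(G, C.W p.1)}
    (hE : res G (X.basicOpen_le (gOn g (C.W p.1))) E =
      ((resO (X.basicOpen_le (gOn g (C.W p.1))) (gOn g (C.W p.1))) ^ k • target C g ψ p :
        Γ(G, X.basicOpen (gOn g (C.W p.1)))))
    (T : X.Opens) (hTW : T ≤ C.W p.1) (hTg : T ≤ X.basicOpen g) :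
    res G hTW E = ((gOn g T) ^ k • ψ.φ T hTg (res F hTW (C.δ p.1 p.2)) : Γ(G, T)) := by
  have hTb : T ≤ X.basicOpen (gOn g (C.W p.1)) := by
    rw [basicOpen_gOn]; exact le_inf hTW hTg
  rw [← res_res G (X.basicOpen_le (gOn g (C.W p.1))) hTb, hE, res_smul, resO_pow, resO_resO,
    gOn_res]
  congr 1
  unfold target
  rw [← ψ.nat _ _ T hTb, res_res]

variable (C g ψ)

include C in
/-- **extension of morphisms**: a sectionwise morphism `F|_{X_g} → G|_{X_g}` extends to `F ⟶ G`
after multiplication by a power of `g` (`F` with a finite framed cover, `G` quasi-coherent, `X`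
quasi-separated). -/
theorem exists_hom_extension [QuasiSeparatedSpace X] [G.IsQuasicoherent] :
    ∃ (k : ℕ) (Ψ : F ⟶ G), ∀ (V : X.Opens) (hV : V ≤ X.basicOpen g) (x : Γ(F, V)),
      Ψ.app V x = ((gOn g V) ^ k • ψ.φ V hV x : Γ(G, V)) := by
  haveI := C.fin
  -- Step 1: extend the targets
  have step1 : ∃ k₁ : ℕ, ∀ p : Σ i : C.ι, Fin (C.n i), ∃ E : Γ(G, C.W p.1),
      res G (X.basicOpen_le (gOn g (C.W p.1))) E =
        ((resO (X.basicOpen_le (gOn g (C.W p.1))) (gOn g (C.W p.1))) ^ k₁ • target C g ψ p :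
          Γ(G, X.basicOpen (gOn g (C.W p.1)))) := by
    refine exists_uniform _ ?_ ?_
    · rintro p n m hnm ⟨E, hE⟩
      refine ⟨((gOn g (C.W p.1)) ^ (m - n) • E : Γ(G, C.W p.1)), ?_⟩
      rw [res_smul, hE, resO_pow, ← mul_smul, ← pow_add, tsub_add_cancel_of_le hnm]
    · intro p
      obtain ⟨n, E, hE⟩ := exists_pow_smul_eq_res_of_qcqs G (C.compact p.1)
        (IsQuasiSeparated.of_quasiSeparatedSpace _) (gOn g (C.W p.1)) (target C g ψ p)
      exact ⟨n, E, hE⟩
  obtain ⟨k₁, h1⟩ := step1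
  choose E₀ hE₀ using h1
  -- Step 2: consistency up to a power of `g`
  let D : ∀ q : (Σ p : (Σ i : C.ι, Fin (C.n i)), C.ι), Γ(G, C.W q.1.1 ⊓ C.W q.2) := fun q =>
    res G (inf_le_left : C.W q.1.1 ⊓ C.W q.2 ≤ C.W q.1.1) (E₀ q.1) -
      ∑ l', (C.frame q.2).coef inf_le_right
          (res F (inf_le_left : C.W q.1.1 ⊓ C.W q.2 ≤ C.W q.1.1) (C.δ q.1.1 q.1.2)) l' •
        res G (inf_le_right : C.W q.1.1 ⊓ C.W q.2 ≤ C.W q.2) (E₀ ⟨q.2, l'⟩)
  have step2 : ∃ k₂ : ℕ, ∀ q : (Σ p : (Σ i : C.ι, Fin (C.n i)), C.ι),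
      ((gOn g (C.W q.1.1 ⊓ C.W q.2)) ^ k₂ • D q : Γ(G, C.W q.1.1 ⊓ C.W q.2)) = 0 := by
    refine exists_uniform _ ?_ ?_
    · intro q n m hnm hn
      rw [← tsub_add_cancel_of_le hnm, pow_add, mul_smul, hn, smul_zero]
    · rintro ⟨⟨i, l⟩, i'⟩
      have hc : IsCompact ((C.W i ⊓ C.W i' : X.Opens) : Set X) :=
        (C.compact i).inter_of_isOpen (C.compact i') (C.W i).2 (C.W i').2
      refine exists_pow_smul_eq_zero_of_isCompact G hc (gOn g (C.W i ⊓ C.W i')) _ ?_
      set T : X.Opens := X.basicOpen (gOn g (C.W i ⊓ C.W i')) with hTdef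
      have hT : T ≤ C.W i ⊓ C.W i' := X.basicOpen_le _
      have hTg : T ≤ X.basicOpen g := basicOpen_gOn_le g _
      change res G hT (D ⟨⟨i, l⟩, i'⟩) = 0
      simp only [D]
      rw [res_sub, Groth.Agent.Lib.Helper29.FreeIso.res_sum_smul, res_res,
        res_of_ext (hE₀ ⟨i, l⟩) T (hT.trans inf_le_left) hTg, sub_eq_zero]
      have h3 : ∀ l', res G hT (res G (inf_le_right : C.W i ⊓ C.W i' ≤ C.W i') (E₀ ⟨i', l'⟩)) =
          ((gOn g T) ^ k₁ • ψ.φ T hTg (res F (hT.trans inf_le_right) (C.δ i' l')) : Γ(G, T)) := by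
        intro l'
        rw [res_res]
        exact res_of_ext (hE₀ ⟨i', l'⟩) T (hT.trans inf_le_right) hTg
      simp only [h3]
      simp only [smul_comm _ ((gOn g T) ^ k₁)]
      rw [← Finset.smul_sum, ← ψ.map_sum']
      congr 2
      have h4 := congrArg (res F hT) ((C.frame i').coef_sum inf_le_right
        (res F (inf_le_left : C.W i ⊓ C.W i' ≤ C.W i) (C.δ i l)))
      rw [Groth.Agent.Lib.Helper29.FreeIso.res_sum_smul, res_res] at h4
      rw [← h4]
      refine Finset.sum_congr rfl fun l' _ => ?_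
      rw [res_res]
  obtain ⟨k₂, h2⟩ := step2
  -- Step 3: the consistent values
  let E : ∀ p : Σ i : C.ι, Fin (C.n i), Γ(G, C.W p.1) := fun p =>
    ((gOn g (C.W p.1)) ^ k₂ • E₀ p : Γ(G, C.W p.1))
  have hE : Consistent C E := by
    intro i i' l
    have h := h2 ⟨⟨i, l⟩, i'⟩
    simp only [D] at h
    rw [smul_sub, sub_eq_zero, Finset.smul_sum] at h
    simp only [E]
    rw [res_smul, resO_pow, gOn_res, h]
    refine Finset.sum_congr rfl fun l' _ => ?_
    rw [res_smul, resO_pow, gOn_res, smul_comm]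
  refine ⟨k₂ + k₁, (glueData hE).hom, fun V hV x => ?_⟩
  -- Step 4: check locally
  refine eq_of_locally_eq G (fun i : C.ι => V ⊓ C.W i) V (fun i => inf_le_left) ?_ _ _ fun i => ?_
  · intro q hq
    obtain ⟨i, hi⟩ := C.cov q
    exact Opens.mem_iSup.mpr ⟨i, ⟨hq, hi⟩⟩
  · have hTW : V ⊓ C.W i ≤ C.W i := inf_le_right
    have hTg : V ⊓ C.W i ≤ X.basicOpen g := inf_le_left.trans hV
    rw [← app_res, glue_app hE i _ hTW, res_smul, resO_pow, gOn_res, ← ψ.nat V hV]
    unfold locMap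
    have h5 : ∀ l, res G hTW (E ⟨i, l⟩) =
        ((gOn g (V ⊓ C.W i)) ^ (k₂ + k₁) • ψ.φ _ hTg (res F hTW (C.δ i l)) : Γ(G, V ⊓ C.W i)) := by
      intro l
      simp only [E]
      rw [res_smul, resO_pow, gOn_res, res_of_ext (hE₀ ⟨i, l⟩) _ hTW hTg, ← mul_smul, ← pow_add]
    simp only [h5]
    simp only [smul_comm _ ((gOn g (V ⊓ C.W i)) ^ (k₂ + k₁))]
    rw [← Finset.smul_sum, ← ψ.map_sum', (C.frame i).coef_sum]

end Ext

end Groth.Agent.Lib.Helper2.HomExt
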