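import Groth.Agent.Lib.Helper2.Kos13
import Groth.Agent.Lib.Helper2.DualE3
import Groth.Agent.Lib.Helper2.ProjCoh10
import Groth.Agent.Lib.Helper2.ProjCoh11

/-!
# Endomorphisms of twisting sheaves on `P^n_k` are scalars (helper2)

A nonzero endomorphism of `O(a)` on `P^n_k` is an isomorphism.
-/

set_option backward.isDefEq.respectTransparency.types false
set_option autoImplicit false
universe u
open CategoryTheory CategoryTheory.Limits AlgebraicGeometry Opposite TopologicalSpace Abelian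

noncomputable section
namespace Groth.Agent.Lib.Helper2.Horr1

open Groth.Agent.Lib.Helper2.ProjCoh3 Groth.Agent.Lib.Helper2.ProjCoh4 Groth.Agent.Lib.Helper2.ProjCoh5
  Groth.Agent.Lib.Helper2.DualE3 Groth.Agent.Lib.Helper2.SerreVan

variable (n : ℕ) (k : Type u) [Field k]

theorem nonempty_twist_iso_of_eq (a b : ℤ) (h : a = b) :
    Nonempty (Twist.twistProjSpace n k a ≅ Twist.twistProjSpace n k b) := by
  subst h
  exact ⟨Iso.refl _⟩

theorem isQCoh_ω : Coh.IsQCoh (ω n k) := (Groth.Agent.Lib.Helper2.SerreFin2.isCoh_twist n k _).1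

theorem finrank_HH_ω : Module.finrank k (Coh.HH (CohB1.ProjSpace n k) (ω n k) n) = 1 := by
  obtain ⟨e⟩ := Groth.Agent.Lib.Helper2.ProjCoh10.nonempty_linearEquiv_top n k 0
  have h1 : Module.finrank k (Coh.HH (CohB1.ProjSpace n k)
      (Twist.twistProjSpace n k (-((n : ℤ) + 1 + ((0 : ℕ) : ℤ)))) n) = 1 := by
    rw [LinearEquiv.finrank_eq e, Groth.Agent.Lib.Helper2.ProjCoh11.finrank_homogeneousSubmodule]
    simp
  have h2 : (-((n : ℤ) + 1 + ((0 : ℕ) : ℤ))) = -((n : ℤ) + 1) := by simp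
  rw [h2] at h1
  exact h1

theorem finrank_end_ω : Module.finrank k (ω n k ⟶ ω n k) = 1 := by
  haveI : Module.Finite k (Coh.HH (CohB1.ProjSpace n k) (ω n k) n) :=
    Module.finite_of_finrank_eq_succ (finrank_HH_ω n k)
  rw [LinearEquiv.finrank_eq (θ n k (ω n k) (isQCoh_ω n k)), Subspace.dual_finrank_eq,
    finrank_HH_ω]

/-- a nonzero endomorphism of `ω` is an isomorphism. -/
theorem isIso_of_ne_zero_ω (g : ω n k ⟶ ω n k) (hg : g ≠ 0) : IsIso g := by
  have h1 := finrank_end_ω n k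
  have hid : (𝟙 (ω n k) : ω n k ⟶ ω n k) ≠ 0 := by
    intro h0
    apply hg
    rw [← Category.comp_id g, h0, comp_zero]
  obtain ⟨c, hc⟩ := (finrank_eq_one_iff_of_nonzero' (𝟙 (ω n k)) hid).1 h1 g
  have hc0 : c ≠ 0 := by
    rintro rfl
    apply hg
    rw [← hc, zero_smul]
  refine ⟨c⁻¹ • 𝟙 (ω n k), ?_, ?_⟩
  · rw [← hc, Linear.smul_comp, Linear.comp_smul, Category.comp_id, smul_smul,
      mul_inv_cancel₀ hc0, one_smul]
  · rw [← hc, Linear.smul_comp, Linear.comp_smul, Category.comp_id, smul_smul,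
      inv_mul_cancel₀ hc0, one_smul]

/-- a nonzero endomorphism of `O(a)` is an isomorphism. -/
theorem isIso_of_ne_zero (a : ℤ) (g : Twist.twistProjSpace n k a ⟶ Twist.twistProjSpace n k a)
    (hg : g ≠ 0) : IsIso g := by
  let d : ℤ := -((n : ℤ) + 1) - a
  obtain ⟨e₀⟩ := nonempty_Tw_twist_iso n k a d
  have had : a + d = -((n : ℤ) + 1) := by
    show a + (-((n : ℤ) + 1) - a) = _
    ring
  obtain ⟨e₁⟩ := nonempty_twist_iso_of_eq n k (a + d) (-((n : ℤ) + 1)) had
  let e : (Tw n k d).obj (Twist.twistProjSpace n k a) ≅ ω n k := e₀ ≪≫ e₁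
  have h1 : (Tw n k d).map g ≠ 0 := by
    intro h0
    apply hg
    apply (Tw n k d).map_injective
    rw [h0, Functor.map_zero]
  have h2 : e.inv ≫ (Tw n k d).map g ≫ e.hom ≠ 0 := by
    intro h0
    apply h1
    have : (Tw n k d).map g = e.hom ≫ (e.inv ≫ (Tw n k d).map g ≫ e.hom) ≫ e.inv := by simp
    rw [this, h0, zero_comp, comp_zero]
  haveI := isIso_of_ne_zero_ω n k _ h2
  have h3 : IsIso ((Tw n k d).map g) := by
    have : (Tw n k d).map g = e.hom ≫ (e.inv ≫ (Tw n k d).map g ≫ e.hom) ≫ e.inv := by simp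
    rw [this]
    infer_instance
  exact isIso_of_reflects_iso g (Tw n k d)

end Groth.Agent.Lib.Helper2.Horr1
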