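import Groth.Agent.Lib.Helper2.Horr1
import Groth.Agent.Lib.Helper2.EulerP1

/-!
# Retracts and cohomology; split sequences (helper2)
-/

set_option backward.isDefEq.respectTransparency.types false
set_option autoImplicit false
universe u
open CategoryTheory CategoryTheory.Limits AlgebraicGeometry Opposite TopologicalSpace Abelian

noncomputable section
namespace Groth.Agent.Lib.Helper2.Horr2

open Groth.Agent.Lib.Helper2.SerreFin1 Groth.Agent.Lib.Helper2.HLesLin
  Groth.Agent.Lib.Helper2.SerreVan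

section General

variable (A : Type u) [CommRing A] {X : Scheme.{u}} [X.Over (Spec (CommRingCat.of A))]

include A in
/-- cohomology of a retract vanishes if that of the ambient module does. -/
theorem subsingleton_HH_of_retract {K F : X.Modules} (σ : K ⟶ F) (ρ : F ⟶ K) (h : σ ≫ ρ = 𝟙 K)
    (p : ℕ) (hF : Subsingleton (Coh.HH X F p)) : Subsingleton (Coh.HH X K p) := by
  refine ⟨fun a b => ?_⟩
  have key : ∀ y : Coh.HH X K p, y = 0 := by
    intro y
    have h1 : Canon.HHlin A ρ p (Canon.HHlin A σ p y) = y := by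
      rw [HHlin_comp_apply, h, HHlin_id_apply]
    rw [← h1, Subsingleton.elim (Canon.HHlin A σ p y) 0, map_zero]
  rw [key a, key b]

theorem surjective_HHlin_of_section {F L : X.Modules} (g : F ⟶ L) (s : L ⟶ F) (h : s ≫ g = 𝟙 L)
    (p : ℕ) : Function.Surjective (Canon.HHlin A g p) := by
  intro y
  refine ⟨Canon.HHlin A s p y, ?_⟩
  rw [HHlin_comp_apply, h, HHlin_id_apply]

end General

section Field

variable (k : Type u) [Field k] {X : Scheme.{u}} [X.Over (Spec (CommRingCat.of k))]

/-- `h^0` is additive on split short exact sequences. -/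
theorem finrank_HH_zero_of_split (S : ShortComplex X.Modules) (hS : S.ShortExact)
    (s : S.X₃ ⟶ S.X₂) (hs : s ≫ S.g = 𝟙 S.X₃)
    [Module.Finite k (Coh.HH X S.X₂ 0)] :
    Module.finrank k (Coh.HH X S.X₂ 0) =
      Module.finrank k (Coh.HH X S.X₁ 0) + Module.finrank k (Coh.HH X S.X₃ 0) := by
  have hinj := Groth.Agent.Lib.Helper2.EulerP1.injective_HHlin_zero S hS k
  have hsurj := surjective_HHlin_of_section k S.g s hs 0
  have hex := range_eq_ker₂ S hS k 0
  have h1 := LinearMap.finrank_range_add_finrank_ker (Canon.HHlin k S.g 0)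
  rw [LinearMap.range_eq_top.2 hsurj, finrank_top, ← hex,
    LinearMap.finrank_range_of_inj hinj] at h1
  omega

end Field

section Proj

variable {n : ℕ} {k : Type u} [Field k]

/-- a retract of an `m`-regular module is `m`-regular. -/
theorem isMRegular_of_retract {K F : (CohB1.ProjSpace n k).Modules} (σ : K ⟶ F) (ρ : F ⟶ K)
    (h : σ ≫ ρ = 𝟙 K) (m : ℤ) (hF : Curv2.IsMRegular k n F m) : Curv2.IsMRegular k n K m := by
  intro i hi1 hi2
  refine subsingleton_HH_of_retract k ((Tw n k (m - i)).map σ) ((Tw n k (m - i)).map ρ) ?_ i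
    (hF i hi1 hi2)
  rw [← Functor.map_comp, h, CategoryTheory.Functor.map_id]

theorem subsingleton_HH_twist_of_retract {K F : (CohB1.ProjSpace n k).Modules} (σ : K ⟶ F)
    (ρ : F ⟶ K) (h : σ ≫ ρ = 𝟙 K) (t : ℤ) (i : ℕ)
    (hF : Subsingleton (Coh.HH (CohB1.ProjSpace n k)
      (CohB1.tensorMod F (Twist.twistProjSpace n k t)) i)) :
    Subsingleton (Coh.HH (CohB1.ProjSpace n k)
      (CohB1.tensorMod K (Twist.twistProjSpace n k t)) i) := by
  refine subsingleton_HH_of_retract k ((Tw n k t).map σ) ((Tw n k t).map ρ) ?_ i hF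
  rw [← Functor.map_comp, h, CategoryTheory.Functor.map_id]

/-- `h^0(O(D)) ≥ 1` for `D ≥ 0`. -/
theorem finrank_HH_zero_twist_pos (D : ℕ) :
    1 ≤ Module.finrank k (Coh.HH (CohB1.ProjSpace n k) (Twist.twistProjSpace n k (D : ℤ)) 0) := by
  obtain ⟨e⟩ := Groth.Agent.Lib.Helper2.ProjCoh10.nonempty_linearEquiv_zero n k D
  rw [LinearEquiv.finrank_eq e, Groth.Agent.Lib.Helper2.ProjCoh11.finrank_homogeneousSubmodule]
  exact Nat.choose_pos (Nat.le_add_left D n)

end Proj

end Groth.Agent.Lib.Helper2.Horr2
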