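import Groth.Agent.Lib.Helper2.Horr2
import Groth.Agent.Lib.Helper2.Kos13
import Groth.Agent.Lib.Helper2.Kos4

/-!
# Horrocks' splitting criterion: splitting off a twisting sheaf (helper2)
-/

set_option backward.isDefEq.respectTransparency.types false
set_option autoImplicit false
universe u
open CategoryTheory CategoryTheory.Limits AlgebraicGeometry Opposite TopologicalSpace Abelian

noncomputable section
namespace Groth.Agent.Lib.Helper2.Horr3

open Groth.Agent.Lib.Helper2.ProjCoh3 Groth.Agent.Lib.Helper2.ProjCoh4 Groth.Agent.Lib.Helper2.ProjCoh5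
  Groth.Agent.Lib.Helper2.SerreVan Groth.Agent.Lib.Helper2.Kos13 Groth.Agent.Lib.Helper2.Horr1
  Groth.Agent.Lib.Helper2.Horr2 Groth.Agent.Lib.Helper2.TwEq2

variable {n : ℕ} {k : Type u} [Field k]

/-- the Horrocks condition. -/
def HorrCond (F : (CohB1.ProjSpace n k).Modules) : Prop :=
  (∃ n₀ : ℤ, ∀ t : ℤ, t ≤ n₀ → Subsingleton (Coh.HH (CohB1.ProjSpace n k)
    (CohB1.tensorMod F (Twist.twistProjSpace n k t)) 0)) ∧
  ∀ (t : ℤ) (i : ℕ), 1 ≤ i → i < n → Subsingleton (Coh.HH (CohB1.ProjSpace n k)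
    (CohB1.tensorMod F (Twist.twistProjSpace n k t)) i)

theorem HorrCond.of_retract {K F : (CohB1.ProjSpace n k).Modules} (σ : K ⟶ F) (ρ : F ⟶ K)
    (h : σ ≫ ρ = 𝟙 K) (hF : HorrCond F) : HorrCond K := by
  obtain ⟨⟨n₀, h0⟩, h1⟩ := hF
  exact ⟨⟨n₀, fun t ht => subsingleton_HH_twist_of_retract σ ρ h t 0 (h0 t ht)⟩,
    fun t i hi hin => subsingleton_HH_twist_of_retract σ ρ h t i (h1 t i hi hin)⟩

/-- `O_X ≅ O(-m)(m)`. -/
theorem nonempty_unit_iso (m : ℤ) :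
    Nonempty (Coh.structureModule (CohB1.ProjSpace n k) ≅
      (Tw n k m).obj (Twist.twistProjSpace n k (-m))) := by
  obtain ⟨e₀⟩ := nonempty_Tw_twist_iso n k (-m) m
  obtain ⟨e₁⟩ := nonempty_twist_iso_of_eq n k (-m + m) 0 (by ring)
  obtain ⟨e₂⟩ := nonempty_twist_iso_unit n k 0 rfl
  exact ⟨(e₀ ≪≫ e₁ ≪≫ e₂).symm⟩

/-- morphisms `O(-m) ⟶ F` vanish if `H^0(F(m)) = 0`. -/
theorem hom_twist_eq_zero (F : (CohB1.ProjSpace n k).Modules) (m : ℤ)
    (h0 : Subsingleton (Coh.HH (CohB1.ProjSpace n k)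
      (CohB1.tensorMod F (Twist.twistProjSpace n k m)) 0))
    (g : Twist.twistProjSpace n k (-m) ⟶ F) : g = 0 := by
  obtain ⟨e⟩ := nonempty_unit_iso (n := n) (k := k) m
  have h1 : e.hom ≫ (Tw n k m).map g = 0 := by
    apply (h0' ((Tw n k m).obj F)).injective
    exact @Subsingleton.elim _ h0 _ _
  have h2 : (Tw n k m).map g = 0 := by
    rw [← cancel_epi e.hom, h1, comp_zero]
  apply (Tw n k m).map_injective
  rw [h2, Functor.map_zero]

/-- an `m`-regular coherent module with `H^0(F(m)) = 0` is zero. -/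
theorem isZero_of_isMRegular (F : (CohB1.ProjSpace n k).Modules) (hF : Coh.IsCoh F) (m : ℤ)
    (h : Curv2.IsMRegular k n F m)
    (h0 : Subsingleton (Coh.HH (CohB1.ProjSpace n k)
      (CohB1.tensorMod F (Twist.twistProjSpace n k m)) 0)) : IsZero F := by
  obtain ⟨b, φ, hφ, -⟩ := exists_epi_of_isMRegular F hF m h
  have h1 : φ = 0 := by
    apply Sigma.hom_ext
    intro j
    rw [comp_zero]
    exact hom_twist_eq_zero F m h0 _
  rw [IsZero.iff_id_eq_zero, ← cancel_epi φ, h1, zero_comp, zero_comp]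

/-- nonvanishing of `H^n(F(e))` produces a nonzero morphism `F ⟶ O(-n-1-e)`. -/
theorem exists_nonzero_hom (F : (CohB1.ProjSpace n k).Modules) (hF : Coh.IsCoh F) (e b : ℤ)
    (hb : b = -((n : ℤ) + 1) - e)
    (h : ¬ Subsingleton (Coh.HH (CohB1.ProjSpace n k)
      (CohB1.tensorMod F (Twist.twistProjSpace n k e)) n)) :
    ∃ θ : F ⟶ Twist.twistProjSpace n k b, θ ≠ 0 := by
  haveI : HasExt.{u} (CohB1.ProjSpace n k).Modules := hasExt_of_enoughInjectives _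
  have h1 := Groth.Agent.Lib.Helper2.Kos4.subsingleton_HH_iff F hF e n le_rfl b hb
  rw [Nat.sub_self] at h1
  rw [h1, not_subsingleton_iff_nontrivial] at h
  obtain ⟨x, hx⟩ := exists_ne (0 : Ext F (Twist.twistProjSpace n k b) 0)
  refine ⟨Ext.homEquiv₀ x, fun h0 => hx ?_⟩
  rw [← Ext.mk₀_homEquiv₀_apply x, h0, Ext.mk₀_zero]

/-- the minimal regularity. -/
theorem exists_min_reg (F : (CohB1.ProjSpace n k).Modules) (hF : Coh.IsCoh F) (hz : ¬ IsZero F)
    (hH : HorrCond F) (T : ℤ) (hT : Curv2.IsMRegular k n F T) :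
    ∃ m₀ : ℤ, m₀ ≤ T ∧ Curv2.IsMRegular k n F m₀ ∧ ¬ Curv2.IsMRegular k n F (m₀ - 1) := by
  obtain ⟨⟨n₀, h0⟩, -⟩ := hH
  obtain ⟨m₀, hm₀, hmin⟩ := Int.exists_least_of_bdd (P := fun m => Curv2.IsMRegular k n F m)
    ⟨n₀, fun m hm => by
      by_contra hlt
      push_neg at hlt
      exact hz (isZero_of_isMRegular F hF m hm (h0 m hlt.le))⟩ ⟨T, hT⟩
  refine ⟨m₀, hmin T hT, hm₀, fun hcon => ?_⟩
  have := hmin (m₀ - 1) hcon
  omega

/-- **splitting off a twisting sheaf**. -/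
theorem exists_split_off (hn : 1 ≤ n) (F : (CohB1.ProjSpace n k).Modules) (hF : Coh.IsCoh F)
    (hz : ¬ IsZero F) (hH : HorrCond F) (T : ℤ) (hT : Curv2.IsMRegular k n F T) :
    ∃ (m₀ : ℤ) (_ : m₀ ≤ T) (σ : Twist.twistProjSpace n k (-m₀) ⟶ F)
      (ρ : F ⟶ Twist.twistProjSpace n k (-m₀)), σ ≫ ρ = 𝟙 _ := by
  obtain ⟨m₀, hle, hreg, hnreg⟩ := exists_min_reg F hF hz hH T hT
  refine ⟨m₀, hle, ?_⟩
  -- nonvanishing top cohomology
  have hnv : ¬ Subsingleton (Coh.HH (CohB1.ProjSpace n k)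
      (CohB1.tensorMod F (Twist.twistProjSpace n k (m₀ - 1 - n))) n) := by
    intro hsub
    apply hnreg
    intro i hi1 hi2
    by_cases hin : i < n
    · exact hH.2 _ i hi1 hin
    · have : i = n := by omega
      subst this
      exact hsub
  obtain ⟨θ, hθ⟩ := exists_nonzero_hom F hF (m₀ - 1 - n) (-m₀) (by ring) hnv
  obtain ⟨b, φ, hφ, -⟩ := exists_epi_of_isMRegular F hF m₀ hreg
  have hex : ∃ j : Fin b, Sigma.ι (fun _ : Fin b => Twist.twistProjSpace n k (-m₀)) j ≫ φ ≫ θ ≠ 0 := by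
    by_contra hall
    push_neg at hall
    apply hθ
    rw [← cancel_epi φ, comp_zero]
    apply Sigma.hom_ext
    intro j
    rw [comp_zero]
    exact hall j
  obtain ⟨j, hj⟩ := hex
  haveI := isIso_of_ne_zero n k (-m₀) _ hj
  refine ⟨Sigma.ι (fun _ : Fin b => Twist.twistProjSpace n k (-m₀)) j ≫ φ,
    θ ≫ inv (Sigma.ι (fun _ : Fin b => Twist.twistProjSpace n k (-m₀)) j ≫ φ ≫ θ), ?_⟩
  have h1 : (Sigma.ι (fun _ : Fin b => Twist.twistProjSpace n k (-m₀)) j ≫ φ) ≫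
      θ ≫ inv (Sigma.ι (fun _ : Fin b => Twist.twistProjSpace n k (-m₀)) j ≫ φ ≫ θ) =
      (Sigma.ι (fun _ : Fin b => Twist.twistProjSpace n k (-m₀)) j ≫ φ ≫ θ) ≫
        inv (Sigma.ι (fun _ : Fin b => Twist.twistProjSpace n k (-m₀)) j ≫ φ ≫ θ) := by
    simp only [Category.assoc]
  rw [h1, IsIso.hom_inv_id]

end Groth.Agent.Lib.Helper2.Horr3
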