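import Groth.Agent.Lib.Helper2.Horr1
import Groth.Agent.Lib.Helper2.GSplit3
import Groth.Agent.Lib.Helper2.Dual9
import Groth.Agent.Lib.Helper2.Horr2

/-!
# Homomorphisms from a twisting sheaf to the dualizing sheaf of `P^n_k` are multiplications by
forms; consequences (helper2)
-/

set_option backward.isDefEq.respectTransparency.types false
set_option autoImplicit false
universe u
open CategoryTheory CategoryTheory.Limits AlgebraicGeometry Opposite TopologicalSpace Abelian

noncomputable section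
namespace Groth.Agent.Lib.Helper2.HypCoh1

open Groth.Agent.Lib.Helper2.ProjCoh3 Groth.Agent.Lib.Helper2.ProjCoh4 Groth.Agent.Lib.Helper2.ProjCoh5
  Groth.Agent.Lib.Helper2.DualE3 Groth.Agent.Lib.Helper2.SerreVan Groth.Agent.Lib.Helper2.GSplit1
  Groth.Agent.Lib.Helper2.Kos2 Groth.Agent.Lib.Helper2.Horr1

variable (n : ℕ) (k : Type u) [Field k]

/-- `O(a)` is not a zero object. -/
theorem not_isZero_twist (a : ℤ) : ¬ IsZero (Twist.twistProjSpace n k a) := by
  intro hz
  have h1 : IsZero ((Tw n k (-a)).obj (Twist.twistProjSpace n k a)) :=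
    (Tw n k (-a)).map_isZero hz
  obtain ⟨e⟩ := nonempty_Tw_twist_iso n k a (-a)
  obtain ⟨e'⟩ := nonempty_twist_iso_of_eq n k (a + -a) ((0 : ℕ) : ℤ) (by simp)
  have h2 : IsZero (Twist.twistProjSpace n k ((0 : ℕ) : ℤ)) := h1.of_iso (e ≪≫ e').symm
  have h3 := Groth.Agent.Lib.Helper2.Horr2.finrank_HH_zero_twist_pos (n := n) (k := k) 0
  haveI : Subsingleton (Coh.structureModule (CohB1.ProjSpace n k) ⟶
      Twist.twistProjSpace n k ((0 : ℕ) : ℤ)) := ⟨fun f g => h2.eq_of_tgt f g⟩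
  haveI : Subsingleton (Coh.HH (CohB1.ProjSpace n k) (Twist.twistProjSpace n k ((0 : ℕ) : ℤ)) 0) :=
    (Groth.Agent.Lib.Helper2.Kos13.h0' _).symm.injective.subsingleton
  have h4 : Module.finrank k
      (Coh.HH (CohB1.ProjSpace n k) (Twist.twistProjSpace n k ((0 : ℕ) : ℤ)) 0) = 0 :=
    Module.finrank_zero_of_subsingleton
  omega

theorem hc (c : ℕ) : ((c : ℕ) : ℤ) + (-((n : ℤ) + 1 + c)) = -((n : ℤ) + 1) := by ring

/-- `P ↦ (multiplication by P)`, as a linear map. -/
def Φ (c : ℕ) : gr n k c →ₗ[k] (Ld n k (-((n : ℤ) + 1 + c)) ⟶ ω n k) where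
  toFun P := mulP n k P.1 P.2 (hc n c)
  map_add' P Q := mulP_add n k P.1 Q.1 P.2 Q.2 (hc n c)
  map_smul' a P := mulP_smul n k a P.1 P.2 (hc n c)

theorem Φ_injective (c : ℕ) : Function.Injective (Φ n k c) := by
  rw [← LinearMap.ker_eq_bot, eq_bot_iff]
  intro P hP
  rw [Submodule.mem_bot]
  by_contra hP0
  have hP0' : (P : PA n k) ≠ 0 := fun h0 => hP0 (Subtype.ext h0)
  haveI := mono_mulP n k P.1 P.2 hP0' (hc n c)
  have h0 : mulP n k P.1 P.2 (hc n c) = 0 := hP
  exact not_isZero_twist n k _ (IsZero.of_mono_eq_zero _ h0)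

theorem finrank_hom_ω (c : ℕ) :
    Module.finrank k (Ld n k (-((n : ℤ) + 1 + c)) ⟶ ω n k) = (n + c).choose c := by
  obtain ⟨e⟩ := Groth.Agent.Lib.Helper2.ProjCoh10.nonempty_linearEquiv_top n k c
  have h1 : Module.finrank k (Coh.HH (CohB1.ProjSpace n k)
      (Twist.twistProjSpace n k (-((n : ℤ) + 1 + c))) n) = (n + c).choose c := by
    rw [LinearEquiv.finrank_eq e, Groth.Agent.Lib.Helper2.ProjCoh11.finrank_homogeneousSubmodule]
  haveI : Module.Finite k (Coh.HH (CohB1.ProjSpace n k)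
      (Twist.twistProjSpace n k (-((n : ℤ) + 1 + c))) n) :=
    Module.finite_of_finrank_pos (by rw [h1]; exact Nat.choose_pos (Nat.le_add_left c n))
  refine (LinearEquiv.finrank_eq (θ n k (Ld n k (-((n : ℤ) + 1 + c)))
    (Groth.Agent.Lib.Helper2.SerreFin2.isCoh_twist n k _).1)).trans ?_
  rw [Subspace.dual_finrank_eq]
  exact h1

/-- every homomorphism `O(-(n+1+c)) ⟶ ω` is the multiplication by a form of degree `c`. -/
theorem exists_mulP_eq (c : ℕ) (ψ : Ld n k (-((n : ℤ) + 1 + c)) ⟶ ω n k) :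
    ∃ (P : PA n k) (hP : P ∈ gr n k c), ψ = mulP n k P hP (hc n c) := by
  have h1 : Module.finrank k (gr n k c) = Module.finrank k (Ld n k (-((n : ℤ) + 1 + c)) ⟶ ω n k) := by
    rw [finrank_hom_ω, Groth.Agent.Lib.Helper2.GSplit3.finrank_gr]
  have hpos : 0 < Module.finrank k (gr n k c) := by
    rw [Groth.Agent.Lib.Helper2.GSplit3.finrank_gr]
    exact Nat.choose_pos (Nat.le_add_left c n)
  haveI : Module.Finite k (gr n k c) := Module.finite_of_finrank_pos hpos
  haveI : Module.Finite k (Ld n k (-((n : ℤ) + 1 + c)) ⟶ ω n k) :=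
    Module.finite_of_finrank_pos (by rw [← h1]; exact hpos)
  have hsurj : Function.Surjective (Φ n k c) :=
    (LinearMap.injective_iff_surjective_of_finrank_eq_finrank h1).1 (Φ_injective n k c)
  obtain ⟨P, hP⟩ := hsurj ψ
  exact ⟨P.1, P.2, hP.symm⟩

/-- a homomorphism `O(a) ⟶ ω` killed by a monomorphism from a nonzero object is zero. -/
theorem eq_zero_of_mono_comp (hn : 1 ≤ n) {M : (CohB1.ProjSpace n k).Modules} (hM : ¬ IsZero M)
    (a : ℤ) (μ : M ⟶ Ld n k a) [Mono μ] (ψ : Ld n k a ⟶ ω n k) (h : μ ≫ ψ = 0) : ψ = 0 := by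
  by_cases ha : a ≤ -((n : ℤ) + 1)
  · obtain ⟨c, rfl⟩ : ∃ c : ℕ, a = -((n : ℤ) + 1 + c) :=
      ⟨(-a - n - 1).toNat, by rw [Int.toNat_of_nonneg (by omega)]; ring⟩
    obtain ⟨P, hP, rfl⟩ := exists_mulP_eq n k c ψ
    by_cases hP0 : P = 0
    · subst hP0
      exact (Φ n k c).map_zero
    · haveI := mono_mulP n k P hP hP0 (hc n c)
      have h2 : μ = 0 := by
        rw [← cancel_mono (mulP n k P hP (hc n c)), h, zero_comp]
      exact absurd (IsZero.of_mono_eq_zero μ h2) hM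
  · haveI : Subsingleton (Coh.HH (CohB1.ProjSpace n k) (Twist.twistProjSpace n k a) n) :=
      subsingleton_HH n k a n (fun h0 => by omega) (fun h1 => by omega)
    have e := θ n k (Ld n k a) (Groth.Agent.Lib.Helper2.SerreFin2.isCoh_twist n k a).1
    haveI : Subsingleton (Ld n k a ⟶ ω n k) := e.toEquiv.subsingleton
    exact Subsingleton.elim _ _

/-- `H^n` of a quasi-coherent module without nonzero homomorphisms to `ω` vanishes. -/
theorem subsingleton_HH_top (F : (CohB1.ProjSpace n k).Modules) (hF : Coh.IsQCoh F)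
    (h : Subsingleton (F ⟶ ω n k)) : Subsingleton (Coh.HH (CohB1.ProjSpace n k) F n) := by
  have e := θ n k F hF
  haveI : Subsingleton (Module.Dual k (Coh.HH (CohB1.ProjSpace n k) F n)) :=
    e.symm.toEquiv.subsingleton
  exact (Module.subsingleton_dual_iff k).1 inferInstance

end Groth.Agent.Lib.Helper2.HypCoh1
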