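import Groth.Agent.Lib.Helper2.HypCoh1
import Groth.Agent.Lib.Helper2.EulerP1
import Groth.Agent.Lib.Helper17.Serre

/-!
# Cohomology of the twists of the structure sheaf of a hypersurface in `P^n_k` (helper2)
-/

set_option backward.isDefEq.respectTransparency.types false
set_option autoImplicit false
universe u
open CategoryTheory CategoryTheory.Limits AlgebraicGeometry Opposite TopologicalSpace Abelian

noncomputable section
namespace Groth.Agent.Lib.Helper2.HypCoh2

open Groth.Agent.Lib.Helper2.ProjCoh3 Groth.Agent.Lib.Helper2.ProjCoh4 Groth.Agent.Lib.Helper2.ProjCoh5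
  Groth.Agent.Lib.Helper2.DualE3 Groth.Agent.Lib.Helper2.SerreVan Groth.Agent.Lib.Helper2.GSplit1
  Groth.Agent.Lib.Helper2.Kos2 Groth.Agent.Lib.Helper2.Horr1 Groth.Agent.Lib.Helper2.HypCoh1
  Groth.Agent.Lib.Helper2.HLesLin Groth.Agent.Lib.Helper2.HLes Groth.Agent.Lib.Helper2.EulerP1
  Groth.Agent.Lib.Helper2.SerreFin2 Groth.Agent.Lib.Helper17.Serre

section LinAlg

variable {K : Type*} [Field K] {A B C D E : Type*}
  [AddCommGroup A] [Module K A] [AddCommGroup B] [Module K B] [AddCommGroup C] [Module K C]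
  [AddCommGroup D] [Module K D] [AddCommGroup E] [Module K E]
  [Module.Finite K A] [Module.Finite K B] [Module.Finite K C] [Module.Finite K D]
  [Module.Finite K E]

/-- dimension count in a five term exact sequence `0 → A → B → C → D → E → 0`. -/
theorem finrank_five (f : A →ₗ[K] B) (g : B →ₗ[K] C) (δ : C →ₗ[K] D) (h : D →ₗ[K] E)
    (hf : Function.Injective f) (h1 : LinearMap.range f = LinearMap.ker g)
    (h2 : LinearMap.range g = LinearMap.ker δ) (h3 : LinearMap.range δ = LinearMap.ker h)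
    (hh : Function.Surjective h) :
    Module.finrank K C + Module.finrank K A + Module.finrank K E =
      Module.finrank K B + Module.finrank K D := by
  have e1 := LinearMap.finrank_range_add_finrank_ker f
  have e2 := LinearMap.finrank_range_add_finrank_ker g
  have e3 := LinearMap.finrank_range_add_finrank_ker δ
  have e4 := LinearMap.finrank_range_add_finrank_ker h
  rw [LinearMap.ker_eq_bot.2 hf, finrank_bot, add_zero] at e1
  rw [LinearMap.range_eq_top.2 hh, finrank_top] at e4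
  rw [← h1] at e2
  rw [← h2] at e3
  rw [← h3] at e4
  omega

end LinAlg

variable (n : ℕ) (k : Type u) [Field k]

section Count

/-- `h^0(O(s))` on `P^n_k`. -/
theorem finrank_HH_zero (hn : 1 ≤ n) (s : ℤ) :
    Module.finrank k (Coh.HH (CohB1.ProjSpace n k) (Twist.twistProjSpace n k s) 0) =
      Nat.choose (s + (n : ℤ)).toNat n := by
  by_cases hs : 0 ≤ s
  · obtain ⟨D, rfl⟩ := Int.eq_ofNat_of_zero_le hs
    obtain ⟨e⟩ := Groth.Agent.Lib.Helper2.ProjCoh10.nonempty_linearEquiv_zero n k D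
    rw [LinearEquiv.finrank_eq e, Groth.Agent.Lib.Helper2.ProjCoh11.finrank_homogeneousSubmodule]
    have h1 : ((D : ℤ) + (n : ℤ)).toNat = n + D := by omega
    rw [h1, Nat.choose_symm_add]
  · haveI : Subsingleton (Coh.HH (CohB1.ProjSpace n k) (Twist.twistProjSpace n k s) 0) :=
      subsingleton_HH n k s 0 (fun h => by omega) (fun h => by omega)
    rw [Module.finrank_zero_of_subsingleton]
    exact (Nat.choose_eq_zero_of_lt (by omega)).symm

/-- `h^n(O(s))` on `P^n_k`. -/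
theorem finrank_HH_top (hn : 1 ≤ n) (s : ℤ) :
    Module.finrank k (Coh.HH (CohB1.ProjSpace n k) (Twist.twistProjSpace n k s) n) =
      Nat.choose (-s - 1).toNat n := by
  by_cases hs : s ≤ -((n : ℤ) + 1)
  · obtain ⟨c, rfl⟩ : ∃ c : ℕ, s = -((n : ℤ) + 1 + c) :=
      ⟨(-s - n - 1).toNat, by rw [Int.toNat_of_nonneg (by omega)]; ring⟩
    obtain ⟨e⟩ := Groth.Agent.Lib.Helper2.ProjCoh10.nonempty_linearEquiv_top n k c
    rw [LinearEquiv.finrank_eq e, Groth.Agent.Lib.Helper2.ProjCoh11.finrank_homogeneousSubmodule]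
    have h1 : (-(-((n : ℤ) + 1 + c)) - 1).toNat = n + c := by omega
    rw [h1, Nat.choose_symm_add]
  · haveI : Subsingleton (Coh.HH (CohB1.ProjSpace n k) (Twist.twistProjSpace n k s) n) :=
      subsingleton_HH n k s n (fun h => by omega) (fun h => by omega)
    rw [Module.finrank_zero_of_subsingleton]
    exact (Nat.choose_eq_zero_of_lt (by omega)).symm

end Count

variable (I : (CohB1.ProjSpace n k).IdealSheafData) (m : ℤ)
  (e : ClSub.idealMod I ≅ Twist.twistProjSpace n k (-m)) (t : ℤ)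

/-- the twisted ideal sequence `0 → I(t) → O(t) → O_X(t) → 0`. -/
abbrev ST : ShortComplex (CohB1.ProjSpace n k).Modules := (idealSES I).map (Tw n k t)

theorem shortExact_ST : (ST n k I t).ShortExact :=
  shortExact_map_Tw n k t (idealSES I) (idealSES_shortExact I)

theorem ST_X₃ : (ST n k I t).X₃ =
    CohB1.tensorMod (ClSub.quotMod I) (Twist.twistProjSpace n k t) := rfl

include e in
theorem nonempty_iso_X₁ : Nonempty ((ST n k I t).X₁ ≅ Twist.twistProjSpace n k (-m + t)) := by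
  obtain ⟨e₀⟩ := nonempty_Tw_twist_iso n k (-m) t
  exact ⟨(Tw n k t).mapIso e ≪≫ e₀⟩

theorem nonempty_iso_X₂ : Nonempty ((ST n k I t).X₂ ≅ Twist.twistProjSpace n k t) := by
  obtain ⟨e₂⟩ := Groth.Agent.Lib.Helper2.TwEq2.nonempty_twist_iso_unit n k 0 rfl
  obtain ⟨e₀⟩ := nonempty_Tw_twist_iso n k 0 t
  obtain ⟨e₁⟩ := nonempty_twist_iso_of_eq n k (0 + t) t (by ring)
  exact ⟨(Tw n k t).mapIso e₂.symm ≪≫ e₀ ≪≫ e₁⟩

theorem isCoh_X₃ : Coh.IsCoh (ST n k I t).X₃ :=
  isCoh_Tw n k t _ (Groth.Agent.Lib.Helper6.DevRed.isCoh_quotMod I)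

include e in
/-- there are no nonzero homomorphisms `O_X(t) ⟶ ω`. -/
theorem subsingleton_hom_X₃ (hn : 1 ≤ n) : Subsingleton ((ST n k I t).X₃ ⟶ ω n k) := by
  obtain ⟨α₁⟩ := nonempty_iso_X₁ n k I m e t
  obtain ⟨α₂⟩ := nonempty_iso_X₂ n k I t
  have hST := shortExact_ST n k I t
  haveI := hST.mono_f
  haveI := hST.epi_g
  have key : ∀ ψ : (ST n k I t).X₃ ⟶ ω n k, ψ = 0 := by
    intro ψ
    have hM : ¬ IsZero (ST n k I t).X₁ := fun hz =>
      not_isZero_twist n k (-m + t) (hz.of_iso α₁.symm)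
    have h1 : ((ST n k I t).f ≫ α₂.hom) ≫ (α₂.inv ≫ (ST n k I t).g ≫ ψ) = 0 := by
      rw [Category.assoc, Iso.hom_inv_id_assoc, ← Category.assoc, (ST n k I t).zero, zero_comp]
    have h2 := eq_zero_of_mono_comp n k hn hM t ((ST n k I t).f ≫ α₂.hom)
      (α₂.inv ≫ (ST n k I t).g ≫ ψ) h1
    have h3 : (ST n k I t).g ≫ ψ = 0 := by
      rw [← cancel_epi α₂.inv, h2, comp_zero]
    rw [← cancel_epi (ST n k I t).g, h3, comp_zero]
  exact ⟨fun a b => (key a).trans (key b).symm⟩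

include e in
/-- `H^n(P^n, O_X(t)) = 0`. -/
theorem subsingleton_HH_top_X₃ (hn : 1 ≤ n) :
    Subsingleton (Coh.HH (CohB1.ProjSpace n k) (ST n k I t).X₃ n) :=
  subsingleton_HH_top n k _ (isCoh_X₃ n k I t).1 (subsingleton_hom_X₃ n k I m e t hn)

theorem finite_HH_X₃ (p : ℕ) : Module.Finite k (Coh.HH (CohB1.ProjSpace n k) (ST n k I t).X₃ p) :=
  finite_HH n k (n + 1) p (by omega) _ (isCoh_X₃ n k I t)

include e in
theorem finrank_X₁ (p : ℕ) : Module.finrank k (Coh.HH (CohB1.ProjSpace n k) (ST n k I t).X₁ p) =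
    Module.finrank k (Coh.HH (CohB1.ProjSpace n k) (Twist.twistProjSpace n k (-m + t)) p) := by
  obtain ⟨α₁⟩ := nonempty_iso_X₁ n k I m e t
  exact LinearEquiv.finrank_eq (Groth.Agent.Lib.Helper2.Bridge5.HHlinEquiv k α₁ p)

theorem finrank_X₂ (p : ℕ) : Module.finrank k (Coh.HH (CohB1.ProjSpace n k) (ST n k I t).X₂ p) =
    Module.finrank k (Coh.HH (CohB1.ProjSpace n k) (Twist.twistProjSpace n k t) p) := by
  obtain ⟨α₂⟩ := nonempty_iso_X₂ n k I t
  exact LinearEquiv.finrank_eq (Groth.Agent.Lib.Helper2.Bridge5.HHlinEquiv k α₂ p)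

include e in
theorem subsingleton_X₁_of (p : ℕ) (h : Subsingleton (Coh.HH (CohB1.ProjSpace n k)
    (Twist.twistProjSpace n k (-m + t)) p)) :
    Subsingleton (Coh.HH (CohB1.ProjSpace n k) (ST n k I t).X₁ p) := by
  obtain ⟨α₁⟩ := nonempty_iso_X₁ n k I m e t
  exact (Groth.Agent.Lib.Helper2.Bridge5.HHlinEquiv k α₁ p).toEquiv.subsingleton

theorem subsingleton_X₂_of (p : ℕ) (h : Subsingleton (Coh.HH (CohB1.ProjSpace n k)
    (Twist.twistProjSpace n k t) p)) :
    Subsingleton (Coh.HH (CohB1.ProjSpace n k) (ST n k I t).X₂ p) := by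
  obtain ⟨α₂⟩ := nonempty_iso_X₂ n k I t
  exact (Groth.Agent.Lib.Helper2.Bridge5.HHlinEquiv k α₂ p).toEquiv.subsingleton

end Groth.Agent.Lib.Helper2.HypCoh2
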