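import Groth.Agent.Lib.Helper2.HypCoh2
import Groth.Agent.Lib.Helper2.Horr4

/-!
# Cohomology of the twists of the structure sheaf of a hypersurface in `P^n_k`: the statements
(helper2)
-/

set_option backward.isDefEq.respectTransparency.types false
set_option autoImplicit false
universe u
open CategoryTheory CategoryTheory.Limits AlgebraicGeometry Opposite TopologicalSpace Abelian

noncomputable section
namespace Groth.Agent.Lib.Helper2.HypCoh3

open Groth.Agent.Lib.Helper2.ProjCoh3 Groth.Agent.Lib.Helper2.ProjCoh4 Groth.Agent.Lib.Helper2.ProjCoh5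
  Groth.Agent.Lib.Helper2.SerreVan Groth.Agent.Lib.Helper2.HypCoh2
  Groth.Agent.Lib.Helper2.HLesLin Groth.Agent.Lib.Helper2.HLes Groth.Agent.Lib.Helper2.EulerP1
  Groth.Agent.Lib.Helper2.SerreFin2 Groth.Agent.Lib.Helper17.Serre

section LinAlg

variable {K : Type*} [Field K] {A B C : Type*}
  [AddCommGroup A] [Module K A] [AddCommGroup B] [Module K B] [AddCommGroup C] [Module K C]
  [Module.Finite K A] [Module.Finite K B] [Module.Finite K C]

theorem finrank_three (f : A →ₗ[K] B) (g : B →ₗ[K] C)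
    (hf : Function.Injective f) (h1 : LinearMap.range f = LinearMap.ker g)
    (hg : Function.Surjective g) :
    Module.finrank K B = Module.finrank K A + Module.finrank K C := by
  have e1 := LinearMap.finrank_range_add_finrank_ker f
  have e2 := LinearMap.finrank_range_add_finrank_ker g
  rw [LinearMap.ker_eq_bot.2 hf, finrank_bot, add_zero] at e1
  rw [LinearMap.range_eq_top.2 hg, finrank_top] at e2
  rw [← h1] at e2
  omega

end LinAlg

variable (k : Type u) [Field k]

section High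

variable (n : ℕ) (I : (CohB1.ProjSpace n k).IdealSheafData) (m : ℤ)
  (e : ClSub.idealMod I ≅ Twist.twistProjSpace n k (-m)) (t : ℤ)

include e in
/-- vanishing of `H^p(O_X(t))` for `p ≥ n`. -/
theorem subsingleton_ge (hn : 1 ≤ n) (p : ℕ) (hp : n ≤ p) :
    Subsingleton (Coh.HH (CohB1.ProjSpace n k) (ST n k I t).X₃ p) := by
  rcases Nat.eq_or_lt_of_le hp with rfl | hlt
  · exact subsingleton_HH_top_X₃ n k I m e t hn
  · haveI : Coh.IsQCoh (ST n k I t).X₃ := (isCoh_X₃ n k I t).1
    exact Groth.Agent.S0022.result n k _ p (by omega)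

include e in
/-- vanishing of `H^p(O_X(t))` for `0 < p < n - 1`. -/
theorem subsingleton_mid (p : ℕ) (hp : 0 < p) (hpn : p + 1 < n) :
    Subsingleton (Coh.HH (CohB1.ProjSpace n k) (ST n k I t).X₃ p) := by
  have h2 : Subsingleton (Coh.HH (CohB1.ProjSpace n k) (ST n k I t).X₂ p) :=
    subsingleton_X₂_of n k I t p (subsingleton_HH n k t p (fun h => by omega) (fun h => by omega))
  have h1 : Subsingleton (Coh.HH (CohB1.ProjSpace n k) (ST n k I t).X₁ (p + 1)) :=
    subsingleton_X₁_of n k I m e t (p + 1)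
      (subsingleton_HH n k (-m + t) (p + 1) (fun h => by omega) (fun h => by omega))
  exact subsingleton_X₃ (shortExact_Sab (ST n k I t) (shortExact_ST n k I t)) p h2 h1

end High

section Main

variable (d : ℕ) (I : (CohB1.ProjSpace (d + 1) k).IdealSheafData) (m : ℤ)
  (e : ClSub.idealMod I ≅ Twist.twistProjSpace (d + 1) k (-m)) (t : ℤ)

theorem finite_X₁ (p : ℕ) :
    Module.Finite k (Coh.HH (CohB1.ProjSpace (d + 1) k) (ST (d + 1) k I t).X₁ p) := by
  have h1 : Coh.IsCoh (ClSub.idealMod I) :=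
    ⟨inferInstance, by
      haveI := Groth.Agent.Lib.Helper2.Horr4.isLocallyNoetherian (n := d + 1) (k := k)
      haveI : SheafOfModules.IsFiniteType.{u} (R := (CohB1.ProjSpace (d + 1) k).ringCatSheaf)
        (Coh.structureModule (CohB1.ProjSpace (d + 1) k)) :=
        (Groth.Agent.Lib.Helper6.DevRed.isCoh_structureModule).2
      exact Groth.Agent.Lib.Helper17.CohKer.isFiniteType_of_mono (ClSub.idealModι I)⟩
  exact finite_HH (d + 1) k (d + 1 + 1) p (by omega) _ (isCoh_Tw (d + 1) k t _ h1)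

theorem finite_X₂ (p : ℕ) :
    Module.Finite k (Coh.HH (CohB1.ProjSpace (d + 1) k) (ST (d + 1) k I t).X₂ p) :=
  finite_HH (d + 1) k (d + 1 + 1) p (by omega) _
    (isCoh_Tw (d + 1) k t _ Groth.Agent.Lib.Helper6.DevRed.isCoh_structureModule)

include e in
/-- `h^0(O_X(t)) = h^0(O(t)) - h^0(O(t-m))` for `n ≥ 2`. -/
theorem finrank_zero (hd : 1 ≤ d) :
    Module.finrank k (Coh.HH (CohB1.ProjSpace (d + 1) k) (ST (d + 1) k I t).X₃ 0) =
      Nat.choose (t + ((d + 1 : ℕ) : ℤ)).toNat (d + 1) -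
        Nat.choose (-m + t + ((d + 1 : ℕ) : ℤ)).toNat (d + 1) := by
  have hS := shortExact_ST (d + 1) k I t
  haveI := finite_X₁ k d I t 0
  haveI := finite_X₂ k d I t 0
  haveI := finite_HH_X₃ (d + 1) k I t 0
  haveI h1 : Subsingleton (Coh.HH (CohB1.ProjSpace (d + 1) k) (ST (d + 1) k I t).X₁ (0 + 1)) :=
    subsingleton_X₁_of (d + 1) k I m e t (0 + 1)
      (subsingleton_HH (d + 1) k (-m + t) (0 + 1) (fun h => by omega) (fun h => by omega))
  have hsurj : Function.Surjective (Canon.HHlin k (ST (d + 1) k I t).g 0) := by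
    rw [← LinearMap.range_eq_top, range_eq_ker₃ (ST (d + 1) k I t) hS k 0, LinearMap.ker_eq_top]
    exact Subsingleton.elim _ _
  have h3 := finrank_three (Canon.HHlin k (ST (d + 1) k I t).f 0)
    (Canon.HHlin k (ST (d + 1) k I t).g 0)
    (injective_HHlin_zero (ST (d + 1) k I t) hS k) (range_eq_ker₂ (ST (d + 1) k I t) hS k 0) hsurj
  rw [finrank_X₁ (d + 1) k I m e t 0, finrank_X₂ (d + 1) k I t 0,
    finrank_HH_zero (d + 1) k (by omega), finrank_HH_zero (d + 1) k (by omega)] at h3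
  omega

include e in
/-- `h^d(O_X(t)) = h^{d+1}(O(t-m)) - h^{d+1}(O(t))` for `n = d + 1 ≥ 2`. -/
theorem finrank_d (hd : 1 ≤ d) :
    Module.finrank k (Coh.HH (CohB1.ProjSpace (d + 1) k) (ST (d + 1) k I t).X₃ d) =
      Nat.choose (-(-m + t) - 1).toNat (d + 1) - Nat.choose (-t - 1).toNat (d + 1) := by
  have hS := shortExact_ST (d + 1) k I t
  haveI := finite_X₁ k d I t (d + 1)
  haveI := finite_X₂ k d I t (d + 1)
  haveI := finite_HH_X₃ (d + 1) k I t d
  haveI h2 : Subsingleton (Coh.HH (CohB1.ProjSpace (d + 1) k) (ST (d + 1) k I t).X₂ d) :=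
    subsingleton_X₂_of (d + 1) k I t d
      (subsingleton_HH (d + 1) k t d (fun h => by omega) (fun h => by omega))
  haveI h3 : Subsingleton (Coh.HH (CohB1.ProjSpace (d + 1) k) (ST (d + 1) k I t).X₃ (d + 1)) :=
    subsingleton_HH_top_X₃ (d + 1) k I m e t (by omega)
  have hinj : Function.Injective (δLin (ST (d + 1) k I t) hS k d) := by
    rw [← LinearMap.ker_eq_bot, ← range_eq_ker₃ (ST (d + 1) k I t) hS k d, LinearMap.range_eq_bot]
    exact Subsingleton.elim _ _
  have hsurj : Function.Surjective (Canon.HHlin k (ST (d + 1) k I t).f (d + 1)) := by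
    rw [← LinearMap.range_eq_top, range_eq_ker₂ (ST (d + 1) k I t) hS k (d + 1),
      LinearMap.ker_eq_top]
    exact Subsingleton.elim _ _
  have h4 := finrank_three (δLin (ST (d + 1) k I t) hS k d)
    (Canon.HHlin k (ST (d + 1) k I t).f (d + 1)) hinj
    (range_eq_ker₁ (ST (d + 1) k I t) hS k d) hsurj
  rw [finrank_X₁ (d + 1) k I m e t (d + 1), finrank_X₂ (d + 1) k I t (d + 1),
    finrank_HH_top (d + 1) k (by omega), finrank_HH_top (d + 1) k (by omega)] at h4
  omega

end Main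

section Line

variable (I : (CohB1.ProjSpace 1 k).IdealSheafData) (m : ℤ)
  (e : ClSub.idealMod I ≅ Twist.twistProjSpace 1 k (-m)) (t : ℤ)

include e in
/-- `h^0(O_X(t))` for a hypersurface in `P^1`. -/
theorem finrank_zero_line (hm : 0 ≤ m) :
    Module.finrank k (Coh.HH (CohB1.ProjSpace 1 k) (ST 1 k I t).X₃ 0) =
      (Nat.choose (t + ((1 : ℕ) : ℤ)).toNat 1 - Nat.choose (-m + t + ((1 : ℕ) : ℤ)).toNat 1) +
      (Nat.choose (-(-m + t) - 1).toNat 1 - Nat.choose (-t - 1).toNat 1) := by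
  have hS := shortExact_ST 1 k I t
  haveI := finite_X₁ k 0 I t 0
  haveI := finite_X₂ k 0 I t 0
  haveI := finite_X₁ k 0 I t (0 + 1)
  haveI := finite_X₂ k 0 I t (0 + 1)
  haveI := finite_HH_X₃ 1 k I t 0
  haveI h3 : Subsingleton (Coh.HH (CohB1.ProjSpace 1 k) (ST 1 k I t).X₃ (0 + 1)) :=
    subsingleton_HH_top_X₃ 1 k I m e t le_rfl
  have hsurj : Function.Surjective (Canon.HHlin k (ST 1 k I t).f (0 + 1)) := by
    rw [← LinearMap.range_eq_top, range_eq_ker₂ (ST 1 k I t) hS k (0 + 1), LinearMap.ker_eq_top]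
    exact Subsingleton.elim _ _
  have h5 := finrank_five (Canon.HHlin k (ST 1 k I t).f 0) (Canon.HHlin k (ST 1 k I t).g 0)
    (δLin (ST 1 k I t) hS k 0) (Canon.HHlin k (ST 1 k I t).f (0 + 1))
    (injective_HHlin_zero (ST 1 k I t) hS k) (range_eq_ker₂ (ST 1 k I t) hS k 0)
    (range_eq_ker₃ (ST 1 k I t) hS k 0) (range_eq_ker₁ (ST 1 k I t) hS k 0) hsurj
  rw [finrank_X₁ 1 k I m e t 0, finrank_X₂ 1 k I t 0, finrank_X₁ 1 k I m e t (0 + 1),
    finrank_X₂ 1 k I t (0 + 1), finrank_HH_zero 1 k le_rfl, finrank_HH_zero 1 k le_rfl,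
    finrank_HH_top 1 k le_rfl, finrank_HH_top 1 k le_rfl] at h5
  simp only [Nat.choose_one_right, Nat.cast_one] at h5 ⊢
  omega

end Line

end Groth.Agent.Lib.Helper2.HypCoh3
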