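import Mathlib
import Groth.Agent.Lib.Helper28.SecExtend
import Groth.Agent.Lib.Helper28.DualInv

/-! # Helper2 — families of ideals "locally principal on a finite affine cover" are ideal sheaves -/
set_option autoImplicit false
set_option backward.isDefEq.respectTransparency.types false
universe u
open CategoryTheory CategoryTheory.Limits AlgebraicGeometry Opposite TopologicalSpace
noncomputable section

namespace Groth.Agent.Lib.Helper2.HypIdeal1

open Groth.Agent.Lib.Helper28.QCohLoc Groth.Agent.Lib.Helper28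

section Alg

/-- an ideal of a localization away from `f` is the extension of an ideal `I` as soon as `I` maps into it and
every element mapping into it is pushed into `I` by a power of `f` -/
theorem map_eq_of_saturation {R S : Type*} [CommRing R] [CommRing S] [Algebra R S] (f : R)
    [IsLocalization.Away f S] (I : Ideal R) (J : Ideal S)
    (h1 : ∀ x ∈ I, algebraMap R S x ∈ J)
    (h2 : ∀ x : R, algebraMap R S x ∈ J → ∃ n : ℕ, f ^ n * x ∈ I) :
    Ideal.map (algebraMap R S) I = J := by
  apply le_antisymm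
  · rw [Ideal.map_le_iff_le_comap]
    exact fun x hx => h1 x hx
  · intro y hy
    obtain ⟨x, s, rfl⟩ := IsLocalization.exists_mk'_eq (Submonoid.powers f) y
    have hx : algebraMap R S x ∈ J := by
      rw [← IsLocalization.mk'_spec S x s]
      exact J.mul_mem_right _ hy
    obtain ⟨n, hn⟩ := h2 x hx
    rw [IsLocalization.mk'_mem_map_algebraMap_iff]
    exact ⟨f ^ n, ⟨n, rfl⟩, hn⟩

end Alg

variable {X : Scheme.{u}}

theorem resO_mul' {U V : X.Opens} (h : V ≤ U) (x y : Γ(X, U)) : resO h (x * y) = resO h x * resO h y :=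
  map_mul (X.presheaf.map (homOfLE h).op).hom x y

/-- on an affine open: a relation `a * g = y` over `D(f)` becomes a relation `b * g = f ^ n * y` -/
theorem exists_pow_mul_eq {W W' : X.Opens} (hW : IsAffineOpen W) (f g y : Γ(X, W))
    (hW' : W' = X.basicOpen f) (hle : W' ≤ W) (a : Γ(X, W'))
    (h : a * resO hle g = resO hle y) : ∃ (n : ℕ) (b : Γ(X, W)), f ^ n * y = b * g := by
  subst hW'
  haveI := hW.isLocalization_basicOpen f
  obtain ⟨b0, s, rfl⟩ := IsLocalization.exists_mk'_eq (Submonoid.powers f) a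
  obtain ⟨m, hm⟩ := s.2
  replace hm : f ^ m = (s : Γ(X, W)) := hm
  have e1 : algebraMap Γ(X, W) Γ(X, X.basicOpen f) ((s : Γ(X, W)) * y) =
      algebraMap Γ(X, W) Γ(X, X.basicOpen f) (b0 * g) := by
    rw [map_mul, map_mul, ← IsLocalization.mk'_spec Γ(X, X.basicOpen f) b0 s]
    have h' : IsLocalization.mk' Γ(X, X.basicOpen f) b0 s * algebraMap Γ(X, W) Γ(X, X.basicOpen f) g =
        algebraMap Γ(X, W) Γ(X, X.basicOpen f) y := h
    rw [← h']
    ring
  obtain ⟨c, hc⟩ := (IsLocalization.eq_iff_exists (Submonoid.powers f) Γ(X, X.basicOpen f)).1 e1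
  obtain ⟨n, hn⟩ := c.2
  replace hn : f ^ n = (c : Γ(X, W)) := hn
  refine ⟨n + m, (c : Γ(X, W)) * b0, ?_⟩
  rw [pow_add, hn, hm, mul_assoc, hc, mul_assoc]

section Fam

variable {ι : Type*} (V : ι → X.Opens) (g : ∀ i, Γ(X, V i))

/-- sections which on each `U ⊓ V i` are multiples of `g i` -/
def fam (U : X.Opens) : Ideal Γ(X, U) :=
  ⨅ i, Ideal.comap (X.presheaf.map (homOfLE (inf_le_left : U ⊓ V i ≤ U)).op).hom
    (Ideal.span {(X.presheaf.map (homOfLE (inf_le_right : U ⊓ V i ≤ V i)).op).hom (g i)})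

theorem mem_fam_iff (U : X.Opens) (x : Γ(X, U)) :
    x ∈ fam V g U ↔ ∀ i, ∃ a : Γ(X, U ⊓ V i),
      a * resO inf_le_right (g i) = resO inf_le_left x := by
  unfold fam
  rw [Ideal.mem_iInf]
  refine forall_congr' fun i => ?_
  rw [Ideal.mem_comap, Ideal.mem_span_singleton']

theorem map_fam_basicOpen [Finite ι] (hinf : ∀ (U : X.affineOpens) i, IsAffineOpen (U.1 ⊓ V i))
    (U : X.Opens) (hU : IsAffineOpen U) (f : Γ(X, U)) :
    (fam V g U).map (X.presheaf.map (homOfLE (X.basicOpen_le f)).op).hom =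
      fam V g (X.basicOpen f) := by
  haveI : IsLocalization.Away f Γ(X, X.basicOpen f) := hU.isLocalization_basicOpen f
  refine map_eq_of_saturation (R := Γ(X, U)) (S := Γ(X, X.basicOpen f)) f (fam V g U)
    (fam V g (X.basicOpen f)) ?_ ?_
  · intro x hx
    rw [mem_fam_iff] at hx ⊢
    intro i
    obtain ⟨a, ha⟩ := hx i
    have hle : X.basicOpen f ⊓ V i ≤ U ⊓ V i := inf_le_inf_right _ (X.basicOpen_le f)
    refine ⟨resO hle a, ?_⟩
    have h3 := congrArg (resO hle) ha
    rw [resO_mul', resO_resO, resO_resO] at h3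
    show resO hle a * resO _ (g i) = resO _ (resO (X.basicOpen_le f) x)
    rw [resO_resO]
    exact h3
  · intro x hx
    rw [mem_fam_iff] at hx
    have key : ∀ i, ∃ (n : ℕ) (b : Γ(X, U ⊓ V i)),
        resO (inf_le_left : U ⊓ V i ≤ U) f ^ n * resO inf_le_left x = b * resO inf_le_right (g i) := by
      intro i
      obtain ⟨a, ha⟩ := hx i
      have hW' : X.basicOpen f ⊓ V i =
          X.basicOpen (resO (inf_le_left : U ⊓ V i ≤ U) f) := by
        unfold resO
        rw [Scheme.basicOpen_res]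
        ext z
        simp only [Opens.coe_inf, Set.mem_inter_iff, SetLike.mem_coe]
        constructor
        · rintro ⟨h1, h2⟩
          exact ⟨⟨X.basicOpen_le f h1, h2⟩, h1⟩
        · rintro ⟨⟨_, h2⟩, h1⟩
          exact ⟨h1, h2⟩
      have hle : X.basicOpen f ⊓ V i ≤ U ⊓ V i := inf_le_inf_right _ (X.basicOpen_le f)
      refine exists_pow_mul_eq (hinf ⟨U, hU⟩ i) (resO inf_le_left f) (resO inf_le_right (g i))
        (resO inf_le_left x) hW' hle a ?_
      rw [resO_resO, resO_resO]
      have ha' : a * resO inf_le_right (g i) = resO inf_le_left (resO (X.basicOpen_le f) x) := ha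
      rw [resO_resO] at ha'
      exact ha'
    choose n b hnb using key
    obtain ⟨N, hN⟩ := (Set.finite_range n).bddAbove
    refine ⟨N, ?_⟩
    rw [mem_fam_iff]
    intro i
    have hi : n i ≤ N := hN ⟨i, rfl⟩
    refine ⟨resO inf_le_left f ^ (N - n i) * b i, ?_⟩
    rw [resO_mul', resO_pow, mul_assoc, ← hnb i, ← mul_assoc, ← pow_add, Nat.sub_add_cancel hi]

/-- **the family is an ideal sheaf** -/
theorem ideal_ofIdeals_fam [Finite ι] (hinf : ∀ (U : X.affineOpens) i, IsAffineOpen (U.1 ⊓ V i))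
    (U : X.affineOpens) :
    (Scheme.IdealSheafData.ofIdeals (fun U : X.affineOpens => fam V g U.1)).ideal U = fam V g U.1 := by
  let I : X.IdealSheafData := ⟨fun U : X.affineOpens => fam V g U.1,
    fun U f => map_fam_basicOpen V g hinf U.1 U.2 f, _, rfl⟩
  exact congr($(Scheme.IdealSheafData.ofIdeals_ideal I).ideal U)

/-- on the charts the ideal is principal -/
theorem fam_chart (hcoc : ∀ i j, ∃ u : Γ(X, V i ⊓ V j),
      resO inf_le_left (g i) = u * resO inf_le_right (g j)) (i : ι) :
    fam V g (V i) = Ideal.span {g i} := by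
  apply le_antisymm
  · intro x hx
    rw [mem_fam_iff] at hx
    obtain ⟨a, ha⟩ := hx i
    have e : V i ≤ V i ⊓ V i := le_inf le_rfl le_rfl
    have h3 := congrArg (resO e) ha
    rw [resO_mul', resO_resO, resO_resO] at h3
    rw [Ideal.mem_span_singleton']
    refine ⟨resO e a, ?_⟩
    have h4 : resO (le_refl (V i)) (g i) = g i := Groth.Agent.Lib.Helper28.HomMod.resO_self _
    have h5 : resO (le_refl (V i)) x = x := Groth.Agent.Lib.Helper28.HomMod.resO_self _
    rw [← h4, ← h5]
    exact h3
  · rw [Ideal.span_singleton_le_iff_mem, mem_fam_iff]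
    intro j
    obtain ⟨u, hu⟩ := hcoc i j
    exact ⟨u, hu.symm⟩

end Fam

end Groth.Agent.Lib.Helper2.HypIdeal1
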