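import Mathlib
import Groth.Agent.Lib.Helper2.HypIdeal1
import Groth.Agent.Lib.Helper17.PnPic
import Groth.Agent.Lib.Helper28.IdealDual
import Groth.Agent.Lib.Helper28.GenIso
import Groth.Prelude.Def_LefPen

/-! # Helper2 — the ideal sheaf of a hypersurface `V_+(G) ⊆ P^r_k` (`G ≠ 0` of degree `d`) is `O(-d)` -/
set_option autoImplicit false
set_option backward.isDefEq.respectTransparency.types false
universe u
open CategoryTheory CategoryTheory.Limits AlgebraicGeometry Opposite TopologicalSpace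
noncomputable section

namespace Groth.Agent.Lib.Helper2.HypIdeal2

open MvPolynomial HomogeneousLocalization
open Groth.Agent.Lib.Helper17.PnFrac Groth.Agent.Lib.Helper17.PnSec Groth.Agent.Lib.Helper17.PnTwist
open Groth.Agent.Lib.Helper17.PnPic
open Groth.Agent.Lib.Helper28 Groth.Agent.Lib.Helper28.QCohLoc Groth.Agent.Lib.Helper28.GenLocus
open Groth.Agent.Lib.Helper28.IdealDual
open Groth.Agent.Lib.Helper2.HypIdeal1

variable {r : ℕ} {k : Type u} [Field k]

local notation "𝒜" => CohB1.polyGrading r k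
local notation "AA" => MvPolynomial (Fin (r + 1)) k
local notation "KK" => FractionRing (MvPolynomial (Fin (r + 1)) k)

/-- `LefPen.dehom` with its type stated on `Proj` -/
def dh {d : ℕ} (G : LefPen.Form r k d) (i : Fin (r + 1)) : Γ(Proj 𝒜, U (R := k) i) :=
  (Proj.awayToSection 𝒜 (X i : AA)).hom
    (HomogeneousLocalization.Away.mk 𝒜 (hX i) d G.1 (by rw [smul_eq_mul, mul_one]; exact G.2))

theorem dh_eq {d : ℕ} (G : LefPen.Form r k d) (i : Fin (r + 1)) : dh G i = LefPen.dehom G i := rfl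

/-- `G / X_i^d` in the fraction field -/
theorem phi_dh {d : ℕ} (G : LefPen.Form r k d) (i : Fin (r + 1)) :
    phi (hX i) one_pos (X_ne_zero i) (dh G i) = em (G.1 : AA) / em (X i : AA) ^ d := by
  unfold dh
  have h := phi_awayToSection (n := r) (R := k) (hX i) one_pos (X_ne_zero i)
    (HomogeneousLocalization.Away.mk 𝒜 (hX i) d G.1 (by rw [smul_eq_mul, mul_one]; exact G.2))
  refine h.trans ?_
  rw [iota_mk (X_ne_zero i) (hX i)]

theorem dh_ne_zero {d : ℕ} (G : LefPen.Form r k d) (hG : G ≠ 0) (i : Fin (r + 1)) :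
    dh G i ≠ 0 := by
  intro h
  have h1 := phi_dh G i
  rw [h, map_zero] at h1
  have hG' : (G.1 : AA) ≠ 0 := fun h0 => hG (Subtype.ext h0)
  exact div_ne_zero (em_ne_zero hG') (pow_ne_zero _ (em_ne_zero (X_ne_zero i))) h1.symm

theorem dh_mem_nonZeroDivisors {d : ℕ} (G : LefPen.Form r k d) (hG : G ≠ 0) (i : Fin (r + 1)) :
    dh G i ∈ nonZeroDivisors Γ(Proj 𝒜, U (R := k) i) := by
  rw [mem_nonZeroDivisors_iff_right]
  intro a ha
  apply phi_injective (hX i) one_pos (X_ne_zero i)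
  have h1 := congrArg (phi (hX i) one_pos (X_ne_zero i)) ha
  rw [map_mul, map_zero] at h1
  rw [map_zero]
  rcases mul_eq_zero.1 h1 with h2 | h2
  · exact h2
  · exfalso
    apply dh_ne_zero G hG i
    apply phi_injective (hX i) one_pos (X_ne_zero i)
    rw [h2, map_zero]

/-- the transition functions of the local equations -/
theorem dh_transition {d : ℕ} (G : LefPen.Form r k d) (i j : Fin (r + 1)) :
    resO (hVl i j) (dh G i) =
      rho (n := r) (R := k) i j 0 d * resO (hVr i j) (dh G j) := by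
  have hxi : em (X i : AA) ≠ 0 := em_ne_zero (X_ne_zero i)
  have hxj : em (X j : AA) ≠ 0 := em_ne_zero (X_ne_zero j)
  apply phi_injective (X_mul_X_mem i j) two_pos (X_mul_X_ne_zero i j)
  rw [map_mul, phi_rho]
  have h1 := phi_res (n := r) (R := k) (hX i) one_pos (hX j) (rfl : (X i * X j : AA) = X i * X j)
    (X_ne_zero i) (X_mul_X_ne_zero i j) (X_mul_X_mem i j) (dh G i)
  have h2 := phi_res (n := r) (R := k) (hX j) one_pos (hX i) (mul_comm _ _ : (X i * X j : AA) = X j * X i)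
    (X_ne_zero j) (X_mul_X_ne_zero i j) (X_mul_X_mem i j) (dh G j)
  rw [phi_dh] at h1 h2
  refine h1.trans ?_
  rw [h2]
  rw [Nat.cast_zero, zero_sub, zpow_neg, zpow_natCast, div_pow]
  field_simp

/-- the ideal sheaf, with its type stated on `Proj` -/
def hI {d : ℕ} (G : LefPen.Form r k d) : (Proj 𝒜).IdealSheafData := LefPen.hypIdeal G

theorem hI_eq {d : ℕ} (G : LefPen.Form r k d) :
    hI G = Scheme.IdealSheafData.ofIdeals
      (fun W : (Proj 𝒜).affineOpens => fam (fun i => U (R := k) i) (dh G) W.1) := rfl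

theorem isAffineOpen_U (i : Fin (r + 1)) : IsAffineOpen (U (R := k) i) :=
  Proj.isAffineOpen_basicOpen 𝒜 _ (hX i) one_pos

theorem isAffineOpen_inf_U (W : (Proj 𝒜).affineOpens) (i : Fin (r + 1)) :
    IsAffineOpen (W.1 ⊓ U (R := k) i) :=
  W.2.inf (isAffineOpen_U i)

theorem ideal_hI {d : ℕ} (G : LefPen.Form r k d) (W : (Proj 𝒜).affineOpens) :
    (hI G).ideal W = fam (fun i => U (R := k) i) (dh G) W.1 := by
  rw [hI_eq]
  exact ideal_ofIdeals_fam (fun i => U (R := k) i) (dh G) isAffineOpen_inf_U W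

theorem dh_cocycle {d : ℕ} (G : LefPen.Form r k d) (i j : Fin (r + 1)) :
    resO (inf_le_left : U (R := k) i ⊓ U j ≤ U i) (dh G i) =
      resO (hleV i j) (rho (n := r) (R := k) i j 0 d) *
        resO (inf_le_right : U (R := k) i ⊓ U j ≤ U j) (dh G j) := by
  have h := congrArg (resO (hleV (R := k) i j)) (dh_transition G i j)
  rw [resO_mul', resO_resO, resO_resO] at h
  exact h

theorem ideal_hI_chart {d : ℕ} (G : LefPen.Form r k d) (i : Fin (r + 1)) :
    (hI G).ideal ⟨U (R := k) i, isAffineOpen_U i⟩ = Ideal.span {dh G i} := by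
  rw [ideal_hI]
  exact fam_chart (fun i => U (R := k) i) (dh G) (fun i j => ⟨_, dh_cocycle G i j⟩) i

/-- **the ideal sheaf of a hypersurface of degree `d` is `O(-d)`** -/
theorem nonempty_iso_hI {d : ℕ} (G : LefPen.Form r k d) (hG : G ≠ 0) :
    Nonempty (ClSub.idealMod (hI G) ≅ Twist.twist 𝒜 (-(d : ℤ))) := by
  have hgen : ∀ i : Fin (r + 1), ∃ g : Γ(ClSub.idealMod (hI G), U (R := k) i),
      IsGen (ClSub.idealMod (hI G)) (U i) g ∧ iota (hI G) g = dh G i := fun i =>
    exists_isGen_idealMod (hI G) (isAffineOpen_U i) (dh G i) (dh_mem_nonZeroDivisors G hG i)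
      (ideal_hI_chart G i)
  choose γ hγ hγι using hgen
  have e0 : (-(d : ℤ)).toNat = 0 := by omega
  have e1 : (- -(d : ℤ)).toNat = d := by omega
  have hcocyc : ∀ i j, ∃ u : Γ(Proj 𝒜, U (R := k) i ⊓ U j),
      res (ClSub.idealMod (hI G)) inf_le_left (γ i) =
        (u • res (ClSub.idealMod (hI G)) inf_le_right (γ j) : Γ(ClSub.idealMod (hI G), U i ⊓ U j)) ∧
      res (Twist.twist 𝒜 (-(d : ℤ))) inf_le_left (TwistMul.gen 𝒜 (hX i) (-(d : ℤ))) =
        (u • res (Twist.twist 𝒜 (-(d : ℤ))) inf_le_right (TwistMul.gen 𝒜 (hX j) (-(d : ℤ))) :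
          Γ(Twist.twist 𝒜 (-(d : ℤ)), U i ⊓ U j)) := by
    intro i j
    refine ⟨resO (hleV i j) (rho i j 0 d), ?_, ?_⟩
    · apply iota_injective (hI G)
      rw [iota_smul, iota_res, iota_res, hγι, hγι]
      exact dh_cocycle G i j
    · have h1 := congrArg (res (Twist.twist 𝒜 (-(d : ℤ))) (hleV i j))
        (gen_transition (R := k) i j (-(d : ℤ)))
      rw [res_smul, res_res, res_res, e0, e1] at h1
      exact h1
  obtain ⟨ψ, -⟩ := exists_iso_of_cocycle_gen (M := ClSub.idealMod (hI G)) (N := Twist.twist 𝒜 (-(d : ℤ)))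
    (fun i => U (R := k) i) γ (fun i => TwistMul.gen 𝒜 (hX i) (-(d : ℤ))) hγ
    (fun i => isGen_gen 𝒜 (hX i) (-(d : ℤ))) hcovU hcocyc
  exact ⟨ψ⟩

/-- **the ideal sheaf of a hypersurface of degree `d` is `O(-d)`** (prelude form) -/
theorem nonempty_iso {d : ℕ} (G : LefPen.Form r k d) (hG : G ≠ 0) :
    Nonempty (ClSub.idealMod (LefPen.hypIdeal G) ≅ Twist.twistProjSpace r k (-(d : ℤ))) :=
  nonempty_iso_hI G hG

end Groth.Agent.Lib.Helper2.HypIdeal2
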