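import Mathlib
import Groth.Agent.Lib.Helper2.HypIdeal2
import Groth.Agent.Lib.Helper2.HypCoh3
import Groth.Agent.Lib.Helper8.PointDeg
import Groth.Agent.Lib.Helper28.AmpleUnit
import Groth.Agent.Lib.Helper24.AntiAff.Main19703

/-! # Helper2 — cohomology of the structure sheaf of a hypersurface `V_+(G) ⊆ P^{n+1}_k` -/
set_option autoImplicit false
set_option backward.isDefEq.respectTransparency.types false
universe u
open CategoryTheory CategoryTheory.Limits AlgebraicGeometry Opposite TopologicalSpace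
noncomputable section

namespace Groth.Agent.Lib.Helper2.HypIdeal3

open Groth.Agent.Lib.Helper2.HypCoh2 Groth.Agent.Lib.Helper2.HypCoh3 Groth.Agent.Lib.Helper2.SerreVan
  Groth.Agent.Lib.Helper2.TwEq2 Groth.Agent.Lib.Helper1.ModFlat
open Groth.Agent.Lib.Helper8.PtSupp

variable (n : ℕ) (k : Type u) [Field k]

/-- `O_X(0) ≅ O_X` -/
theorem nonempty_X₃_iso (I : (CohB1.ProjSpace n k).IdealSheafData) :
    Nonempty ((ST n k I 0).X₃ ≅ ClSub.quotMod I) := by
  obtain ⟨e₂⟩ := nonempty_twist_iso_unit n k 0 rfl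
  obtain ⟨e₃⟩ := Groth.Agent.Lib.Helper28.AmpleUnit.nonempty_tensor_unit_iso (ClSub.quotMod I)
  exact ⟨(tensL (OO n k) (ClSub.quotMod I)).mapIso e₂ ≪≫ e₃⟩

/-- cohomology of the structure sheaf of a closed subscheme of projective space, computed on projective space -/
theorem finrank_subscheme (I : (CohB1.ProjSpace n k).IdealSheafData)
    [inst : I.subscheme.Over (Spec (CommRingCat.of k))]
    (hinst : I.subscheme ↘ (Spec (CommRingCat.of k)) = I.subschemeι ≫ CohB1.ProjSpace.toSpec n k) (i : ℕ) :
    Module.finrank k (Coh.HH I.subscheme (Coh.structureModule I.subscheme) i) =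
      Module.finrank k (Coh.HH (CohB1.ProjSpace n k) (ST n k I 0).X₃ i) := by
  have hqc : (Coh.structureModule I.subscheme).IsQuasicoherent :=
    (Groth.Agent.Lib.Helper6.DevRed.isCoh_structureModule (X := I.subscheme)).1
  have h1 := Groth.Agent.Lib.Helper8.AffPush.finrank_push k I.subschemeι hinst.symm
    (Coh.structureModule I.subscheme) hqc i
  obtain ⟨α⟩ := nonempty_X₃_iso n k I
  rw [← h1]
  exact (LinearEquiv.finrank_eq (Groth.Agent.Lib.Helper2.Bridge5.HHlinEquiv k α i)).symm

/-- a `k`-scheme with `h⁰(O) = 1` is connected -/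
theorem connectedSpace_of_finrank_eq_one (Z : Scheme.{u}) [Z.Over (Spec (CommRingCat.of k))]
    (h : Module.finrank k (Coh.HH Z (Coh.structureModule Z) 0) = 1) : ConnectedSpace Z := by
  letI := gammaModule (Coh.structureModule Z) k
  have h1 : Module.finrank k Γ(Coh.structureModule Z, ⊤) = 1 := by
    rw [← (e0L (Coh.structureModule Z) k).finrank_eq]
    exact h
  letI : Algebra k Γ(Z, ⊤) := (toΓ k Z).toAlgebra
  have h2 : Module.finrank k Γ(Z, ⊤) = 1 := h1
  haveI : Nontrivial Γ(Z, ⊤) := Module.nontrivial_of_finrank_pos (R := k) (by omega)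
  have hbij : Function.Bijective (toΓ k Z) := by
    refine ⟨(toΓ k Z).injective, ?_⟩
    have h3 := Subalgebra.bot_eq_top_of_finrank_eq_one h2
    exact Algebra.surjective_algebraMap_iff.2 h3.symm
  haveI : PreconnectedSpace Z :=
    Groth.Agent.Lib.Helper24.AntiAff.preconnectedSpace_of_bijective Z (toΓ k Z) hbij
  haveI : Nonempty Z := by
    by_contra hemp
    rw [not_nonempty_iff] at hemp
    haveI : Subsingleton Γ(Z, ⊤) := inferInstance
    exact not_subsingleton Γ(Z, ⊤) ‹_›
  exact ConnectedSpace.mk inferInstance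

end Groth.Agent.Lib.Helper2.HypIdeal3
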