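import Mathlib
import Groth.Agent.Lib.Helper2.HypIdeal3
import Groth.Agent.Lib.Helper17.ModPullback

/-! # Helper2 — hypersurfaces of low degree: `H^i(X, O_X) = 0` for `i ≥ 1` and `H^0(X, O_X) = k` -/
set_option autoImplicit false
set_option backward.isDefEq.respectTransparency.types false
universe u
open CategoryTheory CategoryTheory.Limits AlgebraicGeometry Opposite TopologicalSpace
noncomputable section

namespace Groth.Agent.Lib.Helper2.HypIdeal4

open Groth.Agent.Lib.Helper2.HypCoh2 Groth.Agent.Lib.Helper2.HypCoh3 Groth.Agent.Lib.Helper2.SerreVan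
  Groth.Agent.Lib.Helper2.TwEq2 Groth.Agent.Lib.Helper1.ModFlat Groth.Agent.Lib.Helper2.HypIdeal3
  Groth.Agent.Lib.Helper2.HypIdeal2 Groth.Agent.Lib.Helper2.HypIdeal1
  Groth.Agent.Lib.Helper2.ProjCoh5
open Groth.Agent.Lib.Helper8.PtSupp
open Groth.Agent.Lib.Helper28 Groth.Agent.Lib.Helper28.QCohLoc Groth.Agent.Lib.Helper28.IdealDual
open Groth.Agent.Lib.Helper17.PnPic Groth.Agent.Lib.Helper17.PnSec Groth.Agent.Lib.Helper17.PnFrac

variable (n : ℕ) (k : Type u) [Field k]

/-- cohomology of the structure sheaf of a closed subscheme of projective space, computed on projective space -/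
theorem nonempty_linearEquiv_subscheme (I : (CohB1.ProjSpace n k).IdealSheafData)
    [inst : I.subscheme.Over (Spec (CommRingCat.of k))]
    (hinst : I.subscheme ↘ (Spec (CommRingCat.of k)) = I.subschemeι ≫ CohB1.ProjSpace.toSpec n k) (i : ℕ) :
    Nonempty (Coh.HH (CohB1.ProjSpace n k) (ST n k I 0).X₃ i ≃ₗ[k]
      Coh.HH I.subscheme (Coh.structureModule I.subscheme) i) := by
  have hqc : (Coh.structureModule I.subscheme).IsQuasicoherent :=
    (Groth.Agent.Lib.Helper6.DevRed.isCoh_structureModule (X := I.subscheme)).1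
  obtain ⟨e, -⟩ := Groth.Agent.Lib.Helper2.Bridge3.exists_natural_linearEquiv k I.subschemeι hinst.symm i
  obtain ⟨α⟩ := nonempty_X₃_iso n k I
  exact ⟨(Groth.Agent.Lib.Helper2.Bridge5.HHlinEquiv k α i).trans (e _ hqc)⟩

/-- a `k`-scheme with `h⁰(O) = 1`: the structure map `k → Γ(Z, O_Z)` is bijective -/
theorem bijective_toΓ_of_finrank_eq_one (Z : Scheme.{u}) [Z.Over (Spec (CommRingCat.of k))]
    (h : Module.finrank k (Coh.HH Z (Coh.structureModule Z) 0) = 1) : Function.Bijective (toΓ k Z) := by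
  letI := gammaModule (Coh.structureModule Z) k
  have h1 : Module.finrank k Γ(Coh.structureModule Z, ⊤) = 1 := by
    rw [← (e0L (Coh.structureModule Z) k).finrank_eq]
    exact h
  letI : Algebra k Γ(Z, ⊤) := (toΓ k Z).toAlgebra
  have h2 : Module.finrank k Γ(Z, ⊤) = 1 := h1
  haveI : Nontrivial Γ(Z, ⊤) := Module.nontrivial_of_finrank_pos (R := k) (by omega)
  refine ⟨(toΓ k Z).injective, ?_⟩
  have h3 := Subalgebra.bot_eq_top_of_finrank_eq_one h2
  exact Algebra.surjective_algebraMap_iff.2 h3.symm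

theorem bijective_appTop_of_finrank_eq_one (Z : Scheme.{u}) [Z.Over (Spec (CommRingCat.of k))]
    (h : Module.finrank k (Coh.HH Z (Coh.structureModule Z) 0) = 1) :
    Function.Bijective (Z ↘ Spec (CommRingCat.of k)).appTop.hom := by
  have hb := bijective_toΓ_of_finrank_eq_one k Z h
  have e : (Z ↘ Spec (CommRingCat.of k)).appTop.hom =
      (toΓ k Z).comp (Scheme.ΓSpecIso (CommRingCat.of k)).hom.hom := by
    ext x
    show _ = (Z ↘ Spec (CommRingCat.of k)).appTop.hom
      ((Scheme.ΓSpecIso (CommRingCat.of k)).inv.hom ((Scheme.ΓSpecIso (CommRingCat.of k)).hom.hom x))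
    congr 1
    exact ((Scheme.ΓSpecIso (CommRingCat.of k)).hom_inv_id_apply x).symm
  rw [e, RingHom.coe_comp]
  exact hb.comp (ConcreteCategory.bijective_of_isIso (Scheme.ΓSpecIso (CommRingCat.of k)).hom)

section Hyp

variable {n k}
variable (d : ℕ) (I : (CohB1.ProjSpace (d + 1) k).IdealSheafData) (m : ℤ)
  (e : ClSub.idealMod I ≅ Twist.twistProjSpace (d + 1) k (-m))

include e in
/-- a hypersurface of degree `1 ≤ m ≤ d + 1` in `P^{d+1}` has no higher cohomology of the structure sheaf -/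
theorem subsingleton_X₃_of_le (hd : 1 ≤ d) (hm1 : 1 ≤ m) (hm : m ≤ (d : ℤ) + 1) (p : ℕ) (hp : 1 ≤ p) :
    Subsingleton (Coh.HH (CohB1.ProjSpace (d + 1) k) (ST (d + 1) k I 0).X₃ p) := by
  by_cases hpd : p = d
  · subst hpd
    have h := finrank_d k p I m e 0 hd
    have e1 : Nat.choose (-(-m + 0) - 1).toNat (p + 1) = 0 :=
      Nat.choose_eq_zero_of_lt (by omega)
    rw [e1, Nat.zero_sub] at h
    haveI := finite_HH_X₃ (p + 1) k I 0 p
    exact Module.finrank_zero_iff.1 h
  · by_cases hp' : d + 1 ≤ p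
    · exact subsingleton_ge k (d + 1) I m e 0 (by omega) p hp'
    · exact subsingleton_mid k (d + 1) I m e 0 p (by omega) (by omega)

include e in
theorem finrank_X₃_zero_of_le (hd : 1 ≤ d) (hm1 : 1 ≤ m) :
    Module.finrank k (Coh.HH (CohB1.ProjSpace (d + 1) k) (ST (d + 1) k I 0).X₃ 0) = 1 := by
  have h := finrank_zero k d I m e 0 hd
  have e1 : ((0 : ℤ) + ((d + 1 : ℕ) : ℤ)).toNat = d + 1 := by omega
  have e2 : Nat.choose (-m + 0 + ((d + 1 : ℕ) : ℤ)).toNat (d + 1) = 0 :=
    Nat.choose_eq_zero_of_lt (by omega)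
  rw [e1, e2, Nat.choose_self] at h
  exact h

end Hyp

section Zero

variable {n k}

theorem dh_zero {d : ℕ} (i : Fin (n + 1)) : dh (0 : LefPen.Form n k d) i = 0 := by
  apply phi_injective (hX i) one_pos (MvPolynomial.X_ne_zero i)
  rw [phi_dh, map_zero]
  show Groth.Agent.Lib.Helper17.PnFrac.em (0 : MvPolynomial (Fin (n + 1)) k) / _ = 0
  unfold Groth.Agent.Lib.Helper17.PnFrac.em
  rw [map_zero, zero_div]

/-- the ideal sheaf of `V_+(0)` is zero -/
theorem isZero_idealMod_zero {d : ℕ} : IsZero (ClSub.idealMod (hI (0 : LefPen.Form n k d))) := by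
  apply Groth.Agent.Lib.Helper17.ModPullback.isZero_of_subsingleton_sections_affine
  intro W hW
  refine ⟨fun a b => ?_⟩
  have key : ∀ c : Γ(ClSub.idealMod (hI (0 : LefPen.Form n k d)), W), c = 0 := by
    intro c
    apply iota_injective (hI (0 : LefPen.Form n k d))
    have h0 : iota (hI (0 : LefPen.Form n k d)) (0 : Γ(ClSub.idealMod (hI (0 : LefPen.Form n k d)), W)) = 0 :=
      map_zero _
    rw [h0]
    have hmem := iota_mem_ideal (hI (0 : LefPen.Form n k d)) ⟨W, hW⟩ c
    rw [ideal_hI, mem_fam_iff] at hmem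
    refine Groth.Agent.Lib.Helper28.QCohLoc.eq_of_locally_eq (Coh.structureModule _)
      (fun i : Fin (n + 1) => W ⊓ U (R := k) i) W (fun i => inf_le_left) ?_ _ 0 (fun i => ?_)
    · intro y hy
      obtain ⟨i, hi⟩ := hcovU (R := k) y
      exact Opens.mem_iSup.mpr ⟨i, hy, hi⟩
    · obtain ⟨a, ha⟩ := hmem i
      rw [dh_zero, GenLocus.resO_zero, mul_zero] at ha
      rw [Groth.Agent.Lib.Helper28.QCohLoc.res_zero]
      exact ha.symm
  rw [key a, key b]

end Zero

section ZeroCoh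

variable (I : (CohB1.ProjSpace n k).IdealSheafData)

theorem nonempty_X₃_iso_of_isZero (hz : IsZero (ClSub.idealMod I)) (t : ℤ) :
    Nonempty ((ST n k I t).X₃ ≅ Twist.twistProjSpace n k t) := by
  have hS := shortExact_ST n k I t
  have hz1 : IsZero (ST n k I t).X₁ := (Tw n k t).map_isZero hz
  haveI : IsIso (ST n k I t).g := hS.isIso_g_iff.2 hz1
  obtain ⟨e2⟩ := nonempty_iso_X₂ n k I t
  exact ⟨(asIso (ST n k I t).g).symm ≪≫ e2⟩

theorem subsingleton_X₃_of_isZero (hz : IsZero (ClSub.idealMod I)) (p : ℕ) (hp : 1 ≤ p) :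
    Subsingleton (Coh.HH (CohB1.ProjSpace n k) (ST n k I 0).X₃ p) := by
  obtain ⟨α⟩ := nonempty_X₃_iso_of_isZero n k I hz 0
  have h : Subsingleton (Coh.HH (CohB1.ProjSpace n k) (Twist.twistProjSpace n k 0) p) :=
    subsingleton_HH n k 0 p (fun h => by omega) (fun h => by omega)
  exact (Groth.Agent.Lib.Helper2.Bridge5.HHlinEquiv k α p).toEquiv.subsingleton

theorem finrank_X₃_zero_of_isZero (hn : 1 ≤ n) (hz : IsZero (ClSub.idealMod I)) :
    Module.finrank k (Coh.HH (CohB1.ProjSpace n k) (ST n k I 0).X₃ 0) = 1 := by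
  obtain ⟨α⟩ := nonempty_X₃_iso_of_isZero n k I hz 0
  rw [(Groth.Agent.Lib.Helper2.Bridge5.HHlinEquiv k α 0).finrank_eq, finrank_HH_zero n k hn 0]
  have e1 : ((0 : ℤ) + (n : ℤ)).toNat = n := by omega
  rw [e1, Nat.choose_self]

end ZeroCoh

/-- **structure sheaf cohomology of a hypersurface `V_+(G) ⊆ P^{d+1}_k` of degree `m ≤ d + 1`** (`G = 0` allowed) -/
theorem hyp_main (d m : ℕ) (hd : 1 ≤ d) (hm1 : 1 ≤ m) (hm : m ≤ d + 1) (G : LefPen.Form (d + 1) k m)
    [inst : (LefPen.hypIdeal G).subscheme.Over (Spec (CommRingCat.of k))]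
    (hinst : (LefPen.hypIdeal G).subscheme ↘ (Spec (CommRingCat.of k)) =
      (LefPen.hypIdeal G).subschemeι ≫ CohB1.ProjSpace.toSpec (d + 1) k) :
    (∀ i : ℕ, 1 ≤ i → Subsingleton (Coh.HH (LefPen.hypIdeal G).subscheme
        (Coh.structureModule (LefPen.hypIdeal G).subscheme) i)) ∧
      Module.finrank k (Coh.HH (LefPen.hypIdeal G).subscheme
        (Coh.structureModule (LefPen.hypIdeal G).subscheme) 0) = 1 := by
  have key : (∀ i : ℕ, 1 ≤ i → Subsingleton (Coh.HH (CohB1.ProjSpace (d + 1) k)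
        (ST (d + 1) k (LefPen.hypIdeal G) 0).X₃ i)) ∧
      Module.finrank k (Coh.HH (CohB1.ProjSpace (d + 1) k)
        (ST (d + 1) k (LefPen.hypIdeal G) 0).X₃ 0) = 1 := by
    by_cases hG : G = 0
    · subst hG
      have hz : IsZero (ClSub.idealMod (LefPen.hypIdeal (0 : LefPen.Form (d + 1) k m))) :=
        isZero_idealMod_zero
      exact ⟨fun i hi => subsingleton_X₃_of_isZero (d + 1) k _ hz i hi,
        finrank_X₃_zero_of_isZero (d + 1) k _ (by omega) hz⟩
    · obtain ⟨e⟩ := nonempty_iso G hG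
      exact ⟨fun i hi => subsingleton_X₃_of_le d _ (m : ℤ) e hd (by omega) (by omega) i hi,
        finrank_X₃_zero_of_le d _ (m : ℤ) e hd (by omega)⟩
  refine ⟨fun i hi => ?_, ?_⟩
  · obtain ⟨E⟩ := nonempty_linearEquiv_subscheme (d + 1) k (LefPen.hypIdeal G) hinst i
    haveI := key.1 i hi
    exact E.symm.toEquiv.subsingleton
  · obtain ⟨E⟩ := nonempty_linearEquiv_subscheme (d + 1) k (LefPen.hypIdeal G) hinst 0
    rw [← E.finrank_eq]
    exact key.2

end Groth.Agent.Lib.Helper2.HypIdeal4
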