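import Groth.Agent.Lib.Helper28.GenIso
import Groth.Agent.Lib.Helper28.IdealDual

/-!
# The ideal module of a product of effective Cartier ideals (helper2)

For effective Cartier ideals `A`, `B` the product `A * B` is effective Cartier and
`idealMod (A * B) ≅ idealMod A ⊗ idealMod B`.
-/

set_option backward.isDefEq.respectTransparency.types false
set_option autoImplicit false
universe u
open CategoryTheory CategoryTheory.Limits AlgebraicGeometry Opposite TopologicalSpace

noncomputable section

namespace Groth.Agent.Lib.Helper2.IdealMul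

open Groth.Agent.Lib.Helper28 Groth.Agent.Lib.Helper28.QCohLoc Groth.Agent.Lib.Helper28.GenLocus
  Groth.Agent.Lib.Helper28.IdealDual Groth.Agent.Lib.Helper28.TensorGen Groth.Agent.Lib.Helper28.InvTensor

variable {X : Scheme.{u}} (A B : X.IdealSheafData)

theorem transport_chart (W W' : X.affineOpens) (e : W = W')
    (h : ∃ f : Γ(X, W.1), f ∈ nonZeroDivisors Γ(X, W.1) ∧ B.ideal W = Ideal.span {f}) :
    ∃ f : Γ(X, W'.1), f ∈ nonZeroDivisors Γ(X, W'.1) ∧ B.ideal W' = Ideal.span {f} := by
  subst e
  exact h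

/-- a common chart for two effective Cartier ideals. -/
theorem exists_common_chart (hA : BlowUp.IsEffCartierIdeal A) (hB : BlowUp.IsEffCartierIdeal B)
    (x : X) :
    ∃ U : X.affineOpens, x ∈ U.1 ∧ ∃ f h : Γ(X, U.1), f ∈ nonZeroDivisors Γ(X, U.1) ∧
      h ∈ nonZeroDivisors Γ(X, U.1) ∧ A.ideal U = Ideal.span {f} ∧ B.ideal U = Ideal.span {h} := by
  obtain ⟨U, hxU, f, hf, hAU⟩ := hA x
  obtain ⟨V, hxV, h, hh, hBV⟩ := hB x
  obtain ⟨r, s, hrs, hxr⟩ := exists_basicOpen_le_affine_inter U.2 V.2 x ⟨hxU, hxV⟩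
  have e : X.affineBasicOpen (U := V) s = X.affineBasicOpen (U := U) r := Subtype.ext hrs.symm
  obtain ⟨h', hh', hBW⟩ := transport_chart B _ _ e
    ⟨resO (X.basicOpen_le s) h, resO_mem_nonZeroDivisors V.2 h hh s,
      ideal_basicOpen B V.2 h hBV s⟩
  exact ⟨X.affineBasicOpen (U := U) r, hxr, resO (X.basicOpen_le r) f, h',
    resO_mem_nonZeroDivisors U.2 f hf r, hh', ideal_basicOpen A U.2 f hAU r, hBW⟩

/-- the product of two effective Cartier ideals is effective Cartier. -/
theorem isEffCartierIdeal_mul (hA : BlowUp.IsEffCartierIdeal A) (hB : BlowUp.IsEffCartierIdeal B) :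
    BlowUp.IsEffCartierIdeal (A * B) := by
  intro x
  obtain ⟨U, hxU, f, h, hf, hh, hAU, hBU⟩ := exists_common_chart A B hA hB x
  refine ⟨U, hxU, f * h, mul_mem hf hh, ?_⟩
  change A.ideal U * B.ideal U = _
  rw [hAU, hBU, Ideal.span_singleton_mul_span_singleton]

theorem isEffCartierIdeal_pow (hA : BlowUp.IsEffCartierIdeal A) (n : ℕ) :
    BlowUp.IsEffCartierIdeal (A ^ (n + 1)) := by
  induction n with
  | zero => rwa [zero_add, pow_one]
  | succ n ih =>
    rw [pow_succ]
    exact isEffCartierIdeal_mul _ _ ih hA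

/-- **`I_{AB} ≅ I_A ⊗ I_B`** for effective Cartier ideals. -/
theorem nonempty_iso_tensor (hA : BlowUp.IsEffCartierIdeal A) (hB : BlowUp.IsEffCartierIdeal B) :
    Nonempty (ClSub.idealMod (A * B) ≅
      CohB1.tensorMod (ClSub.idealMod A) (ClSub.idealMod B)) := by
  choose U hxU f h hf hh hAU hBU using exists_common_chart A B hA hB
  have hAB : ∀ x, (A * B).ideal (U x) = Ideal.span {f x * h x} := by
    intro x
    change A.ideal (U x) * B.ideal (U x) = _
    rw [hAU, hBU, Ideal.span_singleton_mul_span_singleton]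
  choose gA hgA hgAf using fun x => exists_isGen_idealMod A (U x).2 (f x) (hf x) (hAU x)
  choose gB hgB hgBh using fun x => exists_isGen_idealMod B (U x).2 (h x) (hh x) (hBU x)
  choose gAB hgAB hgABfh using fun x =>
    exists_isGen_idealMod (A * B) (U x).2 (f x * h x) (mul_mem (hf x) (hh x)) (hAB x)
  obtain ⟨ψ, -⟩ := exists_iso_of_cocycle (M := ClSub.idealMod (A * B))
    (N := CohB1.tensorMod (ClSub.idealMod A) (ClSub.idealMod B)) (fun x => (U x).1) gAB
    (fun x => tmulSec _ _ (gA x) (gB x)) hgAB (fun x => isGen_tmulSec _ _ (hgA x) (hgB x))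
    (fun x => ⟨x, hxU x⟩) (by
      intro x y
      set V : X.Opens := (U x).1 ⊓ (U y).1 with hV
      have hVx : V ≤ (U x).1 := inf_le_left
      have hVy : V ≤ (U y).1 := inf_le_right
      let a : Γ(X, V) := (hgA y).coef hVy (res (ClSub.idealMod A) hVx (gA x))
      let b : Γ(X, V) := (hgB y).coef hVy (res (ClSub.idealMod B) hVx (gB x))
      have ha : (a • res (ClSub.idealMod A) hVy (gA y) : Γ(ClSub.idealMod A, V)) =
          res (ClSub.idealMod A) hVx (gA x) := (hgA y).coef_smul hVy _
      have hb : (b • res (ClSub.idealMod B) hVy (gB y) : Γ(ClSub.idealMod B, V)) =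
          res (ClSub.idealMod B) hVx (gB x) := (hgB y).coef_smul hVy _
      have ha' : resO hVx (f x) = a * resO hVy (f y) := by
        have := congrArg (iota A) ha
        rw [iota_smul, iota_res, iota_res, hgAf, hgAf] at this
        exact this.symm
      have hb' : resO hVx (h x) = b * resO hVy (h y) := by
        have := congrArg (iota B) hb
        rw [iota_smul, iota_res, iota_res, hgBh, hgBh] at this
        exact this.symm
      refine ⟨a * b, ?_, ?_⟩
      · apply iota_injective (A * B)
        rw [iota_smul, iota_res, iota_res, hgABfh, hgABfh]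
        have e1 : resO hVx (f x * h x) = resO hVx (f x) * resO hVx (h x) :=
          map_mul (X.presheaf.map (homOfLE hVx).op).hom _ _
        have e2 : resO hVy (f y * h y) = resO hVy (f y) * resO hVy (h y) :=
          map_mul (X.presheaf.map (homOfLE hVy).op).hom _ _
        rw [e1, e2, ha', hb']
        ring
      · rw [tmulSec_res, tmulSec_res, ← ha, ← hb, tmulSec_smul_left, tmulSec_smul_right, smul_smul])
  exact ⟨ψ⟩

end Groth.Agent.Lib.Helper2.IdealMul
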