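import Groth.Agent.Lib.Helper2.IntNum1
import Mathlib
set_option backward.isDefEq.respectTransparency.types false
set_option autoImplicit false
set_option linter.style.haveILetI false

/-!
# Intersection numbers, II: `χ(L^m ⊗ F)` as a combination of intersection numbers; multi-twists (helper2)
-/

universe u
open CategoryTheory CategoryTheory.Limits AlgebraicGeometry Opposite TopologicalSpace

namespace Groth.Agent.Lib.Helper2.IntNum2
open Groth.Agent.Lib.Helper6.K0Filt Groth.Agent.Lib.Helper6.K0Len Groth.Agent.Lib.Helper6.K0Op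
  Groth.Agent.Lib.Helper6.K0Tensor Groth.Agent.Lib.Helper4.Snapper Groth.Agent.Lib.Helper2.IntNum1

variable {X : Scheme.{u}}

theorem Top_mul_Top_eq_one (L M : X.Modules) (hL : PicF.IsInvertible L)
    (e : CohB1.tensorMod L M ≅ Coh.structureModule X) : Top L * Top M = 1 := by
  have hM : PicF.IsInvertible M := Groth.Agent.Lib.Helper6.K0Inv.isInvertible_of_tensor_iso L M hL e
  rw [← Top_tensorMod L M hL hM, Top_congr e (Groth.Agent.Lib.Helper28.GenLocus.isInvertible_tensorMod hL hM)
    (Groth.Agent.Lib.Helper28.AmpleUnit.isInvertible_structureModule X), Top_structureModule]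

theorem prod_eq_W : ∀ (n : ℕ) (L : _root_.Fin n → X.Modules) (_ : ∀ i, PicF.IsInvertible (L i))
    (m : _root_.Fin n → ℕ), ((List.finRange n).map (fun i => Top (L i) ^ m i)).prod = W n L m
  | 0, _, _, _ => by simp [W]
  | n + 1, L, hL, m => by
    have ih := prod_eq_W n (fun i => L i.castSucc) (fun i => hL i.castSucc) (fun i => m i.castSucc)
    rw [List.finRange_succ_last, List.map_append, List.prod_append, List.map_map, List.map_singleton,
      List.prod_singleton]
    change _ = Top (L (Fin.last n)) ^ m (Fin.last n) * W n (fun i => L i.castSucc) (fun i => m i.castSucc)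
    rw [← ih]
    apply Commute.list_prod_left
    intro x hx
    obtain ⟨i, -, rfl⟩ := List.mem_map.1 hx
    exact Commute.pow_pow (Top_comm _ _ (hL _) (hL _)) _ _

theorem cls_multiTwist_tensor {n : ℕ} (L : _root_.Fin n → X.Modules) (hL : ∀ i, PicF.IsInvertible (L i))
    (m : _root_.Fin n → ℕ) (F : X.Modules) (hF : Coh.IsCoh F) :
    cls (CohB1.tensorMod (FGA.multiTwist L m) F) = W n L m (cls F) := by
  unfold FGA.multiTwist
  have hl : ∀ N ∈ (List.finRange n).map (fun i => CohB1.tensorPow (L i) (m i)), PicF.IsInvertible N := by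
    intro N hN
    obtain ⟨i, -, rfl⟩ := List.mem_map.1 hN
    exact Groth.Agent.Lib.Helper28.GenLocus.isInvertible_tensorPow (hL i) (m i)
  rw [cls_tensorList_tensor _ hl F hF, List.map_map, ← prod_eq_W n L hL m]
  congr 3
  funext i
  exact Top_tensorPow (L i) (hL i) (m i)

theorem isInvertible_multiTwist {n : ℕ} (L : _root_.Fin n → X.Modules) (hL : ∀ i, PicF.IsInvertible (L i))
    (m : _root_.Fin n → ℕ) : PicF.IsInvertible (FGA.multiTwist L m) := by
  unfold FGA.multiTwist
  apply isInvertible_tensorList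
  intro N hN
  obtain ⟨i, -, rfl⟩ := List.mem_map.1 hN
  exact Groth.Agent.Lib.Helper28.GenLocus.isInvertible_tensorPow (hL i) (m i)

section chi

variable (k : Type u) [Field k] (X : Scheme.{u}) [X.Over (Spec (CommRingCat.of k))]
  [IsProper (X ↘ Spec (CommRingCat.of k))]

theorem eulerCharLE_tensorPow_eq (d : ℕ) (hd : topologicalKrullDim X ≤ d)
    (L M : X.Modules) (hL : PicF.IsInvertible L) (hLM : Nonempty (CohB1.tensorMod L M ≅ Coh.structureModule X))
    (F : X.Modules) (hF : Coh.IsCoh F) (r : ℕ) (hr : topologicalKrullDim (CohB1.support F) ≤ r) (m : ℕ) :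
    FGA.eulerCharLE k X (CohB1.tensorMod (CohB1.tensorPow L m) F) d =
      (Finset.range (r + 1)).sum (fun i => ((m + i - 1).choose i : ℤ) *
        FGA.intNum k X d (fun _ : _root_.Fin i => M) F) := by
  haveI : IsNoetherian X := isNoetherian k X
  obtain ⟨e⟩ := hLM
  have hM : PicF.IsInvertible M := Groth.Agent.Lib.Helper6.K0Inv.isInvertible_of_tensor_iso L M hL e
  have hP : PicF.IsInvertible (CohB1.tensorPow L m) :=
    Groth.Agent.Lib.Helper28.GenLocus.isInvertible_tensorPow hL m
  have hcoh : Coh.IsCoh (CohB1.tensorMod (CohB1.tensorPow L m) F) :=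
    isCoh_tensorMod _ _ (isCoh_of_isInvertible _ hP) hF
  rw [eulerCharLE_eq_chi k X d hd _ hcoh, ← Top_cls _ hP F hF, Top_tensorPow L hL m]
  have h1 : Top L * (1 - (1 - Top M)) = 1 := by
    rw [sub_sub_cancel]; exact Top_mul_Top_eq_one L M hL e
  have hc : ((1 - Top M) ^ (r + 1)) • (cls F) = (0 : K0 X) := by
    rw [AddMonoid.End.smul_def]
    apply eq_zero_of_mem_Hlt_zero
    apply pow_sub_Top_mem_Hlt M hM 0 (r + 1)
    rw [zero_add]
    exact cls_mem_Hlt F hF r hr
  have h2 := pow_smul_eq_sum (Top L) (1 - Top M) h1 (cls F) r hc m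
  rw [AddMonoid.End.smul_def] at h2
  rw [h2, map_sum]
  apply Finset.sum_congr rfl
  intro i _
  rw [map_zsmul, smul_eq_mul, intNum_eq k X d hd _ (fun _ => hM) F hF, Psi_const, AddMonoid.End.smul_def]

/-- the Euler characteristic of `L^m ⊗ F` in the `FGA.multiTwist` form agrees with the `Curv2.tensorPows` form -/
theorem eulerCharLE_multiTwist_eq (d : ℕ) (hd : topologicalKrullDim X ≤ d) {n : ℕ}
    (L : _root_.Fin n → X.Modules) (hL : ∀ i, PicF.IsInvertible (L i)) (F : X.Modules) (hF : Coh.IsCoh F)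
    (m : _root_.Fin n → ℕ) :
    FGA.eulerCharLE k X (CohB1.tensorMod (FGA.multiTwist L m) F) d =
      Curv2.euler k X (Curv2.tensorPows F n L m) := by
  have hcoh : Coh.IsCoh (CohB1.tensorMod (FGA.multiTwist L m) F) :=
    isCoh_tensorMod _ _ (isCoh_of_isInvertible _ (isInvertible_multiTwist L hL m)) hF
  rw [eulerCharLE_eq_chi k X d hd _ hcoh, cls_multiTwist_tensor L hL m F hF,
    ← cls_tensorPows F hF n L hL m, chi_cls k X _ (isCoh_tensorPows F hF n L hL m)]

end chi

end Groth.Agent.Lib.Helper2.IntNum2
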