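import Groth.Agent.Lib.Helper2.IntNum2
import Mathlib
set_option backward.isDefEq.respectTransparency.types false
set_option autoImplicit false
set_option linter.style.haveILetI false

/-!
# Intersection numbers, III: the cycle formula (helper2)

`(M_1 ⋯ M_r ; F) = Σ_ξ length(F_ξ) (M_1 ⋯ M_r ; O_{Z(ξ)})`, the sum over the generic points of the `r`-dimensional
components of `Supp F`.
-/

universe u
open CategoryTheory CategoryTheory.Limits AlgebraicGeometry Opposite TopologicalSpace

namespace Groth.Agent.Lib.Helper2.IntNum3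
open Groth.Agent.Lib.Helper6.K0Filt Groth.Agent.Lib.Helper6.K0Len Groth.Agent.Lib.Helper6.K0Op
  Groth.Agent.Lib.Helper6.K0Tensor Groth.Agent.Lib.Helper4.Snapper Groth.Agent.Lib.Helper2.IntNum1

variable (k : Type u) [Field k] (X : Scheme.{u}) [X.Over (Spec (CommRingCat.of k))]
  [IsProper (X ↘ Spec (CommRingCat.of k))]

include k in
open Classical in
/-- the class `Π (1 - [M_i ⊗ -]) [F]` in terms of the top-dimensional components of the support -/
theorem Psi_cls_eq_finsum {r : ℕ} (M : _root_.Fin r → X.Modules) (hM : ∀ i, PicF.IsInvertible (M i))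
    (F : X.Modules) (hF : Coh.IsCoh F) (hsupp : topologicalKrullDim ↥(CohB1.support F) ≤ r) :
    Fin (Dn r) F ∧ Psi M (cls F) = Psi M (finsum (term (Dn r) F)) := by
  haveI : IsNoetherian X := isNoetherian k X
  obtain ⟨hfin, hmem⟩ := cycle_formula_dim r (CohB1.support F)
    (Groth.Agent.Lib.Helper6.DevCore.isClosed_support F hF) hsupp F hF le_rfl
  refine ⟨hfin, ?_⟩
  have h0 := eq_zero_of_mem_Hlt_zero _ (Psi_mem_Hlt M hM 0 _ (by rw [zero_add]; exact hmem))
  rw [map_sub, sub_eq_zero] at h0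
  exact h0

open Classical in
theorem intNum_eq_cycle_sum (d : ℕ) (hd : topologicalKrullDim X ≤ d)
    {r : ℕ} (M : _root_.Fin r → X.Modules) (hM : ∀ i, PicF.IsInvertible (M i))
    (F : X.Modules) (hF : Coh.IsCoh F) (hsupp : topologicalKrullDim ↥(CohB1.support F) ≤ r)
    (s : Finset X) (hs : ∀ ξ : X, ξ ∈ s ↔ ξ ∈ CohB1.support F ∧ topologicalKrullDim ↥(closure ({ξ} : Set X)) = r) :
    FGA.intNum k X d M F =
      ∑ ξ ∈ s, ((len F ξ).toNat : ℤ) * FGA.intNum k X d M (OZ ξ) := by
  haveI : IsNoetherian X := isNoetherian k X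
  obtain ⟨hfin, h0⟩ := Psi_cls_eq_finsum k X M hM F hF hsupp
  rw [intNum_eq k X d hd M hM F hF, h0]
  have hsub : Function.support (term (Dn r) F) ⊆ ↑s := by
    intro ξ hξ
    obtain ⟨h1, h2⟩ := support_term_subset (Dn r) F hξ
    exact (hs ξ).2 ⟨h2, h1⟩
  rw [finsum_eq_sum_of_support_subset _ hsub, map_sum, map_sum]
  apply Finset.sum_congr rfl
  intro ξ hξ
  have hD : Dn r ξ := ((hs ξ).1 hξ).2
  unfold term
  rw [if_pos hD, map_nsmul, map_nsmul, nsmul_eq_mul, intNum_eq k X d hd M hM _ (isCoh_OZ ξ)]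

end Groth.Agent.Lib.Helper2.IntNum3
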