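import Groth.Agent.Lib.Helper2.IntNum8
import Groth.Agent.Lib.Helper2.EffDim
import Mathlib
set_option backward.isDefEq.respectTransparency.types false
set_option autoImplicit false
set_option linter.style.haveILetI false

/-!
# Intersection numbers, IX: `(O(D) · L_1 ⋯ L_e · X) = (L_1 ⋯ L_e · D)` for the Snapper coefficients (helper2)
-/

universe u
open CategoryTheory CategoryTheory.Limits AlgebraicGeometry Opposite TopologicalSpace

namespace Groth.Agent.Lib.Helper2.IntNum9
open Groth.Agent.Lib.Helper6.K0Filt Groth.Agent.Lib.Helper6.K0Len Groth.Agent.Lib.Helper6.K0Op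
  Groth.Agent.Lib.Helper6.K0Tensor Groth.Agent.Lib.Helper4.Snapper Groth.Agent.Lib.Helper2.IntNum1
  Groth.Agent.Lib.Helper2.IntNum2 Groth.Agent.Lib.Helper2.IntNum4 Groth.Agent.Lib.Helper4.NumPoly
  Groth.Agent.Lib.Helper2.IntNum8 Groth.Agent.Lib.Helper6.K0Loc Groth.Agent.Lib.Helper17.Serre

variable {X : Scheme.{u}}

/-- `(1 - [I_D]) [O_X] = [O_D]` -/
theorem sub_Top_idealMod_cls_structure [IsLocallyNoetherian X] (D : X.IdealSheafData)
    (hinv : PicF.IsInvertible (ClSub.idealMod D)) :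
    (1 - Top (ClSub.idealMod D)) (cls (Coh.structureModule X)) = cls (ClSub.quotMod D) := by
  have hcI : Coh.IsCoh (ClSub.idealMod D) := isCoh_of_isInvertible _ hinv
  have hcO : Coh.IsCoh (Coh.structureModule X) := Groth.Agent.Lib.Helper6.DevRed.isCoh_structureModule
  have hcQ : Coh.IsCoh (ClSub.quotMod D) := Groth.Agent.Lib.Helper6.DevRed.isCoh_quotMod D
  have h1 : cls (Coh.structureModule X) = cls (ClSub.idealMod D) + cls (ClSub.quotMod D) :=
    cls_add (idealSES_shortExact D) hcI hcO hcQ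
  have h2 : Top (ClSub.idealMod D) (cls (Coh.structureModule X)) = cls (ClSub.idealMod D) := by
    rw [Top_cls _ hinv _ hcO]
    exact cls_iso (Groth.Agent.Lib.Helper28.AmpleUnit.nonempty_tensor_unit_iso _).some
      (isCoh_tensorMod _ _ hcI hcO)
  show cls (Coh.structureModule X) - Top (ClSub.idealMod D) (cls (Coh.structureModule X)) = _
  rw [h2]
  exact (eq_sub_of_add_eq' h1.symm).symm

section field
variable (k : Type u) [Field k] (X : Scheme.{u}) [X.Over (Spec (CommRingCat.of k))]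
    [IsProper (X ↘ (Spec (CommRingCat.of k)))]

include k in
/-- `Π_{i ≥ 0} (1 - [L_i]) [O_X] = - Π_{i ≥ 1} (1 - [L_i]) [O_D]` when `L_0 ≅ O_X(D)` and `dim X = e + 1` -/
theorem Psi_cls_structure_eq (e : ℕ) (hX : topologicalKrullDim X = ((e + 1 : ℕ) : WithBot ℕ∞))
    (D : X.IdealSheafData) (hD : BlowUp.IsEffCartierIdeal D)
    (L : _root_.Fin (e + 1) → X.Modules) (hL : ∀ j, PicF.IsInvertible (L j))
    (hLD : Nonempty (CohB1.tensorMod (L 0) (ClSub.idealMod D) ≅ Coh.structureModule X)) :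
    Psi L (cls (Coh.structureModule X)) = - Psi (Fin.tail L) (cls (ClSub.quotMod D)) := by
  haveI : IsNoetherian X := isNoetherian k X
  have hinv := Groth.Agent.Lib.Helper28.IdealDual.isInvertible_idealMod D hD
  have hcQ : Coh.IsCoh (ClSub.quotMod D) := Groth.Agent.Lib.Helper6.DevRed.isCoh_quotMod D
  have hT : ∀ i, PicF.IsInvertible (Fin.tail L i) := fun i => hL i.succ
  have h1 : Top (L 0) * Top (ClSub.idealMod D) = 1 := Top_mul_Top_eq_one _ _ (hL 0) hLD.some
  have h2 : (1 - Top (L 0) : AddMonoid.End (K0 X)) = - (Top (L 0) * (1 - Top (ClSub.idealMod D))) := by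
    rw [mul_sub, mul_one, h1]; abel
  have hmem : Psi (Fin.tail L) (cls (ClSub.quotMod D)) ∈ Hlt X 1 := by
    have h0 : cls (ClSub.quotMod D) ∈ Hlt X (e + 1) := cls_mem_Hlt _ hcQ e (by
      rw [Groth.Agent.Lib.Helper6.DevRed.support_quotMod]
      exact Groth.Agent.Lib.Helper2.EffDim.dim_support_le D hD e hX)
    rw [add_comm] at h0
    exact Psi_mem_Hlt _ hT 1 _ h0
  rw [← Fin.cons_self_tail L, Psi_cons]
  simp only [Fin.tail_cons]
  change (1 - Top (L 0)) (Psi (Fin.tail L) (cls (Coh.structureModule X))) = _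
  have hc : (1 - Top (L 0)) (Psi (Fin.tail L) (cls (Coh.structureModule X))) =
      Psi (Fin.tail L) ((1 - Top (L 0)) (cls (Coh.structureModule X))) := by
    change ((1 - Top (L 0)) * Psi (Fin.tail L)) _ = (Psi (Fin.tail L) * (1 - Top (L 0))) _
    rw [(commute_sub_Top_Psi (L 0) (hL 0) _ hT).eq]
  rw [hc, h2]
  change Psi (Fin.tail L) (- (Top (L 0) ((1 - Top (ClSub.idealMod D)) (cls (Coh.structureModule X))))) = _
  rw [sub_Top_idealMod_cls_structure D hinv, map_neg]
  congr 1
  have hc2 : Psi (Fin.tail L) (Top (L 0) (cls (ClSub.quotMod D))) =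
      Top (L 0) (Psi (Fin.tail L) (cls (ClSub.quotMod D))) := by
    change (Psi (Fin.tail L) * Top (L 0)) _ = (Top (L 0) * Psi (Fin.tail L)) _
    rw [(commute_Top_Psi (L 0) (hL 0) _ hT).eq]
  rw [hc2, Top_apply_of_mem_Hlt_one (L 0) (hL 0) _ hmem]

end field

end Groth.Agent.Lib.Helper2.IntNum9
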