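import Mathlib.RingTheory.HopkinsLevitzki
import Mathlib.RingTheory.Localization.Finiteness
import Mathlib.RingTheory.Ideal.MinimalPrime.Localization
import Mathlib.RingTheory.KrullDimension.Zero
import Mathlib.Algebra.Module.LocalizedModule.Submodule
import Mathlib.Algebra.Module.Torsion.Basic
import Mathlib.Algebra.Algebra.Epi
import Mathlib.RingTheory.Support
import Mathlib.RingTheory.Ideal.Quotient.Noetherian
import Mathlib.RingTheory.Localization.Submodule

/-! Iterated equalizers of a finite injective ring map terminate (helper lemmas). -/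

namespace Groth.Agent.Lib.Helper2.IterEq

open TensorProduct

section DCC

variable {A : Type*} [CommRing A] [IsNoetherianRing A] {T : Type*} [AddCommGroup T] [Module A T]
  [Module.Finite A T]

/-- Descending chains of submodules become stationary after localizing at a minimal prime of the
annihilator. -/
theorem exists_stationary_at_minimalPrime (p : Ideal A)
    (hp : p ∈ (Module.annihilator A T).minimalPrimes) (F : ℕ → Submodule A T)
    (hF : Antitone F) : ∃ n, ∀ x ∈ F n, ∃ s : A, s ∉ p ∧ s • x ∈ F (n + 1) := by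
  classical
  set ann := Module.annihilator A T with hann
  letI : Module (A ⧸ ann) T := Module.quotientAnnihilator
  haveI : IsScalarTower A (A ⧸ ann) T :=
    Module.IsTorsionBySet.isScalarTower (Module.isTorsionBySet_annihilator A T)
  have hmk : ∀ (a : A) (x : T), (Ideal.Quotient.mk ann a) • x = a • x := fun a x => rfl
  rw [Ideal.minimalPrimes_eq_comap] at hp
  obtain ⟨pbar, hpbar, rfl⟩ := hp
  haveI hprime : pbar.IsPrime := hpbar.1.1
  haveI : Module.Finite (A ⧸ ann) T := Module.Finite.of_restrictScalars_finite A (A ⧸ ann) T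
  let Λ := Localization.AtPrime pbar
  haveI : IsNoetherianRing Λ := IsLocalization.isNoetherianRing pbar.primeCompl Λ inferInstance
  haveI : Ring.KrullDimLE 0 Λ := Ring.KrullDimLE.of_isLocalization pbar hpbar Λ
  haveI : IsArtinianRing Λ := isArtinianRing_iff_krullDimLE_zero.mpr inferInstance
  let X := LocalizedModule pbar.primeCompl T
  haveI : IsArtinian Λ X := inferInstance
  let Fbar : ℕ → Submodule (A ⧸ ann) T := fun n =>
    { carrier := F n
      add_mem' := (F n).add_mem
      zero_mem' := (F n).zero_mem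
      smul_mem' := by
        intro c x hx
        obtain ⟨a, rfl⟩ := Ideal.Quotient.mk_surjective c
        rw [hmk]
        exact (F n).smul_mem a hx }
  let W : ℕ → Submodule Λ X := fun n => (Fbar n).localized pbar.primeCompl
  have hW : Antitone W := by
    intro m n hmn z hz
    change _ ∈ Submodule.localized' _ _ _ _ at hz
    change _ ∈ Submodule.localized' _ _ _ _
    rw [Submodule.mem_localized'] at hz ⊢
    obtain ⟨y, hy, s, hys⟩ := hz
    exact ⟨y, hF hmn hy, s, hys⟩
  obtain ⟨n, hn⟩ := IsArtinian.monotone_stabilizes ⟨fun k => OrderDual.toDual (W k), fun a b h => hW h⟩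
  refine ⟨n, fun x hx => ?_⟩
  have hx1 : (LocalizedModule.mk x 1 : X) ∈ W n := by
    change _ ∈ Submodule.localized' _ _ _ _
    rw [Submodule.mem_localized']
    exact ⟨x, hx, 1, by simp [IsLocalizedModule.mk'_one]⟩
  have hx2 : (LocalizedModule.mk x 1 : X) ∈ W (n + 1) := by
    have := hn (n + 1) (Nat.le_succ n)
    have h' : W n = W (n + 1) := this
    rw [← h']
    exact hx1
  change _ ∈ Submodule.localized' _ _ _ _ at hx2
  rw [Submodule.mem_localized'] at hx2
  obtain ⟨y, hy, s, hys⟩ := hx2
  rw [← IsLocalizedModule.mk_eq_mk', LocalizedModule.mk_eq] at hys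
  obtain ⟨u, hu⟩ := hys
  obtain ⟨a, ha⟩ := Ideal.Quotient.mk_surjective ((u * s : pbar.primeCompl) : A ⧸ ann)
  refine ⟨a, ?_, ?_⟩
  · intro hap
    have : Ideal.Quotient.mk ann a ∈ pbar := hap
    rw [ha] at this
    exact (u * s).2 this
  · have h1 : a • x = ((u * s : pbar.primeCompl) : A ⧸ ann) • x := by rw [← ha, hmk]
    have h2 : ((u * s : pbar.primeCompl) : A ⧸ ann) • x = u • s • x := by
      rw [Submonoid.coe_mul, mul_smul]
      rfl
    have h3 : u • (1 : pbar.primeCompl) • y = (u : A ⧸ ann) • y := by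
      rw [one_smul]; rfl
    rw [h1, h2, ← hu, h3]
    exact (Fbar (n + 1)).smul_mem _ hy

end DCC

section Key

variable {A C : Type*} [CommRing A] [CommRing C] [Algebra A C] [Module.Finite A C]

/-- If `A_p → C_p` satisfies the epimorphism condition elementwise (up to denominators), then
`C_p = A_p`, i.e. some `s ∉ p` maps `C` into the image of `A`. -/
theorem exists_smul_mem_range_of_tmul_eq (p : Ideal A) [p.IsPrime]
    (h : ∀ c : C, ∃ s : A, s ∉ p ∧ (s • c) ⊗ₜ[A] (1 : C) = (1 : C) ⊗ₜ[A] (s • c)) :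
    ∃ s : A, s ∉ p ∧ ∀ c : C, ∃ a : A, s • c = algebraMap A C a := by
  classical
  let S := p.primeCompl
  let Ap := Localization.AtPrime p
  let D := Localization (Algebra.algebraMapSubmonoid C S)
  haveI : Module.Finite Ap D := Module.Finite.of_isLocalization A C S
  let ι : C →ₗ[A] D := (IsScalarTower.toAlgHom A C D).toLinearMap
  have hι : ∀ c, ι c = algebraMap C D c := fun c => rfl
  let φ : C ⊗[A] C →ₗ[A] D ⊗[Ap] D :=
    (TensorProduct.mapOfCompatibleSMul Ap A A D D) ∘ₗ (TensorProduct.map ι ι)
  have hφ : ∀ x y : C, φ (x ⊗ₜ[A] y) = ι x ⊗ₜ[Ap] ι y := fun x y => rfl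
  -- units
  have hunit : ∀ s : A, s ∉ p → IsUnit (algebraMap A Ap s) := fun s hs =>
    IsLocalization.map_units Ap (⟨s, hs⟩ : S)
  -- step 1 : the epi condition on the image of C
  have h1 : ∀ c : C, (ι c) ⊗ₜ[Ap] (1 : D) = (1 : D) ⊗ₜ[Ap] (ι c) := by
    intro c
    obtain ⟨s, hs, hsc⟩ := h c
    have h2 := congrArg φ hsc
    have h3 : ι (1 : C) = 1 := by rw [hι, map_one]
    rw [hφ, hφ, map_smul, h3] at h2
    have h4 : (s • ι c) = (algebraMap A Ap s) • ι c := by
      rw [algebraMap_smul]
    rw [h4, ← TensorProduct.smul_tmul', TensorProduct.tmul_smul] at h2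
    exact (hunit s hs).smul_left_cancel.mp h2
  -- step 2 : epi
  have hepi : Algebra.IsEpi Ap D := by
    rw [Algebra.isEpi_iff_forall_one_tmul_eq]
    intro d
    obtain ⟨c, t, rfl⟩ := IsLocalization.exists_mk'_eq (Algebra.algebraMapSubmonoid C S) d
    obtain ⟨t, s, hs, rfl⟩ := t
    obtain ⟨u, hu⟩ := (hunit s hs).exists_left_inv
    have hd : IsLocalization.mk' D c (⟨algebraMap A C s, s, hs, rfl⟩ :
        Algebra.algebraMapSubmonoid C S) = u • ι c := by
      symm
      rw [IsLocalization.eq_mk'_iff_mul_eq, hι, Algebra.smul_def]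
      have e1 : algebraMap C D (algebraMap A C s) = algebraMap Ap D (algebraMap A Ap s) := by
        rw [← IsScalarTower.algebraMap_apply A C D, ← IsScalarTower.algebraMap_apply A Ap D]
      change algebraMap Ap D u * algebraMap C D c * algebraMap C D (algebraMap A C s) =
        algebraMap C D c
      rw [e1, mul_right_comm, ← map_mul, hu, map_one, one_mul]
    rw [hd, TensorProduct.tmul_smul, ← TensorProduct.smul_tmul', h1]
  have hsurj : Function.Surjective (algebraMap Ap D) :=
    Algebra.isEpi_iff_surjective_algebraMap_of_finite.mp hepi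
  -- step 3 : each c is killed into the range by some s
  have h3 : ∀ c : C, ∃ s : A, s ∉ p ∧ ∃ a : A, s • c = algebraMap A C a := by
    intro c
    obtain ⟨z, hz⟩ := hsurj (ι c)
    obtain ⟨a, s, rfl⟩ := IsLocalization.exists_mk'_eq S z
    have e0 : algebraMap Ap D (IsLocalization.mk' Ap a s) * algebraMap Ap D (algebraMap A Ap s) =
        algebraMap Ap D (algebraMap A Ap a) := by
      rw [← map_mul, IsLocalization.mk'_spec]
    rw [hz, hι, ← IsScalarTower.algebraMap_apply A Ap D, ← IsScalarTower.algebraMap_apply A Ap D,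
      IsScalarTower.algebraMap_apply A C D, IsScalarTower.algebraMap_apply A C D a, ← map_mul,
      IsLocalization.eq_iff_exists (Algebra.algebraMapSubmonoid C S) D] at e0
    obtain ⟨⟨t, s', hs', rfl⟩, ht⟩ := e0
    refine ⟨s' * s, ?_, s' * a, ?_⟩
    · exact (S.mul_mem hs' s.2)
    · simp only at ht
      rw [mul_smul, Algebra.smul_def, Algebra.smul_def, map_mul]
      rw [mul_comm c] at ht
      exact ht
  choose sfun hsfun1 hsfun2 using h3
  obtain ⟨G, hG⟩ := (Module.Finite.fg_top : (⊤ : Submodule A C).FG)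
  refine ⟨∏ g ∈ G, sfun g, ?_, ?_⟩
  · have : (∏ g ∈ G, sfun g) ∈ S := Submonoid.prod_mem S (fun g _ => hsfun1 g)
    exact this
  · intro c
    have hc : c ∈ Submodule.span A (G : Set C) := by rw [hG]; trivial
    induction hc using Submodule.span_induction with
    | mem g hg =>
      obtain ⟨a, ha⟩ := hsfun2 g
      refine ⟨(∏ g' ∈ G.erase g, sfun g') * a, ?_⟩
      rw [← Finset.prod_erase_mul G sfun hg, mul_smul, ha, map_mul, Algebra.smul_def]
    | zero => exact ⟨0, by simp⟩
    | add x y _ _ hx hy =>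
      obtain ⟨a, ha⟩ := hx
      obtain ⟨b, hb⟩ := hy
      exact ⟨a + b, by rw [smul_add, ha, hb, map_add]⟩
    | smul r x _ hx =>
      obtain ⟨a, ha⟩ := hx
      exact ⟨r * a, by rw [smul_comm, ha, map_mul, Algebra.smul_def]⟩

end Key

section Main

universe u

theorem iterated_eq_bot {A B : Type u} [CommRing A] [CommRing B] [Algebra A B]
    [IsNoetherianRing A] [Module.Finite A B] (C : ℕ → Subalgebra A B)
    (hstep : ∀ (i : ℕ) (b : B), b ∈ C (i + 1) ↔ ∃ hb : b ∈ C i,
      ((⟨b, hb⟩ : C i) ⊗ₜ[A] (1 : C i) : C i ⊗[A] C i) = (1 : C i) ⊗ₜ[A] (⟨b, hb⟩ : C i)) :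
    ∃ m : ℕ, C m = ⊥ := by
  classical
  haveI : IsNoetherian A B := isNoetherian_of_isNoetherianRing_of_finite A B
  have hanti : Antitone C := antitone_nat_of_succ_le (fun i b hb => ((hstep i b).mp hb).1)
  let A' : Submodule A B := Subalgebra.toSubmodule (⊥ : Subalgebra A B)
  have hA' : ∀ i, ∀ x ∈ A', x ∈ C i := fun i x hx => (bot_le : (⊥ : Subalgebra A B) ≤ C i) hx
  let I : ℕ → Ideal A := fun i => A'.colon ((C i : Set B))
  have hImono : Monotone I := fun i j hij =>
    Submodule.colon_mono le_rfl (fun x hx => hanti hij hx)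
  obtain ⟨i₀, hi₀⟩ := monotone_stabilizes_iff_noetherian.mpr inferInstance ⟨I, hImono⟩
  by_cases htop : I i₀ = ⊤
  · refine ⟨i₀, ?_⟩
    rw [eq_bot_iff]
    intro x hx
    have h1 : (1 : A) ∈ I i₀ := by rw [htop]; trivial
    have := Submodule.mem_colon.mp h1 x hx
    rwa [one_smul] at this
  · exfalso
    let N₀ : Submodule A B := Subalgebra.toSubmodule (C i₀)
    let A'' : Submodule A N₀ := A'.comap N₀.subtype
    have hann : Module.annihilator A (N₀ ⧸ A'') = I i₀ := by
      ext a
      rw [Module.mem_annihilator, Submodule.mem_colon]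
      constructor
      · intro h x hx
        have := h (A''.mkQ ⟨x, hx⟩)
        rw [← map_smul, Submodule.mkQ_apply, Submodule.Quotient.mk_eq_zero] at this
        exact this
      · intro h t
        obtain ⟨⟨x, hx⟩, rfl⟩ := A''.mkQ_surjective t
        rw [← map_smul, Submodule.mkQ_apply, Submodule.Quotient.mk_eq_zero]
        exact h x hx
    obtain ⟨p, hp⟩ := Ideal.nonempty_minimalPrimes htop
    haveI hpprime : p.IsPrime := hp.1.1
    let F : ℕ → Submodule A (N₀ ⧸ A'') := fun j =>
      ((Subalgebra.toSubmodule (C (i₀ + j))).comap N₀.subtype).map A''.mkQ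
    have hFanti : Antitone F := by
      intro j k hjk
      apply Submodule.map_mono
      apply Submodule.comap_mono
      exact fun x hx => hanti (Nat.add_le_add_left hjk i₀) hx
    obtain ⟨n, hn⟩ := exists_stationary_at_minimalPrime p (hann ▸ hp) F hFanti
    haveI : Module.Finite A (C (i₀ + n)) :=
      Module.Finite.of_injective (C (i₀ + n)).val.toLinearMap Subtype.val_injective
    have hkey : ∀ c : C (i₀ + n), ∃ s : A, s ∉ p ∧
        (s • c) ⊗ₜ[A] (1 : C (i₀ + n)) = (1 : C (i₀ + n)) ⊗ₜ[A] (s • c) := by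
      intro c
      have hcN₀ : (c : B) ∈ N₀ := hanti (Nat.le_add_right i₀ n) c.2
      have hx : A''.mkQ ⟨c, hcN₀⟩ ∈ F n := Submodule.mem_map_of_mem (by exact c.2)
      obtain ⟨s, hs, hsx⟩ := hn _ hx
      refine ⟨s, hs, ?_⟩
      obtain ⟨y, hy, hyx⟩ := hsx
      have hdiff : (y : B) - s • (c : B) ∈ A' := by
        have : A''.mkQ (y - s • ⟨c, hcN₀⟩) = 0 := by rw [map_sub, map_smul, hyx, sub_self]
        rw [Submodule.mkQ_apply, Submodule.Quotient.mk_eq_zero] at this
        exact this
      have hsc : s • (c : B) ∈ C (i₀ + n + 1) := by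
        have h1 : (y : B) ∈ C (i₀ + n + 1) := hy
        have h2 : (y : B) - s • (c : B) ∈ C (i₀ + n + 1) := hA' _ _ hdiff
        have := (C (i₀ + n + 1)).sub_mem h1 h2
        simpa using this
      obtain ⟨hb, heq⟩ := (hstep (i₀ + n) _).mp hsc
      exact heq
    obtain ⟨s, hs, hsall⟩ := exists_smul_mem_range_of_tmul_eq p hkey
    have hsI : s ∈ I (i₀ + n) := by
      rw [Submodule.mem_colon]
      intro x hx
      obtain ⟨a, ha⟩ := hsall ⟨x, hx⟩
      have : s • x = algebraMap A B a := by
        have := congrArg Subtype.val ha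
        simpa using this
      rw [this]
      exact Subalgebra.algebraMap_mem ⊥ a
    have heqI : I i₀ = I (i₀ + n) := hi₀ (i₀ + n) (Nat.le_add_right _ _)
    rw [← heqI] at hsI
    exact hs (hp.1.2 hsI)

end Main

end Groth.Agent.Lib.Helper2.IterEq
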