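import Groth.Agent.Lib.Helper13.KrullAkizuki

/-!
Helper library (helper2): abstract form of Krull–Akizuki (transport of helper13's subring version).
`A` a Noetherian ring of Krull dimension `≤ 1` with fraction field `L`, `C` any ring between `A` and
`L` (i.e. `A → C → L` with `C → L` injective). Then `C` is Noetherian, of dimension `≤ 1`, and
`C/aC` is a Noetherian `A`-module for every nonzero `a : A`.
-/

set_option autoImplicit false

namespace Groth.Agent.Lib.Helper2.KAabs

open Groth.Agent.Lib.Helper13

universe u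

theorem main {A C : Type*} {L : Type u} [CommRing A] [CommRing C] [Field L] [Algebra A L]
    [IsFractionRing A L] [IsNoetherianRing A] [Ring.KrullDimLE 1 A] [Algebra A C] [Algebra C L]
    [IsScalarTower A C L] (hinj : Function.Injective (algebraMap C L)) :
    IsNoetherianRing C ∧ Ring.KrullDimLE 1 C ∧
      ∀ a : A, a ≠ 0 → IsNoetherian A (C ⧸ Ideal.span {algebraMap A C a}) := by
  let B₀ : Subring L := (algebraMap A L).range
  let C₀ : Subring L := (algebraMap C L).range
  have hAinj : Function.Injective (algebraMap A L) := IsFractionRing.injective A L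
  let σ : A ≃+* B₀ := RingEquiv.ofBijective (algebraMap A L).rangeRestrict
    ⟨fun x y h => hAinj (congrArg Subtype.val h), (algebraMap A L).rangeRestrict_surjective⟩
  let τ : C ≃+* C₀ := RingEquiv.ofBijective (algebraMap C L).rangeRestrict
    ⟨fun x y h => hinj (congrArg Subtype.val h), (algebraMap C L).rangeRestrict_surjective⟩
  have hσ : ∀ a : A, ((σ a : B₀) : L) = algebraMap A L a := fun _ => rfl
  have hτ : ∀ c : C, ((τ c : C₀) : L) = algebraMap C L c := fun _ => rfl
  have hBC : B₀ ≤ C₀ := by
    rintro _ ⟨a, rfl⟩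
    exact ⟨algebraMap A C a, (IsScalarTower.algebraMap_apply A C L a).symm⟩
  haveI : FaithfulSMul B₀ L := (faithfulSMul_iff_algebraMap_injective _ _).mpr Subtype.val_injective
  haveI : IsFractionRing B₀ L := by
    refine IsFractionRing.of_field _ _ fun z => ?_
    obtain ⟨x, y, _, rfl⟩ := IsFractionRing.div_surjective (A := A) z
    exact ⟨σ x, σ y, rfl⟩
  haveI : IsNoetherianRing B₀ := isNoetherianRing_of_ringEquiv A σ
  haveI : Ring.KrullDimLE 1 B₀ := by
    rw [Ring.krullDimLE_iff, ← ringKrullDim_eq_of_ringEquiv σ]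
    exact Ring.krullDimLE_iff.mp ‹_›
  obtain ⟨hN, hD⟩ := KA.krullAkizuki B₀ C₀ hBC
  refine ⟨isNoetherianRing_of_ringEquiv C₀ τ.symm, ?_, ?_⟩
  · rw [Ring.krullDimLE_iff, ringKrullDim_eq_of_ringEquiv τ]
    exact Ring.krullDimLE_iff.mp hD
  · intro a ha
    letI algBC : Algebra B₀ C₀ := (Subring.inclusion hBC).toAlgebra
    have hσa : σ a ≠ 0 := fun h => ha (σ.injective (by rw [h, map_zero]))
    have hq : IsNoetherian B₀ (C₀ ⧸ Ideal.span {algebraMap B₀ C₀ (σ a)}) :=
      KA.isNoetherian_quotient B₀ C₀ (fun _ => rfl) (σ a) hσa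
    -- the key compatibility
    have hcompat : ∀ b : B₀, τ.symm (algebraMap B₀ C₀ b) = algebraMap A C (σ.symm b) := by
      intro b
      apply τ.injective
      rw [RingEquiv.apply_symm_apply]
      apply Subtype.ext
      rw [hτ, ← IsScalarTower.algebraMap_apply, ← hσ, RingEquiv.apply_symm_apply]
      rfl
    letI modB : Module B₀ (C ⧸ Ideal.span {algebraMap A C a}) :=
      Module.compHom _ (σ.symm : B₀ →+* A)
    let ρ : (C₀ ⧸ Ideal.span {algebraMap B₀ C₀ (σ a)}) →+* (C ⧸ Ideal.span {algebraMap A C a}) :=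
      Ideal.Quotient.lift _ ((Ideal.Quotient.mk _).comp (τ.symm : C₀ →+* C)) (by
        intro x hx
        rw [Ideal.mem_span_singleton'] at hx
        obtain ⟨y, rfl⟩ := hx
        rw [RingHom.comp_apply, Ideal.Quotient.eq_zero_iff_mem]
        show τ.symm (y * algebraMap B₀ C₀ (σ a)) ∈ _
        rw [map_mul, hcompat, RingEquiv.symm_apply_apply]
        exact Ideal.mul_mem_left _ _ (Ideal.mem_span_singleton_self _))
    have hρsurj : Function.Surjective ρ := by
      apply Ideal.Quotient.lift_surjective_of_surjective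
      exact Ideal.Quotient.mk_surjective.comp τ.symm.surjective
    let g : (C₀ ⧸ Ideal.span {algebraMap B₀ C₀ (σ a)}) →ₗ[B₀]
        (C ⧸ Ideal.span {algebraMap A C a}) :=
      { toFun := ρ
        map_add' := map_add ρ
        map_smul' := by
          intro b x
          obtain ⟨c, rfl⟩ := Ideal.Quotient.mk_surjective x
          show ρ (b • Ideal.Quotient.mk _ c) = (σ.symm b : A) • ρ (Ideal.Quotient.mk _ c)
          rw [Algebra.smul_def, Algebra.smul_def, map_mul]
          congr 1
          show Ideal.Quotient.mk _ (τ.symm (algebraMap B₀ C₀ b)) = _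
          rw [hcompat]
          rfl }
    have hNB : IsNoetherian B₀ (C ⧸ Ideal.span {algebraMap A C a}) :=
      isNoetherian_of_surjective g (LinearMap.range_eq_top.mpr hρsurj)
    letI : SMul B₀ A := ⟨fun b a' => σ.symm b * a'⟩
    haveI : IsScalarTower B₀ A (C ⧸ Ideal.span {algebraMap A C a}) := ⟨fun b a' x => by
      show (σ.symm b * a') • x = (σ.symm b : A) • (a' • x)
      rw [mul_smul]⟩
    exact isNoetherian_of_tower B₀ hNB

end Groth.Agent.Lib.Helper2.KAabs
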