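import Groth.Agent.Lib.Helper2.KAabs

/-!
Helper library (helper2): orders in finite extensions of the fraction field of a one-dimensional
Noetherian domain and the "sandwiched ring" form of Krull–Akizuki.
-/

set_option autoImplicit false

namespace Groth.Agent.Lib.Helper2.KAorder

open Module

universe u

section order

variable (A K L : Type*) [CommRing A] [IsDomain A]
    [Field K] [Algebra A K] [IsFractionRing A K]
    [Field L] [Algebra K L] [Algebra A L] [IsScalarTower A K L]

/-- the `A`-algebra generated by a finite `K`-basis of `L` of integral elements is a finite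
`A`-module with fraction field `L` -/
lemma order_of_basis {ι : Type*} [Finite ι] (b : Basis ι K L) (hb : ∀ i, IsIntegral A (b i)) :
    Module.Finite A (Algebra.adjoin A (Set.range b)) ∧
      IsFractionRing (Algebra.adjoin A (Set.range b)) L := by
  classical
  haveI := Fintype.ofFinite ι
  refine ⟨?_, ?_⟩
  · show Module.Finite A (Subalgebra.toSubmodule (Algebra.adjoin A (Set.range b)))
    rw [Module.Finite.iff_fg]
    refine fg_adjoin_of_finite (Set.finite_range b) ?_
    rintro _ ⟨i, rfl⟩
    exact hb i
  · haveI : FaithfulSMul (Algebra.adjoin A (Set.range b)) L :=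
      (faithfulSMul_iff_algebraMap_injective _ _).mpr Subtype.val_injective
    refine IsFractionRing.of_field _ _ fun z => ?_
    obtain ⟨d, hd⟩ := IsLocalization.exist_integer_multiples_of_finset (nonZeroDivisors A)
      (Finset.univ.image (fun i => b.repr z i))
    have hd0 : algebraMap A L (d : A) ≠ 0 := by
      rw [IsScalarTower.algebraMap_apply A K L]
      intro h
      have h1 := (algebraMap K L).injective (h.trans (map_zero _).symm)
      exact nonZeroDivisors.ne_zero d.2 (IsFractionRing.injective A K (h1.trans (map_zero _).symm))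
    have hmem : algebraMap A L (d : A) * z ∈ Algebra.adjoin A (Set.range b) := by
      have hz : z = ∑ i, b.repr z i • b i := (b.sum_repr z).symm
      rw [hz, Finset.mul_sum]
      refine Subalgebra.sum_mem _ fun i _ => ?_
      obtain ⟨a, ha⟩ := hd (b.repr z i) (Finset.mem_image_of_mem _ (Finset.mem_univ i))
      have ha' : algebraMap A K a = algebraMap A K d * b.repr z i := by
        rw [ha, Algebra.smul_def]
      have : algebraMap A L (d : A) * (b.repr z i • b i) = a • b i := by
        rw [Algebra.smul_def (b.repr z i), ← mul_assoc, IsScalarTower.algebraMap_apply A K L,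
          ← map_mul, ← Algebra.smul_def, ← ha', algebraMap_smul]
      rw [this]
      exact Subalgebra.smul_mem _ (Algebra.subset_adjoin (Set.mem_range_self i)) a
    refine ⟨⟨_, hmem⟩, ⟨algebraMap A L d, Subalgebra.algebraMap_mem _ _⟩, ?_⟩
    show z = (algebraMap A L (d : A) * z) / algebraMap A L (d : A)
    field_simp

omit [IsDomain A] [IsFractionRing A K] in
/-- a finite subalgebra of `L` over a Noetherian domain of dimension `≤ 1` is Noetherian of
dimension `≤ 1` -/
lemma order_props [IsDomain A] [IsNoetherianRing A] [Ring.KrullDimLE 1 A] (A' : Subalgebra A L)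
    [Module.Finite A A'] :
    IsNoetherianRing A' ∧ Ring.KrullDimLE 1 A' := by
  have hA1 : ∀ p : Ideal A, p ≠ ⊥ → p.IsPrime → p.IsMaximal :=
    Ring.krullDimLE_one_iff_of_noZeroDivisors.mp inferInstance
  haveI : Algebra.IsIntegral A A' := Algebra.IsIntegral.of_finite A A'
  refine ⟨isNoetherian_of_tower A (isNoetherian_of_isNoetherianRing_of_finite A A'), ?_⟩
  rw [Ring.krullDimLE_one_iff_of_noZeroDivisors]
  intro P hP0 hPprime
  have hc : P.comap (algebraMap A A') ≠ ⊥ := fun h => hP0 (Ideal.eq_bot_of_comap_eq_bot h)
  have : (P.comap (algebraMap A A')).IsMaximal := hA1 _ hc (Ideal.comap_isPrime _ _)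
  exact Ideal.isMaximal_of_isIntegral_of_isMaximal_comap P this

end order

/-- Krull–Akizuki for a ring `A` between `R` and a finite extension `L` of `Frac R`, when `A`
spans `L` over `K = Frac R`. -/
theorem isNoetherianRing_of_span_eq_top (R K : Type*) (L : Type u) [CommRing R] [IsDomain R]
    [IsNoetherianRing R] [Ring.KrullDimLE 1 R] [Field K] [Field L]
    [Algebra R K] [IsFractionRing R K] [Algebra K L] [FiniteDimensional K L] [Algebra R L]
    [IsScalarTower R K L] (A : Type*) [CommRing A] [Algebra R A] [Algebra A L]
    [IsScalarTower R A L] (hA : Function.Injective (algebraMap A L))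
    (hspan : Submodule.span K (Set.range (algebraMap A L)) = ⊤) :
    IsNoetherianRing A ∧ Ring.KrullDimLE 1 A := by
  classical
  have hRL : Function.Injective (algebraMap R L) := by
    rw [IsScalarTower.algebraMap_eq R K L]
    exact (algebraMap K L).injective.comp (IsFractionRing.injective R K)
  -- a basis inside `A`
  let b₀ := Basis.ofSpan hspan.ge
  have hb₀ : ∀ i, ∃ a : A, algebraMap A L a = b₀ i := fun i =>
    Basis.ofSpan_subset hspan.ge (Set.mem_range_self i)
  haveI : Finite ((linearIndepOn_empty K id).extend
      (Set.empty_subset (Set.range (algebraMap A L)))) :=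
    (FiniteDimensional.fintypeBasisIndex b₀).finite
  haveI := Fintype.ofFinite ((linearIndepOn_empty K id).extend
      (Set.empty_subset (Set.range (algebraMap A L))))
  obtain ⟨y, hy0, hy⟩ := exists_integral_multiples R K (Finset.univ.image b₀)
  have hyK : IsUnit (algebraMap R K y) :=
    IsUnit.mk0 _ (fun h => hy0 (IsFractionRing.injective R K (h.trans (map_zero _).symm)))
  let b := b₀.isUnitSMul (w := fun _ => algebraMap R K y) (fun _ => hyK)
  have hb : ∀ i, b i = y • b₀ i := by
    intro i
    rw [Basis.isUnitSMul_apply, algebraMap_smul]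
  have hbint : ∀ i, IsIntegral R (b i) := by
    intro i
    rw [hb]
    exact hy _ (Finset.mem_image_of_mem _ (Finset.mem_univ i))
  obtain ⟨hfin, hfrac⟩ := order_of_basis R K L b hbint
  obtain ⟨hN₁, hD₁⟩ := order_props R L (Algebra.adjoin R (Set.range b))
  -- the image of `A`
  let Ā : Subalgebra R L := (IsScalarTower.toAlgHom R A L).range
  have hle : Algebra.adjoin R (Set.range b) ≤ Ā := by
    rw [Algebra.adjoin_le_iff]
    rintro _ ⟨i, rfl⟩
    obtain ⟨a, ha⟩ := hb₀ i
    refine ⟨y • a, ?_⟩
    rw [hb, ← ha]
    show algebraMap A L (y • a) = y • algebraMap A L a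
    rw [Algebra.smul_def, map_mul, ← IsScalarTower.algebraMap_apply R A L, ← Algebra.smul_def]
  letI alg₁ : Algebra (Algebra.adjoin R (Set.range b)) Ā := (Subalgebra.inclusion hle).toAlgebra
  haveI : IsScalarTower (Algebra.adjoin R (Set.range b)) Ā L :=
    IsScalarTower.of_algebraMap_eq fun _ => rfl
  obtain ⟨hN, hD, -⟩ := KAabs.main (A := Algebra.adjoin R (Set.range b)) (C := Ā) (L := L)
    Subtype.val_injective
  let e : A ≃ₐ[R] Ā := AlgEquiv.ofInjective (IsScalarTower.toAlgHom R A L) hA
  refine ⟨isNoetherianRing_of_ringEquiv Ā e.symm.toRingEquiv, ?_⟩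
  rw [Ring.krullDimLE_iff, ringKrullDim_eq_of_ringEquiv e.toRingEquiv]
  exact Ring.krullDimLE_iff.mp hD

end Groth.Agent.Lib.Helper2.KAorder
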