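import Groth.Agent.Lib.Helper2.IntNum6
import Groth.Agent.Lib.Helper17.Serre
import Groth.Agent.Lib.Helper29.QCohStalk
import Groth.Agent.Lib.Helper28.IdealDual
import Groth.Agent.Lib.Helper18.Cyc.UnitStalk
import Mathlib
set_option backward.isDefEq.respectTransparency.types false
set_option autoImplicit false
set_option linter.style.haveILetI false

/-!
# Restriction to an effective Cartier divisor (Kleiman's lemma)

For a coherent module `F` and an effective Cartier divisor `D` containing no associated point of `F`, the sequence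
`0 → F ⊗ I_D → F → F ⊗ O_D → 0` is exact; hence `[F ⊗ O_D] = (1 - [I_D ⊗ -]) [F]` in `K'_0`.
-/

universe u
open CategoryTheory CategoryTheory.Limits AlgebraicGeometry Opposite TopologicalSpace MonoidalCategory

namespace Groth.Agent.Lib.Helper2.KL

section Algebra

open TensorProduct

/-- tensoring a map out of a cyclic module, whose generator goes to an `M`-regular element of a free module of rank
one, is injective -/
theorem lTensor_injective_of_gen {R M A B : Type*} [CommRing R] [AddCommGroup M] [Module R M]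
    [AddCommGroup A] [Module R A] [AddCommGroup B] [Module R B]
    (i : A →ₗ[R] B) (a : A) (ha : ∀ a' : A, ∃ r : R, a' = r • a) (e : B ≃ₗ[R] R)
    (hreg : ∀ m : M, e (i a) • m = 0 → m = 0) : Function.Injective (LinearMap.lTensor M i) := by
  have hform : ∀ z : M ⊗[R] A, ∃ m : M, z = m ⊗ₜ[R] a := by
    intro z
    induction z using TensorProduct.induction_on with
    | zero => exact ⟨0, (TensorProduct.zero_tmul _ _).symm⟩
    | tmul m a' =>
      obtain ⟨r, rfl⟩ := ha a'
      exact ⟨r • m, by rw [TensorProduct.smul_tmul]⟩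
    | add z w hz hw =>
      obtain ⟨m, rfl⟩ := hz
      obtain ⟨m', rfl⟩ := hw
      exact ⟨m + m', (TensorProduct.add_tmul _ _ _).symm⟩
  rw [injective_iff_map_eq_zero]
  intro z hz
  obtain ⟨m, rfl⟩ := hform z
  have h1 : (TensorProduct.rid R M) (LinearMap.lTensor M e.toLinearMap (LinearMap.lTensor M i (m ⊗ₜ[R] a))) = 0 := by
    rw [hz, map_zero, map_zero]
  rw [LinearMap.lTensor_tmul, LinearMap.lTensor_tmul, TensorProduct.rid_tmul] at h1
  rw [hreg m h1, TensorProduct.zero_tmul]

variable {R : Type u} [CommRing R]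

/-- tensoring a short exact sequence on the left stays short exact as soon as the first map stays injective -/
theorem shortExact_tensorLeft_of_injective (T : ShortComplex (ModuleCat.{u} R)) (hT : T.ShortExact)
    (N : ModuleCat.{u} R) (hinj : Function.Injective (LinearMap.lTensor N T.f.hom)) :
    (T.map (tensorLeft N)).ShortExact := by
  haveI := hT.mono_f
  haveI := hT.epi_g
  have hm : Mono (N ◁ T.f) := by
    rw [ModuleCat.mono_iff_injective]
    exact hinj
  have hsurj : Function.Surjective T.g.hom := (ModuleCat.epi_iff_surjective _).1 inferInstance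
  have he : Epi (N ◁ T.g) := by
    rw [ModuleCat.epi_iff_surjective]
    exact LinearMap.lTensor_surjective N hsurj
  have hx : (T.map (tensorLeft N)).Exact := by
    rw [ShortComplex.ShortExact.moduleCat_exact_iff_function_exact]
    exact lTensor_exact N
      ((ShortComplex.ShortExact.moduleCat_exact_iff_function_exact T).1 hT.exact) hsurj
  exact { exact := hx
          mono_f := hm
          epi_g := he }

end Algebra

section Scheme

open Groth.Agent.Lib.Helper28.QCohLoc Groth.Agent.Lib.Helper29.QCohStalk Groth.Agent.Lib.Helper28.GenLocus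
  Groth.Agent.Lib.Helper28.IdealDual Groth.Agent.Lib.Helper18

variable {X : Scheme.{u}}

/-- a nonzero section killed by `f` has an associated point at which `f` vanishes -/
theorem exists_isAssPoint_of_smul_eq_zero (F : X.Modules) [F.IsQuasicoherent] {U : X.Opens} (hU : IsAffineOpen U)
    (f : Γ(X, U)) (m : Γ(F, U)) (hm : m ≠ 0) (hfm : (f • m : Γ(F, U)) = 0) :
    ∃ (y : X) (hy : y ∈ U), Curv2.IsAssPoint F y ∧ ¬ IsUnit (X.presheaf.germ U y hy f) := by
  obtain ⟨y, hy, hw, hne⟩ := exists_isWeakAssPoint_of_ne_zero hU (isLocOn_of_isQuasicoherent F hU) m hm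
  refine ⟨y, hy, (isAssPoint_iff_isWeakAssPoint F y).2 hw, fun hu => hne ?_⟩
  have h1 := congrArg (gm F U y hy) hfm
  rw [gm_smul, gm_zero] at h1
  exact eq_zero_of_isUnit_smul hu h1

/-- the germ of `f` acts injectively on the stalks of `F` over `U`, if `f` is invertible at the associated points of
`F` in `U` -/
theorem germ_smul_eq_zero (F : X.Modules) [F.IsQuasicoherent] {U : X.Opens} (hU : IsAffineOpen U) (f : Γ(X, U))
    (hass : ∀ (y : X) (hy : y ∈ U), Curv2.IsAssPoint F y → IsUnit (X.presheaf.germ U y hy f))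
    (x : X) (hx : x ∈ U) (μ : F.presheaf.stalk x) (h : X.presheaf.germ U x hx f • μ = 0) : μ = 0 := by
  have hloc := isLocOn_of_isQuasicoherent F hU
  obtain ⟨s, m, hs, hsm⟩ := exists_germ_smul_eq F hU hloc x hx μ
  have h1 : gm F U x hx (f • m) = 0 := by
    rw [gm_smul, ← hsm, smul_comm, h, smul_zero]
  obtain ⟨t, ht, htm⟩ := exists_smul_eq_zero_of_gm_eq_zero F hU hloc x hx _ h1
  have hm' : (t • m : Γ(F, U)) = 0 := by
    by_contra hne
    obtain ⟨y, hy, hassy, hnu⟩ := exists_isAssPoint_of_smul_eq_zero F hU f (t • m) hne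
      (by rw [smul_comm]; exact htm)
    exact hnu (hass y hy hassy)
  have h2 : gm F U x hx m = 0 := by
    have := congrArg (gm F U x hx) hm'
    rw [gm_smul, gm_zero] at this
    exact eq_zero_of_isUnit_smul ht this
  rw [h2] at hsm
  exact eq_zero_of_isUnit_smul hs hsm

/-- a local generator of a module generates its stalks -/
theorem exists_smul_germ_of_isGen {L : X.Modules} {U : X.Opens} {g : Γ(L, U)} (hg : IsGen L U g) (x : X)
    (hx : x ∈ U) (a' : L.presheaf.stalk x) : ∃ r : X.presheaf.stalk x, a' = r • gm L U x hx g := by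
  obtain ⟨V, hxV, t, rfl⟩ := TopCat.Presheaf.exists_germ_eq L.presheaf a'
  obtain ⟨c, hc⟩ := (hg (V ⊓ U) inf_le_right).2 (res L inf_le_left t)
  refine ⟨X.presheaf.germ (V ⊓ U) x ⟨hxV, hx⟩ c, ?_⟩
  have h1 := congrArg (gm L (V ⊓ U) x ⟨hxV, hx⟩) hc
  beta_reduce at h1
  rw [gm_smul, gm_res, gm_res] at h1
  exact h1.symm

end Scheme

section Main

open Groth.Agent.Lib.Helper28.QCohLoc Groth.Agent.Lib.Helper28.GenLocus
  Groth.Agent.Lib.Helper28.IdealDual Groth.Agent.Lib.Helper18 Groth.Agent.Lib.Helper16.Stk
  Groth.Agent.Lib.Helper17.Serre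

variable {X : Scheme.{u}}

/-- the stalk of the inclusion of the ideal module sends the germ of a section to the germ of the underlying function -/
theorem stk_map_idealModι_germ (I : X.IdealSheafData) (x : X) (U : X.Opens) (hx : x ∈ U)
    (g : Γ(ClSub.idealMod I, U)) :
    (CycUnitStalk.e X x).symm (((stk x).map (ClSub.idealModι I)).hom
      (Groth.Agent.Lib.Helper29.QCohStalk.gm (ClSub.idealMod I) U x hx g)) =
      X.presheaf.germ U x hx (iota I g) := by
  rw [LinearEquiv.symm_apply_eq]
  have h1 : ((stk x).map (ClSub.idealModι I)).hom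
      (Groth.Agent.Lib.Helper29.QCohStalk.gm (ClSub.idealMod I) U x hx g) =
      CycUnitStalk.gF X x U hx (iota I g) :=
    DerSch.stalkFunctor_map_germ x (ClSub.idealModι I) U hx g
  rw [h1]
  exact (CycUnitStalk.smul_one X x U hx (iota I g)).symm

theorem lTensor_stalk_injective (F : X.Modules) (hF : Coh.IsCoh F) (I : X.IdealSheafData)
    (hI : BlowUp.IsEffCartierIdeal I) (hass : ∀ x ∈ I.support, ¬ Curv2.IsAssPoint F x) (x : X) :
    Function.Injective (LinearMap.lTensor ((stk x).obj F) ((stk x).map (ClSub.idealModι I)).hom) := by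
  haveI : F.IsQuasicoherent := hF.1
  obtain ⟨U, hxU, f, hf, hIU⟩ := hI x
  obtain ⟨g, hg, hgf⟩ := exists_isGen_idealMod I U.2 f hf hIU
  refine lTensor_injective_of_gen _ (Groth.Agent.Lib.Helper29.QCohStalk.gm (ClSub.idealMod I) U.1 x hxU g)
    (exists_smul_germ_of_isGen hg x hxU) (CycUnitStalk.e X x).symm ?_
  intro μ hμ
  have hval := stk_map_idealModι_germ I x U.1 hxU g
  rw [hgf] at hval
  have hμ' : X.presheaf.germ U.1 x hxU f • μ = 0 := by
    rw [← hval]; exact hμ
  refine germ_smul_eq_zero F U.2 f ?_ x hxU μ hμ'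
  intro y hy hassy
  by_contra hnu
  apply hass y _ hassy
  rw [Scheme.IdealSheafData.mem_support_iff_of_mem (U := U) hy, hIU, Scheme.zeroLocus_span,
    Scheme.zeroLocus_singleton]
  intro hyf
  exact hnu ((Scheme.mem_basicOpen _ _ _ hy).1 hyf)

/-- **Kleiman's lemma**: `0 → F ⊗ I_D → F ⊗ O_X → F ⊗ O_D → 0` is exact when no associated point of `F` lies on `D` -/
theorem shortExact_tensor_idealSES (F : X.Modules) (hF : Coh.IsCoh F) (I : X.IdealSheafData)
    (hI : BlowUp.IsEffCartierIdeal I) (hass : ∀ x ∈ I.support, ¬ Curv2.IsAssPoint F x) :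
    ((idealSES I).map (DCoh.tensorBi.obj F)).ShortExact := by
  apply shortExact_of_forall_stalk
  intro x
  have hTx : ((idealSES I).map (stk x)).ShortExact := (idealSES_shortExact I).map_of_exact (stk x)
  have h := shortExact_tensorLeft_of_injective ((idealSES I).map (stk x)) hTx ((stk x).obj F)
    (lTensor_stalk_injective F hF I hI hass x)
  refine ShortComplex.shortExact_of_iso (ShortComplex.isoMk (stalkTensorIso x F (idealSES I).X₁)
    (stalkTensorIso x F (idealSES I).X₂) (stalkTensorIso x F (idealSES I).X₃) ?_ ?_) h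
  · exact (stalkTensorIso_natR x F (idealSES I).f).symm
  · exact (stalkTensorIso_natR x F (idealSES I).g).symm

end Main

end Groth.Agent.Lib.Helper2.KL
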