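import Groth.Agent.Lib.Helper2.KL1
import Groth.Agent.Lib.Helper6.K0Loc
import Mathlib
set_option backward.isDefEq.respectTransparency.types false
set_option autoImplicit false
set_option linter.style.haveILetI false

/-!
# Kleiman's lemma in `K'_0` and for intersection numbers
-/

universe u
open CategoryTheory CategoryTheory.Limits AlgebraicGeometry Opposite TopologicalSpace MonoidalCategory

namespace Groth.Agent.Lib.Helper2.KL

open Groth.Agent.Lib.Helper6.K0Filt Groth.Agent.Lib.Helper6.K0Len Groth.Agent.Lib.Helper6.K0Op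
  Groth.Agent.Lib.Helper6.K0Tensor Groth.Agent.Lib.Helper4.Snapper Groth.Agent.Lib.Helper2.IntNum1
  Groth.Agent.Lib.Helper2.IntNum2 Groth.Agent.Lib.Helper2.IntNum4 Groth.Agent.Lib.Helper6.K0Loc
  Groth.Agent.Lib.Helper17.Serre

variable {X : Scheme.{u}}

/-- **Kleiman's lemma in `K'_0`**: `[F ⊗ O_D] = (1 - [I_D ⊗ -]) [F]` when no associated point of `F` lies on `D` -/
theorem cls_tensor_quotMod [IsLocallyNoetherian X] (F : X.Modules) (hF : Coh.IsCoh F) (I : X.IdealSheafData)
    (hI : BlowUp.IsEffCartierIdeal I) (hass : ∀ x ∈ I.support, ¬ Curv2.IsAssPoint F x) :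
    cls (CohB1.tensorMod F (ClSub.quotMod I)) = (1 - Top (ClSub.idealMod I)) (cls F) := by
  have hinv := Groth.Agent.Lib.Helper28.IdealDual.isInvertible_idealMod I hI
  have hcI : Coh.IsCoh (ClSub.idealMod I) := isCoh_of_isInvertible _ hinv
  have hcO : Coh.IsCoh (Coh.structureModule X) := Groth.Agent.Lib.Helper6.DevRed.isCoh_structureModule
  have hcQ : Coh.IsCoh (ClSub.quotMod I) := Groth.Agent.Lib.Helper6.DevRed.isCoh_quotMod I
  have hS := shortExact_tensor_idealSES F hF I hI hass
  have h1 := cls_add hS (isCoh_tensorMod F _ hF hcI) (isCoh_tensorMod F _ hF hcO) (isCoh_tensorMod F _ hF hcQ)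
  have h2 : cls (CohB1.tensorMod F (Coh.structureModule X)) = cls F :=
    cls_iso (Groth.Agent.Lib.Helper28.AmpleUnit.nonempty_tensor_unit_iso F).some (isCoh_tensorMod F _ hF hcO)
  have h3 : cls (CohB1.tensorMod F (ClSub.idealMod I)) = Top (ClSub.idealMod I) (cls F) := by
    rw [Top_cls _ hinv F hF]
    exact cls_iso (Groth.Agent.Lib.Helper6.K0Inv.braidIso F (ClSub.idealMod I)) (isCoh_tensorMod F _ hF hcI)
  have h1' : cls (CohB1.tensorMod F (Coh.structureModule X)) =
      cls (CohB1.tensorMod F (ClSub.idealMod I)) + cls (CohB1.tensorMod F (ClSub.quotMod I)) := h1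
  rw [h2, h3] at h1'
  have h4 : (1 - Top (ClSub.idealMod I)) (cls F) = cls F - Top (ClSub.idealMod I) (cls F) := rfl
  rw [h4]
  exact eq_sub_of_add_eq' h1'.symm

theorem Psi_snoc {r : ℕ} (M : _root_.Fin r → X.Modules) (A : X.Modules) :
    Psi (Fin.snoc M A : _root_.Fin (r + 1) → X.Modules) = Psi M * (1 - Top A) := by
  unfold Psi
  rw [List.finRange_succ_last, List.map_append, List.prod_append, List.map_map, List.map_singleton,
    List.prod_singleton]
  congr 2
  · apply List.map_congr_left
    intro i _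
    simp only [Function.comp_apply]
    congr 2
    exact Fin.snoc_castSucc (α := fun _ => X.Modules) A M i
  · congr 2
    exact Fin.snoc_last (α := fun _ => X.Modules) A M

section int

variable (k : Type u) [Field k] (X : Scheme.{u}) [X.Over (Spec (CommRingCat.of k))]
  [IsProper (X ↘ Spec (CommRingCat.of k))]

/-- **Kleiman's lemma for intersection numbers**: `(M_1 ⋯ M_r · I_D ; F) = (M_1 ⋯ M_r ; F ⊗ O_D)` -/
theorem intNum_snoc_idealMod (d : ℕ) (hd : topologicalKrullDim X ≤ d) {r : ℕ} (M : _root_.Fin r → X.Modules)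
    (hM : ∀ i, PicF.IsInvertible (M i)) (F : X.Modules) (hF : Coh.IsCoh F) (D : X.IdealSheafData)
    (hD : BlowUp.IsEffCartierIdeal D) (hass : ∀ x ∈ D.support, ¬ Curv2.IsAssPoint F x) :
    FGA.intNum k X d (Fin.snoc M (ClSub.idealMod D)) F =
      FGA.intNum k X d M (CohB1.tensorMod F (ClSub.quotMod D)) := by
  haveI : IsNoetherian X := isNoetherian k X
  have hinv := Groth.Agent.Lib.Helper28.IdealDual.isInvertible_idealMod D hD
  have hcQ : Coh.IsCoh (ClSub.quotMod D) := Groth.Agent.Lib.Helper6.DevRed.isCoh_quotMod D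
  rw [intNum_eq k X d hd _ (by
      intro i
      refine Fin.lastCases ?_ (fun j => ?_) i
      · rw [Fin.snoc_last]; exact hinv
      · rw [Fin.snoc_castSucc]; exact hM j) F hF,
    intNum_eq k X d hd M hM _ (isCoh_tensorMod F _ hF hcQ), Psi_snoc,
    cls_tensor_quotMod F hF D hD hass]
  rfl

end int

end Groth.Agent.Lib.Helper2.KL
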