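import Mathlib

/-!
Helper library (helper2): Kaplansky's theorem — a direct summand of a direct sum of countably
generated modules is a direct sum of countably generated modules (Zorn version, no ordinals).
-/

set_option autoImplicit false

namespace Groth.Agent.Lib.Helper2.Kaplansky

open Submodule

variable {R : Type*} [CommRing R] {M : Type*} [AddCommGroup M] [Module R M]

/-- countably generated submodule -/
def CG (L : Submodule R M) : Prop := ∃ s : Set M, s.Countable ∧ span R s = L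

lemma CG.map {M' : Type*} [AddCommGroup M'] [Module R M'] {L : Submodule R M} (h : CG L)
    (f : M →ₗ[R] M') : CG (L.map f) := by
  obtain ⟨s, hs, rfl⟩ := h
  exact ⟨f '' s, hs.image f, (Submodule.map_span f s).symm⟩

lemma CG.biSup {ι : Type*} {N : ι → Submodule R M} (h : ∀ i, CG (N i)) {J : Set ι}
    (hJ : J.Countable) : CG (⨆ i ∈ J, N i) := by
  choose G hGc hG using h
  refine ⟨⋃ i ∈ J, G i, hJ.biUnion fun i _ => hGc i, ?_⟩
  rw [Submodule.span_iUnion₂]
  simp_rw [hG]

lemma cg_iff_top (L : Submodule R M) :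
    CG L ↔ ∃ s : Set L, s.Countable ∧ span R s = ⊤ := by
  constructor
  · rintro ⟨s, hs, hsL⟩
    refine ⟨L.subtype ⁻¹' s, hs.preimage_of_injOn (Set.injOn_of_injective L.injective_subtype), ?_⟩
    apply Submodule.map_injective_of_injective L.injective_subtype
    rw [Submodule.map_span, Submodule.map_subtype_top, Set.image_preimage_eq_of_subset, hsL]
    intro x hx
    have : x ∈ L := hsL ▸ Submodule.subset_span hx
    exact ⟨⟨x, this⟩, rfl⟩
  · rintro ⟨s, hs, hst⟩
    refine ⟨L.subtype '' s, hs.image _, ?_⟩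
    rw [← Submodule.map_span, hst, Submodule.map_subtype_top]

section

variable {ι : Type*} (N : ι → Submodule R M)

/-- partial sums of a family of submodules -/
def MJ (J : Set ι) : Submodule R M := ⨆ i ∈ J, N i

lemma MJ_mono {J J' : Set ι} (h : J ⊆ J') : MJ N J ≤ MJ N J' := biSup_mono h

lemma MJ_union (J J' : Set ι) : MJ N (J ∪ J') = MJ N J ⊔ MJ N J' := iSup_union

lemma MJ_iUnion {κ : Sort*} (J : κ → Set ι) : MJ N (⋃ k, J k) = ⨆ k, MJ N (J k) := iSup_iUnion _ _

lemma MJ_univ : MJ N Set.univ = ⨆ i, N i := by simp [MJ]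

lemma MJ_empty : MJ N ∅ = ⊥ := by simp [MJ]

lemma map_MJ_le {π : M →ₗ[R] M} {J J' : Set ι} (h : ∀ i ∈ J, (N i).map π ≤ MJ N J') :
    (MJ N J).map π ≤ MJ N J' := by
  unfold MJ
  rw [Submodule.map_iSup]
  refine iSup_le fun i => ?_
  rw [Submodule.map_iSup]
  exact iSup_le fun hi => h i hi

/-- the countable closure step -/
lemma exists_adapted (htop : ⨆ i, N i = ⊤) (hc : ∀ i, CG (N i)) (π : M →ₗ[R] M)
    (J : Set ι) (hJ : (MJ N J).map π ≤ MJ N J) (J₀ : Set ι) (hJ₀ : J₀.Countable) :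
    ∃ J' : Set ι, J ⊆ J' ∧ J₀ ⊆ J' ∧ (J' \ J).Countable ∧ (MJ N J').map π ≤ MJ N J' := by
  classical
  choose G hGc hG using hc
  have hsupp : ∀ x : M, ∃ F : Finset ι, x ∈ ⨆ i ∈ F, N i := fun x => by
    have : x ∈ ⨆ i, N i := by rw [htop]; trivial
    exact (Submodule.mem_iSup_iff_exists_finset).mp this
  choose supp hsupp using hsupp
  let T : ι → Set ι := fun i => ⋃ g ∈ G i, (supp (π g) : Set ι)
  have hT : ∀ i, (T i).Countable := fun i =>
    (hGc i).biUnion fun g _ => (supp (π g)).countable_toSet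
  let step : Set ι → Set ι := fun S => S ∪ ⋃ i ∈ S, T i
  let Jn : ℕ → Set ι := fun n => step^[n] J₀
  have hJn : ∀ n, (Jn n).Countable := by
    intro n
    induction n with
    | zero => exact hJ₀
    | succ n ih =>
      show (step^[n + 1] J₀).Countable
      rw [Function.iterate_succ_apply']
      exact ih.union (ih.biUnion fun i _ => hT i)
  let Jinf : Set ι := ⋃ n, Jn n
  have hJinf : Jinf.Countable := Set.countable_iUnion hJn
  have hclosed : ∀ i ∈ Jinf, T i ⊆ Jinf := by
    intro i hi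
    obtain ⟨n, hn⟩ := Set.mem_iUnion.mp hi
    intro j hj
    refine Set.mem_iUnion.mpr ⟨n + 1, ?_⟩
    show j ∈ step^[n + 1] J₀
    rw [Function.iterate_succ_apply']
    exact Or.inr (Set.mem_biUnion hn hj)
  have hmap : ∀ i ∈ Jinf, (N i).map π ≤ MJ N Jinf := by
    intro i hi
    rw [← hG i, Submodule.map_span, Submodule.span_le]
    rintro _ ⟨g, hg, rfl⟩
    have h1 := hsupp (π g)
    have hsub : (supp (π g) : Set ι) ⊆ Jinf := fun j hj =>
      hclosed i hi (Set.mem_biUnion hg hj)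
    have h2 : (⨆ j ∈ supp (π g), N j) ≤ MJ N Jinf :=
      iSup₂_le fun j hj => le_biSup N (hsub (Finset.mem_coe.mpr hj))
    exact h2 h1
  refine ⟨J ∪ Jinf, Set.subset_union_left, ?_, ?_, ?_⟩
  · exact (Set.subset_iUnion Jn 0).trans Set.subset_union_right
  · refine hJinf.mono ?_
    rintro x ⟨hx | hx, hxJ⟩
    · exact absurd hx hxJ
    · exact hx
  · rw [MJ_union, Submodule.map_sup]
    exact sup_le_sup hJ (map_MJ_le N hmap)

end

lemma sSupIndep_insert {α : Type*} [CompleteLattice α] [IsModularLattice α] {s : Set α} {a : α}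
    (hs : sSupIndep s) (ha : Disjoint a (sSup s)) : sSupIndep (insert a s) := by
  intro b hb
  by_cases hba : b = a
  · subst hba
    refine ha.mono_right (sSup_le_sSup ?_)
    rintro x ⟨hx | hx, hxb⟩
    · exact absurd hx hxb
    · exact hx
  · have hbs : b ∈ s := by
      rcases hb with hb | hb
      · exact absurd hb hba
      · exact hb
    have h1 : Disjoint b (sSup (s \ {b})) := hs hbs
    have h2 : Disjoint (b ⊔ sSup (s \ {b})) a := by
      refine (ha.mono_right ?_).symm
      exact sup_le (le_sSup hbs) (sSup_le_sSup Set.sdiff_subset)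
    have h3 := h1.disjoint_sup_right_of_disjoint_sup_left h2
    refine h3.mono_right ?_
    apply sSup_le
    rintro x ⟨hx | hx, hxb⟩
    · rw [hx]; exact le_sup_right
    · exact le_sup_of_le_left (le_sSup ⟨hx, hxb⟩)

/-- **Kaplansky's theorem** (lattice form). -/
theorem main {ι : Type*} (N : ι → Submodule R M) (hind : iSupIndep N) (htop : ⨆ i, N i = ⊤)
    (hc : ∀ i, CG (N i)) (P Q : Submodule R M) (hPQ : IsCompl P Q) :
    ∃ 𝒟 : Set (Submodule R P), sSupIndep 𝒟 ∧ sSup 𝒟 = ⊤ ∧ ∀ L ∈ 𝒟, CG L := by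
  classical
  let πP : M →ₗ[R] P := P.projectionOnto Q hPQ
  let π : M →ₗ[R] M := P.subtype ∘ₗ πP
  have hπP : ∀ x : P, πP x = x := fun x => Submodule.projectionOnto_apply_left hPQ x
  have hπ_idem : ∀ x, π (π x) = π x := fun x => by
    show ((πP ((πP x : P) : M) : P) : M) = ((πP x : P) : M)
    rw [hπP]
  have hcompl : ∀ J : Set ι, IsCompl (MJ N J) (MJ N Jᶜ) := fun J =>
    ⟨hind.disjoint_biSup_biSup disjoint_compl_right, by
      rw [codisjoint_iff, ← MJ_union, Set.union_compl_self, MJ_univ, htop]⟩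
  let X : Set (Set ι × Set (Submodule R P)) :=
    {p | (MJ N p.1).map π ≤ MJ N p.1 ∧ sSupIndep p.2 ∧ (∀ L ∈ p.2, CG L) ∧
      sSup p.2 = (MJ N p.1).map πP}
  obtain ⟨m, hm⟩ : ∃ m, Maximal (· ∈ X) m := by
    apply zorn_le₀
    intro c hcX hchain
    refine ⟨(⋃ p ∈ c, p.1, ⋃ p ∈ c, p.2), ⟨?_, ?_, ?_, ?_⟩, ?_⟩
    · show (MJ N (⋃ p ∈ c, p.1)).map π ≤ MJ N (⋃ p ∈ c, p.1)
      simp_rw [MJ_iUnion, Submodule.map_iSup]
      exact iSup₂_mono fun p hp => (hcX hp).1
    · show sSupIndep (⋃ p ∈ c, p.2)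
      have : (⋃ p ∈ c, p.2) = ⋃₀ (Prod.snd '' c) := by
        rw [Set.sUnion_image]
      rw [this]
      apply iSupIndep_sUnion_of_directed
      · rintro _ ⟨a, ha, rfl⟩ _ ⟨b, hb, rfl⟩
        rcases hchain.total ha hb with h | h
        · exact ⟨b.2, ⟨b, hb, rfl⟩, h.2, le_rfl⟩
        · exact ⟨a.2, ⟨a, ha, rfl⟩, le_rfl, h.2⟩
      · rintro _ ⟨a, ha, rfl⟩
        exact (hcX ha).2.1
    · intro L hL
      obtain ⟨p, hp, hLp⟩ := Set.mem_iUnion₂.mp hL
      exact (hcX hp).2.2.1 L hLp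
    · show sSup (⋃ p ∈ c, p.2) = (MJ N (⋃ p ∈ c, p.1)).map πP
      simp_rw [sSup_iUnion, MJ_iUnion, Submodule.map_iSup]
      exact iSup_congr fun p => iSup_congr fun hp => (hcX hp).2.2.2
    · intro z hz
      exact ⟨Set.subset_biUnion_of_mem (u := fun p : Set ι × Set (Submodule R P) => p.1) hz,
        Set.subset_biUnion_of_mem (u := fun p : Set ι × Set (Submodule R P) => p.2) hz⟩
  obtain ⟨J, 𝒟⟩ := m
  obtain ⟨⟨hJad, h𝒟ind, h𝒟cg, h𝒟sup⟩, hmax⟩ := hm
  have hJuniv : J = Set.univ := by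
    by_contra hne
    obtain ⟨i, hi⟩ := (Set.ne_univ_iff_exists_notMem J).mp hne
    obtain ⟨J', hJJ', hiJ', hcount, hJ'ad⟩ :=
      exists_adapted N htop hc π J hJad {i} (Set.countable_singleton i)
    let pJ : M →ₗ[R] M := (MJ N J).projection (MJ N Jᶜ) (hcompl J)
    have hpJ_mem : ∀ x, pJ x ∈ MJ N J := fun x => Submodule.projection_apply_mem _ x
    have hpJ_id : ∀ x ∈ MJ N J, pJ x = x := fun x hx =>
      Submodule.projection_apply_of_mem_left _ hx
    let δ : M →ₗ[R] P := πP ∘ₗ (LinearMap.id - pJ ∘ₗ π)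
    have hδ : ∀ y, δ y = πP (y - pJ (π y)) := fun y => rfl
    let C : Submodule R P := (MJ N (J' \ J)).map δ
    have hdisj : Disjoint C ((MJ N J).map πP) := by
      rw [Submodule.disjoint_def]
      rintro w ⟨y, hy, rfl⟩ ⟨a, ha, haw⟩
      have hv : pJ (π y) ∈ MJ N J := hpJ_mem _
      have h1 : π a ∈ MJ N J := hJad (Submodule.mem_map_of_mem ha)
      have h2 : π (pJ (π y)) ∈ MJ N J := hJad (Submodule.mem_map_of_mem hv)
      have h3 : π a = π y - π (pJ (π y)) := by
        have h := congrArg (fun z : P => (z : M)) haw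
        have h' : π a = π (y - pJ (π y)) := h
        rw [h', map_sub]
      have h4 : π a = 0 := by
        have e1 : pJ (π a) = π a := hpJ_id _ h1
        have e2 : pJ (π a) = pJ (π y) - π (pJ (π y)) := by
          rw [h3, map_sub, hpJ_id _ h2]
        calc π a = π (π a) := (hπ_idem a).symm
          _ = π (pJ (π a)) := by rw [e1]
          _ = π (pJ (π y) - π (pJ (π y))) := by rw [e2]
          _ = 0 := by rw [map_sub, hπ_idem, sub_self]
      apply Subtype.ext
      rw [← haw]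
      exact h4
    have hJ'split : MJ N J' = MJ N J ⊔ MJ N (J' \ J) := by
      rw [← MJ_union, Set.union_sdiff_cancel hJJ']
    have hsup : C ⊔ (MJ N J).map πP = (MJ N J').map πP := by
      apply le_antisymm
      · apply sup_le
        · rintro _ ⟨y, hy, rfl⟩
          have hy' : y ∈ MJ N J' := MJ_mono N Set.sdiff_subset hy
          refine ⟨y - pJ (π y), ?_, rfl⟩
          exact sub_mem hy' (MJ_mono N hJJ' (hpJ_mem _))
        · exact Submodule.map_mono (MJ_mono N hJJ')
      · rw [hJ'split, Submodule.map_sup]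
        apply sup_le le_sup_right
        rintro _ ⟨y, hy, rfl⟩
        have : πP y = δ y + πP (pJ (π y)) := by
          rw [hδ, map_sub, sub_add_cancel]
        rw [this]
        exact add_mem (Submodule.mem_sup_left ⟨y, hy, rfl⟩)
          (Submodule.mem_sup_right ⟨_, hpJ_mem _, rfl⟩)
    have hCcg : CG C := (CG.biSup hc hcount).map δ
    have hp'X : ((J', insert C 𝒟) : Set ι × Set (Submodule R P)) ∈ X := by
      refine ⟨hJ'ad, ?_, ?_, ?_⟩
      · exact sSupIndep_insert h𝒟ind (h𝒟sup ▸ hdisj)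
      · intro L hL
        rcases hL with rfl | hL
        · exact hCcg
        · exact h𝒟cg L hL
      · show sSup (insert C 𝒟) = (MJ N J').map πP
        rw [sSup_insert, h𝒟sup, hsup]
    have hle : ((J, 𝒟) : Set ι × Set (Submodule R P)) ≤ (J', insert C 𝒟) :=
      ⟨hJJ', Set.subset_insert _ _⟩
    have := hmax hp'X hle
    exact hi (this.1 (hiJ' rfl))
  refine ⟨𝒟, h𝒟ind, ?_, h𝒟cg⟩
  rw [h𝒟sup, hJuniv, MJ_univ, htop, Submodule.map_top]
  exact Submodule.range_projectionOnto hPQ

end Groth.Agent.Lib.Helper2.Kaplansky
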