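import Groth.Agent.Lib.Helper2.Kaplansky

/-!
Helper library (helper2): Kaplansky — projective modules over local rings are free.
-/

set_option autoImplicit false

namespace Groth.Agent.Lib.Helper2.KaplanskyLocal

open Module

section general

variable {R : Type*} [CommRing R] {V P : Type*} [AddCommGroup V] [Module R V]
  [AddCommGroup P] [Module R P]

/-- a pair of maps with bijective composite splits off `range Φ` -/
lemma isCompl_range_ker (Φ : V →ₗ[R] P) (Ψ : P →ₗ[R] V)
    (hinj : Function.Injective (Ψ ∘ₗ Φ)) (hsurj : Function.Surjective (Ψ ∘ₗ Φ)) :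
    IsCompl (LinearMap.range Φ) (LinearMap.ker Ψ) ∧ Function.Injective Φ := by
  refine ⟨⟨?_, ?_⟩, ?_⟩
  · rw [Submodule.disjoint_def]
    rintro _ ⟨v, rfl⟩ hv
    have : (Ψ ∘ₗ Φ) v = (Ψ ∘ₗ Φ) 0 := by
      rw [map_zero]
      exact hv
    rw [hinj this, map_zero]
  · rw [codisjoint_iff, eq_top_iff]
    intro p _
    obtain ⟨v, hv⟩ := hsurj (Ψ p)
    have : p = Φ v + (p - Φ v) := by abel
    rw [this]
    refine Submodule.add_mem_sup ⟨v, rfl⟩ ?_
    rw [LinearMap.mem_ker, map_sub]
    have : Ψ (Φ v) = Ψ p := hv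
    rw [this, sub_self]
  · intro v w h
    apply hinj
    show Ψ (Φ v) = Ψ (Φ w)
    rw [h]

end general

variable {R : Type*} [CommRing R] [IsLocalRing R] {P : Type*} [AddCommGroup P] [Module R P]

/-- matrices over a local ring which are diagonal with unit entries modulo the maximal ideal are
invertible -/
lemma isUnit_of_diag {S : Type*} [Fintype S] [DecidableEq S] (A : Matrix S S R)
    (hd : ∀ i, IsUnit (A i i)) (ho : ∀ i j, i ≠ j → ¬ IsUnit (A i j)) : IsUnit A := by
  rw [Matrix.isUnit_iff_isUnit_det]
  rw [← IsLocalRing.notMem_maximalIdeal, ← IsLocalRing.residue_eq_zero_iff, RingHom.map_det]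
  have : (IsLocalRing.residue R).mapMatrix A =
      Matrix.diagonal (fun i => IsLocalRing.residue R (A i i)) := by
    ext i j
    by_cases hij : i = j
    · subst hij
      simp
    · rw [Matrix.diagonal_apply_ne _ hij]
      show IsLocalRing.residue R (A i j) = 0
      rw [IsLocalRing.residue_eq_zero_iff, IsLocalRing.mem_maximalIdeal]
      exact ho i j hij
  rw [this, Matrix.det_diagonal, Finset.prod_eq_zero_iff]
  rintro ⟨i, -, hi⟩
  rw [IsLocalRing.residue_eq_zero_iff] at hi
  exact (IsLocalRing.notMem_maximalIdeal.mpr (hd i)) hi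

/-- **Kaplansky's lemma**: every element of a projective module over a local ring lies in a free
direct summand. -/
theorem exists_free_summand [Module.Projective R P] (x : P) :
    ∃ F₀ C : Submodule R P, IsCompl F₀ C ∧ x ∈ F₀ ∧ Module.Free R F₀ := by
  classical
  obtain ⟨s, hs⟩ := Module.projective_def'.mp (inferInstance : Module.Projective R P)
  set l : (P →₀ R) →ₗ[R] P := Finsupp.linearCombination R id with hl
  have hls : ∀ p, l (s p) = p := fun p => LinearMap.congr_fun hs p
  -- a basis minimising the support of `s x`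
  let n : Module.Basis P R (P →₀ R) → ℕ := fun b => (b.repr (s x)).support.card
  obtain ⟨_, ⟨b, rfl⟩, hmin⟩ := WellFounded.has_min Nat.lt_wfRel.wf (Set.range n)
    ⟨_, ⟨Finsupp.basisSingleOne, rfl⟩⟩
  have hmin' : ∀ b' : Module.Basis P R (P →₀ R), n b ≤ n b' := fun b' =>
    not_lt.mp (hmin _ ⟨b', rfl⟩)
  set a : P →₀ R := b.repr (s x) with ha
  set S : Finset P := a.support with hS
  have hsx : s x = ∑ i ∈ S, a i • b i := by
    have := b.linearCombination_repr (s x)
    rw [Finsupp.linearCombination_apply, Finsupp.sum] at this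
    exact this.symm
  -- minimality: no coefficient is a combination of the others
  have hstar : ∀ i ∈ S, ∀ r : P → R, a i ≠ ∑ j ∈ S.erase i, r j * a j := by
    intro i hi r hai
    let χ : (P →₀ R) →ₗ[R] R := ∑ j ∈ S.erase i, r j • b.coord j
    have hχ : ∀ v, χ v = ∑ j ∈ S.erase i, r j * b.repr v j := by
      intro v
      simp only [χ, LinearMap.sum_apply, LinearMap.smul_apply, Module.Basis.coord_apply,
        smul_eq_mul]
    have hχi : χ (b i) = 0 := by
      rw [hχ]
      refine Finset.sum_eq_zero fun j hj => ?_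
      rw [Module.Basis.repr_self, Finsupp.single_apply,
        if_neg (Finset.ne_of_mem_erase hj).symm, mul_zero]
    have hχx : χ (s x) = a i := by
      rw [hχ, hai]
    let ψ : (P →₀ R) →ₗ[R] (P →₀ R) := χ.smulRight (b i)
    have hψ : ∀ v, ψ v = χ v • b i := fun v => rfl
    have hψψ : ∀ v, ψ (ψ v) = 0 := by
      intro v
      rw [hψ, hψ, map_smul, hχi, smul_zero, zero_smul]
    let φ : (P →₀ R) ≃ₗ[R] (P →₀ R) :=
      LinearEquiv.ofLinear (LinearMap.id + ψ) (LinearMap.id - ψ)
        (LinearMap.ext fun v => by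
          show (v - ψ v) + ψ (v - ψ v) = v
          rw [map_sub, hψψ]
          abel)
        (LinearMap.ext fun v => by
          show (v + ψ v) - ψ (v + ψ v) = v
          rw [map_add, hψψ]
          abel)
    let b' := b.map φ
    have hb' : b'.repr (s x) = a.erase i := by
      show b.repr (φ.symm (s x)) = a.erase i
      have : φ.symm (s x) = s x - ψ (s x) := rfl
      rw [this, map_sub, hψ, hχx, map_smul, Module.Basis.repr_self, Finsupp.erase_eq_sub_single,
        Finsupp.smul_single, smul_eq_mul, mul_one]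
    have hlt : n b' < n b := by
      show (b'.repr (s x)).support.card < a.support.card
      rw [hb', Finsupp.support_erase]
      exact Finset.card_erase_lt_of_mem hi
    exact absurd (hmin' b') (not_le.mpr hlt)
  -- the coefficient matrix
  let c : P → P → R := fun i j => b.repr (s (l (b i))) j
  have hrel : ∀ j, a j = ∑ i ∈ S, a i * c i j := by
    intro j
    have h1 : s x = ∑ i ∈ S, a i • s (l (b i)) := by
      conv_lhs => rw [← hls x, hsx]
      rw [map_sum, map_sum]
      refine Finset.sum_congr rfl fun i _ => ?_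
      rw [map_smul, map_smul]
    have h2 := congrArg (fun v => b.repr v j) h1
    simp only [map_sum, map_smul, Finsupp.coe_finsetSum, Finsupp.coe_smul, Finset.sum_apply,
      Pi.smul_apply, smul_eq_mul] at h2
    exact h2
  have hc1 : ∀ j ∈ S, IsUnit (c j j) := by
    intro j hj
    rcases IsLocalRing.isUnit_or_isUnit_one_sub_self (c j j) with h | h
    · exact h
    · exfalso
      obtain ⟨u, hu⟩ := h
      have h1 : a j * (1 - c j j) = ∑ i ∈ S.erase j, a i * c i j := by
        have := hrel j
        rw [← Finset.add_sum_erase S _ hj] at this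
        rw [mul_sub, mul_one]
        exact sub_eq_of_eq_add' this
      refine hstar j hj (fun i => (↑u⁻¹ : R) * c i j) ?_
      have h2 : a j = (↑u⁻¹ : R) * (a j * (1 - c j j)) := by
        rw [← hu, mul_comm (a j), ← mul_assoc, Units.inv_mul, one_mul]
      rw [h2, h1, Finset.mul_sum]
      refine Finset.sum_congr rfl fun i _ => ?_
      ring
  have hc2 : ∀ i ∈ S, ∀ j ∈ S, i ≠ j → ¬ IsUnit (c i j) := by
    intro i hi j hj hij h
    obtain ⟨u, hu⟩ := h
    have hi' : i ∈ S.erase j := Finset.mem_erase.mpr ⟨hij, hi⟩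
    have hj' : j ∈ S.erase i := Finset.mem_erase.mpr ⟨hij.symm, hj⟩
    have h1 : a j * (1 - c j j) = ∑ i' ∈ S.erase j, a i' * c i' j := by
      have := hrel j
      rw [← Finset.add_sum_erase S _ hj] at this
      rw [mul_sub, mul_one]
      exact sub_eq_of_eq_add' this
    rw [← Finset.add_sum_erase _ _ hi'] at h1
    -- a i * c i j = a j (1 - c j j) - Σ_{i' ≠ i, j} a i' c i' j
    have h2 : a i = (↑u⁻¹ : R) * (a j * (1 - c j j) -
        ∑ i' ∈ (S.erase j).erase i, a i' * c i' j) := by
      rw [h1, add_sub_cancel_right, ← hu, mul_comm (a i), ← mul_assoc, Units.inv_mul, one_mul]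
    refine hstar i hi (fun k => if k = j then (↑u⁻¹ : R) * (1 - c j j) else
      - ((↑u⁻¹ : R) * c k j)) ?_
    have hrw : (S.erase i) = insert j ((S.erase j).erase i) := by
      ext k
      simp only [Finset.mem_erase, Finset.mem_insert]
      constructor
      · rintro ⟨hki, hk⟩
        by_cases hkj : k = j
        · exact Or.inl hkj
        · exact Or.inr ⟨hki, hkj, hk⟩
      · rintro (rfl | ⟨hki, -, hk⟩)
        · exact ⟨hij.symm, hj⟩
        · exact ⟨hki, hk⟩
    have hjn : j ∉ (S.erase j).erase i := by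
      simp
    rw [hrw, Finset.sum_insert hjn, if_pos rfl]
    conv_lhs => rw [h2]
    rw [mul_sub, Finset.mul_sum]
    have : ∑ k ∈ (S.erase j).erase i, (if k = j then (↑u⁻¹ : R) * (1 - c j j) else
        - ((↑u⁻¹ : R) * c k j)) * a k =
        - ∑ k ∈ (S.erase j).erase i, (↑u⁻¹ : R) * (a k * c k j) := by
      rw [← Finset.sum_neg_distrib]
      refine Finset.sum_congr rfl fun k hk => ?_
      have hkj : k ≠ j := by
        intro h
        exact hjn (h ▸ hk)
      rw [if_neg hkj]
      ring
    rw [this]
    ring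
  -- the matrix on `S`
  let A : Matrix S S R := fun i j => c i j
  have hA : IsUnit A := isUnit_of_diag A (fun i => hc1 i i.2)
    (fun i j hij => hc2 i i.2 j j.2 (fun h => hij (Subtype.ext h)))
  have hAdet : IsUnit A.det := (Matrix.isUnit_iff_isUnit_det A).mp hA
  let Φ : (S → R) →ₗ[R] P := Fintype.linearCombination R (fun i : S => l (b i))
  let Ψ : P →ₗ[R] (S → R) := LinearMap.pi (fun j : S => (b.coord j) ∘ₗ s)
  have hΨΦ : ∀ v, Ψ (Φ v) = Matrix.vecMul v A := by
    intro v
    ext j
    show b.repr (s (Φ v)) j = _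
    rw [Fintype.linearCombination_apply, map_sum, map_sum, Finsupp.coe_finsetSum,
      Finset.sum_apply]
    show _ = ∑ i, v i * A i j
    refine Finset.sum_congr rfl fun i _ => ?_
    rw [map_smul, map_smul]
    rfl
  have hinj : Function.Injective (Ψ ∘ₗ Φ) := by
    intro v w h
    have h' : Matrix.vecMul v A = Matrix.vecMul w A := by
      rw [← hΨΦ, ← hΨΦ]
      exact h
    have := congrArg (fun u => Matrix.vecMul u A⁻¹) h'
    simpa [Matrix.vecMul_vecMul, Matrix.mul_nonsing_inv A hAdet] using this
  have hsurj : Function.Surjective (Ψ ∘ₗ Φ) := by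
    intro w
    refine ⟨Matrix.vecMul w A⁻¹, ?_⟩
    show Ψ (Φ _) = w
    rw [hΨΦ, Matrix.vecMul_vecMul, Matrix.nonsing_inv_mul A hAdet, Matrix.vecMul_one]
  obtain ⟨hcompl, hΦinj⟩ := isCompl_range_ker Φ Ψ hinj hsurj
  refine ⟨LinearMap.range Φ, LinearMap.ker Ψ, hcompl, ?_, ?_⟩
  · refine ⟨fun i : S => a i, ?_⟩
    rw [Fintype.linearCombination_apply]
    have : ∑ i : S, a i • l (b i) = ∑ i ∈ S, a i • l (b i) :=
      Finset.sum_coe_sort S (fun i => a i • l (b i))
    rw [this, ← hls x, hsx, map_sum]
    refine Finset.sum_congr rfl fun i _ => ?_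
    rw [map_smul]
  · exact Module.Free.of_equiv (LinearEquiv.ofInjective Φ hΦinj)

omit [IsLocalRing R] in
lemma projective_of_isCompl [Module.Projective R P] (L L' : Submodule R P) (h : IsCompl L L') :
    Module.Projective R L :=
  Module.Projective.of_split L.subtype (L.projectionOnto L' h)
    (Submodule.projectionOnto_comp_subtype h)

/-- one step of the countable construction -/
lemma step_exists [Module.Projective R P] (G C : Submodule R P) (h : IsCompl G C) (w : P) :
    ∃ F C' : Submodule R P, IsCompl (G ⊔ F) C' ∧ Disjoint G F ∧ Module.Free R F ∧ w ∈ G ⊔ F := by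
  haveI : Module.Projective R C :=
    Module.Projective.of_split C.subtype (C.projectionOnto G h.symm)
      (Submodule.projectionOnto_comp_subtype h.symm)
  obtain ⟨F₀, C₀, hc, hmem, hfree⟩ :=
    exists_free_summand (R := R) (P := C) (C.projectionOnto G h.symm w)
  have hinj : Function.Injective C.subtype := C.injective_subtype
  have hFC : F₀.map C.subtype ≤ C := Submodule.map_subtype_le C F₀
  have hdFC : Disjoint (F₀.map C.subtype) (C₀.map C.subtype) := by
    rw [disjoint_iff, ← Submodule.map_inf _ hinj, hc.disjoint.eq_bot, Submodule.map_bot]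
  have hsFC : F₀.map C.subtype ⊔ C₀.map C.subtype = C := by
    rw [← Submodule.map_sup, hc.codisjoint.eq_top, Submodule.map_subtype_top]
  refine ⟨F₀.map C.subtype, C₀.map C.subtype, ⟨?_, ?_⟩, h.disjoint.mono_right hFC, ?_, ?_⟩
  · refine hdFC.disjoint_sup_left_of_disjoint_sup_right ?_
    rw [hsFC]
    exact h.disjoint
  · rw [codisjoint_iff, sup_assoc, hsFC]
    exact h.codisjoint.eq_top
  · haveI := hfree
    exact Module.Free.of_equiv (Submodule.equivMapOfInjective C.subtype hinj F₀)
  · have hw : w = G.projection C h w + C.projection G h.symm w :=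
      (Submodule.projection_add_projection_eq_self h w).symm
    rw [hw]
    refine Submodule.add_mem_sup (Submodule.projection_apply_mem h w) ?_
    exact ⟨_, hmem, rfl⟩

/-- a countably generated projective module over a local ring is free -/
theorem free_of_countable [Module.Projective R P] (ω : ℕ → P)
    (hω : Submodule.span R (Set.range ω) = ⊤) : Module.Free R P := by
  classical
  choose Fn Cn hcompl hdisj hfree hmem using step_exists (R := R) (P := P)
  let seq : ℕ → {p : Submodule R P × Submodule R P // IsCompl p.1 p.2} := fun n =>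
    Nat.rec ⟨(⊥, ⊤), isCompl_bot_top⟩
      (fun n p => ⟨(p.1.1 ⊔ Fn p.1.1 p.1.2 p.2 (ω n), Cn p.1.1 p.1.2 p.2 (ω n)),
        hcompl _ _ _ _⟩) n
  let G : ℕ → Submodule R P := fun n => (seq n).1.1
  let F : ℕ → Submodule R P := fun n => Fn (seq n).1.1 (seq n).1.2 (seq n).2 (ω n)
  have hG0 : G 0 = ⊥ := rfl
  have hGsucc : ∀ n, G (n + 1) = G n ⊔ F n := fun n => rfl
  have hGF : ∀ n, Disjoint (G n) (F n) := fun n => hdisj _ _ _ _
  have hFfree : ∀ n, Module.Free R (F n) := fun n => hfree _ _ _ _
  have hωG : ∀ n, ω n ∈ G (n + 1) := fun n => hmem _ _ _ _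
  have hsup : ∀ n, (Finset.range n).sup F = G n := by
    intro n
    induction n with
    | zero => simp [hG0]
    | succ n ih =>
      rw [Finset.range_add_one, Finset.sup_insert, ih, hGsucc, sup_comm]
  have hindep : ∀ n, (Finset.range n).SupIndep F := by
    intro n
    induction n with
    | zero => simp
    | succ n ih =>
      rw [Finset.range_add_one]
      refine Finset.SupIndep.insert ih ?_
      rw [hsup]
      exact (hGF n).symm
  have hI : iSupIndep F := by
    rw [iSupIndep_iff_supIndep]
    intro s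
    exact (hindep (s.sup id + 1)).subset (Finset.subset_range_sup_succ s)
  have htop : iSup F = ⊤ := by
    rw [eq_top_iff, ← hω, Submodule.span_le]
    rintro _ ⟨n, rfl⟩
    have h1 : G (n + 1) ≤ iSup F := by
      rw [← hsup (n + 1)]
      exact Finset.sup_le fun i _ => le_iSup F i
    exact h1 (hωG n)
  have hInt : DirectSum.IsInternal F :=
    DirectSum.isInternal_submodule_of_iSupIndep_of_iSup_eq_top hI htop
  haveI := hFfree
  exact Module.Free.of_equiv (LinearEquiv.ofBijective (DirectSum.coeLinearMap F) hInt)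

omit [IsLocalRing R] in
lemma free_of_sSupIndep (𝒟 : Set (Submodule R P)) (h𝒟ind : sSupIndep 𝒟) (h𝒟top : sSup 𝒟 = ⊤)
    (hfree : ∀ L : 𝒟, Module.Free R (L : Submodule R P)) : Module.Free R P := by
  classical
  have hInt : DirectSum.IsInternal (fun L : 𝒟 => (L : Submodule R P)) :=
    DirectSum.isInternal_submodule_of_iSupIndep_of_iSup_eq_top ((sSupIndep_iff 𝒟).mp h𝒟ind)
      ((sSup_eq_iSup' 𝒟).symm.trans h𝒟top)
  exact Module.Free.of_equiv (LinearEquiv.ofBijective (DirectSum.coeLinearMap _) hInt)

lemma free_of_sSupIndep_of_cg [Module.Projective R P] (𝒟 : Set (Submodule R P))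
    (h𝒟ind : sSupIndep 𝒟) (h𝒟top : sSup 𝒟 = ⊤) (h𝒟cg : ∀ L ∈ 𝒟, Kaplansky.CG L) :
    Module.Free R P := by
  classical
  refine free_of_sSupIndep 𝒟 h𝒟ind h𝒟top ?_
  rintro ⟨L, hL⟩
  have hLc : IsCompl L (sSup (𝒟 \ {L})) := by
    refine ⟨h𝒟ind hL, ?_⟩
    rw [codisjoint_iff, ← sSup_insert, Set.insert_sdiff_singleton, Set.insert_eq_of_mem hL,
      h𝒟top]
  haveI : Module.Projective R L := projective_of_isCompl L _ hLc
  obtain ⟨t, htc, htop'⟩ := (Kaplansky.cg_iff_top L).mp (h𝒟cg L hL)
  obtain ⟨ω, hω⟩ := (htc.insert 0).exists_eq_range ⟨0, Set.mem_insert 0 t⟩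
  refine free_of_countable ω ?_
  rw [← hω, Submodule.span_insert_zero, htop']

/-- **Kaplansky**: projective modules over local rings are free. -/
theorem free_of_projective [Module.Projective R P] : Module.Free R P := by
  classical
  obtain ⟨s, hs⟩ := Module.projective_def'.mp (inferInstance : Module.Projective R P)
  set l : (P →₀ R) →ₗ[R] P := Finsupp.linearCombination R id with hl
  have hid : Function.Bijective (l ∘ₗ s) := by
    rw [hs]
    exact Function.bijective_id
  obtain ⟨hcompl, hsinj⟩ := isCompl_range_ker s l hid.1 hid.2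
  let b : Module.Basis P R (P →₀ R) := Finsupp.basisSingleOne
  let N : P → Submodule R (P →₀ R) := fun p => Submodule.span R {b p}
  have hind : iSupIndep N := b.linearIndependent.iSupIndep_span_singleton
  have htop : ⨆ p, N p = ⊤ := by
    rw [← Submodule.span_range_eq_iSup, b.span_eq]
  have hcg : ∀ p, Kaplansky.CG (N p) := fun p => ⟨{b p}, Set.countable_singleton _, rfl⟩
  obtain ⟨𝒟, h𝒟ind, h𝒟top, h𝒟cg⟩ :=
    Kaplansky.main N hind htop hcg (LinearMap.range s) (LinearMap.ker l) hcompl
  haveI : Module.Projective R (LinearMap.range s) :=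
    Module.Projective.of_equiv (LinearEquiv.ofInjective s hsinj)
  haveI : Module.Free R (LinearMap.range s) :=
    free_of_sSupIndep_of_cg (R := R) (P := LinearMap.range s) 𝒟 h𝒟ind h𝒟top h𝒟cg
  exact Module.Free.of_equiv (LinearEquiv.ofInjective s hsinj).symm

end Groth.Agent.Lib.Helper2.KaplanskyLocal
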