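import Mathlib
import Groth.Agent.Lib.Helper2.Kodaira4
set_option backward.isDefEq.respectTransparency.types false
set_option autoImplicit false
set_option linter.style.haveILetI false

/-!
# Helper2 — Kodaira5: the volume `limsup h⁰(L^m) / m^d` (in `ℝ≥0∞`): positivity ⇒ big, limsup along multiples,
homogeneity.
-/

universe u
open CategoryTheory CategoryTheory.Limits AlgebraicGeometry TopologicalSpace Filter
open scoped ENNReal Topology

namespace Groth.Agent.Lib.Helper2.Kodaira

open Groth.Agent.Lib.Helper2.KodSub Groth.Agent.Lib.Helper8.EulerK Groth.Agent.Lib.Helper2.KodUB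
  Groth.Agent.Lib.Helper6.K0Op Groth.Agent.Lib.Helper28.GenLocus

theorem natCast_div_pow_eq_ofReal (x m d : ℕ) (hm : 1 ≤ m) :
    (x : ℝ≥0∞) / (m : ℝ≥0∞) ^ d = ENNReal.ofReal ((x : ℝ) / (m : ℝ) ^ d) := by
  have hm0 : (0 : ℝ) < (m : ℝ) := by exact_mod_cast hm
  rw [ENNReal.ofReal_div_of_pos (by positivity), ENNReal.ofReal_natCast,
    ENNReal.ofReal_pow hm0.le, ENNReal.ofReal_natCast]

variable (k : Type u) [Field k] {X : Scheme.{u}} [X.Over (Spec (CommRingCat.of k))]
  [IsProper (X ↘ Spec (CommRingCat.of k))]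

/-- the normalized count of sections `h⁰(L^m) / m^d` -/
noncomputable def vf (L : X.Modules) (d : ℕ) (m : ℕ) : ℝ≥0∞ :=
  (h0 k (CohB1.tensorPow L m) : ℝ≥0∞) / (m : ℝ≥0∞) ^ d

theorem vf_eq_ofReal (L : X.Modules) (d m : ℕ) (hm : 1 ≤ m) :
    vf k L d m = ENNReal.ofReal ((h0 k (CohB1.tensorPow L m) : ℝ) / (m : ℝ) ^ d) :=
  natCast_div_pow_eq_ofReal _ m d hm

variable [IsIntegral X]

/-- positive volume implies big -/
theorem big_of_limsup_pos (d : ℕ) (hd : topologicalKrullDim X = (d : WithBot ℕ∞))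
    {H : X.Modules} (hH : CohB1.IsAmple H) {L : X.Modules} (hL : PicF.IsInvertible L)
    (h : 0 < limsup (vf k L d) atTop) (A : X.Modules) (hA : CohB1.IsAmple A) :
    ∃ m : ℕ, 0 < m ∧ Sub A (CohB1.tensorPow L m) := by
  obtain ⟨c, hc0, hc⟩ := exists_between h
  have hctop : c ≠ ⊤ := ne_top_of_lt hc
  have hfr := frequently_lt_of_lt_limsup (by isBoundedDefault) hc
  rw [frequently_atTop] at hfr
  have hC : 0 < c.toReal := ENNReal.toReal_pos hc0.ne' hctop
  obtain ⟨a, ha⟩ := freq_of_real_lb (fun m => h0 k (CohB1.tensorPow L m)) d c.toReal hC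
    (fun M₀ => by
      obtain ⟨m, hm, hlt⟩ := hfr (max M₀ 1)
      have hm1 : 1 ≤ m := (le_max_right _ _).trans hm
      refine ⟨m, (le_max_left _ _).trans hm, ?_⟩
      rw [vf_eq_ofReal k L d m hm1, ENNReal.lt_ofReal_iff_toReal_lt hctop] at hlt
      have hm0 : (0 : ℝ) < (m : ℝ) := by exact_mod_cast hm1
      have hmd : (0 : ℝ) < (m : ℝ) ^ d := by positivity
      rw [lt_div_iff₀ hmd] at hlt
      exact hlt.le)
  exact sub_of_growth k d hd hH hL a ha A hA

/-- the limsup along multiples of `a` equals the full limsup -/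
theorem limsup_vf_mul (d : ℕ) (hd : topologicalKrullDim X = (d : WithBot ℕ∞))
    {H : X.Modules} (hH : CohB1.IsAmple H) {L : X.Modules} (hL : PicF.IsInvertible L) (a : ℕ) (ha : 0 < a) :
    limsup (fun j : ℕ => vf k L d (a * j)) atTop = limsup (vf k L d) atTop := by
  have htend : Tendsto (fun j : ℕ => a * j) atTop atTop :=
    tendsto_atTop_atTop.2 (fun b => ⟨b, fun m hm => le_trans hm (Nat.le_mul_of_pos_left m ha)⟩)
  apply le_antisymm
  · exact Tendsto.limsup_comp_le_limsup (u := vf k L d) (v := fun j : ℕ => a * j) htend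
  · by_cases hz : limsup (vf k L d) atTop = 0
    · rw [hz]; exact bot_le
    have hpos : 0 < limsup (vf k L d) atTop := pos_iff_ne_zero.2 hz
    obtain ⟨A₁, p, -, -, -, heff⟩ := eff_eventually_of_big k hH hL (big_of_limsup_pos k d hd hH hL hpos)
    set c : ℕ := p * p + a with hc
    let kf : ℕ → ℕ := fun m => (m + p * p) / a + 1
    have hkf1 : ∀ m, m + p * p < a * kf m := by
      intro m
      have := Nat.lt_div_mul_add (a := m + p * p) ha
      rw [Nat.mul_comm ((m + p * p) / a) a] at this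
      show m + p * p < a * ((m + p * p) / a + 1)
      rw [Nat.mul_add, Nat.mul_one]
      exact this
    have hkf2 : ∀ m, a * kf m ≤ m + c := by
      intro m
      have := Nat.mul_div_le (m + p * p) a
      show a * ((m + p * p) / a + 1) ≤ m + c
      rw [Nat.mul_add, Nat.mul_one]
      omega
    -- the key inequality
    have key : ∀ m : ℕ, 1 ≤ m →
        vf k L d m ≤ ENNReal.ofReal ((1 + (c : ℝ) / (m : ℝ)) ^ d) * vf k L d (a * kf m) := by
      intro m hm
      set K := a * kf m with hK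
      have hK1 : 1 ≤ K := by have := hkf1 m; omega
      obtain ⟨r, hr⟩ : ∃ r, K = m + r := ⟨K - m, by have := hkf1 m; omega⟩
      have hr1 : p * p ≤ r := by have := hkf1 m; omega
      have hLm := isInvertible_tensorPow hL m
      obtain ⟨ψ, -⟩ := exists_tensorPow_add_iso hL m r K hr
      have hsub : Sub (CohB1.tensorPow L m) (CohB1.tensorPow L K) :=
        (Sub.tensor_eff hLm (Sub.refl _) (heff r hr1)).trans (Sub.of_iso ψ)
      have hle : h0 k (CohB1.tensorPow L m) ≤ h0 k (CohB1.tensorPow L K) :=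
        hsub.hh_le k (isCoh_of_isInvertible _ (isInvertible_tensorPow hL K))
      rw [vf_eq_ofReal k L d m hm, vf_eq_ofReal k L d K hK1, ← ENNReal.ofReal_mul (by positivity)]
      apply ENNReal.ofReal_le_ofReal
      have hm0 : (0 : ℝ) < (m : ℝ) := by exact_mod_cast hm
      have hK0 : (0 : ℝ) < (K : ℝ) := by exact_mod_cast hK1
      have hmd : (0 : ℝ) < (m : ℝ) ^ d := by positivity
      have hKd : (0 : ℝ) < (K : ℝ) ^ d := by positivity
      have h1 : (h0 k (CohB1.tensorPow L m) : ℝ) / (m : ℝ) ^ d ≤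
          (h0 k (CohB1.tensorPow L K) : ℝ) / (m : ℝ) ^ d :=
        div_le_div_of_nonneg_right (by exact_mod_cast hle) hmd.le
      have h2 : (h0 k (CohB1.tensorPow L K) : ℝ) / (m : ℝ) ^ d =
          ((K : ℝ) / (m : ℝ)) ^ d * ((h0 k (CohB1.tensorPow L K) : ℝ) / (K : ℝ) ^ d) := by
        rw [div_pow]
        field_simp
      have h3 : ((K : ℝ) / (m : ℝ)) ^ d ≤ (1 + (c : ℝ) / (m : ℝ)) ^ d := by
        apply pow_le_pow_left₀ (by positivity)
        have hKc : (K : ℝ) ≤ (m : ℝ) + (c : ℝ) := by exact_mod_cast hkf2 m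
        rw [div_le_iff₀ hm0, add_mul, one_mul, div_mul_cancel₀ _ hm0.ne']
        exact hKc
      calc _ ≤ _ := h1
        _ = _ := h2
        _ ≤ _ := mul_le_mul_of_nonneg_right h3 (by positivity)
    -- the factor tends to one
    have hlim : Tendsto (fun m : ℕ => ENNReal.ofReal ((1 + (c : ℝ) / (m : ℝ)) ^ d)) atTop (𝓝 1) := by
      have h1 := tendsto_const_div_atTop_nhds_zero_nat (c : ℝ)
      have h2 := ((h1.const_add 1).pow d)
      have h3 := (ENNReal.tendsto_ofReal h2)
      simpa using h3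
    have hlim1 : limsup (fun m : ℕ => ENNReal.ofReal ((1 + (c : ℝ) / (m : ℝ)) ^ d)) atTop = 1 :=
      hlim.limsup_eq
    have hkftend : Tendsto kf atTop atTop :=
      tendsto_atTop_atTop.2 (fun b => ⟨a * b, fun m hm => by
        have h5 := hkf1 m
        by_contra hcon
        rw [not_le] at hcon
        have : a * kf m ≤ a * b := Nat.mul_le_mul_left _ hcon.le
        omega⟩)
    calc limsup (vf k L d) atTop
        ≤ limsup ((fun m : ℕ => ENNReal.ofReal ((1 + (c : ℝ) / (m : ℝ)) ^ d)) *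
            (fun m : ℕ => vf k L d (a * kf m))) atTop := by
          refine limsup_le_limsup ?_ (by isBoundedDefault) (by isBoundedDefault)
          rw [EventuallyLE, eventually_atTop]
          exact ⟨1, fun m hm => key m hm⟩
      _ ≤ limsup (fun m : ℕ => ENNReal.ofReal ((1 + (c : ℝ) / (m : ℝ)) ^ d)) atTop *
            limsup (fun m : ℕ => vf k L d (a * kf m)) atTop := by
          apply ENNReal.limsup_mul_le'
          · left; rw [hlim1]; exact one_ne_zero
          · left; rw [hlim1]; exact ENNReal.one_ne_top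
      _ = limsup (fun m : ℕ => vf k L d (a * kf m)) atTop := by rw [hlim1, one_mul]
      _ ≤ limsup (fun j : ℕ => vf k L d (a * j)) atTop :=
          Tendsto.limsup_comp_le_limsup (u := fun j : ℕ => vf k L d (a * j)) (v := kf) hkftend

/-- **homogeneity of the volume** -/
theorem limsup_vf_pow (d : ℕ) (hd : topologicalKrullDim X = (d : WithBot ℕ∞))
    {H : X.Modules} (hH : CohB1.IsAmple H) {L : X.Modules} (hL : PicF.IsInvertible L) (a : ℕ) (ha : 0 < a) :
    limsup (vf k (CohB1.tensorPow L a) d) atTop = (a : ℝ≥0∞) ^ d * limsup (vf k L d) atTop := by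
  rw [← limsup_vf_mul k d hd hH hL a ha, ← ENNReal.limsup_const_mul_of_ne_top (by simp)]
  apply limsup_congr
  rw [eventually_atTop]
  refine ⟨1, fun m hm => ?_⟩
  have hm' : 1 ≤ a * m := Nat.mul_pos ha hm
  obtain ⟨ψ, -⟩ := exists_tensorPow_tensorPow_iso hL a m (a * m) rfl
  have ha0 : (0 : ℝ) < (a : ℝ) := by exact_mod_cast ha
  have hm0 : (0 : ℝ) < (m : ℝ) := by exact_mod_cast hm
  rw [vf_eq_ofReal k _ d m hm, vf_eq_ofReal k L d (a * m) hm', h0_iso k ψ]
  have : ((a : ℝ≥0∞)) ^ d = ENNReal.ofReal ((a : ℝ) ^ d) := by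
    rw [ENNReal.ofReal_pow ha0.le, ENNReal.ofReal_natCast]
  rw [this, ← ENNReal.ofReal_mul (by positivity)]
  congr 1
  push_cast
  rw [mul_pow]
  field_simp

end Groth.Agent.Lib.Helper2.Kodaira
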