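import Groth.Agent.Lib.Helper2.Kos9
import Groth.Agent.Lib.Helper28.TwistGen
import Groth.Agent.Lib.Helper28.QCohGlobal

/-!
# From morphisms out of the structure sheaf to global sections of tensor products (helper2)

`sig A B : A(X) ⊗ B(X) ⟶ (A ⊗ B)(X)` is the canonical map; it is surjective when `B ≅ O_X`
(`surjective_sig_of_iso_unit`), and surjectivity propagates along a Castelnuovo–Mumford type
decomposition (`surjective_sig_of_cm`).
-/

set_option backward.isDefEq.respectTransparency.types false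
set_option autoImplicit false
universe u
open CategoryTheory CategoryTheory.Limits AlgebraicGeometry Opposite TopologicalSpace MonoidalCategory

noncomputable section
namespace Groth.Agent.Lib.Helper2.Kos10

open Groth.Agent.Lib.Helper2.Kos9 Groth.Agent.Lib.Helper28.QCohLoc Groth.Agent.Lib.Helper28.TwistGen

variable {X : Scheme.{u}} (A B : X.Modules)

/-- the presheaf `U ↦ A(U) ⊗ B(U)`. -/
abbrev PP : (Opens X)ᵒᵖ ⥤ Ab.{u} := (CohB1.tensorPre A B).presheaf

/-- the canonical map `A(X) ⊗ B(X) ⟶ (A ⊗ B)(X)`. -/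
def sig : (PP A B).obj (op ⊤) ⟶ Γ(CohB1.tensorMod A B, ⊤) :=
  (toSheafify (Opens.grothendieckTopology X) (PP A B)).app (op ⊤)

/-- the map `A(X) ⊗ B(X) ⟶ A(X) ⊗ B'(X)`. -/
def pmapR {B B' : X.Modules} (g : B ⟶ B') : (PP A B).obj (op ⊤) ⟶ (PP A B').obj (op ⊤) :=
  ((PresheafOfModules.toPresheaf _).map (CohB1.toPMod A ◁ g.val)).app (op ⊤)

theorem sig_nat {B B' : X.Modules} (g : B ⟶ B') :
    sig A B ≫ ((TG A).map g).app ⊤ = pmapR A g ≫ sig A B' := by
  have h := toSheafify_naturality (Opens.grothendieckTopology X)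
    ((PresheafOfModules.toPresheaf _).map (CohB1.toPMod A ◁ g.val))
  exact (congrArg (fun t => t.app (op ⊤)) h).symm

theorem sig_nat_apply {B B' : X.Modules} (g : B ⟶ B') (w : (PP A B).obj (op ⊤)) :
    ((TG A).map g).app ⊤ (sig A B w) = sig A B' (pmapR A g w) :=
  congrArg (fun t => (ConcreteCategory.hom t) w) (sig_nat A g)

/-- evaluation of a morphism `O_X ⟶ M` at the global section `1`. -/
def ev (M : X.Modules) (y : Coh.structureModule X ⟶ M) : Γ(M, ⊤) :=
  y.app ⊤ (1 : Γ(X, ⊤))

theorem ev_comp {M N : X.Modules} (y : Coh.structureModule X ⟶ M) (f : M ⟶ N) :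
    ev N (y ≫ f) = f.app ⊤ (ev M y) := rfl

theorem ev_add {M : X.Modules} (y y' : Coh.structureModule X ⟶ M) :
    ev M (y + y') = ev M y + ev M y' := rfl

theorem ev_zero {M : X.Modules} : ev M (0 : Coh.structureModule X ⟶ M) = 0 := rfl

theorem ev_sum {M : X.Modules} {ι : Type*} (s : Finset ι) (y : ι → (Coh.structureModule X ⟶ M)) :
    ev M (∑ i ∈ s, y i) = ∑ i ∈ s, ev M (y i) := by
  classical
  induction s using Finset.induction_on with
  | empty => simp [ev_zero]
  | insert a s ha ih => rw [Finset.sum_insert ha, Finset.sum_insert ha, ev_add, ih]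

theorem ev_ofSection (M : X.Modules) (σ : Γ(M, ⊤)) : ev M (ofSection M σ) = σ := by
  have h := ofSection_app_one M σ ⊤
  rw [Groth.Agent.Lib.Helper28.QCohLoc.res_self] at h
  exact h

/-- surjectivity of `sig` propagates along a decomposition of the global sections. -/
theorem surjective_sig_of_cm (B B' : X.Modules) (μs : ℕ → (B ⟶ B')) (s : ℕ)
    (hB : Function.Surjective (sig A B))
    (hcm : ∀ y : Coh.structureModule X ⟶ (TG A).obj B',
      ∃ z : ℕ → (Coh.structureModule X ⟶ (TG A).obj B),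
        y = ∑ i ∈ Finset.range s, z i ≫ (TG A).map (μs i)) :
    Function.Surjective (sig A B') := by
  intro t
  obtain ⟨z, hz⟩ := hcm (ofSection ((TG A).obj B') t)
  have h1 : t = ∑ i ∈ Finset.range s, ((TG A).map (μs i)).app ⊤ (ev _ (z i)) := by
    have h2 := congrArg (ev ((TG A).obj B')) hz
    rw [ev_ofSection, ev_sum] at h2
    exact h2
  choose w hw using fun i => hB (ev _ (z i))
  refine ⟨∑ i ∈ Finset.range s, pmapR A (μs i) (w i), ?_⟩
  rw [map_sum, h1]
  refine Finset.sum_congr rfl (fun i _ => ?_)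
  rw [← sig_nat_apply, hw]
  rfl

theorem pmapR_id : pmapR A (𝟙 B) = 𝟙 _ := by
  unfold pmapR
  have : (𝟙 B : B ⟶ B).val = 𝟙 (CohB1.toPMod B) := rfl
  rw [this, MonoidalCategory.whiskerLeft_id, CategoryTheory.Functor.map_id]
  rfl

theorem pmapR_comp {B B' B'' : X.Modules} (g : B ⟶ B') (g' : B' ⟶ B'') :
    pmapR A (g ≫ g') = pmapR A g ≫ pmapR A g' := by
  unfold pmapR
  have : (g ≫ g').val = (show CohB1.toPMod B ⟶ CohB1.toPMod B' from g.val) ≫
      (show CohB1.toPMod B' ⟶ CohB1.toPMod B'' from g'.val) := rfl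
  rw [this, MonoidalCategory.whiskerLeft_comp, CategoryTheory.Functor.map_comp]
  rfl

/-- `sig A O_X` is an isomorphism. -/
theorem isIso_sig_unit : IsIso (sig A (Coh.structureModule X)) := by
  have hsh : Presheaf.IsSheaf (Opens.grothendieckTopology X) (PP A (Coh.structureModule X)) := by
    have e : PP A (Coh.structureModule X) ≅ A.val.presheaf :=
      (PresheafOfModules.toPresheaf _).mapIso (ρ_ (CohB1.toPMod A))
    exact (Presheaf.isSheaf_of_iso_iff e).2 A.isSheaf
  have h1 : IsIso (toSheafify (Opens.grothendieckTopology X) (PP A (Coh.structureModule X))) :=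
    isIso_toSheafify (Opens.grothendieckTopology X) hsh
  exact NatIso.isIso_app_of_isIso _ _

theorem surjective_sig_of_iso_unit (e : B ≅ Coh.structureModule X) :
    Function.Surjective (sig A B) := by
  intro t
  obtain ⟨w, hw⟩ : ∃ w, sig A (Coh.structureModule X) w = ((TG A).map e.hom).app ⊤ t :=
    ((ConcreteCategory.isIso_iff_bijective _).1 (isIso_sig_unit A)).2 _
  refine ⟨pmapR A e.inv w, ?_⟩
  rw [← sig_nat_apply, hw]
  have h1 : ((TG A).map e.hom ≫ (TG A).map e.inv).app ⊤ t = t := by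
    rw [← Functor.map_comp, Iso.hom_inv_id, CategoryTheory.Functor.map_id]
    rfl
  exact h1

end Groth.Agent.Lib.Helper2.Kos10
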