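import Groth.Agent.Lib.Helper2.Kos4
import Groth.Agent.S0022

/-!
# Regularity propagates; extensions of twists split on `P^n`, `n ≥ 2` (helper2)
-/

set_option backward.isDefEq.respectTransparency.types false
set_option autoImplicit false
universe u
open CategoryTheory CategoryTheory.Limits AlgebraicGeometry Opposite TopologicalSpace Abelian

noncomputable section

namespace Groth.Agent.Lib.Helper2.Kos7

open Groth.Agent.Lib.Helper2.Kos4 Groth.Agent.Lib.Helper2.ProjCoh3 Groth.Agent.Lib.Helper2.ProjCoh4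
  Groth.Agent.Lib.Helper2.ProjCoh5 Groth.Agent.Lib.Helper2.SerreFin2 Groth.Agent.Lib.Helper2.TwEq2
  Groth.Agent.Lib.Helper1.ModFlat

section Propagate

variable {n : ℕ} {k : Type u} [Field k]

theorem isMRegular_add (F : (CohB1.ProjSpace n k).Modules) (hF : Coh.IsCoh F) (m : ℤ)
    (h : Curv2.IsMRegular k n F m) (j : ℕ) : Curv2.IsMRegular k n F (m + j) := by
  induction j with
  | zero => simpa using h
  | succ j ih =>
    have := isMRegular_succ' F hF (m + j) ih
    have e : m + ((j + 1 : ℕ) : ℤ) = m + j + 1 := by push_cast; ring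
    rw [e]
    exact this

/-- **regularity propagates**. -/
theorem subsingleton_HH_of_isMRegular (F : (CohB1.ProjSpace n k).Modules) (hF : Coh.IsCoh F) (m : ℤ)
    (hreg : ∀ i : ℕ, 1 ≤ i → Subsingleton (Coh.HH (CohB1.ProjSpace n k)
      (CohB1.tensorMod F (Twist.twistProjSpace n k (m - i))) i))
    (i : ℕ) (r : ℤ) (hi : 1 ≤ i) (hr : m - i ≤ r) :
    Subsingleton (Coh.HH (CohB1.ProjSpace n k) (CohB1.tensorMod F (Twist.twistProjSpace n k r)) i) := by
  by_cases hin : i ≤ n
  · have h0 : Curv2.IsMRegular k n F m := fun i' h1 _ => hreg i' h1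
    obtain ⟨j, hj⟩ := Int.eq_ofNat_of_zero_le (by omega : (0 : ℤ) ≤ r + i - m)
    have h1 := isMRegular_add F hF m h0 j i hi hin
    have e : m + (j : ℤ) - i = r := by omega
    rwa [e] at h1
  · haveI : Coh.IsQCoh (CohB1.tensorMod F (Twist.twistProjSpace n k r)) :=
      (isCoh_tensor_twist F hF r).1
    exact Groth.Agent.S0022.result n k _ i (by omega)

end Propagate

section Split

variable (n : ℕ) (R : Type u) [CommRing R]

/-- `Ext^1(O(b), O(a)) = 0` on `P^n`, `n ≥ 2`. -/
theorem subsingleton_ext_one_twist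
    [HasExt.{u} (SheafOfModules.{u} (CohB1.ProjSpace n R).ringCatSheaf)] (hn : 2 ≤ n) (a b : ℤ) :
    Subsingleton (Ext (C := SheafOfModules.{u} (CohB1.ProjSpace n R).ringCatSheaf)
      (Twist.twistProjSpace n R b) (Twist.twistProjSpace n R a) 1) := by
  haveI := Groth.Agent.Lib.Helper8.SheafModGroth.enoughInjectives
    (Opens.grothendieckTopology (CohB1.ProjSpace n R)) (CohB1.ProjSpace n R).ringCatSheaf
  haveI := isEquivalence_tensL_twist n R (-b)
  apply subsingleton_ext_of_equivalence (tensL (OO n R) (Twist.twistProjSpace n R (-b)))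
  obtain ⟨e1⟩ := nonempty_tensor_twist_iso_unit n R (-b) b (neg_add_cancel b)
  obtain ⟨e2⟩ := nonempty_tensor_twist_iso n R (-b) a
  refine subsingleton_ext_of_isos e1 e2 1 ?_
  apply subsingleton_ext_unit'
  exact subsingleton_HH n R (-b + a) 1 (fun h0 => by omega) (fun hn' => by omega)

/-- a short exact sequence `0 ⟶ O(a) ⟶ E ⟶ O(b) ⟶ 0` on `P^n`, `n ≥ 2`, splits. -/
theorem nonempty_splitting [HasExt.{u} (CohB1.ProjSpace n R).Modules] (hn : 2 ≤ n) (a b : ℤ)
    (S : ShortComplex (CohB1.ProjSpace n R).Modules) (hS : S.ShortExact)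
    (ha : Nonempty (S.X₁ ≅ Twist.twistProjSpace n R a))
    (hb : Nonempty (S.X₃ ≅ Twist.twistProjSpace n R b)) : Nonempty S.Splitting := by
  obtain ⟨ea⟩ := ha
  obtain ⟨eb⟩ := hb
  have h1 : Subsingleton (Ext S.X₃ S.X₁ 1) :=
    subsingleton_ext_of_isos eb ea 1
      (@subsingleton_ext_one_twist n R _ ‹_› hn a b)
  obtain ⟨x₂, hx₂⟩ := Ext.covariant_sequence_exact₃ S.X₃ hS (Ext.mk₀ (𝟙 S.X₃))
    (n₁ := 1) rfl (Subsingleton.elim _ _)
  obtain ⟨s, rfl⟩ := (Ext.mk₀_bijective _ _).2 x₂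
  rw [Ext.mk₀_comp_mk₀] at hx₂
  have hs : s ≫ S.g = 𝟙 S.X₃ := (Ext.mk₀_bijective _ _).1 hx₂
  haveI := hS.mono_f
  exact ⟨ShortComplex.Splitting.ofExactOfSection S hS.exact s hs inferInstance⟩

theorem nonempty_splitting' (hn : 2 ≤ n) (a b : ℤ)
    (S : ShortComplex (CohB1.ProjSpace n R).Modules) (hS : S.ShortExact)
    (ha : Nonempty (S.X₁ ≅ Twist.twistProjSpace n R a))
    (hb : Nonempty (S.X₃ ≅ Twist.twistProjSpace n R b)) : Nonempty S.Splitting := by
  haveI : HasExt.{u} (CohB1.ProjSpace n R).Modules := hasExt_of_enoughInjectives _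
  exact nonempty_splitting n R hn a b S hS ha hb

end Split

end Groth.Agent.Lib.Helper2.Kos7
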