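import Groth.Agent.Lib.Helper2.Kos10
import Groth.Agent.Lib.Helper2.Kos7
import Groth.Agent.Lib.Helper2.SerreVan
import Groth.Agent.Lib.Helper1.TensorAssoc3

/-!
# Surjectivity of the multiplication maps of a regular module (helper2)
-/

set_option backward.isDefEq.respectTransparency.types false
set_option autoImplicit false
universe u
open CategoryTheory CategoryTheory.Limits AlgebraicGeometry Opposite TopologicalSpace Abelian

noncomputable section
namespace Groth.Agent.Lib.Helper2.Kos11

open Groth.Agent.Lib.Helper2.ProjCoh3 Groth.Agent.Lib.Helper2.ProjCoh4 Groth.Agent.Lib.Helper2.ProjCoh5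
  Groth.Agent.Lib.Helper2.SerreFin2 Groth.Agent.Lib.Helper2.Kos2 Groth.Agent.Lib.Helper2.Kos9
  Groth.Agent.Lib.Helper2.Kos10 Groth.Agent.Lib.Helper2.TwEq2 Groth.Agent.Lib.Helper2.DualE2
  Groth.Agent.Lib.Helper1.ModFlat Groth.Agent.Lib.Helper1.TensorAssoc3

variable (n : ℕ) (R : Type u) [CommRing R]

/-- `(F ⊗ O(a)) ⊗ O(b) ≅ F ⊗ O(a + b)`. -/
theorem nonempty_double_twist_iso' (F : ModSite.Mod (OO n R)) (a b : ℤ) :
    Nonempty (t (OO n R) (t (OO n R) F (Twist.twistProjSpace n R a)) (Twist.twistProjSpace n R b) ≅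
      t (OO n R) F (Twist.twistProjSpace n R (a + b))) := by
  obtain ⟨e⟩ := nonempty_tensor_twist_iso n R a b
  exact ⟨assoc (OO n R) F (Twist.twistProjSpace n R a) (Twist.twistProjSpace n R b) ≪≫
    (tensL (OO n R) F).mapIso e⟩

theorem nonempty_double_twist_iso (F : (CohB1.ProjSpace n R).Modules) (a b : ℤ) :
    Nonempty (CohB1.tensorMod (CohB1.tensorMod F (Twist.twistProjSpace n R a))
      (Twist.twistProjSpace n R b) ≅ CohB1.tensorMod F (Twist.twistProjSpace n R (a + b))) :=
  nonempty_double_twist_iso' n R F a b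

/-- one step: surjectivity of `G(X) ⊗ O(e)(X) → (G ⊗ O(e))(X)` propagates to `e + 1` under the
vanishing `H^q(G ⊗ O(e - q)) = 0`, `1 ≤ q ≤ n`. -/
theorem surjective_sig_succ (G : (CohB1.ProjSpace n R).Modules) (e : ℤ)
    (h : ∀ q : ℕ, 1 ≤ q → q ≤ n → Subsingleton (Coh.HH (CohB1.ProjSpace n R)
      (CohB1.tensorMod G (Twist.twistProjSpace n R (e - q))) q))
    (hB : Function.Surjective (sig G (Twist.twistProjSpace n R e))) :
    Function.Surjective (sig G (Twist.twistProjSpace n R (e + 1))) := by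
  haveI : HasExt.{u} (CohB1.ProjSpace n R).Modules := hasExt_of_enoughInjectives _
  exact surjective_sig_of_cm G (Ld n R e) (Ld n R (e + 1)) (fun i => μ n R i e) (n + 1) hB
    (cm_core n R G e h)

theorem surjective_sig_zero (G : (CohB1.ProjSpace n R).Modules) :
    Function.Surjective (sig G (Twist.twistProjSpace n R 0)) := by
  obtain ⟨e⟩ := nonempty_twist_iso_unit n R 0 rfl
  exact surjective_sig_of_iso_unit G _ e

variable {n} {k : Type u} [Field k]

/-- **Castelnuovo–Mumford**: for `F` `m`-regular and `d ≥ m`, `e ≥ 0`, the multiplication map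
`H^0(F(d)) ⊗ H^0(O(e)) → H^0(F(d) ⊗ O(e))` is surjective. -/
theorem surjective_sig_of_isMRegular (F : (CohB1.ProjSpace n k).Modules) (hF : Coh.IsCoh F) (m d : ℤ)
    (hd : m ≤ d) (h : Curv2.IsMRegular k n F m) (e : ℕ) :
    Function.Surjective (sig (CohB1.tensorMod F (Twist.twistProjSpace n k d))
      (Twist.twistProjSpace n k (e : ℤ))) := by
  induction e with
  | zero => exact surjective_sig_zero n k _
  | succ e ih =>
    have e1 : ((e + 1 : ℕ) : ℤ) = (e : ℤ) + 1 := by push_cast; ring
    rw [e1]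
    refine surjective_sig_succ n k _ (e : ℤ) (fun q hq hqn => ?_) ih
    obtain ⟨ι⟩ := nonempty_double_twist_iso n k F d ((e : ℤ) - q)
    refine subsingleton_HH_of_iso k ι.symm q ?_
    exact Groth.Agent.Lib.Helper2.Kos7.subsingleton_HH_of_isMRegular F hF m
      (fun i hi => by
        by_cases hin : i ≤ n
        · exact h i hi hin
        · haveI : Coh.IsQCoh (CohB1.tensorMod F (Twist.twistProjSpace n k (m - i))) :=
            (Groth.Agent.Lib.Helper2.Kos4.isCoh_tensor_twist F hF _).1
          exact Groth.Agent.S0022.result n k _ i (by omega))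
      q (d + ((e : ℤ) - q)) hq (by omega)

end Groth.Agent.Lib.Helper2.Kos11
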