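import Groth.Agent.Lib.Helper2.Kos11
import Groth.Agent.Lib.Helper28.TwistNegGen

/-!
# Global generation of `F(m)` for an `m`-regular module (helper2)
-/

set_option backward.isDefEq.respectTransparency.types false
set_option autoImplicit false
universe u
open CategoryTheory CategoryTheory.Limits AlgebraicGeometry Opposite TopologicalSpace MonoidalCategory

noncomputable section
namespace Groth.Agent.Lib.Helper2.Kos12

open Groth.Agent.Lib.Helper2.Kos9 Groth.Agent.Lib.Helper2.Kos10 Groth.Agent.Lib.Helper28.QCohLoc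
  Groth.Agent.Lib.Helper28.TwistGen

section General

variable {X : Scheme.{u}}

/-- the map `A(X) ⊗ B(X) ⟶ A'(X) ⊗ B(X)`. -/
def pmapL (B : X.Modules) {A A' : X.Modules} (f : A ⟶ A') :
    (PP A B).obj (op ⊤) ⟶ (PP A' B).obj (op ⊤) :=
  ((PresheafOfModules.toPresheaf _).map ((show CohB1.toPMod A ⟶ CohB1.toPMod A' from f.val) ▷ CohB1.toPMod B)).app (op ⊤)

theorem sig_natL (B : X.Modules) {A A' : X.Modules} (f : A ⟶ A') :
    sig A B ≫ ((DCoh.tensorBi.map f).app B).app ⊤ = pmapL B f ≫ sig A' B := by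
  have h := toSheafify_naturality (Opens.grothendieckTopology X)
    ((PresheafOfModules.toPresheaf _).map ((show CohB1.toPMod A ⟶ CohB1.toPMod A' from f.val) ▷ CohB1.toPMod B))
  exact (congrArg (fun t => t.app (op ⊤)) h).symm

theorem sig_natL_apply (B : X.Modules) {A A' : X.Modules} (f : A ⟶ A') (w : (PP A B).obj (op ⊤)) :
    ((DCoh.tensorBi.map f).app B).app ⊤ (sig A B w) = sig A' B (pmapL B f w) :=
  congrArg (fun t => (ConcreteCategory.hom t) w) (sig_natL B f)

theorem pmapL_eq_zero (B : X.Modules) {A A' : X.Modules} (f : A ⟶ A')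
    (hf : ∀ a : Γ(A, ⊤), f.app ⊤ a = 0) : pmapL B f = 0 := by
  have h1 : (show CohB1.toPMod A ⟶ CohB1.toPMod A' from f.val).app (op ⊤) = 0 := by
    ext a
    exact hf a
  have h2 : ((show CohB1.toPMod A ⟶ CohB1.toPMod A' from f.val) ▷ CohB1.toPMod B).app (op ⊤) = 0 := by
    rw [PresheafOfModules.whiskerRight_app, h1, MonoidalPreadditive.zero_whiskerRight]
    rfl
  unfold pmapL
  ext w
  exact (congrArg (fun g : ((CohB1.toPMod A ⊗ CohB1.toPMod B).obj (op ⊤) ⟶
    (CohB1.toPMod A' ⊗ CohB1.toPMod B).obj (op ⊤)) => g.hom w) h2).trans rfl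

/-- a morphism `O_X ⟶ M` is determined by its value at `1`. -/
theorem ofSection_ev (M : X.Modules) (y : Coh.structureModule X ⟶ M) :
    ofSection M (ev M y) = y := by
  apply (SheafOfModules.unitHomEquiv M).injective
  have h2 : SheafOfModules.unitHomEquiv M (ofSection M (ev M y)) = globalSection M (ev M y) :=
    Equiv.apply_symm_apply _ _
  rw [h2]
  apply Subtype.ext
  funext V
  rw [SheafOfModules.unitHomEquiv_apply_coe]
  have h3 := PresheafOfModules.naturality_apply y.val (homOfLE (le_top : V.unop ≤ ⊤)).op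
    (1 : X.ringCatSheaf.obj.obj (op ⊤))
  have h4 : (Coh.structureModule X).val.map (homOfLE (le_top : V.unop ≤ ⊤)).op
      (1 : X.ringCatSheaf.obj.obj (op ⊤)) = (1 : X.ringCatSheaf.obj.obj V) :=
    map_one (X.ringCatSheaf.obj.map (homOfLE (le_top : V.unop ≤ ⊤)).op).hom
  rw [h4] at h3
  exact h3.symm

theorem eq_zero_of_ev_eq_zero (M : X.Modules) (y : Coh.structureModule X ⟶ M) (h : ev M y = 0) :
    y = 0 := by
  rw [← ofSection_ev M y, h, ← ofSection_ev M 0]
  rfl

/-- **descent of global generation along a twist**: if `G(X) ⊗ B(X) → (G ⊗ B)(X)` is surjective,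
`G ⊗ B` is globally generated and `- ⊗ B` is faithful, then `G` is globally generated. -/
theorem isGloballyGenerated_of_tensor (G B : X.Modules)
    (hsurj : Function.Surjective (sig G B))
    (hfaith : ∀ {A A' : X.Modules} (f : A ⟶ A'), (DCoh.tensorBi.map f).app B = 0 → f = 0)
    (k : ℕ) (p' : FlatMod.freeMod X k ⟶ (DCoh.tensorBi.obj G).obj B) (hp' : Epi p') :
    Curv2.IsGloballyGenerated G := by
  let p : (∐ fun _ : Γ(G, ⊤) => Coh.structureModule X) ⟶ G := Sigma.desc (fun σ => ofSection G σ)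
  let π : G ⟶ cokernel p := cokernel.π p
  have h1 : ∀ a : Γ(G, ⊤), π.app ⊤ a = 0 := by
    intro a
    have h2 : ofSection G a ≫ π = 0 := by
      have : ofSection G a = Sigma.ι (fun _ : Γ(G, ⊤) => Coh.structureModule X) a ≫ p :=
        (Sigma.ι_desc _ _).symm
      rw [this, Category.assoc, cokernel.condition, comp_zero]
    have h3 := congrArg (ev (cokernel p)) h2
    rw [ev_comp, ev_ofSection] at h3
    exact h3
  have h4 : ∀ t : Γ((DCoh.tensorBi.obj G).obj B, ⊤), ((DCoh.tensorBi.map π).app B).app ⊤ t = 0 := by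
    intro t
    obtain ⟨w, rfl⟩ := hsurj t
    rw [sig_natL_apply, pmapL_eq_zero B π h1]
    exact map_zero _
  have h5 : p' ≫ (DCoh.tensorBi.map π).app B = 0 := by
    apply Sigma.hom_ext
    intro a
    rw [comp_zero]
    have h9 : ev _ (Sigma.ι (fun _ : Fin k => Coh.structureModule X) a ≫ p' ≫
        (DCoh.tensorBi.map π).app B) = 0 := by
      have h10 : Sigma.ι (fun _ : Fin k => Coh.structureModule X) a ≫ p' ≫
          (DCoh.tensorBi.map π).app B =
        (Sigma.ι (fun _ : Fin k => Coh.structureModule X) a ≫ p') ≫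
          (DCoh.tensorBi.map π).app B := (Category.assoc _ _ _).symm
      rw [h10, ev_comp]
      exact h4 _
    exact eq_zero_of_ev_eq_zero _ _ h9
  have h6 : (DCoh.tensorBi.map π).app B = 0 := by
    rw [← cancel_epi p', h5, comp_zero]
  have h7 : π = 0 := hfaith π h6
  have h8 : Epi p := Abelian.epi_of_cokernel_π_eq_zero p h7
  exact ⟨Γ(G, ⊤), p, h8⟩

end General

end Groth.Agent.Lib.Helper2.Kos12

namespace Groth.Agent.Lib.Helper2.Kos12

open Groth.Agent.Lib.Helper2.ProjCoh3 Groth.Agent.Lib.Helper2.ProjCoh4 Groth.Agent.Lib.Helper2.ProjCoh5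
  Groth.Agent.Lib.Helper2.SerreFin2 Groth.Agent.Lib.Helper2.Kos10 Groth.Agent.Lib.Helper2.Kos11
  Groth.Agent.Lib.Helper2.SerreVan

variable {n : ℕ} {k : Type u} [Field k]

/-- **an `m`-regular coherent module on `P^n_k` has `F(m)` globally generated**. -/
theorem isGloballyGenerated_of_isMRegular (F : (CohB1.ProjSpace n k).Modules) (hF : Coh.IsCoh F)
    (m : ℤ) (h : Curv2.IsMRegular k n F m) :
    Curv2.IsGloballyGenerated (CohB1.tensorMod F (Twist.twistProjSpace n k m)) := by
  have hG := Groth.Agent.Lib.Helper2.Kos4.isCoh_tensor_twist F hF m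
  let G' : (Proj (gr n k)).Modules := CohB1.tensorMod F (Twist.twistProjSpace n k m)
  haveI : G'.IsQuasicoherent := hG.1
  haveI : SheafOfModules.IsFiniteType.{u} (R := (Proj (gr n k)).ringCatSheaf) G' := hG.2
  obtain ⟨n₀, hn₀⟩ := Groth.Agent.Lib.Helper28.GammaStar.exists_epi_free_twistBy (𝒜 := gr n k)
    (s := vars n k) (F := G') (vars_mem n k) (irrelevant_eq_span n k)
  obtain ⟨k', p', hp'⟩ := hn₀ n₀ le_rfl
  refine isGloballyGenerated_of_tensor (X := CohB1.ProjSpace n k)
    (CohB1.tensorMod F (Twist.twistProjSpace n k m)) (Twist.twistProjSpace n k (n₀ : ℤ))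
    (surjective_sig_of_isMRegular F hF m m le_rfl h n₀) ?_ k' p' hp'
  intro A A' f hf
  have h1 : (Tw n k (n₀ : ℤ)).map f = (Tw n k (n₀ : ℤ)).map 0 := by
    rw [Functor.map_zero]
    exact hf
  exact (Tw n k (n₀ : ℤ)).map_injective h1

end Groth.Agent.Lib.Helper2.Kos12
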