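import Groth.Agent.Lib.Helper2.Kos14

/-!
# Mumford's bound for the regularity of `F` from a regular quotient `F/F(-1)` (helper2)
-/

set_option backward.isDefEq.respectTransparency.types false
set_option autoImplicit false
universe u
open CategoryTheory CategoryTheory.Limits AlgebraicGeometry Opposite TopologicalSpace Abelian

noncomputable section
namespace Groth.Agent.Lib.Helper2.Kos15

open Groth.Agent.Lib.Helper2.ProjCoh3 Groth.Agent.Lib.Helper2.ProjCoh4 Groth.Agent.Lib.Helper2.ProjCoh5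
  Groth.Agent.Lib.Helper2.SerreFin1 Groth.Agent.Lib.Helper2.SerreFin2 Groth.Agent.Lib.Helper2.HLesLin
  Groth.Agent.Lib.Helper2.HLes Groth.Agent.Lib.Helper2.DualE2 Groth.Agent.Lib.Helper2.TwEq2
  Groth.Agent.Lib.Helper2.SerreVan Groth.Agent.Lib.Helper2.SD4 Groth.Agent.Lib.Helper2.Kos2
  Groth.Agent.Lib.Helper2.Kos9 Groth.Agent.Lib.Helper2.Kos11 Groth.Agent.Lib.Helper2.Kos13
  Groth.Agent.Lib.Helper2.Kos14

variable {n : ℕ} {k : Type u} [Field k]

/-- the twist `F(j)`. -/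
abbrev tw (F : (CohB1.ProjSpace n k).Modules) (j : ℤ) : (CohB1.ProjSpace n k).Modules :=
  CohB1.tensorMod F (Twist.twistProjSpace n k j)

theorem finrank_HH_of_iso {A B : (CohB1.ProjSpace n k).Modules} (e : A ≅ B) (p : ℕ) :
    Module.finrank k (Coh.HH (CohB1.ProjSpace n k) A p) =
      Module.finrank k (Coh.HH (CohB1.ProjSpace n k) B p) := by
  refine LinearEquiv.finrank_eq (LinearEquiv.ofLinear (Canon.HHlin k e.hom p) (Canon.HHlin k e.inv p)
    ?_ ?_)
  · ext y
    exact (HHlin_comp_apply k e.inv e.hom p y).trans (by rw [e.inv_hom_id]; exact HHlin_id_apply k p y)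
  · ext y
    exact (HHlin_comp_apply k e.hom e.inv p y).trans (by rw [e.hom_inv_id]; exact HHlin_id_apply k p y)

/-- lifting of global sections along `π(j)` propagates to `π(j+1)` when the target is regular
enough (Castelnuovo–Mumford). -/
theorem hasLift_succ {F Q : (CohB1.ProjSpace n k).Modules} (π : F ⟶ Q) (j : ℤ)
    (hvan : ∀ q : ℕ, 1 ≤ q → q ≤ n → Subsingleton (Coh.HH (CohB1.ProjSpace n k)
      (CohB1.tensorMod Q (Twist.twistProjSpace n k (j - q))) q))
    (h : HasLift ((DCoh.tensorBi.map π).app (Ld n k j))) :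
    HasLift ((DCoh.tensorBi.map π).app (Ld n k (j + 1))) := by
  intro y
  haveI : HasExt.{u} (CohB1.ProjSpace n k).Modules := hasExt_of_enoughInjectives _
  obtain ⟨z, hz⟩ := cm_core n k Q j hvan y
  choose w hw using fun i => h (z i)
  refine ⟨∑ i ∈ Finset.range (n + 1), w i ≫ (TG F).map (μ n k i j), ?_⟩
  rw [Preadditive.sum_comp, hz]
  refine Finset.sum_congr rfl (fun i _ => ?_)
  rw [Category.assoc, ← hw i, Category.assoc]
  congr 1
  exact (DCoh.tensorBi.map π).naturality (μ n k i j)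

section Main

variable (F : (CohB1.ProjSpace n k).Modules)
  (ι : CohB1.tensorMod F (Twist.twistProjSpace n k (-1)) ⟶ F) [Mono ι]

/-- `0 → F(-1) → F → Q → 0`. -/
abbrev S0 : ShortComplex (CohB1.ProjSpace n k).Modules :=
  ShortComplex.mk ι (cokernel.π ι) (cokernel.condition ι)

theorem S0_shortExact : (S0 F ι).ShortExact :=
  { exact := ShortComplex.exact_cokernel ι
    mono_f := inferInstanceAs (Mono ι)
    epi_g := inferInstanceAs (Epi (cokernel.π ι)) }

/-- the sequence twisted by `j`. -/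
abbrev Sj (j : ℤ) : ShortComplex (CohB1.ProjSpace n k).Modules := (S0 F ι).map (Tw n k j)

theorem Sj_shortExact (j : ℤ) : (Sj F ι j).ShortExact :=
  shortExact_map_Tw n k j (S0 F ι) (S0_shortExact F ι)

theorem nonempty_X₁_iso (j j' : ℤ) (hj : j' = j - 1) : Nonempty ((Sj F ι j).X₁ ≅ tw F j') := by
  obtain ⟨e⟩ := nonempty_double_twist_iso n k F (-1) j
  have h1 : j' = -1 + j := by omega
  rw [h1]
  exact ⟨e⟩

/-- `h^1(F(j))`. -/
def a (j : ℤ) : ℕ := Module.finrank k (Coh.HH (CohB1.ProjSpace n k) (tw F j) 1)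

variable (hF : Coh.IsCoh F) (m : ℤ) (hQ : Curv2.IsMRegular k n (cokernel ι) m)

include hF in
theorem isCoh_Q : Coh.IsCoh (cokernel ι) :=
  Groth.Agent.Lib.Helper6.DevCore.isCoh_cokernel ι
    (Groth.Agent.Lib.Helper2.Kos4.isCoh_tensor_twist F hF (-1)) hF

include hF hQ in
/-- the vanishing of the cohomology of the regular quotient. -/
theorem subsingleton_HH_Q (i : ℕ) (r : ℤ) (hi : 1 ≤ i) (hr : m - i ≤ r) :
    Subsingleton (Coh.HH (CohB1.ProjSpace n k) (tw (cokernel ι) r) i) := by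
  refine Groth.Agent.Lib.Helper2.Kos7.subsingleton_HH_of_isMRegular (cokernel ι) (isCoh_Q F ι hF) m
    (fun i' hi' => ?_) i r hi hr
  by_cases hin : i' ≤ n
  · exact hQ i' hi' hin
  · haveI : Coh.IsQCoh (CohB1.tensorMod (cokernel ι) (Twist.twistProjSpace n k (m - i'))) :=
      (Groth.Agent.Lib.Helper2.Kos4.isCoh_tensor_twist _ (isCoh_Q F ι hF) _).1
    exact Groth.Agent.S0022.result n k _ i' (by omega)

include hF in
theorem finite_HH_tw (j : ℤ) (p : ℕ) :
    Module.Finite k (Coh.HH (CohB1.ProjSpace n k) (tw F j) p) :=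
  finite_HH n k (n + 1) p (by omega) _ (Groth.Agent.Lib.Helper2.Kos4.isCoh_tensor_twist F hF j)

include hF in
theorem finite_HH_X₁ (j : ℤ) (p : ℕ) :
    Module.Finite k (Coh.HH (CohB1.ProjSpace n k) (Sj F ι j).X₁ p) :=
  finite_HH n k (n + 1) p (by omega) _
    (isCoh_Tw n k j _ (Groth.Agent.Lib.Helper2.Kos4.isCoh_tensor_twist F hF (-1)))

include hF hQ in
/-- (i), one step down. -/
theorem subsingleton_HH_pred (p : ℕ) (hp : 1 ≤ p) (j : ℤ) (hj : m - (p + 1 : ℕ) ≤ j)
    (h : Subsingleton (Coh.HH (CohB1.ProjSpace n k) (tw F (j + 1)) (p + 1))) :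
    Subsingleton (Coh.HH (CohB1.ProjSpace n k) (tw F j) (p + 1)) := by
  have h3 : Subsingleton (Coh.HH (CohB1.ProjSpace n k) (Sj F ι (j + 1)).X₃ p) :=
    subsingleton_HH_Q F ι hF m hQ p (j + 1) hp (by push_cast at hj; omega)
  have h1 := subsingleton_X₁ (Sj F ι (j + 1)) (Sj_shortExact F ι (j + 1)) p h3 h
  obtain ⟨e⟩ := nonempty_X₁_iso F ι (j + 1) j (by ring)
  exact subsingleton_HH_of_iso k e (p + 1) h1

include hF hQ in
/-- (i). -/
theorem subsingleton_HH_ge_two (i : ℕ) (hi : 2 ≤ i) (j : ℤ) (hj : m - i ≤ j) :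
    Subsingleton (Coh.HH (CohB1.ProjSpace n k) (tw F j) i) := by
  obtain ⟨p, rfl⟩ : ∃ p, i = p + 1 := ⟨i - 1, by omega⟩
  obtain ⟨d₀, hd₀⟩ := serre_vanishing n k F hF
  have key : ∀ (t : ℕ) (j : ℤ), m - (p + 1 : ℕ) ≤ j → d₀ ≤ j + t →
      Subsingleton (Coh.HH (CohB1.ProjSpace n k) (tw F j) (p + 1)) := by
    intro t
    induction t with
    | zero =>
      intro j _ hd
      exact hd₀ j (by simpa using hd) (p + 1) (by omega)
    | succ t ih =>
      intro j hj hd
      exact subsingleton_HH_pred F ι hF m hQ p (by omega) j hj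
        (ih (j + 1) (by omega) (by push_cast at hd ⊢; omega))
  exact key (d₀ - j).toNat j hj (by omega)

include hF hQ in
/-- (ii). -/
theorem a_le (j : ℤ) (hj : m - 1 ≤ j) : a F j ≤ a F (j - 1) := by
  haveI := finite_HH_X₁ F ι hF j 1
  have h3 : Subsingleton (Coh.HH (CohB1.ProjSpace n k) (Sj F ι j).X₃ 1) :=
    subsingleton_HH_Q F ι hF m hQ 1 j le_rfl (by push_cast; omega)
  have h1 := finrank_le (Sj F ι j) (Sj_shortExact F ι j) k 1 h3
  obtain ⟨e⟩ := nonempty_X₁_iso F ι j (j - 1) rfl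
  have h2 := finrank_HH_of_iso e 1
  unfold a
  exact h1.trans h2.le

include hF hQ in
/-- equality of consecutive `h^1` forces lifting of sections of the quotient. -/
theorem hasLift_of_a_eq (j : ℤ) (hj : m - 1 ≤ j) (h : a F j = a F (j - 1)) :
    HasLift (Sj F ι j).g := by
  haveI : Module.Finite k (Coh.HH (CohB1.ProjSpace n k) (Sj F ι j).X₁ (0 + 1)) :=
    finite_HH_X₁ F ι hF j 1
  haveI : Module.Finite k (Coh.HH (CohB1.ProjSpace n k) (Sj F ι j).X₂ (0 + 1)) :=
    finite_HH_tw F hF j 1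
  have h3 : Subsingleton (Coh.HH (CohB1.ProjSpace n k) (Sj F ι j).X₃ (0 + 1)) :=
    subsingleton_HH_Q F ι hF m hQ 1 j le_rfl (by push_cast; omega)
  obtain ⟨e⟩ := nonempty_X₁_iso F ι j (j - 1) rfl
  have h2 := finrank_HH_of_iso e 1
  have heq : Module.finrank k (Coh.HH (CohB1.ProjSpace n k) (Sj F ι j).X₁ (0 + 1)) =
      Module.finrank k (Coh.HH (CohB1.ProjSpace n k) (Sj F ι j).X₂ (0 + 1)) := h2.trans h.symm
  exact (exists_lift_iff (Sj F ι j).g).2
    (surjective_g_of_finrank_eq (Sj F ι j) (Sj_shortExact F ι j) k 0 h3 heq)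

include hF hQ in
theorem a_eq_of_hasLift (j : ℤ) (hj : m - 1 ≤ j) (h : HasLift (Sj F ι j).g) :
    a F (j - 1) = a F j := by
  have h3 : Subsingleton (Coh.HH (CohB1.ProjSpace n k) (Sj F ι j).X₃ (0 + 1)) :=
    subsingleton_HH_Q F ι hF m hQ 1 j le_rfl (by push_cast; omega)
  obtain ⟨e⟩ := nonempty_X₁_iso F ι j (j - 1) rfl
  have h2 := finrank_HH_of_iso e 1
  have h1 := finrank_eq_of_surjective_g (Sj F ι j) (Sj_shortExact F ι j) k 0 h3
    ((exists_lift_iff (Sj F ι j).g).1 h)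
  exact h2.symm.trans h1

include hF hQ in
theorem hasLift_Sj_succ (j : ℤ) (hj : m ≤ j) (h : HasLift (Sj F ι j).g) :
    HasLift (Sj F ι (j + 1)).g :=
  hasLift_succ (cokernel.π ι) j
    (fun q hq _ => subsingleton_HH_Q F ι hF m hQ q (j - q) hq (by omega)) h

include hF hQ in
theorem stable (j₀ : ℤ) (hj₀ : m ≤ j₀) (h : a F j₀ = a F (j₀ - 1)) (t : ℕ) :
    HasLift (Sj F ι (j₀ + t)).g ∧ a F (j₀ + t) = a F (j₀ - 1) := by
  induction t with
  | zero =>
    have e : j₀ + ((0 : ℕ) : ℤ) = j₀ := by simp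
    rw [e]
    exact ⟨hasLift_of_a_eq F ι hF m hQ j₀ (by omega) h, h⟩
  | succ t ih =>
    have e : j₀ + ((t + 1 : ℕ) : ℤ) = j₀ + t + 1 := by push_cast; ring
    rw [e]
    have h1 := hasLift_Sj_succ F ι hF m hQ (j₀ + t) (by omega) ih.1
    refine ⟨h1, ?_⟩
    have h2 := a_eq_of_hasLift F ι hF m hQ (j₀ + t + 1) (by omega) h1
    have e2 : j₀ + (t : ℤ) + 1 - 1 = j₀ + t := by ring
    rw [e2] at h2
    exact h2.symm.trans ih.2

include hF hQ in
theorem a_eq_zero_of_eq (j₀ : ℤ) (hj₀ : m ≤ j₀) (h : a F j₀ = a F (j₀ - 1)) : a F (j₀ - 1) = 0 := by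
  obtain ⟨d₀, hd₀⟩ := serre_vanishing n k F hF
  have h1 := (stable F ι hF m hQ j₀ hj₀ h (d₀ - j₀).toNat).2
  rw [← h1]
  haveI := hd₀ (j₀ + ((d₀ - j₀).toNat : ℤ)) (by omega) 1 Nat.one_pos
  exact Module.finrank_zero_of_subsingleton

include hF hQ in
theorem a_bound (t : ℕ) : a F (m - 1 + t) ≤ a F (m - 1) - t := by
  induction t with
  | zero => simp
  | succ t ih =>
    have e : m - 1 + ((t + 1 : ℕ) : ℤ) = m + t := by push_cast; ring
    rw [e]
    have h1 := a_le F ι hF m hQ (m + t) (by omega)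
    have e2 : m + (t : ℤ) - 1 = m - 1 + t := by ring
    rw [e2] at h1
    by_cases heq : a F (m + t) = a F (m - 1 + t)
    · have h2 := a_eq_zero_of_eq F ι hF m hQ (m + t) (by omega) (by rw [e2]; exact heq)
      rw [e2] at h2
      omega
    · omega

include hF hQ in
/-- (iii). -/
theorem subsingleton_HH_one (j : ℤ) (hj : m - 1 + (a F (m - 1) : ℤ) ≤ j) :
    Subsingleton (Coh.HH (CohB1.ProjSpace n k) (tw F j) 1) := by
  have h1 := a_bound F ι hF m hQ (j - (m - 1)).toNat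
  have e : m - 1 + (((j - (m - 1)).toNat : ℕ) : ℤ) = j := by omega
  rw [e] at h1
  have h2 : a F j = 0 := by omega
  haveI := finite_HH_tw F hF j 1
  exact Module.finrank_zero_iff.1 h2

end Main

end Groth.Agent.Lib.Helper2.Kos15
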