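import Groth.Agent.Lib.Helper2.Kos1
import Groth.Agent.Lib.Helper2.Dual1
import Groth.Agent.Lib.Helper2.SerreFin2
import Groth.Agent.Lib.Helper16.Stk4

/-!
# The Koszul complex of twisting sheaves on projective space (helper2)
-/

set_option backward.isDefEq.respectTransparency.types false
set_option autoImplicit false
universe u
open CategoryTheory CategoryTheory.Limits AlgebraicGeometry Opposite TopologicalSpace

noncomputable section

namespace Groth.Agent.Lib.Helper2.Kos2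

open Groth.Agent.Lib.Helper2.ProjCoh3 Groth.Agent.Lib.Helper2.ProjCoh4 Groth.Agent.Lib.Helper2.ProjCoh5
  Groth.Agent.Lib.Helper2.SerreFin2 Groth.Agent.Lib.Helper28 Groth.Agent.Lib.Helper28.QCohLoc
  Groth.Agent.Lib.Helper2.Dual1

variable (n : ℕ) (R : Type u) [CommRing R]

/-- the twisting sheaves. -/
abbrev Ld (d : ℤ) : (CohB1.ProjSpace n R).Modules := Twist.twistProjSpace n R d

/-- the variables, indexed by `ℕ` (zero beyond `n`). -/
def xs (j : ℕ) : PA n R := if h : j < n + 1 then MvPolynomial.X ⟨j, h⟩ else 0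

theorem xs_mem (j : ℕ) : xs n R j ∈ gr n R 1 := by
  unfold xs
  split_ifs with h
  · exact X_mem n R ⟨j, h⟩
  · exact Submodule.zero_mem _

/-- the variable `x_j` as a global section of `O(1)`. -/
def sec (j : ℕ) : Γ(Twist.twist (gr n R) ((1 : ℕ) : ℤ), (⊤ : (Proj (gr n R)).Opens)) :=
  TwistGen.gsec (gr n R) (xs n R j) (xs_mem n R j)

theorem hdeg (d : ℤ) : ((1 : ℕ) : ℤ) + d = d + 1 := by push_cast; ring

/-- multiplication by `x_j`. -/
def μ (j : ℕ) (d : ℤ) : Ld n R d ⟶ Ld n R (d + 1) :=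
  mulHom (gr n R) (hdeg d) (sec n R j)

theorem val_μ (j : ℕ) (d : ℤ) (W : (Proj (gr n R)).Opens) (t : Γ(Twist.twist (gr n R) d, W)) (x : W) :
    TwistQC.val (gr n R) ((μ n R j d).app W t) x =
      Localization.mk (xs n R j) 1 * TwistQC.val (gr n R) t x := by
  have h1 : (μ n R j d).app W t = mulB (gr n R) (hdeg d)
      (res (Twist.twist (gr n R) ((1 : ℕ) : ℤ)) (le_top : W ≤ ⊤) (sec n R j)) t := rfl
  exact (congrArg (fun z => TwistQC.val (gr n R) z x) h1).trans
    ((val_mulB (gr n R) (hdeg d) _ t x).trans rfl)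

theorem hμ (i j : ℕ) (d : ℤ) : μ n R i d ≫ μ n R j (d + 1) = μ n R j d ≫ μ n R i (d + 1) := by
  apply Scheme.Modules.hom_ext
  intro W
  ext t
  apply TwistQC.ext_val
  intro x
  change TwistQC.val (gr n R) ((μ n R j (d + 1)).app W ((μ n R i d).app W t)) x =
    TwistQC.val (gr n R) ((μ n R i (d + 1)).app W ((μ n R j d).app W t)) x
  rw [val_μ, val_μ, val_μ, val_μ]
  ring

theorem xs_of_lt (j : ℕ) (h : j < n + 1) : xs n R j = MvPolynomial.X ⟨j, h⟩ := dif_pos h

/-- the chart `D₊(x_j)`. -/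
abbrev chart (j : ℕ) (h : j < n + 1) : (Proj (gr n R)).Opens :=
  Proj.basicOpen (gr n R) (MvPolynomial.X ⟨j, h⟩ : PA n R)

theorem xs_nin (j : ℕ) (h : j < n + 1) (x : Proj (gr n R)) (hx : x ∈ chart n R j h) :
    xs n R j ∉ x.asHomogeneousIdeal := by
  rw [xs_of_lt n R j h]
  exact (Proj.mem_basicOpen (gr n R) _ x).1 hx

theorem mk_mul_mk_eq_one (j : ℕ) (h : j < n + 1) (x : Proj (gr n R)) (hx : x ∈ chart n R j h) :
    (Localization.mk (xs n R j) 1 : Twist.Loc (gr n R) x) *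
      Localization.mk 1 ⟨xs n R j, xs_nin n R j h x hx⟩ = 1 := by
  rw [Localization.mk_mul, one_mul, mul_one]
  exact Localization.mk_self (⟨xs n R j, xs_nin n R j h x hx⟩ :
    x.asHomogeneousIdeal.toIdeal.primeCompl)

theorem app_injective (j : ℕ) (h : j < n + 1) (d : ℤ) (W : (Proj (gr n R)).Opens)
    (hW : W ≤ chart n R j h) : Function.Injective ((μ n R j d).app W) := by
  intro t t' htt
  apply TwistQC.ext_val
  intro x
  have h1 := congrArg (fun z => TwistQC.val (gr n R) z x) htt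
  simp only [val_μ] at h1
  have h2 := congrArg (fun z => Localization.mk 1 ⟨xs n R j, xs_nin n R j h x.1 (hW x.2)⟩ * z) h1
  simp only [← mul_assoc] at h2
  rw [mul_comm (Localization.mk 1 _) (Localization.mk (xs n R j) 1),
    mk_mul_mk_eq_one n R j h x.1 (hW x.2), one_mul, one_mul] at h2
  exact h2

theorem val_gen_neg_one (j : ℕ) (h : j < n + 1) (x : chart n R j h) :
    TwistQC.val (gr n R) (TwistMul.gen (gr n R) (X_mem n R ⟨j, h⟩) (-1)) x =
      Localization.mk 1 ⟨xs n R j, xs_nin n R j h x.1 x.2⟩ := by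
  rw [TwistMul.val_gen]
  have e1 : ((-1 : ℤ)).toNat = 0 := rfl
  have e2 : (-(-1 : ℤ)).toNat = 1 := rfl
  simp only [e1, e2, pow_zero, pow_one]
  congr 1
  exact Subtype.ext (xs_of_lt n R j h).symm

theorem app_surjective (j : ℕ) (h : j < n + 1) (d : ℤ) (W : (Proj (gr n R)).Opens)
    (hW : W ≤ chart n R j h) : Function.Surjective ((μ n R j d).app W) := by
  intro s
  refine ⟨castSec (gr n R) (show d + 1 + (-1) = d by ring)
    (TwistMul.mul (gr n R) (d + 1) (-1) s
      (res (Twist.twist (gr n R) (-1)) hW (TwistMul.gen (gr n R) (X_mem n R ⟨j, h⟩) (-1)))), ?_⟩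
  apply TwistQC.ext_val
  intro x
  rw [val_μ, val_castSec, TwistMul.val_mul, TwistQC.val_res, val_gen_neg_one]
  rw [mul_comm (TwistQC.val (gr n R) s x), ← mul_assoc]
  exact (congrArg (· * TwistQC.val (gr n R) s x) (mk_mul_mk_eq_one n R j h x.1 (hW x.2))).trans
    (one_mul _)



theorem isIso_stalk_of_app_bijective {X : Scheme.{u}} {M N : X.Modules} (φ : M ⟶ N) (U₀ : X.Opens)
    (hφ : ∀ W : X.Opens, W ≤ U₀ → Function.Bijective (φ.app W)) (x : X) (hx : x ∈ U₀) :
    IsIso ((DerSch.stalkFunctor X x).map φ) := by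
  rw [ConcreteCategory.isIso_iff_bijective]
  constructor
  · rw [injective_iff_map_eq_zero]
    intro a ha
    obtain ⟨U, hxU, s, rfl⟩ := TopCat.Presheaf.exists_germ_eq M.presheaf (x := x) a
    rw [DerSch.stalkFunctor_map_germ] at ha
    have h0 : N.presheaf.germ U x hxU (φ.app U s) = N.presheaf.germ U x hxU 0 :=
      ha.trans (map_zero _).symm
    obtain ⟨W, hxW, iU, iV, hres⟩ := TopCat.Presheaf.germ_eq N.presheaf x hxU hxU _ _ h0
    let W' : X.Opens := W ⊓ U₀
    have hW'U : W' ≤ U := inf_le_left.trans (leOfHom iU)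
    have h1 : φ.app W' (res M hW'U s) = 0 := by
      rw [app_res]
      have h2 : res N (leOfHom iU) (φ.app U s) = 0 := hres.trans (map_zero _)
      have h3 : res N hW'U (φ.app U s) = res N (inf_le_left : W' ≤ W) (res N (leOfHom iU) (φ.app U s)) :=
        (res_res N _ _ _).symm
      exact h3.trans ((congrArg (res N (inf_le_left : W' ≤ W)) h2).trans (map_zero _))
    have h4 : res M hW'U s = 0 := (hφ W' inf_le_right).1 (h1.trans (map_zero _).symm)
    have h5 : M.presheaf.germ U x hxU s = M.presheaf.germ W' x ⟨hxW, hx⟩ (res M hW'U s) :=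
      (TopCat.Presheaf.germ_res_apply M.presheaf (homOfLE hW'U) x ⟨hxW, hx⟩ s).symm
    exact h5.trans ((congrArg _ h4).trans (map_zero _))
  · intro b
    obtain ⟨U, hxU, t, rfl⟩ := TopCat.Presheaf.exists_germ_eq N.presheaf (x := x) b
    let W' : X.Opens := U ⊓ U₀
    obtain ⟨s, hs⟩ := (hφ W' inf_le_right).2 (res N (inf_le_left : W' ≤ U) t)
    refine ⟨M.presheaf.germ W' x ⟨hxU, hx⟩ s, ?_⟩
    rw [DerSch.stalkFunctor_map_germ, hs]
    exact TopCat.Presheaf.germ_res_apply N.presheaf (homOfLE (inf_le_left : W' ≤ U)) x ⟨hxU, hx⟩ t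

open Groth.Agent.Lib.Helper2.ProjCoh3 Groth.Agent.Lib.Helper2.ProjCoh4 Groth.Agent.Lib.Helper2.ProjCoh5
  Groth.Agent.Lib.Helper2.SerreFin2 Groth.Agent.Lib.Helper2.Kos1


theorem exists_chart (x : Proj (gr n R)) : ∃ (j : ℕ) (h : j < n + 1), x ∈ chart n R j h := by
  have hx : x ∈ ⨆ i, cov n R i := by
    rw [iSup_cov]
    trivial
  obtain ⟨i, hi⟩ := Opens.mem_iSup.1 hx
  exact ⟨i.down.1, i.down.2, hi⟩

/-- the Koszul family on projective space (top degree `N`). -/
abbrev kos (N : ℤ) (s : ℕ) : KD (CohB1.ProjSpace n R).Modules :=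
  iter (Ld n R) (μ n R) (hμ n R) N s

theorem acyclic_kos (N : ℤ) (d : ℤ) : ((kos n R N (n + 1)).K d).Acyclic := by
  rw [← Groth.Agent.Lib.Helper16.BiCx.acyc_iff_acyclic,
    Groth.Agent.Lib.Helper16.Stk.acyc_iff_forall_stalk]
  intro x
  rw [Groth.Agent.Lib.Helper16.BiCx.acyc_iff_acyclic]
  obtain ⟨j, hj, hxj⟩ := exists_chart n R x
  exact acyclic_map (Ld n R) (μ n R) (hμ n R) N (DerSch.stalkFunctor (CohB1.ProjSpace n R) x) j
    (fun d' => isIso_stalk_of_app_bijective (μ n R j d') (chart n R j hj)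
      (fun W hW => ⟨app_injective n R j hj d' W hW, app_surjective n R j hj d' W hW⟩) x hxj)
    (n + 1) hj d

/-- **the Koszul complex on projective space**. -/
theorem exists_koszul (a : ℤ) :
    ∃ C : CochainComplex (CohB1.ProjSpace n R).Modules ℤ, (∀ i : ℤ, C.ExactAt i) ∧
      (∀ i : ℕ, i ≤ n + 1 → Nonempty (C.X (i : ℤ) ≅
        ∐ fun _ : Fin (Nat.choose (n + 1) i) => Twist.twistProjSpace n R (a + i))) ∧
      (∀ i : ℤ, i < 0 ∨ (n : ℤ) + 1 < i → IsZero (C.X i)) := by
  refine ⟨(kos n R ((n : ℤ) + 1) (n + 1)).K a, acyclic_kos n R _ a, ?_, ?_⟩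
  · intro i hi
    have h := iter_X (Ld n R) (μ n R) (hμ n R) ((n : ℤ) + 1) (n + 1) a (i : ℤ)
    have hc : cnt (n + 1) ((i : ℤ) - ((n : ℤ) + 1)) = Nat.choose (n + 1) i := by
      unfold cnt
      rw [if_pos (by omega)]
      have e : (-((i : ℤ) - ((n : ℤ) + 1))).toNat = n + 1 - i := by omega
      rw [e, Nat.choose_symm hi]
    have hL : Ld n R (a + ((n + 1 : ℕ) : ℤ) + ((i : ℤ) - ((n : ℤ) + 1))) =
        Twist.twistProjSpace n R (a + i) := by
      congr 1
      push_cast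
      ring
    exact (h.congr hL hc).nonempty_iso
  · intro i hi
    have h := iter_X (Ld n R) (μ n R) (hμ n R) ((n : ℤ) + 1) (n + 1) a i
    have hc : cnt (n + 1) (i - ((n : ℤ) + 1)) = 0 := by
      unfold cnt
      split_ifs with h0
      · rcases hi with hi | hi
        · exact Nat.choose_eq_zero_of_lt (by omega)
        · omega
      · rfl
    exact (h.congr rfl hc).isZero

end Groth.Agent.Lib.Helper2.Kos2
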