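import Groth.Agent.Lib.Helper2.Kos4
import Groth.Agent.Lib.Helper6.DevCore

/-!
# Regularity in short exact sequences on `P^n_k` (helper2)
-/

set_option backward.isDefEq.respectTransparency.types false
set_option autoImplicit false
universe u
open CategoryTheory CategoryTheory.Limits AlgebraicGeometry Opposite TopologicalSpace Abelian

noncomputable section

namespace Groth.Agent.Lib.Helper2.Kos5

open Groth.Agent.Lib.Helper2.Kos4

variable {n : ℕ} {k : Type u} [Field k]

section WithExt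

variable [HasExt.{u} (CohB1.ProjSpace n k).Modules]

/-- middle term of a short exact sequence with `m`-regular outer terms. -/
theorem isMRegular_X₂ (S : ShortComplex (CohB1.ProjSpace n k).Modules) (hS : S.ShortExact)
    (h₁ : Coh.IsCoh S.X₁) (h₂ : Coh.IsCoh S.X₂) (h₃ : Coh.IsCoh S.X₃) (m : ℤ)
    (hreg₁ : Curv2.IsMRegular k n S.X₁ m) (hreg₃ : Curv2.IsMRegular k n S.X₃ m) :
    Curv2.IsMRegular k n S.X₂ m := by
  rw [isMRegular_iff _ h₁] at hreg₁
  rw [isMRegular_iff _ h₃] at hreg₃
  rw [isMRegular_iff _ h₂]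
  intro q hq
  have key : ∀ x : Ext S.X₂ (Twist.twistProjSpace n k (-m - 1 - q)) q, x = 0 := by
    intro x
    have := hreg₁ q hq
    obtain ⟨y, hy⟩ := Ext.contravariant_sequence_exact₂ hS _ x (Subsingleton.elim _ _)
    have := hreg₃ q hq
    rw [← hy, Subsingleton.elim y 0, Ext.comp_zero]
  exact ⟨fun a b => (key a).trans (key b).symm⟩

/-- the cokernel of a monomorphism `F(-1) ⟶ F` with `F` `m`-regular is `m`-regular. -/
theorem isMRegular_cokernel (F : (CohB1.ProjSpace n k).Modules) (hF : Coh.IsCoh F) (m : ℤ)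
    (hreg : Curv2.IsMRegular k n F m)
    (ι : CohB1.tensorMod F (Twist.twistProjSpace n k (-1)) ⟶ F) [Mono ι] :
    Curv2.IsMRegular k n (cokernel ι) m := by
  have hF1 : Coh.IsCoh (CohB1.tensorMod F (Twist.twistProjSpace n k (-1))) :=
    isCoh_tensor_twist F hF (-1)
  have hG : Coh.IsCoh (cokernel ι) := Groth.Agent.Lib.Helper6.DevCore.isCoh_cokernel ι hF1 hF
  rw [isMRegular_iff _ hF] at hreg
  rw [isMRegular_iff _ hG]
  intro q hq
  let S : ShortComplex (CohB1.ProjSpace n k).Modules :=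
    ShortComplex.mk ι (cokernel.π ι) (cokernel.condition ι)
  have hS : S.ShortExact :=
    { exact := ShortComplex.exact_cokernel ι
      mono_f := inferInstanceAs (Mono ι)
      epi_g := inferInstanceAs (Epi (cokernel.π ι)) }
  have hq0 := hreg q hq
  have key : ∀ x : Ext (cokernel ι) (Twist.twistProjSpace n k (-m - 1 - q)) q, x = 0 := by
    intro x
    have hx : (Ext.mk₀ S.g).comp x (zero_add q) = 0 := Subsingleton.elim _ _
    cases q with
    | zero =>
      obtain ⟨φ, rfl⟩ := (Ext.mk₀_bijective _ _).2 x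
      rw [Ext.mk₀_comp_mk₀] at hx
      have h2 : S.g ≫ φ = 0 := (Ext.mk₀_bijective _ _).1 (hx.trans (Ext.mk₀_zero (X := F) (Y := Twist.twistProjSpace n k (-m - 1 - ((0 : ℕ) : ℤ)))).symm)
      have h3 : φ = 0 := by
        rw [← cancel_epi (cokernel.π ι)]
        exact h2.trans comp_zero.symm
      rw [h3, Ext.mk₀_zero]
    | succ q =>
      obtain ⟨y, hy⟩ := Ext.contravariant_sequence_exact₃ hS _ x hx (add_comm 1 q)
      have h1 := hreg q (by omega)
      have h2 : Subsingleton (Ext (CohB1.tensorMod F (Twist.twistProjSpace n k (-1)))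
          (Twist.twistProjSpace n k (-m - 1 - ((q + 1 : ℕ) : ℤ))) q) :=
        @subsingleton_ext_twist_of n k _ ‹_› F (-1) (-m - 1 - (q : ℤ)) _
          (by push_cast; ring) q h1
      rw [← hy, Subsingleton.elim y 0, Ext.comp_zero]
  exact ⟨fun a b => (key a).trans (key b).symm⟩

end WithExt

theorem isMRegular_X₂' (S : ShortComplex (CohB1.ProjSpace n k).Modules) (hS : S.ShortExact)
    (h₁ : Coh.IsCoh S.X₁) (h₂ : Coh.IsCoh S.X₂) (h₃ : Coh.IsCoh S.X₃) (m : ℤ)
    (hreg₁ : Curv2.IsMRegular k n S.X₁ m) (hreg₃ : Curv2.IsMRegular k n S.X₃ m) :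
    Curv2.IsMRegular k n S.X₂ m := by
  haveI : HasExt.{u} (CohB1.ProjSpace n k).Modules := hasExt_of_enoughInjectives _
  exact isMRegular_X₂ S hS h₁ h₂ h₃ m hreg₁ hreg₃

theorem isMRegular_cokernel' (F : (CohB1.ProjSpace n k).Modules) (hF : Coh.IsCoh F) (m : ℤ)
    (hreg : Curv2.IsMRegular k n F m)
    (ι : CohB1.tensorMod F (Twist.twistProjSpace n k (-1)) ⟶ F) [Mono ι] :
    Curv2.IsMRegular k n (cokernel ι) m := by
  haveI : HasExt.{u} (CohB1.ProjSpace n k).Modules := hasExt_of_enoughInjectives _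
  exact isMRegular_cokernel F hF m hreg ι

end Groth.Agent.Lib.Helper2.Kos5
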