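import Groth.Agent.Lib.Helper2.Kos5
import Groth.Agent.Lib.Helper17.TensorSupp
import Groth.Agent.Lib.Helper28.ProjSpaceBasic
import Groth.Agent.S1526

/-!
# Modules with finite support on `P^n_k` are `m`-regular for every `m` (helper2)
-/

set_option backward.isDefEq.respectTransparency.types false
set_option autoImplicit false
universe u
open CategoryTheory CategoryTheory.Limits AlgebraicGeometry Opposite TopologicalSpace Abelian

noncomputable section

namespace Groth.Agent.Lib.Helper2.Kos6

open Groth.Agent.Lib.Helper2.Kos4 Groth.Agent.Lib.Helper2.Kos5 Groth.Agent.Lib.Helper2.SerreFin2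

variable {n : ℕ} {k : Type u} [Field k]

theorem dim_support_tensor_twist_le (Q : (CohB1.ProjSpace n k).Modules) (hQ : Coh.IsCoh Q) (e : ℤ) :
    topologicalKrullDim (CohB1.support (CohB1.tensorMod Q (Twist.twistProjSpace n k e))) ≤
      topologicalKrullDim (CohB1.support Q) := by
  have hO := isCoh_twist n k e
  haveI : Q.IsQuasicoherent := hQ.1
  haveI : SheafOfModules.IsFiniteType.{u} (R := (CohB1.ProjSpace n k).ringCatSheaf) Q := hQ.2
  haveI : (Twist.twistProjSpace n k e).IsQuasicoherent := hO.1
  haveI : SheafOfModules.IsFiniteType.{u} (R := (CohB1.ProjSpace n k).ringCatSheaf)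
    (Twist.twistProjSpace n k e) := hO.2
  have hsub : CohB1.support (CohB1.tensorMod Q (Twist.twistProjSpace n k e)) ⊆ CohB1.support Q := by
    rw [Groth.Agent.Lib.Helper17.TensorSupp.support_tensorMod]
    exact Set.inter_subset_left
  exact (Topology.IsEmbedding.inclusion hsub).isInducing.topologicalKrullDim_le

/-- a coherent module with support of dimension `≤ 0` is `m`-regular for every `m`. -/
theorem isMRegular_of_dim_support_le_zero (Q : (CohB1.ProjSpace n k).Modules) (hQ : Coh.IsCoh Q)
    (hsupp : topologicalKrullDim (CohB1.support Q) ≤ 0) (m : ℤ) : Curv2.IsMRegular k n Q m := by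
  intro i hi1 _
  haveI : IsProper ((CohB1.ProjSpace n k) ↘ (Spec (CommRingCat.of k))) :=
    Groth.Agent.Lib.Helper28.ProjSpaceBasic.isProper_toSpec n k
  exact Groth.Agent.S1526.result k (CohB1.ProjSpace n k)
    (CohB1.tensorMod Q (Twist.twistProjSpace n k (m - i))) (isCoh_tensor_twist Q hQ _)
    ((dim_support_tensor_twist_le Q hQ _).trans hsupp) i hi1

/-- `F' ↪ F` with cokernel of finite support: `F'` `m`-regular implies `F` `m`-regular. -/
theorem isMRegular_of_mono (F' F : (CohB1.ProjSpace n k).Modules) (hF' : Coh.IsCoh F')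
    (hF : Coh.IsCoh F) (φ : F' ⟶ F) [Mono φ]
    (hsupp : topologicalKrullDim (CohB1.support (cokernel φ)) ≤ 0) (m : ℤ)
    (h : Curv2.IsMRegular k n F' m) : Curv2.IsMRegular k n F m := by
  let S : ShortComplex (CohB1.ProjSpace n k).Modules :=
    ShortComplex.mk φ (cokernel.π φ) (cokernel.condition φ)
  have hS : S.ShortExact :=
    { exact := ShortComplex.exact_cokernel φ
      mono_f := inferInstanceAs (Mono φ)
      epi_g := inferInstanceAs (Epi (cokernel.π φ)) }
  have hQ : Coh.IsCoh (cokernel φ) := Groth.Agent.Lib.Helper6.DevCore.isCoh_cokernel φ hF' hF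
  exact isMRegular_X₂' S hS hF' hF hQ m h (isMRegular_of_dim_support_le_zero _ hQ hsupp m)

end Groth.Agent.Lib.Helper2.Kos6
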