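import Mathlib
import Groth.Agent.Lib.Helper2.Kos1
import Groth.Agent.Lib.Helper2.Kos3

/-!
# The top end of the abstract Koszul complex, and the surjectivity chain argument (helper2)
-/

set_option autoImplicit false
universe w v u v' u'
open CategoryTheory CategoryTheory.Limits CochainComplex HomologicalComplex

noncomputable section
namespace Groth.Agent.Lib.Helper2.Kos8

open Kos1 Kos3

section Chain

variable {C : Type u} [Category.{v} C] [Abelian C] [HasExt.{w} C]

/-- dimension shifting: `Ext^p(F, X₂) = 0` and `Ext^{p+1}(F, X₁) = 0` give `Ext^p(F, X₃) = 0`. -/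
theorem subsingleton_ext_X₃ {S : ShortComplex C} (hS : S.ShortExact) (F : C) (p : ℕ)
    (h₂ : Subsingleton (Abelian.Ext F S.X₂ p)) (h₁ : Subsingleton (Abelian.Ext F S.X₁ (p + 1))) :
    Subsingleton (Abelian.Ext F S.X₃ p) := by
  have key : ∀ x : Abelian.Ext F S.X₃ p, x = 0 := by
    intro x
    obtain ⟨y, hy⟩ := Abelian.Ext.covariant_sequence_exact₃ F hS x rfl (Subsingleton.elim _ _)
    rw [← hy, Subsingleton.elim y 0, Abelian.Ext.zero_comp]
  exact ⟨fun a b => (key a).trans (key b).symm⟩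

variable (K : CochainComplex C ℤ)

/-- **the surjectivity chain argument**: if `K` is exact, zero above degree `N` and below degree
`N - s`, and `Ext^q(F, K^{N-1-q}) = 0` for `q ≥ 1`, then every map `F ⟶ K^N` lifts to `K^{N-1}`. -/
theorem chain' (hK : ∀ i, K.ExactAt i) (N : ℤ) (s : ℕ) (htop : IsZero (K.X (N + 1)))
    (hlow : ∀ t : ℤ, t < N - s → IsZero (K.X t)) (F : C)
    (h : ∀ (q : ℕ), 1 ≤ q → Subsingleton (Abelian.Ext F (K.X (N - 1 - q)) q))
    (y : F ⟶ K.X N) : ∃ z : F ⟶ K.X (N - 1), z ≫ K.d (N - 1) N = y := by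
  have claim : ∀ k q : ℕ, 1 ≤ q → s + 1 ≤ q + k → Subsingleton (Abelian.Ext F (Z K (N - q)) q) := by
    intro k
    induction k with
    | zero =>
      intro q _ hq
      have h0 : IsZero (K.X (N - q)) := hlow _ (by omega)
      have hZ : IsZero (Z K (N - q)) := by
        rw [IsZero.iff_id_eq_zero, ← cancel_mono (kernel.ι (K.d (N - q) (N - q + 1)))]
        exact h0.eq_of_tgt _ _
      exact subsingleton_ext_of_isZero_right hZ F q
    | succ k ih =>
      intro q hq1 hq
      have h1 := ih (q + 1) (by omega) (by omega)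
      have h2 := h q hq1
      -- the short exact sequence at `t = N - 1 - q`
      have e1 : N - 1 - (q : ℤ) + 1 = N - q := by ring
      have hS := ses_shortExact K (N - 1 - q) (hK _)
      have h1' : Subsingleton (Abelian.Ext F (ses K (N - 1 - q)).X₁ (q + 1)) := by
        refine subsingleton_ext_of_iso_right (sesX₁Iso K (N - 1 - q)) F (q + 1) ?_
        have e2 : N - ((q + 1 : ℕ) : ℤ) = N - 1 - q := by push_cast; ring
        rw [e2] at h1
        exact h1
      have h3 := subsingleton_ext_X₃ hS F q h2 h1'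
      have e3 : (ses K (N - 1 - q)).X₃ = Z K (N - q) := by
        show Z K (N - 1 - q + 1) = Z K (N - q)
        rw [e1]
      rw [e3] at h3
      exact h3
  have h1 : Subsingleton (Abelian.Ext F (Z K (N - 1)) 1) := by
    have := claim s 1 le_rfl (by omega)
    simpa using this
  have hS := ses_shortExact K (N - 1) (hK _)
  have h1' : Subsingleton (Abelian.Ext F (ses K (N - 1)).X₁ 1) :=
    subsingleton_ext_of_iso_right (sesX₁Iso K (N - 1)) F 1 h1
  -- lift `y` to the cycles
  have e1 : N - 1 + 1 = N := by ring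
  obtain ⟨N', hN'⟩ : ∃ N' : ℤ, N' = N - 1 := ⟨_, rfl⟩
  obtain rfl : N = N' + 1 := by omega
  have e2 : N' + 1 - 1 = N' := by ring
  rw [e2] at hS h1' ⊢
  let y' : F ⟶ Z K (N' + 1) := kernel.lift _ y (htop.eq_of_tgt _ _)
  obtain ⟨x₂, hx₂⟩ := Abelian.Ext.covariant_sequence_exact₃ F hS (Abelian.Ext.mk₀ y') rfl
    (Subsingleton.elim _ _)
  obtain ⟨z, rfl⟩ := (Abelian.Ext.mk₀_bijective F _).2 x₂
  rw [Abelian.Ext.mk₀_comp_mk₀] at hx₂
  have hz : z ≫ lift K N' = y' := (Abelian.Ext.mk₀_bijective F _).1 hx₂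
  refine ⟨z, ?_⟩
  have : z ≫ lift K N' ≫ kernel.ι _ = y := by
    rw [← Category.assoc, hz]
    exact kernel.lift_ι _ _ _
  rwa [kernel.lift_ι] at this

end Chain

section Top

variable {C : Type u} [Category.{v} C] [Abelian C]
variable (L : ℤ → C) (μ : ℕ → ∀ d : ℤ, L d ⟶ L (d + 1))
  (hμ : ∀ (i j : ℕ) (d : ℤ), μ i d ≫ μ j (d + 1) = μ j d ≫ μ i (d + 1)) (N : ℤ)

/-- `μ i` with a free target index. -/
def μ' (i : ℕ) (a b : ℤ) (h : a + 1 = b) : L a ⟶ L b := μ i a ≫ eqToHom (by rw [h])

@[simp] theorem μ'_rfl (i : ℕ) (a : ℤ) : μ' L μ i a (a + 1) rfl = μ i a := by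
  simp [μ']

/-- in the top degree of a cone whose source vanishes one degree higher, the second projection is an
isomorphism. -/
def sndIso {F G : CochainComplex C ℤ} (φ : F ⟶ G) (n : ℤ) (h : IsZero (F.X (n + 1))) :
    (mappingCone φ).X n ≅ G.X n where
  hom := (mappingCone.snd φ).v n n (add_zero n)
  inv := (mappingCone.inr φ).f n
  hom_inv_id := by
    have := mappingCone.id_X φ n (n + 1) rfl
    rw [← this, h.eq_of_tgt ((mappingCone.fst φ).1.v n (n + 1) rfl) 0, zero_comp, zero_add]
  inv_hom_id := by simp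

variable {L μ hμ N} in
theorem isZero_succ (s : ℕ) (d : ℤ) : IsZero (((iter L μ hμ N s).K d).X (N + 1)) := by
  have := iter_X L μ hμ N s d (N + 1)
  have h1 : cnt s (N + 1 - N) = 0 := by
    unfold cnt
    rw [if_neg (by omega)]
  rw [h1] at this
  exact this.isZero

/-- the top term of the cone. -/
def topIso (s : ℕ) (d : ℤ) :
    ((iter L μ hμ N (s + 1)).K d).X N ≅ ((iter L μ hμ N s).K (d + 1)).X N :=
  sndIso ((iter L μ hμ N s).X s d) N (isZero_succ s d)

def fstTop (s : ℕ) (d : ℤ) :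
    ((iter L μ hμ N (s + 1)).K d).X (N - 1) ⟶ ((iter L μ hμ N s).K d).X N :=
  (mappingCone.fst ((iter L μ hμ N s).X s d)).1.v (N - 1) N (by omega)

def sndTop (s : ℕ) (d : ℤ) :
    ((iter L μ hμ N (s + 1)).K d).X (N - 1) ⟶ ((iter L μ hμ N s).K (d + 1)).X (N - 1) :=
  (mappingCone.snd ((iter L μ hμ N s).X s d)).v (N - 1) (N - 1) (add_zero _)

theorem X_topIso (s i : ℕ) (d : ℤ) :
    ((iter L μ hμ N (s + 1)).X i d).f N ≫ (topIso L μ hμ N s (d + 1)).hom =
      (topIso L μ hμ N s d).hom ≫ ((iter L μ hμ N s).X i (d + 1)).f N :=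
  map_snd ((iter L μ hμ N s).X s d) ((iter L μ hμ N s).X s (d + 1))
    ((iter L μ hμ N s).X i d) ((iter L μ hμ N s).X i (d + 1)) ((iter L μ hμ N s).comm s i d) N

theorem d_topIso (s : ℕ) (d : ℤ) :
    ((iter L μ hμ N (s + 1)).K d).d (N - 1) N ≫ (topIso L μ hμ N s d).hom =
      fstTop L μ hμ N s d ≫ ((iter L μ hμ N s).X s d).f N +
        sndTop L μ hμ N s d ≫ ((iter L μ hμ N s).K (d + 1)).d (N - 1) N :=
  mappingCone.d_snd_v ((iter L μ hμ N s).X s d) (N - 1) N (by omega)

/-- the top end of the Koszul family: the top term is `L (d + s)`, the operators act on it through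
`μ`, and the last differential factors through `(μ 0, …, μ (s-1))`. -/
theorem exists_top (s : ℕ) :
    ∃ β : ∀ (d e : ℤ), e = d + s → (((iter L μ hμ N s).K d).X N ≅ L e),
      (∀ (i : ℕ) (d e e' : ℤ) (h : e = d + s) (h' : e' = d + 1 + s) (hh : e + 1 = e'),
        ((iter L μ hμ N s).X i d).f N ≫ (β (d + 1) e' h').hom = (β d e h).hom ≫ μ' L μ i e e' hh) ∧
      (∀ (d e e₀ : ℤ) (h : e = d + s) (hh : e₀ + 1 = e),
        ∃ γ : ℕ → (((iter L μ hμ N s).K d).X (N - 1) ⟶ L e₀),
          ((iter L μ hμ N s).K d).d (N - 1) N ≫ (β d e h).hom =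
            ∑ i ∈ Finset.range s, γ i ≫ μ' L μ i e₀ e hh) := by
  induction s with
  | zero =>
    refine ⟨fun d e h => HomologicalComplex.singleObjXSelf (ComplexShape.up ℤ) N (L d) ≪≫
      eqToIso (by rw [h]; simp), ?_, ?_⟩
    · intro i d e e' h h' hh
      obtain rfl : d = e := by simpa using h.symm
      obtain rfl : e' = d + 1 := by simpa using h'
      show ((HomologicalComplex.single C (ComplexShape.up ℤ) N).map (μ i d)).f N ≫ _ = _
      rw [HomologicalComplex.single_map_f_self]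
      simp [HomologicalComplex.singleObjXSelf]
      rfl
    · intro d e e₀ h hh
      refine ⟨fun _ => 0, ?_⟩
      rw [Finset.range_zero, Finset.sum_empty]
      have h0 : IsZero (((iter L μ hμ N 0).K d).X (N - 1)) :=
        HomologicalComplex.isZero_single_obj_X (ComplexShape.up ℤ) N (L d) (N - 1) (by omega)
      exact h0.eq_of_src _ _
  | succ s ih =>
    obtain ⟨β, hβ1, hβ2⟩ := ih
    refine ⟨fun d e h => topIso L μ hμ N s d ≪≫
      β (d + 1) e (by rw [h]; push_cast; ring), ?_, ?_⟩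
    · intro i d e e' h h' hh
      dsimp only [Iso.trans_hom]
      rw [← Category.assoc, X_topIso, Category.assoc, Category.assoc]
      congr 1
      exact hβ1 i (d + 1) e e' _ _ hh
    · intro d e e₀ h hh
      have he₀ : e₀ = d + s := by rw [h] at hh; push_cast at hh; omega
      obtain ⟨γ, hγ⟩ := hβ2 (d + 1) e e₀ (by rw [h]; push_cast; ring) hh
      have hT := hβ1 s d e₀ e he₀ (by rw [h]; push_cast; ring) hh
      refine ⟨fun i => if i = s then fstTop L μ hμ N s d ≫ (β d e₀ he₀).hom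
        else sndTop L μ hμ N s d ≫ γ i, ?_⟩
      dsimp only [Iso.trans_hom]
      rw [Finset.sum_range_succ, if_pos rfl]
      have hsum : ∑ x ∈ Finset.range s, (if x = s then fstTop L μ hμ N s d ≫ (β d e₀ he₀).hom
          else sndTop L μ hμ N s d ≫ γ x) ≫ μ' L μ x e₀ e hh =
        sndTop L μ hμ N s d ≫ ∑ x ∈ Finset.range s, γ x ≫ μ' L μ x e₀ e hh := by
        rw [Preadditive.comp_sum]
        refine Finset.sum_congr rfl (fun x hx => ?_)
        rw [if_neg (by rw [Finset.mem_range] at hx; omega), Category.assoc]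
      rw [hsum, ← hγ, ← Category.assoc, d_topIso, Preadditive.add_comp,
        Category.assoc, Category.assoc, Category.assoc, hT]
      exact add_comm _ _

end Top

end Groth.Agent.Lib.Helper2.Kos8
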