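import Mathlib
import Groth.Agent.Lib.Helper2.KosTor2
import Groth.Agent.Lib.Helper2.KosReg1

/-!
# The terms of the Koszul complex are free of binomial rank; its differentials die in modules
killed by the sequence
-/

set_option autoImplicit false
universe u

open CategoryTheory CategoryTheory.Limits CochainComplex HomComplex

namespace Groth.Agent.Lib.Helper2.KosExt1

open Groth.Agent.Lib.Helper2.KosReg1 Groth.Agent.Lib.Helper2.KosTor2

variable {A : Type u} [CommRing A]

/-- `A^a × A^b ≃ A^(a+b)`. -/
noncomputable def prodFinEquiv (a b : ℕ) :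
    ((Fin a → A) × (Fin b → A)) ≃ₗ[A] (Fin (a + b) → A) :=
  (LinearEquiv.sumArrowLequivProdArrow (Fin a) (Fin b) A A).symm ≪≫ₗ
    LinearEquiv.funCongrLeft A A finSumFinEquiv.symm

/-- the term in degree `-i` of the Koszul complex on `p` elements is free of rank `p choose i`. -/
theorem koszul_X_equiv (l : List A) : ∀ i : ℕ,
    Nonempty ((Koszul.koszul A l).X (-(i : ℤ)) ≃ₗ[A] (Fin (l.length.choose i) → A)) := by
  induction l with
  | nil =>
    intro i
    cases i with
    | zero =>
      have e1 : (Koszul.koszul A []).X (-((0 : ℕ) : ℤ)) ≃ₗ[A] A :=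
        (HomologicalComplex.singleObjXSelf (ComplexShape.up ℤ) (0 : ℤ)
          (ModuleCat.of A A)).toLinearEquiv
      exact ⟨e1 ≪≫ₗ (LinearEquiv.funUnique (Fin 1) A A).symm⟩
    | succ j =>
      have hz : IsZero ((Koszul.koszul A []).X (-((j + 1 : ℕ) : ℤ))) :=
        HomologicalComplex.isZero_single_obj_X (ComplexShape.up ℤ) 0 (ModuleCat.of A A) _
          (by push_cast; omega)
      haveI : Subsingleton ((Koszul.koszul A []).X (-((j + 1 : ℕ) : ℤ))) :=
        ModuleCat.subsingleton_of_isZero hz
      have h0 : ([] : List A).length.choose (j + 1) = 0 := by simp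
      rw [h0]
      exact ⟨LinearEquiv.ofSubsingleton _ _⟩
  | cons f l ih =>
    intro i
    cases i with
    | zero =>
      have e1 := coneEquiv (f • 𝟙 (Koszul.koszul A l)) (-((0 : ℕ) : ℤ)) 1 (by simp)
      have hz : IsZero ((Koszul.koszul A l).X 1) := isZero_koszul_X l 1 (by norm_num)
      haveI : Subsingleton ((Koszul.koszul A l).X 1) := ModuleCat.subsingleton_of_isZero hz
      obtain ⟨e2⟩ := ih 0
      have h0 : (f :: l).length.choose 0 = l.length.choose 0 := by simp
      rw [h0]
      have e3 : ((Koszul.koszul A l).X 1 × (Koszul.koszul A l).X (-((0 : ℕ) : ℤ))) ≃ₗ[A]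
          (Koszul.koszul A l).X (-((0 : ℕ) : ℤ)) :=
        { toFun := fun p => p.2
          invFun := fun b => (0, b)
          map_add' := fun _ _ => rfl
          map_smul' := fun _ _ => rfl
          left_inv := fun p => by
            ext
            · exact Subsingleton.elim _ _
            · rfl
          right_inv := fun b => rfl }
      exact ⟨e1 ≪≫ₗ e3 ≪≫ₗ e2⟩
    | succ j =>
      have e1 := coneEquiv (f • 𝟙 (Koszul.koszul A l)) (-((j + 1 : ℕ) : ℤ)) (-(j : ℤ))
        (by push_cast; omega)
      obtain ⟨e2⟩ := ih j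
      obtain ⟨e3⟩ := ih (j + 1)
      have h0 : (f :: l).length.choose (j + 1) = l.length.choose j + l.length.choose (j + 1) := by
        rw [List.length_cons, Nat.choose_succ_succ]
      rw [h0]
      exact ⟨e1 ≪≫ₗ (LinearEquiv.prodCongr e2 e3) ≪≫ₗ prodFinEquiv _ _⟩

/-- maps out of the term in degree `-i`. -/
theorem koszul_hom_equiv (l : List A) (i : ℕ) (M : Type u) [AddCommGroup M] [Module A M] :
    Nonempty (((Koszul.koszul A l).X (-(i : ℤ)) →ₗ[A] M) ≃ₗ[A]
      (Fin (l.length.choose i) → M)) := by
  obtain ⟨e⟩ := koszul_X_equiv l i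
  exact ⟨LinearEquiv.congrLeft M A e ≪≫ₗ
    ((Pi.basisFun A (Fin (l.length.choose i))).constr A).symm⟩

/-- differential of the cone on the first summand. -/
theorem d_cinl {K L : DRing.Cx A} (φ : K ⟶ L) (n m k : ℤ) (h : n + 1 = m) (h' : m + 1 = k)
    (a : K.X m) :
    ((mappingCone φ).d n m).hom (cinl φ n m h a) =
      cinr φ m ((φ.f m).hom a) - cinl φ m k h' ((K.d m k).hom a) := by
  have := congrArg (fun g => g.hom a) (mappingCone.inl_v_d φ m n k (by omega) (by omega))
  exact this

/-- differential of the cone on the second summand. -/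
theorem d_cinr {K L : DRing.Cx A} (φ : K ⟶ L) (n m : ℤ) (b : L.X n) :
    ((mappingCone φ).d n m).hom (cinr φ n b) = cinr φ m ((L.d n m).hom b) := by
  have := congrArg (fun g => g.hom b) (mappingCone.inr_f_d φ n m)
  exact this

/-- a criterion for a map out of a cone to kill the differential. -/
theorem cone_d_killed {K L : DRing.Cx A} (φ : K ⟶ L) {N : Type u} [AddCommGroup N] [Module A N]
    (n m : ℤ) (hnm : n + 1 = m) (g : (mappingCone φ).X m →ₗ[A] N) (x : (mappingCone φ).X n)
    (h1 : ∀ a : K.X m, g (cinr φ m ((φ.f m).hom a)) = 0)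
    (h2 : ∀ a : K.X m, g (cinl φ m (m + 1) rfl ((K.d m (m + 1)).hom a)) = 0)
    (h3 : ∀ b : L.X n, g (cinr φ m ((L.d n m).hom b)) = 0) :
    g (((mappingCone φ).d n m).hom x) = 0 := by
  rw [cdecomp φ n m hnm x, map_add, map_add, d_cinl φ n m (m + 1) hnm rfl, d_cinr, map_sub,
    h1, h2, h3]
  simp

/-- every map from the Koszul complex to a module killed by the sequence kills the
differentials. -/
theorem koszul_d_killed (l : List A) : ∀ (N : Type u) [AddCommGroup N] [Module A N]
    (_ : ∀ a ∈ l, ∀ y : N, a • y = 0) (n m : ℤ) (g : (Koszul.koszul A l).X m →ₗ[A] N)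
    (x : (Koszul.koszul A l).X n), g (((Koszul.koszul A l).d n m).hom x) = 0 := by
  induction l with
  | nil =>
    intro N _ _ _ n m g x
    have hd : (Koszul.koszul A []).d n m = 0 := by
      by_cases hn : n = 0
      · have hm : m ≠ 0 ∨ ¬ (n + 1 = m) := by omega
        rcases hm with hm | hm
        · exact (HomologicalComplex.isZero_single_obj_X (ComplexShape.up ℤ) 0
            (ModuleCat.of A A) m hm).eq_of_tgt _ _
        · exact (Koszul.koszul A []).shape n m hm
      · exact (HomologicalComplex.isZero_single_obj_X (ComplexShape.up ℤ) 0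
          (ModuleCat.of A A) n hn).eq_of_src _ _
    rw [hd]
    exact map_zero g
  | cons f l ih =>
    intro N _ _ hN n m g x
    by_cases hnm : n + 1 = m
    · have hN' : ∀ a ∈ l, ∀ y : N, a • y = 0 := fun a ha y => hN a (List.mem_cons_of_mem f ha) y
      refine cone_d_killed (f • 𝟙 (Koszul.koszul A l)) n m hnm g x ?_ ?_ ?_
      · intro a
        have : ((f • 𝟙 (Koszul.koszul A l) : Koszul.koszul A l ⟶ Koszul.koszul A l).f m).hom a
            = f • a := rfl
        rw [this, map_smul, map_smul]
        exact hN f List.mem_cons_self _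
      · intro a
        exact ih N hN' m (m + 1) (g ∘ₗ cinl (f • 𝟙 (Koszul.koszul A l)) m (m + 1) rfl) a
      · intro b
        exact ih N hN' n m (g ∘ₗ cinr (f • 𝟙 (Koszul.koszul A l)) m) b
    · have hd : (Koszul.koszul A (f :: l)).d n m = 0 := (Koszul.koszul A (f :: l)).shape n m hnm
      rw [hd]
      exact map_zero g

end Groth.Agent.Lib.Helper2.KosExt1
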