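import Mathlib
import Groth.Agent.Lib.Helper2.KosExt1

/-!
# `Ext` out of a quotient by a regular sequence into a module killed by the sequence
-/

set_option autoImplicit false
universe u

open CategoryTheory CategoryTheory.Limits CategoryTheory.Abelian

namespace Groth.Agent.Lib.Helper2.KosExt2

open Groth.Agent.Lib.Helper2.KosExt1 Groth.Agent.Lib.Helper2.KosTor2
open Groth.Agent.Lib.Helper21.ExactRes

variable {A : Type u} [CommRing A]

/-- `Ext` is invariant under isomorphisms in the first variable. -/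
noncomputable def extCongrLeft {X X' : ModuleCat.{u} A} (e : X ≅ X') (Y : ModuleCat.{u} A) (n : ℕ) :
    Ext X Y n ≃ₗ[A] Ext X' Y n :=
  LinearEquiv.ofLinear
    (Ext.precompOfLinear (Ext.mk₀ e.inv) A Y (zero_add n))
    (Ext.precompOfLinear (Ext.mk₀ e.hom) A Y (zero_add n))
    (by
      ext x
      change (Ext.mk₀ e.inv).comp ((Ext.mk₀ e.hom).comp x (zero_add n)) (zero_add n) = x
      rw [Ext.mk₀_comp_mk₀_assoc, e.inv_hom_id, Ext.mk₀_id_comp])
    (by
      ext x
      change (Ext.mk₀ e.hom).comp ((Ext.mk₀ e.inv).comp x (zero_add n)) (zero_add n) = x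
      rw [Ext.mk₀_comp_mk₀_assoc, e.hom_inv_id, Ext.mk₀_id_comp])

/-- if all maps from the terms of a projective resolution to `Y` kill the differentials, then
`Ext^{n+1}(X, Y)` is the module of maps from the `(n+1)`-st term. -/
theorem ext_equiv_of_d_killed {X : ModuleCat.{u} A} (R : ProjectiveResolution X)
    (Y : ModuleCat.{u} A) (n : ℕ)
    (h1 : ∀ g : R.complex.X (n + 1) ⟶ Y, R.complex.d (n + 2) (n + 1) ≫ g = 0)
    (h2 : ∀ g : R.complex.X n ⟶ Y, R.complex.d (n + 1) n ≫ g = 0) :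
    Nonempty ((R.complex.X (n + 1) ⟶ Y) ≃ₗ[A] Ext X Y (n + 1)) := by
  let Φ : (R.complex.X (n + 1) ⟶ Y) →ₗ[A] Ext X Y (n + 1) :=
    { toFun := fun g => R.extMk g (n + 2) rfl (h1 g)
      map_add' := fun g g' => (R.add_extMk g g' (n + 2) rfl (h1 g) (h1 g')).symm
      map_smul' := fun r g => by
        rw [RingHom.id_apply, Ext.smul_eq_comp_mk₀, R.extMk_comp_mk₀]
        congr 1 }
  refine ⟨LinearEquiv.ofBijective Φ ⟨?_, ?_⟩⟩
  · rw [← LinearMap.ker_eq_bot, LinearMap.ker_eq_bot']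
    intro g hg
    change R.extMk g (n + 2) rfl (h1 g) = 0 at hg
    rw [R.extMk_eq_zero_iff g (n + 2) rfl (h1 g) n rfl] at hg
    obtain ⟨g', hg'⟩ := hg
    rw [← hg', h2 g']
  · intro α
    obtain ⟨g, hg, hα⟩ := R.extMk_surjective α (n + 2) rfl
    exact ⟨g, hα⟩

end Groth.Agent.Lib.Helper2.KosExt2
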