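import Mathlib
import Groth.Agent.Lib.Helper2.KosReg2
import Groth.Agent.Lib.Helper2.FullCech1

/-!
# Iterated Koszul steps on complexes; lowest non-vanishing cohomology; compatibility with Čech steps
-/

set_option autoImplicit false
universe u

open CategoryTheory CategoryTheory.Limits CochainComplex HomComplex DerCA

namespace Groth.Agent.Lib.Helper2.KosReg3

open Groth.Agent.Lib.Helper2.FullCech2 Groth.Agent.Lib.Helper2.KosReg1
  Groth.Agent.Lib.Helper2.KosReg2 Groth.Agent.Lib.Helper2.CechLow1
  Groth.Agent.Lib.Helper2.LCCech1 Groth.Agent.Lib.Helper2.FullCech1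

attribute [local instance] HasDerivedCategory.standard

variable {R : Type u} [CommRing R]

section Consequences

variable (f : R) (K : DRing.Cx R)

theorem isZero_T (n m : ℤ) (h : n + 1 = m) (h0 : IsZero (K.homology n))
    (h1 : IsZero (K.homology m)) : IsZero ((T f K).homology n) := by
  haveI := ModuleCat.subsingleton_of_isZero h0
  haveI := ModuleCat.subsingleton_of_isZero h1
  haveI : Subsingleton ((T f K).homology n) := by
    refine ⟨fun z z' => ?_⟩
    have hz : ∀ z : (T f K).homology n, z = 0 := by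
      intro z
      obtain ⟨w, rfl⟩ := (exact3 f K n m h z).1 (Subsingleton.elim _ _)
      rw [Subsingleton.elim w 0, map_zero]
    rw [hz z, hz z']
  exact ModuleCat.isZero_of_subsingleton _

theorem isZero_T_of_bij (n m : ℤ) (h : n + 1 = m)
    (hb0 : Function.Surjective (fun z : K.homology n => f • z))
    (hb1 : Function.Injective (fun z : K.homology m => f • z)) :
    IsZero ((T f K).homology n) := by
  haveI : Subsingleton ((T f K).homology n) := by
    refine ⟨fun z z' => ?_⟩
    have hz : ∀ z : (T f K).homology n, z = 0 := by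
      intro z
      have h1 : f • Tdel f K n m h z = 0 := (exact1 f K n m h).apply_apply_eq_zero z
      have h2 : Tdel f K n m h z = 0 := hb1 (h1.trans (smul_zero f).symm)
      obtain ⟨w, rfl⟩ := (exact3 f K n m h z).1 h2
      obtain ⟨w', rfl⟩ := hb0 w
      exact (exact2 f K n).apply_apply_eq_zero w'
    rw [hz z, hz z']
  exact ModuleCat.isZero_of_subsingleton _

theorem torsion_T (g : R) (n m : ℤ) (h : n + 1 = m)
    (h0 : ∀ z : K.homology n, ∃ k : ℕ, g ^ k • z = 0)
    (h1 : ∀ z : K.homology m, ∃ k : ℕ, g ^ k • z = 0) (z : (T f K).homology n) :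
    ∃ k : ℕ, g ^ k • z = 0 := by
  obtain ⟨k, hk⟩ := h1 (Tdel f K n m h z)
  rw [← map_smul] at hk
  obtain ⟨w, hw⟩ := (exact3 f K n m h _).1 hk
  obtain ⟨j, hj⟩ := h0 w
  refine ⟨j + k, ?_⟩
  rw [pow_add, mul_smul, ← hw, ← map_smul, hj, map_zero]

theorem not_isZero_T (n m : ℤ) (h : n + 1 = m) (x : K.homology m) (hx : x ≠ 0)
    (hfx : f • x = 0) : ¬ IsZero ((T f K).homology n) := by
  intro hz
  haveI := ModuleCat.subsingleton_of_isZero hz
  obtain ⟨z, rfl⟩ := (exact1 f K n m h x).1 hfx
  apply hx
  rw [Subsingleton.elim z 0, map_zero]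

end Consequences

section Iterate

/-- the iterated Koszul step. -/
noncomputable def Tl : List R → DRing.Cx R → DRing.Cx R
  | [], K => K
  | f :: l, K => T f (Tl l K)

/-- functoriality. -/
noncomputable def Tlmap : ∀ (l : List R) {K L : DRing.Cx R} (_ : K ⟶ L), Tl l K ⟶ Tl l L
  | [], _, _, a => a
  | f :: l, _, _, a => Tmap f (Tlmap l a)

theorem TSE.Tl {K' K K'' : DRing.Cx R} {a : K' ⟶ K} {b : K ⟶ K''} (h : TSE a b) :
    ∀ l : List R, TSE (Tlmap l a) (Tlmap l b)
  | [] => h
  | f :: l => TSE.T f (TSE.Tl h l)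

end Iterate

section Low

/-- the cohomology of `K` is torsion for all elements of `gs`, vanishes below `q`, and is nonzero in
degree `q`. -/
structure Low (gs : List R) (K : DRing.Cx R) (q : ℤ) : Prop where
  tors : ∀ (n : ℤ) (z : K.homology n), ∀ g ∈ gs, ∃ k : ℕ, g ^ k • z = 0
  van : ∀ n : ℤ, n < q → IsZero (K.homology n)
  ne : ¬ IsZero (K.homology q)

theorem exists_ne_zero (M : ModuleCat.{u} R) (h : ¬ IsZero M) : ∃ x : M, x ≠ 0 := by
  by_contra hcon
  push Not at hcon
  apply h
  haveI : Subsingleton M := ⟨fun a b => (hcon a).trans (hcon b).symm⟩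
  exact ModuleCat.isZero_of_subsingleton _

theorem exists_killed {M : Type*} [AddCommGroup M] [Module R M] (f : R) (x : M) (hx : x ≠ 0)
    (k : ℕ) (hk : f ^ k • x = 0) : ∃ y : M, y ≠ 0 ∧ f • y = 0 := by
  induction k generalizing x with
  | zero =>
    rw [pow_zero, one_smul] at hk
    exact absurd hk hx
  | succ k ih =>
    by_cases h : f • x = 0
    · exact ⟨x, hx, h⟩
    · apply ih (f • x) h
      rw [← mul_smul, ← pow_succ]
      exact hk

theorem Low.T {gs : List R} {K : DRing.Cx R} {q : ℤ} (h : Low gs K q) (f : R) (hf : f ∈ gs) :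
    Low gs (T f K) (q - 1) where
  tors n z g hg :=
    torsion_T f K g n (n + 1) rfl (fun w => h.tors n w g hg) (fun w => h.tors (n + 1) w g hg) z
  van n hn := isZero_T f K n (n + 1) rfl (h.van n (by omega)) (h.van (n + 1) (by omega))
  ne := by
    obtain ⟨x, hx⟩ := exists_ne_zero _ h.ne
    obtain ⟨k, hk⟩ := h.tors q x f hf
    obtain ⟨y, hy, hfy⟩ := exists_killed f x hx k hk
    exact not_isZero_T f K (q - 1) q (by omega) y hy hfy

theorem Low.Tl {gs : List R} {K : DRing.Cx R} {q : ℤ} (h : Low gs K q) :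
    ∀ l : List R, (∀ f ∈ l, f ∈ gs) → Low gs (Tl l K) (q - l.length)
  | [], _ => by
    have : q - (([] : List R).length : ℤ) = q := by simp
    rw [this]
    exact h
  | f :: l, hl => by
    have h1 := (Low.Tl h l (fun g hg => hl g (List.mem_cons_of_mem _ hg))).T f
      (hl f List.mem_cons_self)
    have : q - ((f :: l).length : ℤ) = q - (l.length : ℤ) - 1 := by
      simp only [List.length_cons, Nat.cast_add, Nat.cast_one]
      ring
    rw [this]
    exact h1

end Low

end Groth.Agent.Lib.Helper2.KosReg3
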