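import Mathlib
import Groth.Agent.Lib.Helper2.KosReg3

/-!
# Koszul steps of Čech steps: the Čech direction does not change the Koszul cohomology
-/

set_option autoImplicit false
universe u

open CategoryTheory CategoryTheory.Limits CochainComplex HomComplex DerCA

namespace Groth.Agent.Lib.Helper2.KosReg4

open Groth.Agent.Lib.Helper2.FullCech2 Groth.Agent.Lib.Helper2.KosReg1
  Groth.Agent.Lib.Helper2.KosReg2 Groth.Agent.Lib.Helper2.KosReg3
  Groth.Agent.Lib.Helper2.CechLow1
  Groth.Agent.Lib.Helper2.LCCech1 Groth.Agent.Lib.Helper2.FullCech1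

attribute [local instance] HasDerivedCategory.standard

variable {R : Type u} [CommRing R]

section Cocone

variable {K L : DRing.Cx R} (φ : K ⟶ L)

set_option backward.defeqAttrib.useBackward true in
set_option backward.isDefEq.respectTransparency false in
theorem fst_f (n : ℤ) :
    (mappingCocone.fst φ).f n = (mappingCone.fst φ).1.v (n + -1) n (by omega) := by
  simp [mappingCocone.fst, Cochain.leftShift_v (n := 1) _ _ _ _ _ n _ (n + -1) (by lia)]

theorem fst_apply (n : ℤ) (z : (mappingCocone φ).X n) :
    ((mappingCocone.fst φ).f n).hom z = kfst φ n n rfl z := by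
  rw [fst_f]
  rfl

/-- the inclusion of the shifted target into the cocone. -/
noncomputable def iota : L⟦(-1 : ℤ)⟧ ⟶ mappingCocone φ :=
  (CategoryTheory.shiftFunctor (CochainComplex (ModuleCat.{u} R) ℤ) (-1 : ℤ)).map
    (mappingCone.inr φ)

theorem iota_apply (n : ℤ) (y : (L⟦(-1 : ℤ)⟧).X n) :
    ((iota φ).f n).hom y = kinr φ n (n + -1) (by omega) y := by
  unfold kinr
  rw [Cochain.ofHom_v]
  rfl

theorem tse_cocone : TSE (iota φ) (mappingCocone.fst φ) where
  inj n := by
    intro y y' h
    rw [iota_apply, iota_apply] at h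
    have := congrArg (ksnd φ n (n + -1) (by omega)) h
    rwa [ksnd_kinr, ksnd_kinr] at this
  ex n := by
    intro z
    rw [fst_apply]
    constructor
    · intro hz
      refine ⟨ksnd φ n (n + -1) (by omega) z, ?_⟩
      rw [iota_apply]
      conv_rhs => rw [decomp φ n n (n + -1) rfl (by omega) z, hz, map_zero, zero_add]
    · rintro ⟨y, rfl⟩
      rw [iota_apply, kfst_kinr]
  surj n := by
    intro x
    exact ⟨kinl φ n n rfl x, by rw [fst_apply, kfst_kinl]⟩

end Cocone

section ActBij

/-- `g` acts bijectively on all terms of the complex. -/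
def ActBij (g : R) (K : DRing.Cx R) : Prop :=
  ∀ n : ℤ, Function.Bijective (fun x : K.X n => g • x)

theorem ActBij.shift {g : R} {K : DRing.Cx R} (h : ActBij g K) : ActBij g (K⟦(-1 : ℤ)⟧) :=
  fun n => h (n + -1)

theorem actBij_loc (g : R) (K : DRing.Cx R) :
    ActBij g ((locCx (Submonoid.powers g)).obj K) := by
  intro n
  have h := IsLocalizedModule.map_units (S := Submonoid.powers g)
    (LocalizedModule.mkLinearMap (Submonoid.powers g) (K.X n)) ⟨g, 1, pow_one g⟩
  rw [Module.End.isUnit_iff] at h
  exact h

theorem ActBij.T {g : R} {K : DRing.Cx R} (h : ActBij g K) (f : R) : ActBij g (T f K) := by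
  intro n
  let e := coneEquiv (f • 𝟙 K) n (n + 1) rfl
  constructor
  · intro z z' hzz
    have h1 : g • e z = g • e z' := by
      rw [← map_smul, ← map_smul]
      exact congrArg e hzz
    have h2 : e z = e z' := by
      ext
      · exact (h (n + 1)).1 (congrArg Prod.fst h1)
      · exact (h n).1 (congrArg Prod.snd h1)
    exact e.injective h2
  · intro z
    obtain ⟨a, ha⟩ := (h (n + 1)).2 (e z).1
    obtain ⟨b, hb⟩ := (h n).2 (e z).2
    refine ⟨e.symm (a, b), ?_⟩
    change g • e.symm (a, b) = z
    rw [← map_smul]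
    apply e.injective
    rw [LinearEquiv.apply_symm_apply]
    ext
    · exact ha
    · exact hb

theorem ActBij.Tl {g : R} {K : DRing.Cx R} (h : ActBij g K) :
    ∀ l : List R, ActBij g (Tl l K)
  | [] => h
  | f :: l => (ActBij.Tl h l).T f

theorem ActBij.homology {g : R} {K : DRing.Cx R} (h : ActBij g K) (n : ℤ) :
    Function.Bijective (fun z : K.homology n => g • z) := by
  haveI : ∀ m : ℤ, IsIso ((g • 𝟙 K : K ⟶ K).f m) := by
    intro m
    rw [ConcreteCategory.isIso_iff_bijective]
    exact h m
  haveI : IsIso (g • 𝟙 K : K ⟶ K) := HomologicalComplex.Hom.isIso_of_components _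
  haveI : IsIso (HomologicalComplex.homologyMap (g • 𝟙 K : K ⟶ K) n) := inferInstance
  have hb := ConcreteCategory.bijective_of_isIso
    (HomologicalComplex.homologyMap (g • 𝟙 K : K ⟶ K) n)
  have he : (fun z : K.homology n => g • z) =
      fun z => (HomologicalComplex.homologyMap (g • 𝟙 K : K ⟶ K) n).hom z := by
    funext z
    exact (homologyMap_apply g K n z).symm
  rw [he]
  exact hb

theorem acyclic_Tl (g : R) : ∀ (l : List R), g ∈ l → ∀ (K : DRing.Cx R), ActBij g K →
    ∀ n : ℤ, IsZero ((Tl l K).homology n)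
  | [], hg, _, _, _ => by simp at hg
  | f :: l, hg, K, hK, n => by
    by_cases hgl : g ∈ l
    · exact isZero_T f (Tl l K) n (n + 1) rfl (acyclic_Tl g l hgl K hK n)
        (acyclic_Tl g l hgl K hK (n + 1))
    · have hgf : g = f := by
        rcases List.mem_cons.1 hg with h | h
        · exact h
        · exact absurd h hgl
      subst hgf
      have hb := ActBij.Tl hK l
      exact isZero_T_of_bij g (Tl l K) n (n + 1) rfl (hb.homology n).2 (hb.homology (n + 1)).1

end ActBij

section Step

theorem step (l : List R) (g : R) (hg : g ∈ l) (K : DRing.Cx R) (n : ℤ)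
    (h : IsZero ((Tl l K).homology n)) : IsZero ((Tl l (cechStep g K)).homology n) := by
  have htse := Groth.Agent.Lib.Helper2.KosReg3.TSE.Tl
    (tse_cocone (locCxUnit (Submonoid.powers g) K)) l
  have hS := htse.shortExact
  exact isZero_homology_mid hS n
    (acyclic_Tl g l hg _ (ActBij.shift (actBij_loc g K)) n) h

theorem steps (l : List R) (K : DRing.Cx R) (n : ℤ) (h : IsZero ((Tl l K).homology n)) :
    ∀ gs : List R, (∀ g ∈ gs, g ∈ l) → IsZero ((Tl l (cechCx K gs)).homology n)
  | [], _ => h
  | g :: gs, hgs =>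
    step l g (hgs g List.mem_cons_self) (cechCx K gs) n
      (steps l K n h gs (fun g' hg' => hgs g' (List.mem_cons_of_mem _ hg')))

end Step

end Groth.Agent.Lib.Helper2.KosReg4
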