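import Mathlib
import Groth.Agent.Lib.Helper2.RpushQC6
import Groth.Agent.Lib.Helper6.RDSesLES
import Groth.Prelude.Def_LocCohZ

/-!
# Quasi-coherence of the local cohomology sheaves `ℋ^q_Z(M)` (helper2)
-/

universe u

open CategoryTheory Limits AlgebraicGeometry Opposite TopologicalSpace

namespace Groth.Agent.Lib.Helper2.LCQC

open Groth.Agent.Lib.Helper6 Groth.Agent.Lib.Helper2.RpushQC3 Groth.Agent.Lib.Helper2.RpushQC4

variable {U Y : Scheme.{u}} (j : U ⟶ Y) [IsOpenImmersion j]

/-- `j_* j^*` -/
noncomputable abbrev Ψ : Y.Modules ⥤ Y.Modules :=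
  Scheme.Modules.restrictFunctor j ⋙ Scheme.Modules.pushforward j

/-- restrictions of flasque modules are flasque -/
lemma isFlasque_restrict (I : Y.Modules) (hI : TopCat.Sheaf.IsFlasque (Coh.toAb I)) :
    TopCat.Sheaf.IsFlasque (Coh.toAb (I.restrict j)) where
  epi {V V'} i := by
    change Epi ((Coh.toAb I).obj.map (j.opensFunctor.map i.unop).op)
    exact TopCat.Presheaf.IsFlasque.epi (F := (Coh.toAb I).obj) _

/-- the unit `I ⟶ j_* (I|_U)` is epi for flasque `I` -/
lemma epi_unit (I : Y.Modules) (hI : TopCat.Sheaf.IsFlasque (Coh.toAb I)) :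
    Epi ((Scheme.Modules.restrictAdjunction j).unit.app I) := by
  haveI : Epi ((Scheme.Modules.toPresheaf Y).map ((Scheme.Modules.restrictAdjunction j).unit.app I)) := by
    haveI : ∀ T, Epi (((Scheme.Modules.toPresheaf Y).map
        ((Scheme.Modules.restrictAdjunction j).unit.app I)).app T) := by
      intro T
      exact TopCat.Presheaf.IsFlasque.epi (F := (Coh.toAb I).obj) _
    exact NatTrans.epi_of_epi_app _
  exact (Scheme.Modules.toPresheaf Y).epi_of_epi_map inferInstance

lemma hw : CxOX.gammaZι j ≫ (Scheme.Modules.restrictAdjunction j).unit = 0 := by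
  ext F : 2
  exact kernel.condition _

lemma hses (I : Y.Modules) (hI : Injective I) :
    (RDSes.sc (CxOX.gammaZι j) (Scheme.Modules.restrictAdjunction j).unit (hw j) I).ShortExact := by
  haveI := hI
  haveI : Epi (RDSes.sc (CxOX.gammaZι j) (Scheme.Modules.restrictAdjunction j).unit (hw j) I).g :=
    epi_unit j I (PushEdge3.isFlasque_of_injective I)
  haveI : Mono (RDSes.sc (CxOX.gammaZι j) (Scheme.Modules.restrictAdjunction j).unit (hw j) I).f :=
    inferInstanceAs (Mono (kernel.ι ((Scheme.Modules.restrictAdjunction j).unit.app I)))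
  exact
    { exact := ShortComplex.exact_of_f_is_kernel _
        (kernelIsKernel ((Scheme.Modules.restrictAdjunction j).unit.app I)) }

/-- `R^n (j_* j^*) M ≅ R^n j_* (M|_U)` -/
theorem nonempty_rightDerived_Ψ_iso (n : ℕ) (M : Y.Modules) :
    Nonempty (((Ψ j).rightDerived n).obj M ≅ (Coh.Rpush j n).obj (M.restrict j)) :=
  RpushQC1.nonempty_precomp_iso (Scheme.Modules.restrictFunctor j) (Scheme.Modules.pushforward j)
    (fun I hI k => by
      haveI := hI
      exact isZero_Rpush_of_flasque j _
        (isFlasque_restrict j I (PushEdge3.isFlasque_of_injective I)) k)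
    n M

variable [QuasiCompact j]

lemma qc_Ψ (M : Y.Modules) [M.IsQuasicoherent] (n : ℕ) :
    (((Ψ j).rightDerived n).obj M).IsQuasicoherent := by
  obtain ⟨e⟩ := nonempty_rightDerived_Ψ_iso j n M
  haveI : (M.restrict j).IsQuasicoherent := inferInstance
  haveI := RpushQC6.isQuasicoherent_Rpush j (M.restrict j) n
  exact AffExt2.isQuasicoherent_of_iso e.symm

lemma qc_id (M : Y.Modules) [M.IsQuasicoherent] (n : ℕ) :
    (((𝟭 Y.Modules).rightDerived n).obj M).IsQuasicoherent := by
  cases n with
  | zero =>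
    haveI : ((𝟭 Y.Modules).obj M).IsQuasicoherent := ‹M.IsQuasicoherent›
    exact AffExt2.isQuasicoherent_of_iso
      ((Functor.rightDerivedZeroIsoSelf (𝟭 Y.Modules)).app M).symm
  | succ n => exact isQuasicoherent_of_isZero _ (RDSes.isZero_rightDerived_id M n)

/-- **the local cohomology sheaves of a quasi-coherent module are quasi-coherent** -/
theorem isQuasicoherent_HZshM (M : Y.Modules) [M.IsQuasicoherent] (q : ℕ) :
    (((DCoh.gammaZ j).rightDerived q).obj M).IsQuasicoherent := by
  have hW := hw j
  have hS := hses j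
  cases q with
  | zero =>
    haveI := RDSes.mono_rightDerived_zero_app (CxOX.gammaZι j)
      (Scheme.Modules.restrictAdjunction j).unit hW hS M
    have hex := RDSes.exact_at_B (CxOX.gammaZι j)
      (Scheme.Modules.restrictAdjunction j).unit hW hS 0 M
    have hlim := hex.fIsKernel
    let e : ((DCoh.gammaZ j).rightDerived 0).obj M ≅
        kernel ((NatTrans.rightDerived (Scheme.Modules.restrictAdjunction j).unit 0).app M) :=
      IsLimit.conePointUniqueUpToIso hlim (limit.isLimit _)
    haveI := qc_id M 0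
    haveI := qc_Ψ j M 0
    haveI := Groth.Agent.Lib.Helper17.CohKer.isQuasicoherent_kernel
      ((NatTrans.rightDerived (Scheme.Modules.restrictAdjunction j).unit 0).app M)
    exact AffExt2.isQuasicoherent_of_iso e.symm
  | succ n =>
    exact qc_of_five _ _ _ _ _ _ _
      (RDSes.exact_at_C (CxOX.gammaZι j) (Scheme.Modules.restrictAdjunction j).unit hW hS n M)
      (RDSes.exact_at_A (CxOX.gammaZι j) (Scheme.Modules.restrictAdjunction j).unit hW hS n M)
      (RDSes.exact_at_B (CxOX.gammaZι j) (Scheme.Modules.restrictAdjunction j).unit hW hS (n + 1) M)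
      (qc_id M n) (qc_Ψ j M n) (qc_id M (n + 1)) (qc_Ψ j M (n + 1))

end Groth.Agent.Lib.Helper2.LCQC
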