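import Mathlib
import Groth.Agent.Lib.Helper2.LCQC

/-!
# Sections with support in a locally closed subset, for modules (helper2)

`G h M = ker (M|_{V₁} pushed ⟶ M|_{V₂} pushed)` for opens `V₂ ≤ V₁`; its right derived functors are
quasi-coherent on quasi-coherent modules when `V₁, V₂` are retrocompact.
-/

universe u

open CategoryTheory Limits AlgebraicGeometry Opposite TopologicalSpace

namespace Groth.Agent.Lib.Helper2.LCQC2

open Groth.Agent.Lib.Helper6 Groth.Agent.Lib.Helper2.RpushQC2 Groth.Agent.Lib.Helper2.RpushQC3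
  Groth.Agent.Lib.Helper2.RpushQC4

variable {Y : Scheme.{u}} {V₂ V₁ : Y.Opens} (h : V₂ ≤ V₁)

/-- sections of `M` over `V₁` (as a module on `Y`) vanishing on `V₂` -/
noncomputable def G : Y.Modules ⥤ Y.Modules where
  obj M := kernel ((ρ (𝟙 Y) h).app M)
  map {M N} φ := kernel.map _ _ ((Φ (𝟙 Y) V₁).map φ) ((Φ (𝟙 Y) V₂).map φ)
    ((ρ (𝟙 Y) h).naturality φ).symm
  map_id M := by
    apply equalizer.hom_ext
    simp
  map_comp φ ψ := by
    apply equalizer.hom_ext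
    simp

/-- the inclusion -/
noncomputable def Gι : G h ⟶ Φ (𝟙 Y) V₁ where
  app M := kernel.ι ((ρ (𝟙 Y) h).app M)
  naturality M N φ := by
    simp [G]

instance (M : Y.Modules) : Mono ((Gι h).app M) :=
  inferInstanceAs (Mono (kernel.ι ((ρ (𝟙 Y) h).app M)))

@[reassoc]
lemma G_map_ι {M N : Y.Modules} (φ : M ⟶ N) :
    (G h).map φ ≫ (Gι h).app N = (Gι h).app M ≫ (Φ (𝟙 Y) V₁).map φ :=
  (Gι h).naturality φ

@[reassoc]
lemma Gι_ρ (M : Y.Modules) : (Gι h).app M ≫ (ρ (𝟙 Y) h).app M = 0 :=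
  kernel.condition _

instance : (G h).Additive where
  map_add {M N φ ψ} := by
    rw [← cancel_mono ((Gι h).app N), G_map_ι, Preadditive.add_comp, G_map_ι, G_map_ι,
      Functor.map_add, Preadditive.comp_add]

lemma hw : Gι h ≫ ρ (𝟙 Y) h = 0 := by
  ext M : 2
  exact kernel.condition _

lemma hses (I : Y.Modules) (hI : Injective I) :
    (RDSes.sc (Gι h) (ρ (𝟙 Y) h) (hw h) I).ShortExact := by
  haveI := hI
  haveI : Epi (RDSes.sc (Gι h) (ρ (𝟙 Y) h) (hw h) I).g :=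
    epi_ρ (𝟙 Y) h I (PushEdge3.isFlasque_of_injective I)
  haveI : Mono (RDSes.sc (Gι h) (ρ (𝟙 Y) h) (hw h) I).f :=
    inferInstanceAs (Mono (kernel.ι ((ρ (𝟙 Y) h).app I)))
  exact
    { exact := ShortComplex.exact_of_f_is_kernel _
        (kernelIsKernel ((ρ (𝟙 Y) h).app I)) }

lemma exists_lift (S : ShortComplex Y.Modules) (hS : S.ShortExact) {T : Y.Modules}
    (a : T ⟶ (G h).obj S.X₂) (ha : a ≫ (G h).map S.g = 0) :
    ∃ c : T ⟶ (G h).obj S.X₁, c ≫ (G h).map S.f = a := by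
  have h1 := (Functor.preservesFiniteLimits_iff_forall_exact_map_and_mono (Φ (𝟙 Y) V₁)).1
    inferInstance S hS
  have h2 := (Functor.preservesFiniteLimits_iff_forall_exact_map_and_mono (Φ (𝟙 Y) V₂)).1
    inferInstance S hS
  haveI := h2.2
  have h3 : (a ≫ (Gι h).app S.X₂) ≫ (Φ (𝟙 Y) V₁).map S.g = 0 := by
    rw [Category.assoc, ← G_map_ι, ← Category.assoc, ha, zero_comp]
  haveI : Mono (S.map (Φ (𝟙 Y) V₁)).f := h1.2
  let b : T ⟶ (Φ (𝟙 Y) V₁).obj S.X₁ := h1.1.lift _ h3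
  have hb : b ≫ (Φ (𝟙 Y) V₁).map S.f = a ≫ (Gι h).app S.X₂ := h1.1.lift_f _ h3
  have h4 : b ≫ (ρ (𝟙 Y) h).app S.X₁ = 0 := by
    rw [← cancel_mono ((Φ (𝟙 Y) V₂).map S.f), Category.assoc, ← (ρ (𝟙 Y) h).naturality S.f,
      ← Category.assoc, hb, Category.assoc, Gι_ρ, comp_zero, zero_comp]
  refine ⟨kernel.lift _ b h4, ?_⟩
  rw [← cancel_mono ((Gι h).app S.X₂), Category.assoc, G_map_ι]
  change kernel.lift _ b h4 ≫ kernel.ι _ ≫ _ = _
  rw [kernel.lift_ι_assoc, hb]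

/-- `G` is left exact -/
instance : PreservesFiniteLimits (G h) := by
  rw [Functor.preservesFiniteLimits_iff_forall_exact_map_and_mono]
  intro S hS
  haveI := hS.mono_f
  have h1 := (Functor.preservesFiniteLimits_iff_forall_exact_map_and_mono (Φ (𝟙 Y) V₁)).1
    inferInstance S hS
  haveI := h1.2
  have hm : Mono ((G h).map S.f) := by
    haveI : Mono ((G h).map S.f ≫ (Gι h).app S.X₂) := by
      rw [G_map_ι]
      infer_instance
    exact mono_of_mono ((G h).map S.f) ((Gι h).app S.X₂)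
  refine ⟨?_, hm⟩
  haveI : Mono (S.map (G h)).f := hm
  refine ShortComplex.exact_of_f_is_kernel _ (KernelFork.IsLimit.ofι' _ _ ?_)
  intro T a ha
  have hex := exists_lift h S hS a ha
  exact ⟨hex.choose, hex.choose_spec⟩

variable [QuasiCompact V₁.ι] [QuasiCompact V₂.ι]

omit [QuasiCompact V₂.ι] in
/-- `R^n Φ_{V₁}` of a quasi-coherent module is quasi-coherent -/
lemma qc_Φ (W : Y.Opens) [QuasiCompact W.ι] (M : Y.Modules) [M.IsQuasicoherent] (n : ℕ) :
    (((Φ (𝟙 Y) W).rightDerived n).obj M).IsQuasicoherent := by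
  obtain ⟨e⟩ := nonempty_rightDerived_Φ_iso (𝟙 Y) W n M
  haveI : (M.restrict W.ι).IsQuasicoherent := inferInstance
  haveI := RpushQC6.isQuasicoherent_Rpush (W.ι ≫ 𝟙 Y) (M.restrict W.ι) n
  exact AffExt2.isQuasicoherent_of_iso e.symm

/-- **the local cohomology sheaves (locally closed support) of a quasi-coherent module are
quasi-coherent** -/
theorem isQuasicoherent_rightDerived_G (M : Y.Modules) [M.IsQuasicoherent] (q : ℕ) :
    (((G h).rightDerived q).obj M).IsQuasicoherent := by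
  have hW := hw h
  have hS := hses h
  cases q with
  | zero =>
    haveI := RDSes.mono_rightDerived_zero_app (Gι h) (ρ (𝟙 Y) h) hW hS M
    have hex := RDSes.exact_at_B (Gι h) (ρ (𝟙 Y) h) hW hS 0 M
    have hlim := hex.fIsKernel
    let e : ((G h).rightDerived 0).obj M ≅
        kernel ((NatTrans.rightDerived (ρ (𝟙 Y) h) 0).app M) :=
      IsLimit.conePointUniqueUpToIso hlim (limit.isLimit _)
    haveI := qc_Φ V₁ M 0
    haveI := qc_Φ V₂ M 0
    haveI := Groth.Agent.Lib.Helper17.CohKer.isQuasicoherent_kernel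
      ((NatTrans.rightDerived (ρ (𝟙 Y) h) 0).app M)
    exact AffExt2.isQuasicoherent_of_iso e.symm
  | succ n =>
    exact qc_of_five _ _ _ _ _ _ _
      (RDSes.exact_at_C (Gι h) (ρ (𝟙 Y) h) hW hS n M)
      (RDSes.exact_at_A (Gι h) (ρ (𝟙 Y) h) hW hS n M)
      (RDSes.exact_at_B (Gι h) (ρ (𝟙 Y) h) hW hS (n + 1) M)
      (qc_Φ V₁ M n) (qc_Φ V₂ M n) (qc_Φ V₁ M (n + 1)) (qc_Φ V₂ M (n + 1))

end Groth.Agent.Lib.Helper2.LCQC2
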