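import Mathlib
import Groth.Agent.Lib.Helper2.LCQC2
import Groth.Agent.Lib.Helper6.SuppFamPre
import Groth.Agent.Lib.Helper29.QCohStalk

/-!
# Comparison of module-level and sheaf-level sections with locally closed support (helper2)
-/

universe u

open CategoryTheory Limits AlgebraicGeometry Opposite TopologicalSpace

namespace Groth.Agent.Lib.Helper2.LCQC3

open Groth.Agent.Lib.Helper6 Groth.Agent.Lib.Helper2.RpushQC2 Groth.Agent.Lib.Helper2.LCQC2
  Groth.Agent.Lib.Helper6.SuppFamPre Groth.Agent.Lib.Helper6.LocCohZExc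

variable {Y : Scheme.{u}} {V₂ V₁ : Y.Opens} (h : V₂ ≤ V₁)

lemma UW_le_inf (W T : Y.Opens) : UW (𝟙 Y) W T ≤ W ⊓ T := by
  intro x hx
  rw [mem_UW] at hx
  exact hx

lemma inf_le_UW (W T : Y.Opens) : W ⊓ T ≤ UW (𝟙 Y) W T := by
  intro x hx
  rw [mem_UW]
  exact hx

/-- the underlying abelian sheaf functor -/
noncomputable abbrev tS : Y.Modules ⥤ CohTop.Ab Y.carrier := SheafOfModules.toSheaf Y.ringCatSheaf

/-- sections of `Γ_Z(M)` as sections of `M|_{V₁}` pushed forward -/
noncomputable def u (M : Y.Modules) :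
    (SuppFam.sectSuppLC (X := Y.carrier) h).obj ((tS).obj M) ⟶ (tS).obj ((Φ (𝟙 Y) V₁).obj M) :=
  ⟨{ app := fun V' => AddCommGrpCat.ofHom
        ((((tS).obj M).obj.map (homOfLE (UW_le_inf V₁ V'.unop)).op).hom.comp
          ((LocCohZ.sectZ ((tS).obj M) (hp h V'.unop)).subtype.comp (β h ((tS).obj M) V'.unop)))
     naturality := by
       intro V' V'' i
       ext t
       have hi : i = (homOfLE (leOfHom i.unop)).op := Subsingleton.elim _ _
       change ((tS).obj M).obj.map (homOfLE (UW_le_inf V₁ V''.unop)).op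
           (β h ((tS).obj M) V''.unop
             (((SuppFam.sectSuppLC (X := Y.carrier) h).obj ((tS).obj M)).obj.map i t)).1 =
         ((tS).obj M).obj.map (homOfLE (UW_mono_right (𝟙 Y) V₁ (leOfHom i.unop))).op
           (((tS).obj M).obj.map (homOfLE (UW_le_inf V₁ V'.unop)).op
             (β h ((tS).obj M) V'.unop t).1)
       rw [hi, β_naturality_left h ((tS).obj M) (leOfHom i.unop) t]
       exact (map_map_apply' ((tS).obj M) _ _
         (homOfLE ((UW_mono_right (𝟙 Y) V₁ (leOfHom i.unop)).trans (UW_le_inf V₁ V'.unop))) _).trans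
         (map_map_apply' ((tS).obj M) _ _
         (homOfLE ((UW_mono_right (𝟙 Y) V₁ (leOfHom i.unop)).trans (UW_le_inf V₁ V'.unop))) _).symm }⟩

lemma u_app (M : Y.Modules) (V' : Y.Opens)
    (t : ((SuppFam.sectSuppLC (X := Y.carrier) h).obj ((tS).obj M)).obj.obj (op V')) :
    (u h M).hom.app (op V') t =
      ((tS).obj M).obj.map (homOfLE (UW_le_inf V₁ V')).op (β h ((tS).obj M) V' t).1 := rfl

lemma u_app_injective (M : Y.Modules) (V' : Y.Opens) :
    Function.Injective ((u h M).hom.app (op V')) := by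
  intro a b hab
  rw [u_app, u_app] at hab
  have h1 := LocCohZSupp.map_injective_of_le ((tS).obj M) (UW_le_inf V₁ V') (inf_le_UW V₁ V') hab
  exact (β_bijective h ((tS).obj M) V').1 (Subtype.ext h1)

lemma u_ρ (M : Y.Modules) : u h M ≫ (tS).map ((ρ (𝟙 Y) h).app M) = 0 := by
  ext V' t
  change ((tS).obj M).obj.map (homOfLE (UW_mono (𝟙 Y) h V'.unop)).op
    (((tS).obj M).obj.map (homOfLE (UW_le_inf V₁ V'.unop)).op
      (β h ((tS).obj M) V'.unop t).1) = 0
  have hmem := (β h ((tS).obj M) V'.unop t).2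
  rw [AddMonoidHom.mem_ker] at hmem
  have h3 := congrArg (((tS).obj M).obj.map (homOfLE (UW_le_inf V₂ V'.unop)).op) hmem
  rw [map_zero] at h3
  refine Eq.trans ?_ h3
  exact (map_map_apply' ((tS).obj M) _ _
    (homOfLE ((UW_mono (𝟙 Y) h V'.unop).trans (UW_le_inf V₁ V'.unop))) _).trans
    (map_map_apply' ((tS).obj M) _ _
    (homOfLE ((UW_mono (𝟙 Y) h V'.unop).trans (UW_le_inf V₁ V'.unop))) _).symm

/-- `toAb (G M)` is a kernel of `toAb ρ_M` -/
noncomputable def isLimitKer (M : Y.Modules) :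
    IsLimit ((KernelFork.ofι ((Gι h).app M) (Gι_ρ h M)).map (tS (Y := Y))) :=
  KernelFork.mapIsLimit _ (kernelIsKernel ((ρ (𝟙 Y) h).app M)) tS

/-- the comparison `Γ_Z(toAb M) ⟶ toAb (G M)` -/
noncomputable def v (M : Y.Modules) :
    (SuppFam.sectSuppLC (X := Y.carrier) h).obj ((tS).obj M) ⟶ (tS).obj ((G h).obj M) :=
  (KernelFork.IsLimit.lift' (isLimitKer h M) (u h M) (u_ρ h M)).1

@[reassoc]
lemma v_ι (M : Y.Modules) : v h M ≫ (tS).map ((Gι h).app M) = u h M :=
  (KernelFork.IsLimit.lift' (isLimitKer h M) (u h M) (u_ρ h M)).2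

lemma v_ι_app (M : Y.Modules) (V' : Y.Opens)
    (t : ((SuppFam.sectSuppLC (X := Y.carrier) h).obj ((tS).obj M)).obj.obj (op V')) :
    ((Gι h).app M).app V' ((v h M).hom.app (op V') t) = (u h M).hom.app (op V') t :=
  congrArg (fun z => z.hom.app (op V') t) (v_ι h M)

lemma mono_of_app_injective {F F' : CohTop.Ab Y.carrier} (φ : F ⟶ F')
    (hφ : ∀ V : Y.Opens, Function.Injective (φ.hom.app (op V))) : Mono φ := by
  haveI : ∀ V, Mono (φ.hom.app V) := fun V =>
    (AddCommGrpCat.mono_iff_injective _).2 (hφ V.unop)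
  haveI : Mono φ.hom := NatTrans.mono_of_mono_app _
  exact Sheaf.Hom.mono_of_presheaf_mono _ _ φ

instance (M : Y.Modules) : Mono (v h M) := by
  haveI : Mono (u h M) := mono_of_app_injective _ (u_app_injective h M)
  haveI : Mono (v h M ≫ (tS).map ((Gι h).app M)) := by
    rw [v_ι]
    infer_instance
  exact mono_of_mono (v h M) ((tS).map ((Gι h).app M))

lemma v_app_surjective (M : Y.Modules) (V' : Y.Opens) :
    Function.Surjective ((v h M).hom.app (op V')) := by
  intro s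
  let x : Γ(M, UW (𝟙 Y) V₁ V') := ((Gι h).app M).app V' s
  have hx : ((tS).obj M).obj.map (homOfLE (UW_mono (𝟙 Y) h V')).op x = 0 := by
    have := congrArg (fun z : ((G h).obj M ⟶ (Φ (𝟙 Y) V₂).obj M) => z.app V' s) (Gι_ρ h M)
    exact this
  let b : ((tS).obj M).obj.obj (op (V₁ ⊓ V')) :=
    ((tS).obj M).obj.map (homOfLE (inf_le_UW V₁ V')).op x
  have hb : b ∈ LocCohZ.sectZ ((tS).obj M) (hp h V') := by
    rw [AddMonoidHom.mem_ker]
    have h3 := congrArg (((tS).obj M).obj.map (homOfLE (inf_le_UW V₂ V')).op) hx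
    rw [map_zero] at h3
    refine Eq.trans ?_ h3
    exact (map_map_apply' ((tS).obj M) _ _
      (homOfLE ((inf_le_UW V₂ V').trans (UW_mono (𝟙 Y) h V'))) _).trans
      (map_map_apply' ((tS).obj M) _ _
      (homOfLE ((inf_le_UW V₂ V').trans (UW_mono (𝟙 Y) h V'))) _).symm
  obtain ⟨t, ht⟩ := (β_bijective h ((tS).obj M) V').2 ⟨b, hb⟩
  refine ⟨t, ?_⟩
  apply Groth.Agent.Lib.Helper29.QCohStalk.injective_app_of_mono ((Gι h).app M) inferInstance V'
  rw [v_ι_app, u_app, ht]
  change ((tS).obj M).obj.map (homOfLE (UW_le_inf V₁ V')).op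
    (((tS).obj M).obj.map (homOfLE (inf_le_UW V₁ V')).op x) = x
  refine (map_map_apply' ((tS).obj M) _ _ (𝟙 _) _).trans ?_
  rw [op_id, ((tS).obj M).obj.map_id]
  rfl

instance (M : Y.Modules) : IsIso (v h M) := by
  haveI : Epi (v h M) := CohTopPush.epi_of_sections_surjective _ (v_app_surjective h M)
  exact isIso_of_mono_of_epi _

lemma u_naturality {M N : Y.Modules} (φ : M ⟶ N) :
    (SuppFam.sectSuppLC (X := Y.carrier) h).map ((tS).map φ) ≫ u h N =
      u h M ≫ (tS).map ((Φ (𝟙 Y) V₁).map φ) := by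
  ext V' t
  change ((tS).obj N).obj.map (homOfLE (UW_le_inf V₁ V'.unop)).op
      (β h ((tS).obj N) V'.unop
        (((SuppFam.sectSuppLC (X := Y.carrier) h).map ((tS).map φ)).hom.app V' t)).1 =
    ((tS).map φ).hom.app (op (UW (𝟙 Y) V₁ V'.unop))
      (((tS).obj M).obj.map (homOfLE (UW_le_inf V₁ V'.unop)).op (β h ((tS).obj M) V'.unop t).1)
  rw [β_naturality_right h ((tS).map φ) V'.unop t]
  exact (NatTrans.naturality_apply ((tS).map φ).hom (homOfLE (UW_le_inf V₁ V'.unop)).op _).symm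

lemma v_naturality {M N : Y.Modules} (φ : M ⟶ N) :
    (SuppFam.sectSuppLC (X := Y.carrier) h).map ((tS).map φ) ≫ v h N =
      v h M ≫ (tS).map ((G h).map φ) := by
  apply Fork.IsLimit.hom_ext (isLimitKer h N)
  change (_ ≫ v h N) ≫ (tS).map ((Gι h).app N) = (v h M ≫ _) ≫ (tS).map ((Gι h).app N)
  rw [Category.assoc, v_ι, u_naturality, Category.assoc, ← Functor.map_comp, G_map_ι,
    Functor.map_comp, v_ι_assoc]

/-- **the comparison** `Γ_Z ∘ toAb ≅ toAb ∘ G` -/
noncomputable def θ₀ : (tS (Y := Y)) ⋙ SuppFam.sectSuppLC (X := Y.carrier) h ≅ G h ⋙ tS :=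
  NatIso.ofComponents (fun M => asIso (v h M)) (fun φ => v_naturality h φ)

end Groth.Agent.Lib.Helper2.LCQC3
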