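import Mathlib
import Groth.Agent.Lib.Helper2.LCQC3
import Groth.Agent.Lib.Helper6.LocCohZFlasque
import Groth.Agent.Lib.Helper6.RDAdapted
import Groth.Agent.Lib.Helper17.StalkExact

/-!
# `ℋ^i_Z(F)` for locally closed `Z` and quasi-coherent `F` is quasi-coherent (helper2)
-/

universe u

open CategoryTheory Limits AlgebraicGeometry Opposite TopologicalSpace

namespace Groth.Agent.Lib.Helper2.LCQC4

open Groth.Agent.Lib.Helper6 Groth.Agent.Lib.Helper2.RpushQC2 Groth.Agent.Lib.Helper2.LCQC2
  Groth.Agent.Lib.Helper2.LCQC3 Groth.Agent.Lib.Helper6.DeltaCompare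

attribute [local instance] HasDerivedCategory.standard

section Top

variable {X : TopCat.{u}} {W V : Opens X} (h : W ≤ V)

/-- flasque sheaves are acyclic for sections with support in a locally closed subset -/
theorem acyc_sectSuppLC_of_flasque (F : CohTop.Ab X) [hF : TopCat.Sheaf.IsFlasque F] :
    RDAcyc.Acyc (SuppFam.sectSuppLC h) F := by
  refine RDAdapted.acyc_of_adapted (SuppFam.sectSuppLC h)
    (fun G : CohTop.Ab X => TopCat.Sheaf.IsFlasque G) ?_ ?_ hF
  · intro G
    exact ⟨Injective.under G, Injective.ι G, SheafCoh.isFlasque_of_injective _, inferInstance⟩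
  · intro S hS h₁ h₂
    have h₁' : TopCat.Sheaf.IsFlasque S.X₁ := h₁
    have h₂' : TopCat.Sheaf.IsFlasque S.X₂ := h₂
    refine ⟨TopCat.Sheaf.IsFlasque.of_shortExact_of_isFlasque₁₂ hS,
      RDAcyc.map_shortExact _ hS ?_⟩
    apply CohTopPush.epi_of_sections_surjective
    intro V'
    have hS' : (S.map (CohTop.restrFunctor V)).ShortExact := CohTopRestr.restr_shortExact V hS
    haveI : TopCat.Sheaf.IsFlasque (S.map (CohTop.restrFunctor V)).X₁ :=
      CohTopRestr.restr_flasque V S.X₁
    exact LocCohZFlasque.sectSuppF_map_g_app_surjective (SuppFam.inOpen V W)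
      (S.map (CohTop.restrFunctor V)) hS' ((Opens.map (CohCx.incl V)).obj V')

theorem isZero_HZshLC_of_flasque (F : CohTop.Ab X) [TopCat.Sheaf.IsFlasque F] (q : ℕ) :
    IsZero ((SuppFam.HZshLC h (q + 1)).obj F) :=
  (RDAcyc.acyc_iff_isZero_rightDerived (SuppFam.sectSuppLC h) F).1
    (acyc_sectSuppLC_of_flasque h F) q

end Top

section Sch

variable {Y : Scheme.{u}} {V₂ V₁ : Y.Opens} (h : V₂ ≤ V₁)

instance : PreservesFiniteColimits (tS (Y := Y)) :=
  Groth.Agent.Lib.Helper17.StalkExact.toSheaf_preservesFiniteColimits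

/-- degree zero comparison -/
noncomputable def θ : (G h).rightDerived 0 ⋙ tS ≅
    tS ⋙ (SuppFam.sectSuppLC (X := Y.carrier) h).rightDerived 0 :=
  Functor.isoWhiskerRight (Functor.rightDerivedZeroIsoSelf (G h)) tS ≪≫ (θ₀ h).symm ≪≫
    Functor.isoWhiskerLeft tS
      (Functor.rightDerivedZeroIsoSelf (SuppFam.sectSuppLC (X := Y.carrier) h)).symm

/-- **the underlying sheaf of `R^n G M` is `ℋ^n_Z` of the underlying sheaf of `M`** -/
theorem nonempty_toAb_rightDerived_G_iso (M : Y.Modules) (n : ℕ) :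
    Nonempty ((tS).obj (((G h).rightDerived n).obj M) ≅
      (SuppFam.HZshLC (X := Y.carrier) h n).obj ((tS).obj M)) := by
  refine delta_compare (fun n => (G h).rightDerived n ⋙ tS)
    (fun n => tS ⋙ (SuppFam.sectSuppLC (X := Y.carrier) h).rightDerived n)
    (θ h) (fun _ => True) (fun G₀ _ => ?_) n M trivial
  let E : ShortComplex Y.Modules :=
    ShortComplex.mk (Injective.ι G₀) (cokernel.π (Injective.ι G₀)) (cokernel.condition _)
  have hE : E.ShortExact :=
    { exact := ShortComplex.exact_cokernel _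
      mono_f := inferInstanceAs (Mono (Injective.ι G₀))
      epi_g := inferInstanceAs (Epi (cokernel.π (Injective.ι G₀))) }
  haveI : Injective E.X₂ := inferInstanceAs (Injective (Injective.under G₀))
  haveI : TopCat.Sheaf.IsFlasque ((tS).obj E.X₂) := PushEdge3.isFlasque_of_injective E.X₂
  refine ⟨_, _, E.f, E.g, trivial, ?_, ?_⟩
  · exact RDShift.HasShift.comp_exact (RDShift.hasShift_rightDerived (G h) E hE
      (fun n => Functor.isZero_rightDerived_obj_injective_succ _ n _)) tS
  · exact RDShift.hasShift_comp_rightDerived (SuppFam.sectSuppLC (X := Y.carrier) h) tS E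
      (hE.map_of_exact tS) (fun n => isZero_HZshLC_of_flasque h ((tS).obj E.X₂) n)

end Sch

end Groth.Agent.Lib.Helper2.LCQC4
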