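import Mathlib
import Groth.Agent.Lib.Helper2.LCCompare
import Groth.Agent.Lib.helper11.LCTorsion
import Groth.Agent.Lib.helper11.LCGamma

/-!
# `cd (I + J) ≤ cd I + cd J`
-/

set_option autoImplicit false
universe u

open CategoryTheory CategoryTheory.Limits Opposite DerCA

namespace Groth.Agent.Lib.Helper2.LCSup

open Groth.Agent.Lib.helper11.LCKit
  Groth.Agent.Lib.Helper2.LCInj1 Groth.Agent.Lib.Helper2.LCInj3 Groth.Agent.Lib.Helper2.LCCech4
  Groth.Agent.Lib.Helper2.LCTorI Groth.Agent.Lib.Helper2.LCPhi Groth.Agent.Lib.Helper2.LCCompare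

variable {R : Type u} [CommRing R]

theorem kills_sup_ideal {I J : Ideal R} {E : Type u} [AddCommGroup E] [Module R E] {y : E}
    {a b : ℕ} (h1 : Kills I a y) (h2 : Kills J b y) : Kills (I ⊔ J) (a + b) y := by
  intro z hz
  have hz' := Ideal.sup_pow_add_le_pow_sup_pow hz
  obtain ⟨u, hu, v, hv, rfl⟩ := Submodule.mem_sup.1 hz'
  rw [add_smul, h1 u hu, h2 v hv, add_zero]

section Baer

variable [IsNoetherianRing R]

/-- over a Noetherian ring the `J`-power torsion of an injective module is injective. -/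
theorem injective_torSubI (J : Ideal R) (E : Type u) [AddCommGroup E] [Module R E]
    [Module.Injective R E] : Module.Injective R (torSubI J E) := by
  classical
  apply Module.Baer.injective
  intro 𝔞 g
  -- a uniform exponent
  obtain ⟨k, hk⟩ : ∃ k, ∀ x : 𝔞, Kills J k (g x).1 := by
    obtain ⟨t, ht⟩ := (IsNoetherian.noetherian 𝔞 : 𝔞.FG)
    have h1 : ∀ x : 𝔞, ∃ l, Kills J l (g x).1 := fun x => (g x).2
    choose lf hlf using h1
    -- generators as elements of 𝔞
    have hmem : ∀ x ∈ t, x ∈ 𝔞 := fun x hx => ht ▸ Submodule.subset_span hx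
    refine ⟨t.attach.sup (fun x => lf ⟨x.1, hmem x.1 x.2⟩), ?_⟩
    intro x
    have hx : (x : R) ∈ Submodule.span R (t : Set R) := ht ▸ x.2
    have key : ∀ y (hy : y ∈ Submodule.span R (t : Set R)),
        Kills J (t.attach.sup (fun x => lf ⟨x.1, hmem x.1 x.2⟩))
          (g ⟨y, ht ▸ hy⟩).1 := by
      intro y hy
      refine Submodule.span_induction (p := fun y hy => Kills J _ (g ⟨y, ht ▸ hy⟩).1)
        ?_ ?_ ?_ ?_ hy
      · intro z hz
        have hle : lf ⟨z, hmem z hz⟩ ≤ t.attach.sup (fun x => lf ⟨x.1, hmem x.1 x.2⟩) :=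
          Finset.le_sup (f := fun x : t => lf ⟨x.1, hmem x.1 x.2⟩) (Finset.mem_attach t ⟨z, hz⟩)
        exact (hlf ⟨z, hmem z hz⟩).mono J hle
      · intro a _
        have : (⟨0, ht ▸ Submodule.zero_mem _⟩ : 𝔞) = 0 := rfl
        rw [this, map_zero]
        exact smul_zero a
      · intro y z hy hz hy' hz' a ha
        have : (⟨y + z, ht ▸ Submodule.add_mem _ hy hz⟩ : 𝔞) =
            ⟨y, ht ▸ hy⟩ + ⟨z, ht ▸ hz⟩ := rfl
        rw [this, map_add, Submodule.coe_add, smul_add, hy' a ha, hz' a ha, add_zero]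
      · intro c y hy hy' a ha
        have : (⟨c • y, ht ▸ Submodule.smul_mem _ c hy⟩ : 𝔞) = c • ⟨y, ht ▸ hy⟩ := rfl
        rw [this, map_smul, Submodule.coe_smul, smul_comm, hy' a ha, smul_zero]
    exact key x.1 hx
  -- Artin–Rees
  obtain ⟨c, hc⟩ := Ideal.exists_pow_inf_eq_pow_smul J (𝔞 : Submodule R R)
  have hAR : J ^ (k + c) ⊓ 𝔞 ≤ J ^ k • 𝔞 := by
    have h2 := hc (k + c) (Nat.le_add_left c k)
    have h3 : J ^ (k + c) • (⊤ : Submodule R R) = J ^ (k + c) := by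
      simp
    rw [h3, Nat.add_sub_cancel] at h2
    rw [h2]
    exact Submodule.smul_mono le_rfl inf_le_right
  -- `g` vanishes on `J^(k+c) ⊓ 𝔞`
  have hvan : ∀ x (hx : x ∈ 𝔞), x ∈ J ^ (k + c) → g ⟨x, hx⟩ = 0 := by
    intro x hx hxJ
    have hx' : x ∈ J ^ k • 𝔞 := hAR ⟨hxJ, hx⟩
    have key : ∀ y (_ : y ∈ J ^ k • 𝔞), y ∈ 𝔞 ∧ ∀ hy' : y ∈ 𝔞, g ⟨y, hy'⟩ = 0 := by
      intro y hy
      refine Submodule.smul_induction_on
        (p := fun y => y ∈ 𝔞 ∧ ∀ hy' : y ∈ 𝔞, g ⟨y, hy'⟩ = 0) hy ?_ ?_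
      · intro j hj z hz
        refine ⟨𝔞.smul_mem j hz, fun hy' => ?_⟩
        have : (⟨j • z, hy'⟩ : 𝔞) = j • ⟨z, hz⟩ := rfl
        rw [this, map_smul]
        apply Subtype.ext
        exact hk ⟨z, hz⟩ j hj
      · rintro y z ⟨hy1, hy2⟩ ⟨hz1, hz2⟩
        refine ⟨𝔞.add_mem hy1 hz1, fun hyz => ?_⟩
        have : (⟨y + z, hyz⟩ : 𝔞) = ⟨y, hy1⟩ + ⟨z, hz1⟩ := rfl
        rw [this, map_add, hy2 hy1, hz2 hz1, add_zero]
    exact (key x hx').2 hx
  -- extend through `R ⧸ J^(k+c)`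
  set N := k + c with hN
  let φ : 𝔞 →ₗ[R] E := (torSubI J E).subtype ∘ₗ g
  let K : Submodule R 𝔞 := Submodule.comap 𝔞.subtype (J ^ N)
  have hK : K ≤ LinearMap.ker φ := by
    intro x hx
    rw [LinearMap.mem_ker]
    have hx' : (x : R) ∈ J ^ N := hx
    change ((g x : torSubI J E) : E) = 0
    have h0 : g x = 0 := by
      have := hvan x.1 x.2 hx'
      exact this
    rw [h0]
    rfl
  let φ' : (𝔞 ⧸ K) →ₗ[R] E := K.liftQ φ hK
  let ι : (𝔞 ⧸ K) →ₗ[R] (R ⧸ J ^ N) := K.mapQ (J ^ N) 𝔞.subtype le_rfl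
  have hι : Function.Injective ι := by
    rw [injective_iff_map_eq_zero]
    intro q hq
    induction q using Submodule.Quotient.induction_on with
    | H x =>
      have h1 : (Submodule.Quotient.mk (x : R) : R ⧸ J ^ N) = 0 := hq
      rw [Submodule.Quotient.mk_eq_zero] at h1 ⊢
      exact h1
  obtain ⟨ψ, hψ⟩ := Module.Injective.extension_property R E _ _ ι hι φ'
  -- the element
  have hkill : Kills J N (ψ (Submodule.Quotient.mk 1)) := by
    intro a ha
    rw [← map_smul, ← Submodule.Quotient.mk_smul, smul_eq_mul, mul_one,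
      (Submodule.Quotient.mk_eq_zero _).2 ha, map_zero]
  let e : torSubI J E := ⟨ψ (Submodule.Quotient.mk 1), ⟨N, hkill⟩⟩
  refine ⟨LinearMap.toSpanSingleton R (torSubI J E) e, ?_⟩
  intro x hx
  apply Subtype.ext
  change ((x • e : torSubI J E) : E) = ((g ⟨x, hx⟩ : torSubI J E) : E)
  rw [Submodule.coe_smul]
  change x • ψ (Submodule.Quotient.mk 1) = _
  rw [← map_smul, ← Submodule.Quotient.mk_smul, smul_eq_mul, mul_one]
  have h2 := congrArg (fun f => f (Submodule.Quotient.mk ⟨x, hx⟩)) hψ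
  exact h2

end Baer

section Main

variable [IsNoetherianRing R] (I J : Ideal R) {M : ModuleCat.{u} R} (Res : InjectiveResolution M)

/-- `Γ_J(E^q)`. -/
noncomputable def Cn (q : ℕ) : Submodule R (Res.cochainComplex.X (q : ℤ)) :=
  torSubI J (Res.cochainComplex.X (q : ℤ))

/-- the `J`-power torsion cocycles in degree `q`. -/
noncomputable def Zn (q : ℕ) : Submodule R (Res.cochainComplex.X (q : ℤ)) :=
  Cn J Res q ⊓ LinearMap.ker (Res.cochainComplex.d (q : ℤ) ((q + 1 : ℕ) : ℤ)).hom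

/-- the differential `Γ_J(E^q) → Z^{q+1}`. -/
noncomputable def gMap (q : ℕ) : Cn J Res q →ₗ[R] Zn J Res (q + 1) :=
  LinearMap.codRestrict _
    ((Res.cochainComplex.d (q : ℤ) ((q + 1 : ℕ) : ℤ)).hom ∘ₗ (Cn J Res q).subtype) (by
    intro x
    refine ⟨torSubI_map (Res.cochainComplex.d (q : ℤ) ((q + 1 : ℕ) : ℤ)).hom x.2,
      LinearMap.mem_ker.2 ?_⟩
    change (Res.cochainComplex.d ((q + 1 : ℕ) : ℤ) ((q + 1 + 1 : ℕ) : ℤ)).hom
      ((Res.cochainComplex.d (q : ℤ) ((q + 1 : ℕ) : ℤ)).hom x.1) = 0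
    rw [← LinearMap.comp_apply, ← ModuleCat.hom_comp, HomologicalComplex.d_comp_d]
    rfl)

theorem gMap_val (q : ℕ) (x : Cn J Res q) :
    (gMap J Res q x).1 = (Res.cochainComplex.d (q : ℤ) ((q + 1 : ℕ) : ℤ)).hom x.1 := rfl

/-- the short complex `0 → Z^q → Γ_J(E^q) → Z^{q+1} → 0`. -/
noncomputable def ses (q : ℕ) : ShortComplex (ModuleCat.{u} R) :=
  ShortComplex.mk
    (ModuleCat.ofHom (Submodule.inclusion (inf_le_left : Zn J Res q ≤ Cn J Res q)))
    (ModuleCat.ofHom (gMap J Res q)) (by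
      ext x
      exact LinearMap.mem_ker.1 x.2.2)

theorem ses_shortExact (q : ℕ) (hv : Subsingleton ((localCohomology J (q + 1)).obj M)) :
    (ses J Res q).ShortExact := by
  have hmono : Mono (ses J Res q).f := by
    rw [ModuleCat.mono_iff_injective]
    exact Submodule.inclusion_injective inf_le_left
  have hepi : Epi (ses J Res q).g := by
    rw [ModuleCat.epi_iff_surjective]
    intro z
    obtain ⟨k, hk⟩ := z.2.1
    have hd : (Res.cochainComplex.d ((q + 1 : ℕ) : ℤ) (((q + 1 : ℕ) : ℤ) + 1)).hom z.1 = 0 :=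
      LinearMap.mem_ker.1 z.2.2
    have h0 : clsZ J Res (q + 1) k z.1 hk hd = 0 := hv.elim _ _
    rw [clsZ_eq_zero_iff' J Res (q + 1) k z.1 hk hd (q : ℤ) (by push_cast; rfl)] at h0
    obtain ⟨l, y, hy, hyz⟩ := h0
    refine ⟨⟨y, ⟨l, hy⟩⟩, ?_⟩
    apply Subtype.ext
    exact hyz
  refine ShortComplex.ShortExact.mk' ?_ hmono hepi
  rw [ShortComplex.moduleCat_exact_iff]
  intro x₂ hx₂
  have h1 : (Res.cochainComplex.d (q : ℤ) ((q + 1 : ℕ) : ℤ)).hom x₂.1 = 0 :=
    congrArg Subtype.val hx₂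
  exact ⟨⟨x₂.1, ⟨x₂.2, LinearMap.mem_ker.2 h1⟩⟩, rfl⟩

instance injective_Cn (q : ℕ) : Injective (ModuleCat.of R (Cn J Res q)) := by
  have hinj : CategoryTheory.Injective (ModuleCat.of R (Res.cochainComplex.X (q : ℤ))) :=
    inferInstanceAs (CategoryTheory.Injective (Res.cochainComplex.X (q : ℤ)))
  haveI : Module.Injective R (Res.cochainComplex.X (q : ℤ)) :=
    Module.injective_module_of_injective_object R (Res.cochainComplex.X (q : ℤ))
  haveI : Module.Injective R (Cn J Res q) :=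
    injective_torSubI J (Res.cochainComplex.X (q : ℤ))
  exact Module.injective_object_of_injective_module R (Cn J Res q)

theorem chain (a b s : ℕ)
    (hI : ∀ (N : ModuleCat.{u} R) (i : ℕ), a < i → Subsingleton ((localCohomology I i).obj N))
    (hJ : ∀ i : ℕ, b < i → Subsingleton ((localCohomology J i).obj M)) (hs : a ≤ s) :
    ∀ t m : ℕ, t + m = s + 1 → 1 ≤ m →
      Subsingleton ((localCohomology I m).obj (ModuleCat.of R (Zn J Res (b + t)))) := by
  intro t
  induction t with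
  | zero =>
    intro m hm _
    exact hI _ m (by omega)
  | succ t ih =>
    intro m hm hm1
    have ih' := ih (m + 1) (by omega) (by omega)
    have hS := ses_shortExact J Res (b + t) (hJ (b + t + 1) (by omega))
    have hX₂ : Subsingleton ((localCohomology I m).obj (ses J Res (b + t)).X₂) :=
      subsingleton_of_injective I m
        (ModuleCat.of R (Cn J Res (b + t))) (by omega)
    refine ⟨fun x y => ?_⟩
    have key : ∀ x₃ : (localCohomology I m).obj (ses J Res (b + t)).X₃, x₃ = 0 := by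
      intro x₃
      have hδ : (δ I m hS).hom x₃ = 0 := ih'.elim _ _
      obtain ⟨x₂, hx₂⟩ := exact₃ I m hS x₃ hδ
      rw [← hx₂, hX₂.elim x₂ 0, map_zero]
    exact (key x).trans (key y).symm

theorem cd_sup (a b : ℕ) (hI : LocCoh.CdLE R I a) (hJ : LocCoh.CdLE R J b) :
    LocCoh.CdLE R (I ⊔ J) (a + b) := by
  intro M _ _ n hn
  obtain ⟨s, rfl, hs⟩ : ∃ s, n = b + s + 1 ∧ a ≤ s := ⟨n - b - 1, by omega, by omega⟩
  let Res : InjectiveResolution (ModuleCat.of R M) := injectiveResolution (ModuleCat.of R M)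
  have hI' : ∀ (N : ModuleCat.{u} R) (i : ℕ), a < i →
      Subsingleton ((localCohomology I i).obj N) := fun N i hi => hI N i hi
  have hJ' : ∀ i : ℕ, b < i → Subsingleton ((localCohomology J i).obj (ModuleCat.of R M)) :=
    fun i hi => hJ M i hi
  have h1 := chain I J Res a b s hI' hJ' hs s 1 rfl le_rfl
  have hS := ses_shortExact J Res (b + s) (hJ' (b + s + 1) (by omega))
  refine ⟨fun ξ η => ?_⟩
  have key : ∀ ξ : LocCoh.H (I ⊔ J) (b + s + 1) M, ξ = 0 := by
    intro ξ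
    obtain ⟨k, x, hx, hd, rfl⟩ := clsZ_surjective (I ⊔ J) Res (b + s + 1) ξ
    have hxI : Kills I k x := kills_of_le le_sup_left hx
    have hxJ : Kills J k x := kills_of_le le_sup_right hx
    let z : Zn J Res (b + s + 1) := ⟨x, ⟨⟨k, hxJ⟩, LinearMap.mem_ker.2 hd⟩⟩
    obtain ⟨x₃, hx₃⟩ := (mem_range_ev_iff I (ModuleCat.of R (Zn J Res (b + s + 1))) z).2
      ⟨k, fun a ha => Subtype.ext (hxI a ha)⟩
    have hδ : (δ I 0 hS).hom x₃ = 0 := h1.elim _ _
    obtain ⟨x₂, hx₂⟩ := exact₃ I 0 hS x₃ hδ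
    have hy : gMap J Res (b + s) (ev I (ModuleCat.of R (Cn J Res (b + s))) x₂) = z := by
      rw [← hx₃, ← hx₂]
      exact (ev_natural I (ses J Res (b + s)).g x₂).symm
    obtain ⟨l, hl⟩ := (mem_range_ev_iff I (ModuleCat.of R (Cn J Res (b + s)))
      (ev I (ModuleCat.of R (Cn J Res (b + s))) x₂)).1 ⟨x₂, rfl⟩
    obtain ⟨l', hl'⟩ := (ev I (ModuleCat.of R (Cn J Res (b + s))) x₂).2
    rw [clsZ_eq_zero_iff' (I ⊔ J) Res (b + s + 1) k x hx hd ((b + s : ℕ) : ℤ)
      (by push_cast; rfl)]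
    refine ⟨l + l', (ev I (ModuleCat.of R (Cn J Res (b + s))) x₂).1,
      kills_sup_ideal (fun a ha => congrArg Subtype.val (hl a ha)) hl', ?_⟩
    exact congrArg Subtype.val hy
  exact (key ξ).trans (key η).symm

end Main

end Groth.Agent.Lib.Helper2.LCSup
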