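import Mathlib
import Groth.Agent.Lib.helper11.LCKit3
import Groth.Prelude.Def_Wider

/-!
# Uniform vanishing of the transition maps on `Ext^i(A/I^n, -)` above the cohomological dimension
-/

set_option autoImplicit false
universe u

open CategoryTheory CategoryTheory.Limits Abelian

namespace Groth.Agent.Lib.Helper2.LCUniform

open Groth.Agent.Lib.helper11.LCKit

variable {R : Type u} [CommRing R]

/-- a universal class in `Ext^{j+1}(X, Ω)`. -/
theorem exists_universal_class (j : ℕ) : ∀ (X : ModuleCat.{u} R),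
    ∃ (Ω : ModuleCat.{u} R) (ξ : Ext X Ω (j + 1)), ∀ (N : ModuleCat.{u} R) (y : Ext X N (j + 1)),
      ∃ g : Ω ⟶ N, ξ.comp (Ext.mk₀ g) (add_zero _) = y := by
  induction j with
  | zero =>
    intro X
    let S : ShortComplex (ModuleCat.{u} R) :=
      ShortComplex.mk (kernel.ι (Projective.π X)) (Projective.π X) (kernel.condition _)
    have hS : S.ShortExact :=
      ShortComplex.ShortExact.mk' (S.exact_of_f_is_kernel (kernelIsKernel (Projective.π X)))
        (inferInstanceAs (Mono (kernel.ι (Projective.π X))))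
        (inferInstanceAs (Epi (Projective.π X)))
    haveI : Projective S.X₂ := inferInstanceAs (Projective (Projective.over X))
    refine ⟨S.X₁, hS.extClass, ?_⟩
    intro N y
    obtain ⟨z, hz⟩ := precomp_extClass_surjective_of_projective_X₂ N hS 0 y
    obtain ⟨g, rfl⟩ := (Ext.mk₀_bijective S.X₁ N).2 z
    exact ⟨g, hz⟩
  | succ j ih =>
    intro X
    let S : ShortComplex (ModuleCat.{u} R) :=
      ShortComplex.mk (kernel.ι (Projective.π X)) (Projective.π X) (kernel.condition _)
    have hS : S.ShortExact :=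
      ShortComplex.ShortExact.mk' (S.exact_of_f_is_kernel (kernelIsKernel (Projective.π X)))
        (inferInstanceAs (Mono (kernel.ι (Projective.π X))))
        (inferInstanceAs (Epi (Projective.π X)))
    haveI : Projective S.X₂ := inferInstanceAs (Projective (Projective.over X))
    obtain ⟨Ω, ξ, hξ⟩ := ih S.X₁
    refine ⟨Ω, hS.extClass.comp ξ (add_comm 1 (j + 1)), ?_⟩
    intro N y
    obtain ⟨z, hz⟩ := precomp_extClass_surjective_of_projective_X₂ N hS (j + 1) y
    obtain ⟨g, rfl⟩ := hξ N z
    refine ⟨g, ?_⟩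
    rw [Ext.comp_assoc_of_third_deg_zero]
    exact hz

theorem tr_trans (I : Ideal R) {k l m : ℕ} (h₁ : k ≤ l) (h₂ : l ≤ m) :
    tr I (h₁.trans h₂) = tr I h₂ ≫ tr I h₁ := by
  apply ModuleCat.hom_ext
  apply LinearMap.ext
  intro x
  induction x using Submodule.Quotient.induction_on with
  | H x => rfl

/-- above the cohomological dimension the transition maps kill `Ext^i(A/I^n, -)` uniformly. -/
theorem exists_uniform (I : Ideal R) (e : ℕ)
    (he : ∀ (N : ModuleCat.{u} R) (i : ℕ), e < i → Subsingleton ((localCohomology I i).obj N))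
    (n : ℕ) :
    ∃ (m : ℕ) (hm : n < m), ∀ (N : ModuleCat.{u} R) (i : ℕ), e < i → ∀ y : Ext (Q I n) N i,
      (Ext.mk₀ (tr I (Nat.le_of_lt hm))).comp y (zero_add i) = 0 := by
  obtain ⟨Ω, ξ, hξ⟩ := exists_universal_class e (Q I n)
  have h0 : ιE I (e + 1) Ω n ξ = 0 := (he Ω (e + 1) (by omega)).elim _ _
  rw [ιE_eq_zero_iff] at h0
  obtain ⟨l, hnl, hl⟩ := h0
  have hm : n < l + 1 := by omega
  have hξ0 : (Ext.mk₀ (tr I (Nat.le_of_lt hm))).comp ξ (zero_add (e + 1)) = 0 := by
    rw [tr_trans I hnl (Nat.le_succ l), ← Ext.mk₀_comp_mk₀, Ext.comp_assoc_of_second_deg_zero, hl,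
      Ext.comp_zero]
  refine ⟨l + 1, hm, ?_⟩
  have key : ∀ d : ℕ, ∀ (N : ModuleCat.{u} R) (y : Ext (Q I n) N (e + 1 + d)),
      (Ext.mk₀ (tr I (Nat.le_of_lt hm))).comp y (zero_add _) = 0 := by
    intro d
    induction d with
    | zero =>
      intro N y
      obtain ⟨g, rfl⟩ := hξ N y
      rw [← Ext.comp_assoc_of_third_deg_zero, hξ0, Ext.zero_comp]
    | succ d ih =>
      intro N y
      let f : N ⟶ Injective.under N := Injective.ι N
      let S : ShortComplex (ModuleCat.{u} R) :=
        ShortComplex.mk f (cokernel.π f) (cokernel.condition f)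
      have hS : S.ShortExact :=
        ShortComplex.ShortExact.mk' (S.exact_of_g_is_cokernel (cokernelIsCokernel f))
          (inferInstanceAs (Mono f)) (inferInstanceAs (Epi (cokernel.π f)))
      haveI : Injective S.X₂ := inferInstanceAs (Injective (Injective.under N))
      obtain ⟨z, hz⟩ := postcomp_extClass_surjective_of_projective_X₂ hS (Q I n) (e + 1 + d) y
      have hz' : z.comp hS.extClass rfl = y := hz
      rw [← hz', ← Ext.comp_assoc (a₁₂ := e + 1 + d) _ _ _ (zero_add _) rfl (by omega), ih,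
        Ext.zero_comp]
  intro N i hi y
  obtain ⟨d, rfl⟩ : ∃ d, i = e + 1 + d := ⟨i - e - 1, by omega⟩
  exact key d N y

end Groth.Agent.Lib.Helper2.LCUniform
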