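import Mathlib

/-!
# Leibniz operators over a derivation (helper2)

For a derivation `θ` of a commutative ring `A`, an *operator* on an `A`-module `M` is an additive
map `D : M → M` with `D (a • x) = θ a • x + a • D x`.

* `Op.exists_of_injective` : every injective module carries an operator (the extension
  `0 → J → J ⊕_θ J → J → 0` splits).
* `Op.step` : operators extend along exact sequences `X → Y → Z` with `Z` injective.
* `theta_pow_mem` : `θ (J ^ (k+1)) ⊆ J ^ k`.
-/

set_option autoImplicit false

namespace Groth.Agent.Lib.Helper2.Leib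

universe u

variable {A : Type u} [CommRing A] (θ : Derivation ℤ A A)

/-- Additive operator satisfying the Leibniz rule with respect to `θ`. -/
structure Op (M : Type u) [AddCommGroup M] [Module A M] where
  toFun : M →+ M
  leib : ∀ (a : A) (x : M), toFun (a • x) = θ a • x + a • toFun x

namespace Op

variable {θ}
variable {M N : Type u} [AddCommGroup M] [Module A M] [AddCommGroup N] [Module A N]

/-- `θ` itself. -/
def self : Op θ A where
  toFun := (θ : A →ₗ[ℤ] A).toAddMonoidHom
  leib a x := by
    show θ (a • x) = θ a • x + a • θ x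
    rw [smul_eq_mul, θ.leibniz, add_comm, smul_eq_mul, smul_eq_mul, smul_eq_mul, mul_comm x]

/-- The zero operator on a trivial module. -/
def zero [Subsingleton M] : Op θ M where
  toFun := 0
  leib _ _ := Subsingleton.elim _ _

/-- Adding a linear map. -/
def addLin (D : Op θ M) (φ : M →ₗ[A] M) : Op θ M where
  toFun := D.toFun + φ.toAddMonoidHom
  leib a x := by
    show D.toFun (a • x) + φ (a • x) = θ a • x + a • (D.toFun x + φ x)
    rw [D.leib, map_smul, smul_add, add_assoc]

/-- Transport along a linear equivalence. -/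
def conj (e : M ≃ₗ[A] N) (D : Op θ M) : Op θ N where
  toFun := (e.toLinearMap.toAddMonoidHom.comp D.toFun).comp e.symm.toLinearMap.toAddMonoidHom
  leib a x := by
    show e (D.toFun (e.symm (a • x))) = θ a • x + a • e (D.toFun (e.symm x))
    rw [map_smul, D.leib, map_add, map_smul, map_smul, LinearEquiv.apply_symm_apply]

theorem conj_apply (e : M ≃ₗ[A] N) (D : Op θ M) (x : N) :
    (D.conj e).toFun x = e (D.toFun (e.symm x)) := rfl

end Op

/-- The twisted square `M ⊕_θ M`: `a • (x, y) = (a x, a y + θ a • x)`. -/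
def Tw (_θ : Derivation ℤ A A) (M : Type u) : Type u := M × M

namespace Tw

variable (M : Type u) [AddCommGroup M] [Module A M]

instance : AddCommGroup (Tw θ M) := inferInstanceAs (AddCommGroup (M × M))

instance : SMul A (Tw θ M) := ⟨fun a p => ((a • p.1, a • p.2 + θ a • p.1) : M × M)⟩

theorem smul_def (a : A) (p : Tw θ M) :
    a • p = ((a • p.1, a • p.2 + θ a • p.1) : M × M) := rfl

theorem add_def (p q : Tw θ M) : p + q = ((p.1 + q.1, p.2 + q.2) : M × M) := rfl

theorem zero_def : (0 : Tw θ M) = ((0, 0) : M × M) := rfl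

instance : Module A (Tw θ M) where
  one_smul p := by
    rw [smul_def, one_smul, one_smul, θ.map_one_eq_zero, zero_smul, add_zero]
    rfl
  mul_smul a b p := by
    rw [smul_def, smul_def, smul_def]
    refine Prod.ext (mul_smul a b p.1) ?_
    show (a * b) • p.2 + θ (a * b) • p.1 = a • (b • p.2 + θ b • p.1) + θ a • (b • p.1)
    rw [θ.leibniz, smul_add, add_smul, smul_eq_mul, smul_eq_mul, mul_smul, mul_smul, mul_smul,
      smul_comm b (θ a) p.1]
    abel
  smul_zero a := by
    rw [smul_def, zero_def]
    refine Prod.ext (smul_zero a) ?_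
    show a • (0 : M) + θ a • (0 : M) = 0
    rw [smul_zero, smul_zero, add_zero]
  smul_add a p q := by
    rw [smul_def, smul_def, smul_def, add_def]
    refine Prod.ext (smul_add a p.1 q.1) ?_
    show a • (p.2 + q.2) + θ a • (p.1 + q.1) = (a • p.2 + θ a • p.1) + (a • q.2 + θ a • q.1)
    rw [smul_add, smul_add]
    abel
  add_smul a b p := by
    rw [smul_def, smul_def, smul_def]
    refine Prod.ext (add_smul a b p.1) ?_
    show (a + b) • p.2 + θ (a + b) • p.1 = (a • p.2 + θ a • p.1) + (b • p.2 + θ b • p.1)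
    rw [map_add, add_smul, add_smul]
    abel
  zero_smul p := by
    rw [smul_def, zero_def]
    refine Prod.ext (zero_smul A p.1) ?_
    show (0 : A) • p.2 + θ 0 • p.1 = 0
    rw [map_zero, zero_smul, zero_smul, add_zero]

/-- The inclusion of the second factor. -/
def inr : M →ₗ[A] Tw θ M where
  toFun y := ((0, y) : M × M)
  map_add' y y' := by
    show ((0, y + y') : M × M) = ((0 + 0, y + y') : M × M)
    rw [add_zero]
  map_smul' a y := by
    show ((0, a • y) : M × M) = ((a • (0 : M), a • y + θ a • (0 : M)) : M × M)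
    rw [smul_zero, smul_zero, add_zero]

theorem inr_injective : Function.Injective (inr θ M) := fun y y' h => (Prod.ext_iff.1 h).2

/-- The inclusion of the first factor (only additive). -/
def inl : M →+ Tw θ M where
  toFun x := ((x, 0) : M × M)
  map_zero' := rfl
  map_add' x x' := by
    show ((x + x', 0) : M × M) = ((x + x', 0 + 0) : M × M)
    rw [add_zero]

theorem smul_inl (a : A) (x : M) : a • inl θ M x = inl θ M (a • x) + inr θ M (θ a • x) := by
  show ((a • x, a • (0 : M) + θ a • x) : M × M) = ((a • x + 0, 0 + θ a • x) : M × M)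
  rw [smul_zero, add_zero]

end Tw

/-- Every injective module carries an operator. -/
theorem Op.exists_of_injective (J : Type u) [AddCommGroup J] [Module A J] [Module.Injective A J] :
    Nonempty (Op θ J) := by
  obtain ⟨r, hr⟩ := Module.Injective.extension_property A J J (Tw θ J) (Tw.inr θ J)
    (Tw.inr_injective θ J) LinearMap.id
  have hr' : ∀ y, r (Tw.inr θ J y) = y := fun y => LinearMap.congr_fun hr y
  refine ⟨{ toFun := -(r.toAddMonoidHom.comp (Tw.inl θ J)), leib := ?_ }⟩
  intro a x
  show -(r (Tw.inl θ J (a • x))) = θ a • x + a • (-(r (Tw.inl θ J x)))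
  have h1 : r (a • Tw.inl θ J x) = r (Tw.inl θ J (a • x)) + θ a • x := by
    rw [Tw.smul_inl, map_add, hr']
  rw [map_smul] at h1
  rw [smul_neg, h1]
  abel

/-- Extending operators along `X → Y → Z` exact at `Y` with `Z` injective. -/
theorem Op.step {X Y Z : Type u} [AddCommGroup X] [Module A X] [AddCommGroup Y] [Module A Y]
    [AddCommGroup Z] [Module A Z] [Module.Injective A Z] (f : X →ₗ[A] Y) (g : Y →ₗ[A] Z)
    (hgf : ∀ x, g (f x) = 0) (hex : ∀ y, g y = 0 → ∃ x, f x = y)
    (DX : Op θ X) (DY : Op θ Y) (hc : ∀ x, f (DX.toFun x) = DY.toFun (f x)) :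
    ∃ DZ : Op θ Z, ∀ y, g (DY.toFun y) = DZ.toFun (g y) := by
  obtain ⟨D₀⟩ := Op.exists_of_injective θ Z
  let Δ : Y →ₗ[A] Z :=
    { toFun := fun y => g (DY.toFun y) - D₀.toFun (g y)
      map_add' := fun y y' => by
        rw [map_add, map_add, map_add, map_add]
        abel
      map_smul' := fun a y => by
        rw [DY.leib, map_add, map_smul, map_smul, map_smul, D₀.leib, RingHom.id_apply, smul_sub]
        abel }
  have hΔ : ∀ y, Δ y = g (DY.toFun y) - D₀.toFun (g y) := fun y => rfl
  have hker : LinearMap.ker g ≤ LinearMap.ker Δ := by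
    intro y hy
    obtain ⟨x, rfl⟩ := hex y (LinearMap.mem_ker.1 hy)
    rw [LinearMap.mem_ker, hΔ, ← hc, hgf, hgf, map_zero, sub_zero]
  let gbar : (Y ⧸ LinearMap.ker g) →ₗ[A] Z := (LinearMap.ker g).liftQ g le_rfl
  have hgbar : Function.Injective gbar := by
    rw [← LinearMap.ker_eq_bot]
    exact Submodule.ker_liftQ_eq_bot _ _ _ le_rfl
  obtain ⟨Δt, hΔt⟩ := Module.Injective.extension_property A Z (Y ⧸ LinearMap.ker g) Z gbar hgbar
    ((LinearMap.ker g).liftQ Δ hker)
  have hΔt' : ∀ y, Δt (g y) = Δ y := by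
    intro y
    have := LinearMap.congr_fun hΔt (Submodule.Quotient.mk y)
    exact this
  refine ⟨D₀.addLin Δt, fun y => ?_⟩
  show g (DY.toFun y) = D₀.toFun (g y) + Δt (g y)
  rw [hΔt', hΔ]
  abel

/-- `θ (J ^ (k+1)) ⊆ J ^ k`. -/
theorem theta_pow_mem (J : Ideal A) : ∀ (k : ℕ) (a : A), a ∈ J ^ (k + 1) → θ a ∈ J ^ k := by
  intro k
  induction k with
  | zero =>
    intro a _
    rw [pow_zero, Ideal.one_eq_top]
    trivial
  | succ k ih =>
    intro a ha
    rw [pow_succ] at ha
    refine Submodule.mul_induction_on ha ?_ ?_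
    · intro b hb c hc
      rw [θ.leibniz, smul_eq_mul, smul_eq_mul]
      refine Ideal.add_mem _ (Ideal.mul_mem_right _ _ hb) ?_
      have h1 : θ b * c ∈ J ^ k * J := Ideal.mul_mem_mul (ih b hb) hc
      rw [mul_comm c (θ b), pow_succ]
      exact h1
    · intro x y hx hy
      rw [map_add]
      exact Ideal.add_mem _ hx hy

/-- An operator raises the torsion exponent by at most one. -/
theorem Op.kills {M : Type u} [AddCommGroup M] [Module A M] (D : Op θ M) (J : Ideal A) (k : ℕ)
    (x : M) (hx : ∀ a ∈ J ^ k, a • x = 0) : ∀ a ∈ J ^ (k + 1), a • D.toFun x = 0 := by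
  intro a ha
  have h1 : a • x = 0 := hx a (Ideal.pow_le_pow_right (Nat.le_succ k) ha)
  have h2 : θ a • x = 0 := hx _ (theta_pow_mem θ J k a ha)
  have h3 := D.leib a x
  rw [h1, h2, map_zero, zero_add] at h3
  exact h3.symm

end Groth.Agent.Lib.Helper2.Leib
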