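import Mathlib
import Groth.Agent.Lib.Helper2.Leib
import Groth.Agent.Lib.Helper2.LCPhi

/-!
# Leibniz operators on local cohomology (helper2)

Given a derivation `θ` of `A` and an operator `θM` on a module `M` (an additive map with
`θM (a • x) = θ a • x + a • θM x`), every local cohomology module `H^n_J(M)` carries an operator.
The operator is constructed on an injective resolution (`exists_pair`, `exists_next`) and
passed to the cohomology of the `J`-power-torsion subcomplex (`fin`).
-/

set_option autoImplicit false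

namespace Groth.Agent.Lib.Helper2.LeibLC

universe u

open CategoryTheory CategoryTheory.Limits
open Groth.Agent.Lib.Helper2.Leib Groth.Agent.Lib.Helper2.LCPhi Groth.Agent.Lib.Helper2.LCHom
  Groth.Agent.Lib.Helper2.LCTorI Groth.Agent.Lib.Helper2.LCInj1

variable {A : Type u} [CommRing A] (θ : Derivation ℤ A A) {M : ModuleCat.{u} A}
  (Res : InjectiveResolution M)

theorem injective_X (k : ℕ) : Module.Injective A (Res.cocomplex.X k) := by
  haveI : CategoryTheory.Injective (ModuleCat.of A (Res.cocomplex.X k)) :=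
    inferInstanceAs (CategoryTheory.Injective (Res.cocomplex.X k))
  exact Module.injective_module_of_injective_object A (Res.cocomplex.X k)

/-- extending a compatible pair by one more step. -/
theorem exists_next (k : ℕ) (D₁ : Op θ (Res.cocomplex.X k)) (D₂ : Op θ (Res.cocomplex.X (k + 1)))
    (h : ∀ x, (Res.cocomplex.d k (k + 1)).hom (D₁.toFun x) =
      D₂.toFun ((Res.cocomplex.d k (k + 1)).hom x)) :
    ∃ D₃ : Op θ (Res.cocomplex.X (k + 2)), ∀ x,
      (Res.cocomplex.d (k + 1) (k + 2)).hom (D₂.toFun x) =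
        D₃.toFun ((Res.cocomplex.d (k + 1) (k + 2)).hom x) := by
  haveI := injective_X Res (k + 2)
  refine Op.step θ (Res.cocomplex.d k (k + 1)).hom (Res.cocomplex.d (k + 1) (k + 2)).hom ?_ ?_
    D₁ D₂ h
  · intro x
    rw [← LinearMap.comp_apply, ← ModuleCat.hom_comp, Res.cocomplex.d_comp_d]
    rfl
  · intro y hy
    exact (ShortComplex.moduleCat_exact_iff _).1 (Res.exact_succ k) y hy

/-- a compatible pair of operators in degrees `k`, `k+1`. -/
theorem exists_pair (θM : Op θ M) : ∀ k : ℕ, ∃ (D₁ : Op θ (Res.cocomplex.X k))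
    (D₂ : Op θ (Res.cocomplex.X (k + 1))), ∀ x,
      (Res.cocomplex.d k (k + 1)).hom (D₁.toFun x) =
        D₂.toFun ((Res.cocomplex.d k (k + 1)).hom x) := by
  intro k
  induction k with
  | zero =>
    let ι₀ : M ⟶ Res.cocomplex.X 0 := Res.ι.f 0
    have hι₀ : Function.Injective ι₀.hom :=
      (ModuleCat.mono_iff_injective ι₀).1 (inferInstanceAs (Mono (Res.ι.f 0)))
    have hex : (ShortComplex.mk (Res.ι.f 0) (Res.cocomplex.d 0 1)
        Res.ι_f_zero_comp_complex_d).Exact :=
      ShortComplex.exact_of_f_is_kernel _ Res.isLimitKernelFork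
    haveI := injective_X Res 0
    haveI := injective_X Res 1
    obtain ⟨D₀, hD₀⟩ := Op.step θ (0 : M →ₗ[A] M) ι₀.hom
      (fun x => by rw [LinearMap.zero_apply, map_zero])
      (fun y hy => ⟨0, by
        rw [LinearMap.zero_apply]
        exact (hι₀ (by rw [hy, map_zero])).symm⟩)
      θM θM (fun x => by rw [LinearMap.zero_apply, LinearMap.zero_apply, map_zero])
    obtain ⟨D₁, hD₁⟩ := Op.step θ ι₀.hom (Res.cocomplex.d 0 1).hom
      (fun x => by
        have := Res.ι_f_zero_comp_complex_d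
        exact congrArg (fun g => g.hom x) this)
      (fun y hy => (ShortComplex.moduleCat_exact_iff _).1 hex y hy)
      θM D₀ hD₀
    exact ⟨D₀, D₁, hD₁⟩
  | succ k ih =>
    obtain ⟨D₁, D₂, h⟩ := ih
    obtain ⟨D₃, h'⟩ := exists_next θ Res k D₁ D₂ h
    exact ⟨D₂, D₃, h'⟩

/-- transport of an operator to the `ℤ`-indexed complex. -/
noncomputable def opZ (i : ℤ) (k : ℕ) (h : (k : ℤ) = i) (D : Op θ (Res.cocomplex.X k)) :
    Op θ (Res.cochainComplex.X i) :=
  D.conj (Res.cochainComplexXIso i k h).toLinearEquiv.symm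

theorem opZ_compat (i j : ℤ) (k l : ℕ) (hk : (k : ℤ) = i) (hl : (l : ℤ) = j)
    (D₁ : Op θ (Res.cocomplex.X k)) (D₂ : Op θ (Res.cocomplex.X l))
    (h : ∀ x, (Res.cocomplex.d k l).hom (D₁.toFun x) = D₂.toFun ((Res.cocomplex.d k l).hom x))
    (x : Res.cochainComplex.X i) :
    (Res.cochainComplex.d i j).hom ((opZ θ Res i k hk D₁).toFun x) =
      (opZ θ Res j l hl D₂).toFun ((Res.cochainComplex.d i j).hom x) := by
  rw [Res.cochainComplex_d i j k l hk hl]
  unfold opZ
  rw [Op.conj_apply, Op.conj_apply]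
  simp only [ModuleCat.hom_comp, LinearMap.comp_apply, LinearEquiv.symm_symm]
  change (Res.cochainComplexXIso j l hl).inv.hom ((Res.cocomplex.d k l).hom
      ((Res.cochainComplexXIso i k hk).hom.hom ((Res.cochainComplexXIso i k hk).inv.hom
        (D₁.toFun ((Res.cochainComplexXIso i k hk).hom.hom x))))) =
    (Res.cochainComplexXIso j l hl).inv.hom (D₂.toFun ((Res.cochainComplexXIso j l hl).hom.hom
      ((Res.cochainComplexXIso j l hl).inv.hom ((Res.cocomplex.d k l).hom
        ((Res.cochainComplexXIso i k hk).hom.hom x)))))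
  have e1 : ∀ y, (Res.cochainComplexXIso i k hk).hom.hom
      ((Res.cochainComplexXIso i k hk).inv.hom y) = y := fun y => by
    rw [← LinearMap.comp_apply, ← ModuleCat.hom_comp, Iso.inv_hom_id]
    rfl
  have e2 : ∀ y, (Res.cochainComplexXIso j l hl).hom.hom
      ((Res.cochainComplexXIso j l hl).inv.hom y) = y := fun y => by
    rw [← LinearMap.comp_apply, ← ModuleCat.hom_comp, Iso.inv_hom_id]
    rfl
  rw [e1, e2, h]

section Fin

variable (J : Ideal A) (n : ℕ)

/-- operators on three consecutive terms of the resolution, compatible with the differentials,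
induce an operator on local cohomology. -/
theorem fin (Dm : Op θ (Res.cochainComplex.X ((n : ℤ) - 1))) (D0 : Op θ (Res.cochainComplex.X n))
    (Dp : Op θ (Res.cochainComplex.X ((n : ℤ) + 1)))
    (hm : ∀ y, (Res.cochainComplex.d ((n : ℤ) - 1) n).hom (Dm.toFun y) =
      D0.toFun ((Res.cochainComplex.d ((n : ℤ) - 1) n).hom y))
    (hp : ∀ x, (Res.cochainComplex.d n ((n : ℤ) + 1)).hom (D0.toFun x) =
      Dp.toFun ((Res.cochainComplex.d n ((n : ℤ) + 1)).hom x)) :
    ∃ D : (localCohomology J n).obj M →+ (localCohomology J n).obj M,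
      ∀ (a : A) (ξ : (localCohomology J n).obj M), D (a • ξ) = θ a • ξ + a • D ξ := by
  let DZfun : Zc (torI J Res.cochainComplex) n → Zc (torI J Res.cochainComplex) n := fun z =>
    ⟨⟨D0.toFun z.1.1, by
      obtain ⟨k, hk⟩ := z.1.2
      exact ⟨k + 1, D0.kills θ J k _ hk⟩⟩,
      LinearMap.mem_ker.2 ((torI_d_eq_zero_iff J Res.cochainComplex n ((n : ℤ) + 1) _).2 (by
        show (Res.cochainComplex.d n ((n : ℤ) + 1)).hom (D0.toFun z.1.1) = 0
        rw [hp, hd_of_mem_Zc J Res n z, map_zero]))⟩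
  have hadd : ∀ z w, DZfun (z + w) = DZfun z + DZfun w := fun z w =>
    Subtype.ext (Subtype.ext (D0.toFun.map_add z.1.1 w.1.1))
  let DZ : Zc (torI J Res.cochainComplex) n →+ Zc (torI J Res.cochainComplex) n :=
    AddMonoidHom.mk' DZfun hadd
  have hDZ : ∀ z, DZ z = DZfun z := fun z => rfl
  have hleib : ∀ (a : A) z, DZ (a • z) = θ a • z + a • DZ z := fun a z =>
    Subtype.ext (Subtype.ext (D0.leib a z.1.1))
  -- well-definedness
  have W : ∀ w, phi J Res n w = 0 → phi J Res n (DZ w) = 0 := by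
    intro w hw
    rw [phi_eq_zero_iff] at hw ⊢
    obtain ⟨y, hy⟩ := hw
    have hy' : (Res.cochainComplex.d ((n : ℤ) - 1) n).hom y.1 = w.1.1 :=
      (torI_d_eq_iff J Res.cochainComplex _ _ y w.1).1 hy
    have hyt : Dm.toFun y.1 ∈ torSubI J (Res.cochainComplex.X ((n : ℤ) - 1)) := by
      obtain ⟨k, hk⟩ := y.2
      exact ⟨k + 1, Dm.kills θ J k _ hk⟩
    refine ⟨⟨Dm.toFun y.1, hyt⟩, ?_⟩
    refine (torI_d_eq_iff J Res.cochainComplex _ _ _ _).2 ?_
    show (Res.cochainComplex.d ((n : ℤ) - 1) n).hom (Dm.toFun y.1) = D0.toFun w.1.1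
    rw [hm, hy']
  let Dbar : (localCohomology J n).obj M → (localCohomology J n).obj M := fun ξ =>
    phi J Res n (DZ (Function.surjInv (phi_surjective J Res n) ξ))
  have key : ∀ z, Dbar (phi J Res n z) = phi J Res n (DZ z) := by
    intro z
    have hz' : phi J Res n (Function.surjInv (phi_surjective J Res n) (phi J Res n z)) =
        phi J Res n z := Function.surjInv_eq _ _
    have h0 : phi J Res n (Function.surjInv (phi_surjective J Res n) (phi J Res n z) - z) = 0 := by
      rw [map_sub, hz', sub_self]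
    have h1 := W _ h0
    rw [map_sub, map_sub, sub_eq_zero] at h1
    exact h1
  have hbadd : ∀ ξ η, Dbar (ξ + η) = Dbar ξ + Dbar η := by
    intro ξ η
    obtain ⟨z, rfl⟩ := phi_surjective J Res n ξ
    obtain ⟨w, rfl⟩ := phi_surjective J Res n η
    rw [← map_add, key, key, key, map_add, map_add]
  refine ⟨AddMonoidHom.mk' Dbar hbadd, ?_⟩
  intro a ξ
  show Dbar (a • ξ) = θ a • ξ + a • Dbar ξ
  obtain ⟨z, rfl⟩ := phi_surjective J Res n ξ
  rw [← map_smul, key, key, hleib, map_add, map_smul, map_smul]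

end Fin

/-- **Operators on local cohomology.** -/
theorem exists_op_localCohomology (J : Ideal A) (M : ModuleCat.{u} A) (θM : Op θ M) (n : ℕ) :
    ∃ D : (localCohomology J n).obj M →+ (localCohomology J n).obj M,
      ∀ (a : A) (ξ : (localCohomology J n).obj M), D (a • ξ) = θ a • ξ + a • D ξ := by
  let Res : InjectiveResolution M := injectiveResolution M
  cases n with
  | zero =>
    obtain ⟨D₀, D₁, h⟩ := exists_pair θ Res θM 0
    haveI : Subsingleton (Res.cochainComplex.X (((0 : ℕ) : ℤ) - 1)) :=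
      ModuleCat.subsingleton_of_isZero
        (CochainComplex.isZero_of_isStrictlyGE Res.cochainComplex 0 _ (by norm_num))
    refine fin θ Res J 0 Op.zero (opZ θ Res _ 0 rfl D₀) (opZ θ Res _ 1 (by norm_num) D₁) ?_ ?_
    · intro y
      have hy : y = 0 := Subsingleton.elim _ _
      rw [hy, map_zero, map_zero, map_zero]
    · intro x
      exact opZ_compat θ Res _ _ 0 1 rfl (by norm_num) D₀ D₁ h x
  | succ m =>
    obtain ⟨D₁, D₂, h⟩ := exists_pair θ Res θM m
    obtain ⟨D₃, h'⟩ := exists_next θ Res m D₁ D₂ h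
    have e1 : ((m : ℕ) : ℤ) = ((m + 1 : ℕ) : ℤ) - 1 := by push_cast; ring
    have e3 : ((m + 2 : ℕ) : ℤ) = ((m + 1 : ℕ) : ℤ) + 1 := by push_cast; ring
    refine fin θ Res J (m + 1) (opZ θ Res _ m e1 D₁) (opZ θ Res _ (m + 1) rfl D₂)
      (opZ θ Res _ (m + 2) e3 D₃) ?_ ?_
    · intro y
      exact opZ_compat θ Res _ _ m (m + 1) e1 rfl D₁ D₂ h y
    · intro x
      exact opZ_compat θ Res _ _ (m + 1) (m + 2) rfl e3 D₂ D₃ h' x

end Groth.Agent.Lib.Helper2.LeibLC
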