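import Mathlib

set_option autoImplicit false
universe u v
open Matrix

namespace Groth.Agent.Lib.Helper2.LimProj

/-! ### dependent choice along towers -/

theorem exists_seq {α : ℕ → Type v} (P : ∀ n, α n → Prop) (Rel : ∀ n, α (n + 1) → α n → Prop)
    (h0 : ∃ a, P 0 a) (hs : ∀ n a, P n a → ∃ b, P (n + 1) b ∧ Rel n b a) :
    ∃ f : ∀ n, α n, (∀ n, P n (f n)) ∧ ∀ n, Rel n (f (n + 1)) (f n) := by
  classical
  let F : ∀ n, {a : α n // P n a} := fun n =>
    Nat.rec (motive := fun n => {a : α n // P n a}) ⟨h0.choose, h0.choose_spec⟩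
      (fun n a => ⟨(hs n a.1 a.2).choose, (hs n a.1 a.2).choose_spec.1⟩) n
  refine ⟨fun n => (F n).1, fun n => (F n).2, fun n => ?_⟩
  exact (hs n (F n).1 (F n).2).choose_spec.2

theorem exists_through : ∀ (n : ℕ) (X : ℕ → Type v) (f : ∀ k, X (k + 1) → X k)
    (_ : ∀ k, Function.Surjective (f k)) (a : X n),
    ∃ x : ∀ k, X k, (∀ k, f k (x (k + 1)) = x k) ∧ x n = a := by
  intro n
  induction n with
  | zero =>
    intro X f hf a
    obtain ⟨x, hx0, hx⟩ := exists_seq (α := X) (fun n b => n = 0 → HEq b a)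
      (fun n b c => f n b = c) ⟨a, fun _ => HEq.rfl⟩
      (fun n c _ => by
        obtain ⟨b, hb⟩ := hf n c
        exact ⟨b, fun h => absurd h (Nat.succ_ne_zero n), hb⟩)
    exact ⟨x, hx, eq_of_heq (hx0 0 rfl)⟩
  | succ n ih =>
    intro X f hf a
    obtain ⟨x', hx', hx'a⟩ := ih (fun k => X (k + 1)) (fun k => f (k + 1)) (fun k => hf (k + 1)) a
    refine ⟨fun k => Nat.casesOn k (f 0 (x' 0)) (fun k => x' k), ?_, hx'a⟩
    intro k
    cases k with
    | zero => rfl
    | succ k => exact hx' k

/-! ### matrices with nilpotent entries -/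

theorem isNilpotent_of_entries {R : Type u} [CommRing R] {r : ℕ}
    (x : Matrix (Fin r) (Fin r) R) (hx : ∀ i j, IsNilpotent (x i j)) : IsNilpotent x := by
  classical
  set I : Ideal R := Ideal.span (Set.range fun p : Fin r × Fin r => x p.1 p.2) with hI
  have hIfg : I.FG := Submodule.fg_span (Set.finite_range _)
  have hIle : I ≤ nilradical R := by
    rw [hI, Ideal.span_le]
    rintro _ ⟨p, rfl⟩
    exact hx p.1 p.2
  obtain ⟨N, hN⟩ := hIfg.isNilpotent_iff_le_nilradical.2 hIle
  have hmem : ∀ k : ℕ, ∀ i j, (x ^ k) i j ∈ I ^ k := by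
    intro k
    induction k with
    | zero => intro i j; simp
    | succ k ih =>
      intro i j
      rw [pow_succ x k, Matrix.mul_apply, pow_succ I k]
      apply Ideal.sum_mem
      intro l _
      exact Ideal.mul_mem_mul (ih i l) (Ideal.subset_span ⟨(l, j), rfl⟩)
  refine ⟨N, ?_⟩
  ext i j
  have := hmem N i j
  rw [hN] at this
  simpa using this

theorem ker_mapMatrix_isNilpotent {R S : Type u} [CommRing R] [CommRing S] (t : R →+* S)
    (hnil : ∀ x : R, t x = 0 → IsNilpotent x) {r : ℕ}
    (x : Matrix (Fin r) (Fin r) R)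
    (hx : x ∈ RingHom.ker (t.mapMatrix : Matrix (Fin r) (Fin r) R →+* Matrix (Fin r) (Fin r) S)) :
    IsNilpotent x := by
  apply isNilpotent_of_entries
  intro i j
  apply hnil
  have h1 : (t.mapMatrix : Matrix (Fin r) (Fin r) R →+* Matrix (Fin r) (Fin r) S) x = 0 := hx
  rw [RingHom.mapMatrix_apply] at h1
  have := congrFun (congrFun h1 i) j
  simpa using this


/-! ### linear combinations -/

section LC

variable {R : Type u} [CommRing R] {M : Type u} [AddCommGroup M] [Module R M] {r : ℕ}

/-- the linear combination map. -/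
noncomputable def lc (g : Fin r → M) : (Fin r → R) →ₗ[R] M := Fintype.linearCombination R g

lemma lc_apply (g : Fin r → M) (y : Fin r → R) : lc g y = ∑ j, y j • g j := rfl

lemma lc_single (g : Fin r → M) (j : Fin r) : lc g (Pi.single j (1 : R)) = g j := by
  classical
  rw [lc_apply, Finset.sum_eq_single j]
  · simp
  · intro b _ hb
    simp [Pi.single_eq_of_ne hb]
  · simp

/-- the good idempotents: kernel equal to the kernel of `lc g`. -/
def Good (g : Fin r → M) (e : Matrix (Fin r) (Fin r) R) : Prop :=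
  IsIdempotentElem e ∧ (∀ y, lc g (e *ᵥ y) = lc g y) ∧ (∀ y, lc g y = 0 → e *ᵥ y = 0)

lemma mulVec_of (z : Fin r → (Fin r → R)) (y : Fin r → R) :
    (Matrix.of fun l j => z j l) *ᵥ y = ∑ j, y j • z j := by
  funext l
  simp [Matrix.mulVec, dotProduct, Finset.sum_apply, mul_comm]

end LC

section Step

variable {R S : Type u} [CommRing R] [CommRing S] (t : R →+* S)
  {M N : Type u} [AddCommGroup M] [Module R M] [AddCommGroup N] [Module S N]
  (u : M →ₛₗ[t] N) {r : ℕ} (g : Fin r → M) (gbar : Fin r → N)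

lemma u_lc (hg : ∀ j, u (g j) = gbar j) (y : Fin r → R) : u (lc g y) = lc gbar (t ∘ y) := by
  rw [lc_apply, lc_apply, map_sum]
  apply Finset.sum_congr rfl
  intro j _
  rw [map_smulₛₗ, hg]
  rfl

lemma ker_le_jacobson (hnil : ∀ x : R, t x = 0 → IsNilpotent x) :
    RingHom.ker t ≤ Ideal.jacobson ⊥ := by
  intro x hx
  rw [Ideal.jacobson_bot]
  exact nilradical_le_jacobson R (mem_nilradical.2 (hnil x hx))

theorem step (ht : Function.Surjective t) (hnil : ∀ x : R, t x = 0 → IsNilpotent x)
    (hker : LinearMap.ker u = RingHom.ker t • (⊤ : Submodule R M))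
    (hg : ∀ j, u (g j) = gbar j) [Module.Finite R M] [Module.Flat R M]
    (hsbar : Function.Surjective (lc (R := S) gbar)) (ebar : Matrix (Fin r) (Fin r) S)
    (hgood : Good gbar ebar) :
    Function.Surjective (lc (R := R) g) ∧
      ∃ e : Matrix (Fin r) (Fin r) R, Good g e ∧ e.map t = ebar := by
  classical
  have hJ := ker_le_jacobson t hnil
  -- (i)
  have hs : Function.Surjective (lc (R := R) g) := by
    rw [← LinearMap.range_eq_top]
    apply top_le_iff.1
    apply Submodule.le_of_le_smul_of_le_jacobson_bot Module.Finite.fg_top hJ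
    intro m _
    obtain ⟨ybar, hy⟩ := hsbar (u m)
    choose y hy' using fun j => ht (ybar j)
    have hty : t ∘ y = ybar := funext hy'
    have hmem : m - lc g y ∈ LinearMap.ker u := by
      rw [LinearMap.mem_ker, map_sub, u_lc t u g gbar hg, hty, hy, sub_self]
    rw [hker] at hmem
    have h2 : m = lc g y + (m - lc g y) := by abel
    rw [h2]
    exact Submodule.add_mem_sup (LinearMap.mem_range_self _ _) hmem
  refine ⟨hs, ?_⟩
  -- (ii)
  obtain ⟨e', he'idem, he'map⟩ := exists_isIdempotentElem_eq_of_ker_isNilpotent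
    (t.mapMatrix : Matrix (Fin r) (Fin r) R →+* Matrix (Fin r) (Fin r) S)
    (fun x hx => ker_mapMatrix_isNilpotent t hnil x hx) ebar
    ⟨Matrix.of fun i j => (ht (ebar i j)).choose, by
      ext i j; simp [(ht (ebar i j)).choose_spec]⟩ hgood.1
  rw [RingHom.mapMatrix_apply] at he'map
  have hT : ∀ y : Fin r → R, t ∘ (e' *ᵥ y) = ebar *ᵥ (t ∘ y) := by
    intro y
    funext i
    rw [Function.comp_apply, RingHom.map_mulVec, he'map]
  have he'e' : ∀ y : Fin r → R, e' *ᵥ (e' *ᵥ y) = e' *ᵥ y := by
    intro y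
    rw [Matrix.mulVec_mulVec, he'idem.eq]
  have hebeb : ∀ y : Fin r → S, ebar *ᵥ (ebar *ᵥ y) = ebar *ᵥ y := by
    intro y
    rw [Matrix.mulVec_mulVec, hgood.1.eq]
  -- (iii-a)
  have hsurj : ∀ m : M, ∃ z : Fin r → R, e' *ᵥ z = z ∧ lc g z = m := by
    have htop : (⊤ : Submodule R M) ≤
        Submodule.map (lc g) (LinearMap.range (Matrix.mulVecLin e')) := by
      apply Submodule.le_of_le_smul_of_le_jacobson_bot Module.Finite.fg_top hJ
      intro m _
      obtain ⟨y, rfl⟩ := hs m
      have hmem : lc g y - lc g (e' *ᵥ y) ∈ LinearMap.ker u := by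
        rw [LinearMap.mem_ker, map_sub, u_lc t u g gbar hg, u_lc t u g gbar hg, hT, hgood.2.1,
          sub_self]
      rw [hker] at hmem
      have h2 : lc g y = lc g (e' *ᵥ y) + (lc g y - lc g (e' *ᵥ y)) := by abel
      rw [h2]
      exact Submodule.add_mem_sup
        (Submodule.mem_map_of_mem ⟨y, by simp [Matrix.mulVecLin_apply]⟩) hmem
    intro m
    obtain ⟨w, ⟨y', rfl⟩, hw⟩ := htop (Submodule.mem_top (x := m))
    exact ⟨_, by simp only [Matrix.mulVecLin_apply]; exact he'e' y', hw⟩
  -- (iii-b)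
  have hinj : ∀ x : Fin r → R, e' *ᵥ x = x → lc g x = 0 → x = 0 := by
    intro x hx1 hx0
    have hrel : ∑ i, x i • g i = 0 := hx0
    obtain ⟨k, a, y, hay, ha⟩ := Module.Flat.isTrivialRelation_of_sum_smul_eq_zero hrel
    choose yt hyt using fun j => hs (y j)
    set κ : Fin r → (Fin r → R) := fun i => Pi.single i 1 - ∑ j, a i j • yt j with hκdef
    have hκ : ∀ i, lc g (κ i) = 0 := by
      intro i
      rw [hκdef]
      simp only [map_sub, map_sum, map_smul, lc_single, hyt]
      rw [← hay i, sub_self]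
    have hx : x = ∑ i, x i • κ i := by
      rw [hκdef]
      simp only [smul_sub, Finset.sum_sub_distrib, Finset.smul_sum, smul_smul]
      rw [Finset.sum_comm]
      have h0 : ∑ j, ∑ i, (x i * a i j) • yt j = 0 := by
        apply Finset.sum_eq_zero
        intro j _
        rw [← Finset.sum_smul, ha j, zero_smul]
      rw [h0, sub_zero]
      funext l
      simp [Finset.sum_apply, Pi.single_apply]
    have hJκ : ∀ i l, (e' *ᵥ (κ i)) l ∈ RingHom.ker t := by
      intro i l
      rw [RingHom.mem_ker]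
      have h1 : lc gbar (t ∘ κ i) = 0 := by rw [← u_lc t u g gbar hg, hκ, map_zero]
      have h2 := hgood.2.2 _ h1
      have h3 := congrFun (hT (κ i)) l
      rw [h2] at h3
      exact h3
    have hxl : ∀ l, x l = ∑ i, x i * (e' *ᵥ κ i) l := by
      intro l
      have h1 : e' *ᵥ x = ∑ i, x i • (e' *ᵥ κ i) := by
        conv_lhs => rw [hx]
        rw [← Matrix.mulVecLin_apply, map_sum]
        apply Finset.sum_congr rfl
        intro i _
        rw [map_smul, Matrix.mulVecLin_apply]
      rw [hx1] at h1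
      have := congrFun h1 l
      rw [this, Finset.sum_apply]
      rfl
    set c : Ideal R := Ideal.span (Set.range x) with hc
    have hcle : c ≤ RingHom.ker t • c := by
      rw [hc, Ideal.span_le]
      rintro _ ⟨l, rfl⟩
      rw [SetLike.mem_coe, hxl l]
      apply Ideal.sum_mem
      intro i _
      rw [mul_comm]
      exact Submodule.smul_mem_smul (hJκ i l) (Ideal.subset_span ⟨i, rfl⟩)
    have hc0 : c = ⊥ := Submodule.eq_bot_of_le_smul_of_le_jacobson_bot (RingHom.ker t) c
      (Submodule.fg_span (Set.finite_range x)) hcle hJ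
    funext l
    have : x l ∈ c := Ideal.subset_span ⟨l, rfl⟩
    rw [hc0] at this
    simpa using this
  -- (iv)
  choose z hz1 hz2 using fun j => hsurj (g j)
  set e : Matrix (Fin r) (Fin r) R := Matrix.of fun l j => z j l with hedef
  have hey : ∀ y : Fin r → R, e *ᵥ y = ∑ j, y j • z j := fun y => mulVec_of z y
  have hP1 : ∀ y, lc g (e *ᵥ y) = lc g y := by
    intro y
    rw [hey, map_sum, lc_apply]
    apply Finset.sum_congr rfl
    intro j _
    rw [map_smul, hz2]
  have hP0 : ∀ y, e' *ᵥ (e *ᵥ y) = e *ᵥ y := by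
    intro y
    rw [hey, ← Matrix.mulVecLin_apply, map_sum]
    apply Finset.sum_congr rfl
    intro j _
    rw [map_smul, Matrix.mulVecLin_apply, hz1]
  have hP4 : ∀ y, lc g y = 0 → e *ᵥ y = 0 := by
    intro y hy
    exact hinj _ (hP0 y) (by rw [hP1, hy])
  have hidem : IsIdempotentElem e := by
    apply Matrix.mulVec_injective
    funext y
    rw [← Matrix.mulVec_mulVec]
    have hw : e *ᵥ (e *ᵥ y) - e *ᵥ y = 0 := by
      apply hinj
      · rw [Matrix.mulVec_sub, hP0, hP0]
      · rw [map_sub, hP1, sub_self]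
    exact sub_eq_zero.1 hw
  refine ⟨e, ⟨hidem, hP1, hP4⟩, ?_⟩
  apply Matrix.ext_of_mulVec_single
  intro j
  have hcol : (e.map t) *ᵥ Pi.single j 1 = t ∘ z j := by
    rw [Matrix.mulVec_single_one]
    funext l
    simp [hedef, Matrix.col]
  rw [hcol]
  have hw : t ∘ z j - ebar *ᵥ Pi.single j 1 = 0 := by
    have h1 : ebar *ᵥ (t ∘ z j - ebar *ᵥ Pi.single j 1) = t ∘ z j - ebar *ᵥ Pi.single j 1 := by
      rw [Matrix.mulVec_sub, hebeb, ← hT, hz1]
    have h2 : lc gbar (t ∘ z j - ebar *ᵥ Pi.single j 1) = 0 := by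
      rw [map_sub, ← u_lc t u g gbar hg, hz2, hg, hgood.2.1, lc_single, sub_self]
    rw [← h1]
    exact hgood.2.2 _ h2
  exact sub_eq_zero.1 hw

end Step


/-! ### the tower -/

section Main

variable (A : Type u) [CommRing A] (An : ℕ → Type u)
    [∀ n, CommRing (An n)] (t : ∀ n, An (n + 1) →+* An n) (π : ∀ n, A →+* An n)
    (ht : ∀ n, Function.Surjective (t n))
    (hnil : ∀ n (x : An (n + 1)), t n x = 0 → IsNilpotent x)
    (hA1 : ∀ n, (t n).comp (π (n + 1)) = π n)
    (hA2 : ∀ a b : A, (∀ n, π n a = π n b) → a = b)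
    (hA3 : ∀ x : ∀ n, An n, (∀ n, t n (x (n + 1)) = x n) → ∃ a : A, ∀ n, π n a = x n)
    (M : ℕ → Type u) [∀ n, AddCommGroup (M n)] [∀ n, Module (An n) (M n)]
    (u : ∀ n, M (n + 1) →ₛₗ[t n] M n)
    [Module.Projective (An 0) (M 0)] (hfin : ∀ n, Module.Finite (An n) (M n))
    (hflat : ∀ n, Module.Flat (An n) (M n))
    (hu : ∀ n, Function.Surjective (u n) ∧
      LinearMap.ker (u n) = RingHom.ker (t n) • (⊤ : Submodule (An (n + 1)) (M (n + 1))))

include ht hnil hA1 hA2 hA3 hfin hflat hu

theorem main :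
    ∃ (P : Type u) (_ : AddCommGroup P) (_ : Module A P) (p : ∀ n, P →ₛₗ[π n] M n),
      Module.Finite A P ∧ Module.Projective A P ∧ (∀ n (x : P), u n (p (n + 1) x) = p n x) ∧
      (∀ n, Function.Surjective (p n) ∧
        LinearMap.ker (p n) = RingHom.ker (π n) • (⊤ : Submodule A P)) ∧
      (∀ x : (∀ n, M n), (∀ n, u n (x (n + 1)) = x n) → ∃! q : P, ∀ n, p n q = x n) := by
  classical
  -- generators of M 0
  obtain ⟨r, f, hf⟩ := Module.Finite.exists_fin' (An 0) (M 0)
  set g0 : Fin r → M 0 := fun j => f (Pi.single j 1) with hg0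
  have hlc0 : ∀ y, lc g0 y = f y := by
    intro y
    rw [lc_apply, LinearMap.pi_apply_eq_sum_univ f y]
    apply Finset.sum_congr rfl
    intro j _
    rw [hg0]
    show y j • f (Pi.single j 1) = _
    congr 2
    funext i
    simp [Pi.single_apply, eq_comm]
  have hsurj0 : Function.Surjective (lc (R := An 0) g0) := by
    intro m
    obtain ⟨y, hy⟩ := hf m
    exact ⟨y, by rw [hlc0, hy]⟩
  -- lifts of generators
  obtain ⟨G, hG0, hG⟩ := exists_seq (α := fun n => Fin r → M n)
    (fun n b => n = 0 → HEq b g0) (fun n b c => ∀ j, u n (b j) = c j)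
    ⟨g0, fun _ => HEq.rfl⟩
    (fun n c _ => by
      choose b hb using fun j => (hu n).1 (c j)
      exact ⟨b, fun h => absurd h (Nat.succ_ne_zero n), hb⟩)
  have hG0' : G 0 = g0 := eq_of_heq (hG0 0 rfl)
  -- idempotent at level 0
  obtain ⟨σ, hσ⟩ := Module.projective_lifting_property (lc (R := An 0) g0) LinearMap.id hsurj0
  have hσ' : ∀ m, lc g0 (σ m) = m := fun m => LinearMap.congr_fun hσ m
  have hgood0 : Good (G 0) (LinearMap.toMatrix' (σ ∘ₗ lc (R := An 0) g0)) := by
    rw [hG0']
    have hmv : ∀ y, (LinearMap.toMatrix' (σ ∘ₗ lc (R := An 0) g0)) *ᵥ y = σ (lc g0 y) := by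
      intro y
      rw [LinearMap.toMatrix'_mulVec]
      rfl
    refine ⟨?_, ?_, ?_⟩
    · apply Matrix.mulVec_injective
      funext y
      rw [← Matrix.mulVec_mulVec, hmv, hmv, hσ']
    · intro y
      rw [hmv, hσ']
    · intro y hy
      rw [hmv, hy, map_zero]
  -- the idempotents
  obtain ⟨E, hE, hEc⟩ := exists_seq (α := fun n => Matrix (Fin r) (Fin r) (An n))
    (fun n e => Good (G n) e ∧ Function.Surjective (lc (R := An n) (G n)))
    (fun n e' e => e'.map (t n) = e)
    ⟨_, hgood0, by rw [hG0']; exact hsurj0⟩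
    (fun n e he => by
      haveI := hfin (n + 1)
      haveI := hflat (n + 1)
      obtain ⟨h1, e', h2, h3⟩ := step (t n) (u n) (G (n + 1)) (G n) (ht n) (hnil n) (hu n).2
        (hG n) he.2 e he.1
      exact ⟨e', ⟨h2, h1⟩, h3⟩)
  have htπ : ∀ n a, t n (π (n + 1) a) = π n a := fun n a => RingHom.congr_fun (hA1 n) a
  -- the limit idempotent
  have hentry : ∀ i j, ∃ a : A, ∀ n, π n a = E n i j := by
    intro i j
    apply hA3 (fun n => E n i j)
    intro n
    have := congrFun (congrFun (hEc n) i) j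
    simpa using this
  choose e0 he0 using hentry
  set e : Matrix (Fin r) (Fin r) A := Matrix.of e0 with hedef
  have hemap : ∀ n, e.map (π n) = E n := by
    intro n
    ext i j
    simp [hedef, he0]
  have hπe : ∀ n (y : Fin r → A), π n ∘ (e *ᵥ y) = E n *ᵥ (π n ∘ y) := by
    intro n y
    funext i
    rw [Function.comp_apply, RingHom.map_mulVec, hemap]
  have heidem : e * e = e := by
    ext i j
    apply hA2
    intro n
    have h1 : π n ((e * e) i j) = ((e * e).map (π n)) i j := rfl
    rw [h1, Matrix.map_mul, hemap, (hE n).1.1.eq, ← hemap n]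
    rfl
  have hee : ∀ y : Fin r → A, e *ᵥ (e *ᵥ y) = e *ᵥ y := by
    intro y
    rw [Matrix.mulVec_mulVec, heidem]
  have hEE : ∀ n (y : Fin r → An n), E n *ᵥ (E n *ᵥ y) = E n *ᵥ y := by
    intro n y
    rw [Matrix.mulVec_mulVec, (hE n).1.1.eq]
  -- surjectivity of π
  have hπsurj : ∀ n, Function.Surjective (π n) := by
    intro n a
    obtain ⟨x, hx, hxa⟩ := exists_through n An (fun k => t k) ht a
    obtain ⟨a', ha'⟩ := hA3 x hx
    exact ⟨a', by rw [ha', hxa]⟩
  -- the module
  let P : Submodule A (Fin r → A) := LinearMap.range (Matrix.mulVecLin e)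
  have hPmem : ∀ x : Fin r → A, x ∈ P ↔ e *ᵥ x = x := by
    intro x
    constructor
    · rintro ⟨y, rfl⟩
      simp only [Matrix.mulVecLin_apply]
      exact hee y
    · intro h
      exact ⟨x, by simp only [Matrix.mulVecLin_apply]; exact h⟩
  let p : ∀ n, P →ₛₗ[π n] M n := fun n =>
    { toFun := fun x => lc (G n) (π n ∘ x.1)
      map_add' := fun x y => by
        have : π n ∘ ((x + y : P) : Fin r → A) = π n ∘ x.1 + π n ∘ y.1 := by
          funext i; simp
        rw [this, map_add]
      map_smul' := fun a x => by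
        have : π n ∘ ((a • x : P) : Fin r → A) = π n a • (π n ∘ x.1) := by
          funext i; simp
        rw [this, map_smul] }
  have hp : ∀ n (x : P), p n x = lc (G n) (π n ∘ x.1) := fun n x => rfl
  -- key fact
  have hkey : ∀ n (x : P), p n x = 0 → π n ∘ x.1 = 0 := by
    intro n x hx
    rw [hp] at hx
    have h1 := (hE n).1.2.2 _ hx
    rw [← hπe, (hPmem x.1).1 x.2] at h1
    exact h1
  refine ⟨P, inferInstance, inferInstance, p, ?_, ?_, ?_, ?_, ?_⟩
  · exact Module.Finite.range _
  · refine Module.Projective.of_split P.subtype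
      (LinearMap.codRestrict P (Matrix.mulVecLin e) (fun y => ⟨y, rfl⟩)) ?_
    ext x : 1
    apply Subtype.ext
    simp only [LinearMap.comp_apply, LinearMap.codRestrict_apply, Submodule.subtype_apply,
      Matrix.mulVecLin_apply, LinearMap.id_apply]
    exact (hPmem x.1).1 x.2
  · intro n x
    rw [hp, hp, u_lc (t n) (u n) (G (n + 1)) (G n) (hG n)]
    congr 1
    funext i
    simp [htπ]
  · intro n
    constructor
    · intro m
      obtain ⟨y, rfl⟩ := (hE n).2 m
      choose yt hyt using fun j => hπsurj n (y j)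
      have hyt' : π n ∘ yt = y := funext hyt
      refine ⟨⟨e *ᵥ yt, (hPmem _).2 (hee yt)⟩, ?_⟩
      rw [hp]
      simp only
      rw [hπe, hyt', (hE n).1.2.1]
    · apply le_antisymm
      · intro x hx
        have h0 := hkey n x (LinearMap.mem_ker.1 hx)
        have hxe : x = ∑ j, (x.1 j) • (⟨e *ᵥ Pi.single j 1, (hPmem _).2 (hee _)⟩ : P) := by
          apply Subtype.ext
          rw [Submodule.coe_sum]
          simp only [Submodule.coe_smul]
          have h1 : x.1 = ∑ j, x.1 j • (Pi.single j (1 : A) : Fin r → A) := by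
            funext l
            simp [Finset.sum_apply, Pi.single_apply]
          conv_lhs => rw [← (hPmem x.1).1 x.2, h1]
          rw [← Matrix.mulVecLin_apply, map_sum]
          apply Finset.sum_congr rfl
          intro j _
          rw [map_smul, Matrix.mulVecLin_apply]
        rw [hxe]
        apply Submodule.sum_mem
        intro j _
        apply Submodule.smul_mem_smul _ Submodule.mem_top
        rw [RingHom.mem_ker]
        exact congrFun h0 j
      · rw [Submodule.smul_le]
        intro a ha x _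
        rw [LinearMap.mem_ker, map_smulₛₗ, (RingHom.mem_ker).1 ha, zero_smul]
  · intro x hx
    -- the vectors
    choose yt hyt using fun n => (hE n).2 (x n)
    set y : ∀ n, Fin r → An n := fun n => E n *ᵥ yt n with hy
    have hy1 : ∀ n, lc (G n) (y n) = x n := by
      intro n
      rw [hy]
      simp only
      rw [(hE n).1.2.1, hyt]
    have hycomp : ∀ n, t n ∘ y (n + 1) = y n := by
      intro n
      have h1 : t n ∘ y (n + 1) = E n *ᵥ (t n ∘ yt (n + 1)) := by
        funext i
        rw [hy]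
        simp only [Function.comp_apply]
        rw [RingHom.map_mulVec, hEc n]
      have h2 : lc (G n) (t n ∘ yt (n + 1) - yt n) = 0 := by
        rw [map_sub, ← u_lc (t n) (u n) (G (n + 1)) (G n) (hG n), hyt, hyt, hx, sub_self]
      have h3 := (hE n).1.2.2 _ h2
      rw [Matrix.mulVec_sub, sub_eq_zero] at h3
      rw [h1, h3]
    have hlim : ∀ i, ∃ a : A, ∀ n, π n a = y n i := by
      intro i
      apply hA3 (fun n => y n i)
      intro n
      exact congrFun (hycomp n) i
    choose q0 hq0 using hlim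
    have hq0' : ∀ n, π n ∘ q0 = y n := fun n => funext fun i => hq0 i n
    have hq0P : q0 ∈ P := by
      rw [hPmem]
      funext i
      apply hA2
      intro n
      have := congrFun (hπe n q0) i
      rw [Function.comp_apply] at this
      rw [this, hq0', hy]
      simp only
      rw [hEE]
      exact (hq0 i n).symm
    refine ⟨⟨q0, hq0P⟩, ?_, ?_⟩
    · intro n
      rw [hp]
      simp only
      rw [hq0', hy1]
    · intro q' hq'
      have hdiff : ∀ n, p n (q' - ⟨q0, hq0P⟩) = 0 := by
        intro n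
        rw [map_sub, hq' n, hp]
        simp only
        rw [hq0', hy1, sub_self]
      rw [← sub_eq_zero]
      apply Subtype.ext
      funext i
      apply hA2
      intro n
      have := congrFun (hkey n _ (hdiff n)) i
      simpa using this

end Main

end Groth.Agent.Lib.Helper2.LimProj
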