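import Groth.Agent.Lib.Helper2.NefGG
import Groth.Agent.Lib.Helper8.AffPush
import Groth.Agent.Lib.Helper16.RS6
import Groth.Agent.Lib.Helper28.PullbackInv2

/-!
# Transporting nefness to a closed subscheme (helper2)

* `euler_pullback_iso`, `deg_pullback_iso`: Euler characteristics and degrees over a field are invariant under pullback
  along an isomorphism of schemes over the field.
* `nef_of_closedImmersion`: if `k : Z ⟶ X` is a closed immersion from a `K`-scheme `Z` and an invertible module `L` on
  `X` has nonnegative degree on the integral one-dimensional closed subschemes of `X` which factor through `Z`, then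
  `k^* L` has nonnegative degree on the integral one-dimensional closed subschemes of `Z`.
-/

set_option backward.isDefEq.respectTransparency.types false
set_option autoImplicit false
universe u
open CategoryTheory CategoryTheory.Limits AlgebraicGeometry Opposite TopologicalSpace
noncomputable section

namespace Groth.Agent.Lib.Helper2.NefFib

open Groth.Agent.Lib.Helper8.EulerK

section iso

variable {W' W : Scheme.{u}} (e : W' ⟶ W) [IsIso e]

/-- pullback along an isomorphism of schemes is an equivalence -/
def pbEquiv : W.Modules ≌ W'.Modules :=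
  CategoryTheory.Equivalence.mk (Scheme.Modules.pullback e) (Scheme.Modules.pullback (inv e))
    (Scheme.Modules.pullbackComp (inv e) e ≪≫ Scheme.Modules.pullbackCongr (IsIso.inv_hom_id e) ≪≫
      Scheme.Modules.pullbackId W).symm
    (Scheme.Modules.pullbackComp e (inv e) ≪≫ Scheme.Modules.pullbackCongr (IsIso.hom_inv_id e) ≪≫
      Scheme.Modules.pullbackId W')

theorem isEquivalence_pullback : (Scheme.Modules.pullback e).IsEquivalence :=
  (pbEquiv e).isEquivalence_functor

variable (K : Type u) [Field K] [W'.Over (Spec (CommRingCat.of K))] [W.Over (Spec (CommRingCat.of K))]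

theorem euler_pullback_iso (he : e ≫ (W ↘ Spec (CommRingCat.of K)) = W' ↘ Spec (CommRingCat.of K))
    (M : W.Modules) (hM : ((Scheme.Modules.pullback e).obj M).IsQuasicoherent) :
    Curv2.euler K W' ((Scheme.Modules.pullback e).obj M) = Curv2.euler K W M := by
  haveI := isEquivalence_pullback e
  haveI : IsIso ((Scheme.Modules.pullbackPushforwardAdjunction e).unit.app M) := inferInstance
  rw [← Groth.Agent.Lib.Helper8.AffPush.euler_push K e he ((Scheme.Modules.pullback e).obj M) hM]
  exact euler_congr K (asIso ((Scheme.Modules.pullbackPushforwardAdjunction e).unit.app M)).symm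

theorem deg_pullback_iso (he : e ≫ (W ↘ Spec (CommRingCat.of K)) = W' ↘ Spec (CommRingCat.of K))
    (M : W.Modules) (hM : ((Scheme.Modules.pullback e).obj M).IsQuasicoherent) (n : ℕ) :
    Curv2.deg K W' ((Scheme.Modules.pullback e).obj M) n = Curv2.deg K W M n := by
  unfold Curv2.deg
  have hO : ((Scheme.Modules.pullback e).obj (Coh.structureModule W)).IsQuasicoherent := by
    have : (Coh.structureModule W').IsQuasicoherent := inferInstance
    exact (SheafOfModules.isQuasicoherent W'.ringCatSheaf).prop_of_iso
      (Groth.Agent.Lib.Helper16.RS.pullbackUnitIso e).symm this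
  rw [euler_pullback_iso e K he M hM, ← euler_pullback_iso e K he (Coh.structureModule W) hO,
    euler_congr K (Groth.Agent.Lib.Helper16.RS.pullbackUnitIso e)]

end iso

section main

variable (K : Type u) [Field K] {Z X : Scheme.{u}} [Z.Over (Spec (CommRingCat.of K))]

/-- **nefness passes to a closed subscheme over a field** -/
theorem nef_of_closedImmersion (k : Z ⟶ X) [IsClosedImmersion k] (L : X.Modules) (hL : PicF.IsInvertible L)
    (hnefX : ∀ (J : X.IdealSheafData) (c : J.subscheme ⟶ Z), c ≫ k = J.subschemeι →
      IsIntegral J.subscheme → topologicalKrullDim J.subscheme = 1 →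
      0 ≤ @Curv2.deg K _ J.subscheme ⟨c ≫ (Z ↘ Spec (CommRingCat.of K))⟩
        ((Scheme.Modules.pullback J.subschemeι).obj L) 1)
    (J' : Z.IdealSheafData) (hint : IsIntegral J'.subscheme) (hdim : topologicalKrullDim J'.subscheme = 1) :
    0 ≤ @Curv2.deg K _ J'.subscheme ⟨J'.subschemeι ≫ (Z ↘ Spec (CommRingCat.of K))⟩
      ((Scheme.Modules.pullback J'.subschemeι).obj ((Scheme.Modules.pullback k).obj L)) 1 := by
  set c₀ : J'.subscheme ⟶ X := J'.subschemeι ≫ k with hc₀
  haveI : IsClosedImmersion c₀ := inferInstance
  set J : X.IdealSheafData := c₀.ker with hJ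
  set e : J'.subscheme ⟶ J.subscheme := c₀.toImage with he'
  haveI : IsIso e := inferInstance
  have he : e ≫ J.subschemeι = c₀ := c₀.toImage_imageι
  let c : J.subscheme ⟶ Z := inv e ≫ J'.subschemeι
  have hc : c ≫ k = J.subschemeι := by
    change (inv e ≫ J'.subschemeι) ≫ k = _
    rw [Category.assoc, ← hc₀, ← he, IsIso.inv_hom_id_assoc]
  have hJint : IsIntegral J.subscheme := by
    haveI := hint
    haveI : Nonempty J.subscheme := ⟨e (Nonempty.some inferInstance)⟩
    exact isIntegral_of_isOpenImmersion (inv e)
  have hJdim : topologicalKrullDim J.subscheme = 1 := by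
    rw [← hdim]
    exact (IsHomeomorph.topologicalKrullDim_eq _ e.homeomorph.isHomeomorph).symm
  have h := hnefX J c hc hJint hJdim
  letI iJ : J.subscheme.Over (Spec (CommRingCat.of K)) := ⟨c ≫ (Z ↘ Spec (CommRingCat.of K))⟩
  letI iJ' : J'.subscheme.Over (Spec (CommRingCat.of K)) := ⟨J'.subschemeι ≫ (Z ↘ Spec (CommRingCat.of K))⟩
  have heK : e ≫ (J.subscheme ↘ Spec (CommRingCat.of K)) = J'.subscheme ↘ Spec (CommRingCat.of K) := by
    change e ≫ ((inv e ≫ J'.subschemeι) ≫ (Z ↘ Spec (CommRingCat.of K))) = J'.subschemeι ≫ (Z ↘ Spec (CommRingCat.of K))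
    rw [Category.assoc, IsIso.hom_inv_id_assoc]
  have iso : (Scheme.Modules.pullback e).obj ((Scheme.Modules.pullback J.subschemeι).obj L) ≅
      (Scheme.Modules.pullback J'.subschemeι).obj ((Scheme.Modules.pullback k).obj L) :=
    (Scheme.Modules.pullbackComp e J.subschemeι).app L ≪≫ (Scheme.Modules.pullbackCongr he).app L ≪≫
      ((Scheme.Modules.pullbackComp J'.subschemeι k).app L).symm
  have hinv : PicF.IsInvertible ((Scheme.Modules.pullback e).obj ((Scheme.Modules.pullback J.subschemeι).obj L)) :=
    Groth.Agent.Lib.Helper28.PullbackInv.isInvertible_pullback e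
      (Groth.Agent.Lib.Helper28.PullbackInv.isInvertible_pullback J.subschemeι hL)
  have hq := Groth.Agent.Lib.Helper28.InvQC.isQuasicoherent_of_isInvertible _ hinv
  have h2 := deg_pullback_iso e K heK ((Scheme.Modules.pullback J.subschemeι).obj L) hq 1
  change 0 ≤ Curv2.deg K J.subscheme ((Scheme.Modules.pullback J.subschemeι).obj L) 1 at h
  rw [← h2] at h
  change 0 ≤ Curv2.deg K J'.subscheme _ 1
  unfold Curv2.deg at h ⊢
  rwa [euler_congr K iso] at h

end main

end Groth.Agent.Lib.Helper2.NefFib
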