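import Groth.Agent.Lib.Helper2.G0GG
import Groth.Agent.Lib.Helper6.DevStep
import Groth.Agent.Lib.Helper6.K0Filt
import Groth.Agent.Lib.Helper8.CurveTensor
import Groth.Agent.Lib.Helper16.K0Supp

/-!
# Nef invertible modules on one-dimensional proper schemes with `H¹(O) = 0` (helper2)

Let `X` be proper over a field, of dimension at most one (not necessarily reduced or irreducible), and `L` an invertible
module.  `δ_L(F) = χ(L ⊗ F) - χ(F)` is additive in short exact sequences and vanishes on coherent modules with finite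
support; by dévissage (helper6's graph trick) `δ_L(F) ≥ 0` for all coherent `F` as soon as `δ_L(O_Z) ≥ 0` for the
reduced closures `Z` of the non-closed points, i.e. as soon as `L` is nef.  If moreover `H¹(X, O_X) = 0`, the
quotient induction of `G0GG` then shows that `L` is globally generated and `H¹(X, L) = 0`.
-/

set_option backward.isDefEq.respectTransparency.types false
set_option autoImplicit false
universe u
open CategoryTheory CategoryTheory.Limits AlgebraicGeometry Opposite TopologicalSpace
noncomputable section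

namespace Groth.Agent.Lib.Helper2.NefGG

section topo

variable {X : Type*} [TopologicalSpace X]

/-- in a T0 space of dimension ≤ 1, an irreducible closed subset strictly contained in an irreducible closed subset
is a closed singleton -/
theorem irred_lt_singleton [T0Space X] (hX : topologicalKrullDim X ≤ 1)
    (Z : Set X) (hZc : IsClosed Z) (hZi : IsIrreducible Z)
    (t : Set X) (htc : IsClosed t) (hti : IsIrreducible t) (htZ : t ⊆ Z) (hne : t ≠ Z) :
    ∃ z, t = {z} := by
  have hdim := (Order.krullDim_le_one_iff (α := IrreducibleCloseds X)).mp hX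
  let k : IrreducibleCloseds X := ⟨t, hti, htc⟩
  let top : IrreducibleCloseds X := ⟨Z, hZi, hZc⟩
  have hlt : k < top := by
    rw [lt_iff_le_and_ne]
    refine ⟨htZ, fun e => hne ?_⟩
    exact congrArg (fun a : IrreducibleCloseds X => (a : Set X)) e
  have hmin : IsMin k := by
    rcases hdim k with h | h
    · exact h
    · exact absurd hlt h.not_lt
  have hgen : ∀ y ∈ t, closure ({y} : Set X) = t := by
    intro y hy
    let c : IrreducibleCloseds X := ⟨closure {y}, isIrreducible_singleton.closure, isClosed_closure⟩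
    have hck : c ≤ k := by
      intro x hx
      exact closure_minimal (Set.singleton_subset_iff.mpr hy) htc hx
    have hkc : k ≤ c := hmin hck
    exact Set.Subset.antisymm hck hkc
  obtain ⟨z, hz⟩ := hti.nonempty
  refine ⟨z, ?_⟩
  ext y
  simp only [Set.mem_singleton_iff]
  constructor
  · intro hy
    have : closure ({y} : Set X) = closure {z} := by rw [hgen y hy, hgen z hz]
    exact ((inseparable_iff_closure_eq.mpr this)).eq
  · rintro rfl; exact hz

/-- in a Noetherian T0 space of dimension ≤ 1, a closed subset strictly contained in an irreducible closed subset is a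
finite set of closed points -/
theorem closed_lt_finite [T0Space X] [NoetherianSpace X] (hX : topologicalKrullDim X ≤ 1)
    (Z : Set X) (hZc : IsClosed Z) (hZi : IsIrreducible Z)
    (T : Set X) (hT : IsClosed T) (hTZ : T ⊆ Z) (hne : T ≠ Z) :
    T.Finite ∧ ∀ x ∈ T, IsClosed ({x} : Set X) := by
  obtain ⟨S, hSf, hSc, hSi, rfl⟩ := NoetherianSpace.exists_finite_set_isClosed_irreducible hT
  have key : ∀ t ∈ S, ∃ z, t = {z} := by
    intro t ht
    have htZ : t ⊆ Z := (Set.subset_sUnion_of_mem ht).trans hTZ
    apply irred_lt_singleton hX Z hZc hZi t (hSc t ht) (hSi t ht) htZ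
    intro e
    apply hne
    apply Set.Subset.antisymm hTZ
    rw [← e]
    exact Set.subset_sUnion_of_mem ht
  constructor
  · apply Set.Finite.sUnion hSf
    intro t ht
    obtain ⟨z, rfl⟩ := key t ht
    exact Set.finite_singleton z
  · rintro x ⟨t, ht, hxt⟩
    obtain ⟨z, rfl⟩ := key t ht
    rw [Set.mem_singleton_iff] at hxt
    rw [hxt]
    exact hSc _ ht

/-- the closure of a non-closed point in a T0 space of dimension ≤ 1 has dimension one -/
theorem dim_closure_eq_one [T0Space X] (hX : topologicalKrullDim X ≤ 1) (y : X)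
    (hy : ¬ IsClosed ({y} : Set X)) : topologicalKrullDim (closure ({y} : Set X)) = 1 := by
  apply le_antisymm ((topologicalKrullDim_subspace_le X _).trans hX)
  have hne : closure ({y} : Set X) ≠ {y} := fun e => hy (e ▸ isClosed_closure)
  obtain ⟨t, ht, hty⟩ : ∃ t ∈ closure ({y} : Set X), t ≠ y := by
    by_contra hcon
    push Not at hcon
    apply hne
    apply Set.Subset.antisymm
    · intro t ht
      exact hcon t ht
    · exact subset_closure
  let W : Set X := closure {y}
  let y' : W := ⟨y, subset_closure rfl⟩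
  let t' : W := ⟨t, ht⟩
  let a : IrreducibleCloseds W := ⟨closure {t'}, isIrreducible_singleton.closure, isClosed_closure⟩
  let b : IrreducibleCloseds W := ⟨closure {y'}, isIrreducible_singleton.closure, isClosed_closure⟩
  have hyW : closure ({y'} : Set W) = Set.univ := by
    rw [Topology.IsEmbedding.subtypeVal.closure_eq_preimage_closure_image, Set.image_singleton]
    ext w
    simp only [Set.mem_preimage, Set.mem_univ, iff_true]
    exact w.2
  have hab : a < b := by
    rw [lt_iff_le_and_ne]
    refine ⟨fun w _ => by change w ∈ closure ({y'} : Set W); rw [hyW]; exact Set.mem_univ w, fun e => ?_⟩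
    have e' : closure ({t'} : Set W) = closure ({y'} : Set W) :=
      congrArg (fun c : IrreducibleCloseds W => (c : Set W)) e
    have hins : Inseparable t' y' := inseparable_iff_closure_eq.mpr e'
    exact hty (congrArg Subtype.val hins.eq)
  exact Order.one_le_krullDim_iff.2 ⟨a, b, hab⟩

end topo

section delta

open Groth.Agent.Lib.Helper8.EulerK Groth.Agent.Lib.Helper6.DevCore Groth.Agent.Lib.Helper6.DevStep
  Groth.Agent.Lib.Helper6.DevRed Groth.Agent.Lib.Helper6.K0Filt Groth.Agent.Lib.Helper6.DevSoc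
  Groth.Agent.Lib.Helper6.DevSub Groth.Agent.Lib.Helper17.CohKer Groth.Agent.Lib.Helper17.StalkExact
  Groth.Agent.Lib.Helper28.QCohLoc

variable (k : Type u) [Field k] {X : Scheme.{u}} [X.Over (Spec (CommRingCat.of k))]
  [IsProper (X ↘ Spec (CommRingCat.of k))]

/-- the defect `δ_L(F) = χ(L ⊗ F) - χ(F)` -/
def delta (L F : X.Modules) : ℤ := Curv2.euler k X (CohB1.tensorMod L F) - Curv2.euler k X F

omit [IsProper (X ↘ Spec (CommRingCat.of k))] in
theorem delta_congr (L : X.Modules) {F G : X.Modules} (e : F ≅ G) : delta k L F = delta k L G := by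
  unfold delta
  rw [euler_congr k e, euler_congr k (PicGrp.tensorModIso (Iso.refl L) e)]

theorem delta_add {L : X.Modules} (hL : PicF.IsInvertible L) (S : ShortComplex X.Modules) (hS : S.ShortExact)
    (h₁ : Coh.IsCoh S.X₁) (h₂ : Coh.IsCoh S.X₂) (h₃ : Coh.IsCoh S.X₃) :
    delta k L S.X₂ = delta k L S.X₁ + delta k L S.X₃ := by
  have hLc := Groth.Agent.Lib.Helper6.K0Op.isCoh_of_isInvertible L hL
  have hT := Groth.Agent.Lib.Helper6.K0Op.shortExact_tensor_of_flat L
    (Groth.Agent.Lib.Helper6.K0Op.isFlat_of_isInvertible L hL) S hS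
  have e1 := euler_add k X _ hT
    (Groth.Agent.Lib.Helper6.K0Op.isCoh_tensorMod L S.X₁ hLc h₁)
    (Groth.Agent.Lib.Helper6.K0Op.isCoh_tensorMod L S.X₂ hLc h₂)
    (Groth.Agent.Lib.Helper6.K0Op.isCoh_tensorMod L S.X₃ hLc h₃)
  have e1' : Curv2.euler k X (CohB1.tensorMod L S.X₂) =
      Curv2.euler k X (CohB1.tensorMod L S.X₁) + Curv2.euler k X (CohB1.tensorMod L S.X₃) := e1
  have e2 := euler_add k X S hS h₁ h₂ h₃
  unfold delta
  rw [e1', e2]
  ring

theorem delta_of_finite {L : X.Modules} (hL : PicF.IsInvertible L) (F : X.Modules) (hF : Coh.IsCoh F)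
    (T : Set X) (hfin : T.Finite) (hcl : ∀ z ∈ T, IsClosed ({z} : Set X)) (hS : CohB1.support F ⊆ T) :
    delta k L F = 0 := by
  unfold delta
  rw [euler_congr k (Groth.Agent.Lib.Helper6.K0Inv.braidIso L F),
    Groth.Agent.Lib.Helper8.CurveTensor.euler_tensor_of_finset k X F hF hfin.toFinset
      (fun z hz => hcl z (hfin.mem_toFinset.1 hz)) (by rw [Set.Finite.coe_toFinset]; exact hS) 1 L
      (Groth.Agent.Lib.Helper6.K0Op.isFinLocFreeOfRank_one_of_isInvertible L hL)]
  push_cast
  ring

theorem delta_of_isZero {L : X.Modules} (hL : PicF.IsInvertible L) (M : X.Modules) (hM : IsZero M) :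
    delta k L M = 0 :=
  delta_of_finite k hL M (isCoh_of_isZero hM) ∅ Set.finite_empty (fun z hz => absurd hz (Set.notMem_empty z))
    (by rw [Groth.Agent.Lib.Helper16.K0Supp.support_of_isZero hM])

/-- `δ(A) = δ(ker f) + δ(im f)` -/
theorem delta_ker_image [IsLocallyNoetherian X] {L : X.Modules} (hL : PicF.IsInvertible L) {A B : X.Modules}
    (f : A ⟶ B) (hA : Coh.IsCoh A) (hB : Coh.IsCoh B) :
    delta k L A = delta k L (kernel f) + delta k L (Abelian.image f) := by
  have h := delta_add k hL (sc1 f) (sc1_shortExact f) (isCoh_kernel f hA hB) hA (isCoh_coimage f hA hB)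
  have hc : delta k L (Abelian.coimage f) = delta k L (Abelian.image f) :=
    delta_congr k L (Abelian.coimageIsoImage f)
  rw [← hc]
  exact h

/-- `δ(B) = δ(im f) + δ(coker f)` -/
theorem delta_image_coker [IsLocallyNoetherian X] {L : X.Modules} (hL : PicF.IsInvertible L) {A B : X.Modules}
    (f : A ⟶ B) (hA : Coh.IsCoh A) (hB : Coh.IsCoh B) :
    delta k L B = delta k L (Abelian.image f) + delta k L (cokernel f) :=
  delta_add k hL (sc2 f) (sc2_shortExact f) (isCoh_image f hA hB) hB (isCoh_cokernel f hA hB)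

/-- **the step of the dévissage for the inequality `0 ≤ δ`** (helper6's graph trick) -/
theorem step [IsNoetherian X] {L : X.Modules} (hL : PicF.IsInvertible L) (Z : Set X) (y : X)
    (hZ : closure {y} = Z)
    (IHδ : ∀ N : X.Modules, Coh.IsCoh N → CohB1.support N ⊆ Z → y ∉ CohB1.support N → delta k L N = 0)
    (G : X.Modules) (hG : Coh.IsCoh G) (hδG : 0 ≤ delta k L G) (hGZ : CohB1.support G ⊆ Z)
    (g : G.presheaf.stalk y) (hg0 : g ≠ 0)
    (hgm : ∀ a ∈ IsLocalRing.maximalIdeal (X.presheaf.stalk y), a • g = 0)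
    (hgen : ∀ g' : G.presheaf.stalk y, ∃ c : X.presheaf.stalk y, g' = c • g)
    (Q : X.Modules) (hQ : Coh.IsCoh Q) (hQZ : CohB1.support Q ⊆ Z) (hyQ : y ∈ CohB1.support Q) :
    ∃ (S : X.Modules) (i : S ⟶ Q), Mono i ∧ Coh.IsCoh S ∧ 0 ≤ delta k L S ∧ y ∈ CohB1.support S := by
  obtain ⟨q, hq0, hqm⟩ := exists_socle Q hQ y (hZ ▸ hQZ) hyQ
  obtain ⟨H, ι, hι, hH, h₀, hp, hr, hcyc, hzero⟩ := exists_graph Q G hQ hG y q g
  have hHZ : CohB1.support H ⊆ Z :=
    (support_subset_of_mono ι).trans ((support_biprod_subset Q G).trans (Set.union_subset hQZ hGZ))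
  have hpinj : ∀ h : H.presheaf.stalk y, stalkHom (ι ≫ biprod.fst) y h = 0 → h = 0 := by
    intro h hh
    obtain ⟨c, rfl⟩ := hcyc h
    rw [stalkHom_smul, hp] at hh
    have hc := (smul_eq_zero_iff_mem q hq0 hqm c).1 hh
    exact hzero c hh (hgm c hc)
  have hrinj : ∀ h : H.presheaf.stalk y, stalkHom (ι ≫ biprod.snd) y h = 0 → h = 0 := by
    intro h hh
    obtain ⟨c, rfl⟩ := hcyc h
    rw [stalkHom_smul, hr] at hh
    have hc := (smul_eq_zero_iff_mem g hg0 hgm c).1 hh
    exact hzero c (hqm c hc) hh
  have hrsurj : Function.Surjective (stalkHom (ι ≫ biprod.snd) y) := by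
    intro g'
    obtain ⟨c, rfl⟩ := hgen g'
    exact ⟨c • h₀, by rw [stalkHom_smul, hr]⟩
  have hK1 : delta k L (kernel (ι ≫ biprod.snd)) = 0 := IHδ _ (isCoh_kernel _ hH hG)
    ((support_subset_of_mono (kernel.ι _)).trans hHZ) (notMem_support_kernel _ y hrinj)
  have hK2 : delta k L (cokernel (ι ≫ biprod.snd)) = 0 := IHδ _ (isCoh_cokernel _ hH hG)
    ((support_subset_of_epi (cokernel.π _)).trans hGZ) (notMem_support_cokernel _ y hrsurj)
  have hK3 : delta k L (kernel (ι ≫ biprod.fst)) = 0 := IHδ _ (isCoh_kernel _ hH hQ)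
    ((support_subset_of_mono (kernel.ι _)).trans hHZ) (notMem_support_kernel _ y hpinj)
  have e1 := delta_ker_image k hL (ι ≫ biprod.snd) hH hG
  have e2 := delta_image_coker k hL (ι ≫ biprod.snd) hH hG
  have e3 := delta_ker_image k hL (ι ≫ biprod.fst) hH hQ
  refine ⟨Abelian.image (ι ≫ biprod.fst), Abelian.image.ι _, inferInstance, isCoh_image _ hH hQ,
    by omega, mem_support_image _ y ⟨h₀, ?_⟩⟩
  rw [hp]
  exact hq0

variable {k}

/-- the class of modules with `0 ≤ δ` -/
def nonnegClass (L : X.Modules) : ObjectProperty X.Modules := fun F => 0 ≤ delta k L F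

instance (L : X.Modules) : (nonnegClass (k := k) L).IsClosedUnderIsomorphisms where
  of_iso := by
    intro F G e h
    change 0 ≤ delta k L G
    rw [← delta_congr k L e]
    exact h

variable (k)

/-- **nef implies `χ(F) ≤ χ(L ⊗ F)` for all coherent `F`** on a proper scheme of dimension at most one -/
theorem delta_nonneg (hdim : topologicalKrullDim X ≤ 1) {L : X.Modules} (hL : PicF.IsInvertible L)
    (hnef : ∀ y : X, ¬ IsClosed ({y} : Set X) → 0 ≤ delta k L (OZ y))
    (F : X.Modules) (hF : Coh.IsCoh F) : 0 ≤ delta k L F := by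
  haveI := Groth.Agent.Lib.Helper2.G0GG.isNoetherian k X
  have hfin : ∀ (Z : Set X), IsClosed Z → IsIrreducible Z → ∀ y : X, y ∈ Z →
      ∀ N : X.Modules, Coh.IsCoh N → CohB1.support N ⊆ Z → y ∉ CohB1.support N → delta k L N = 0 := by
    intro Z hZc hZi y hyZ N hN hNZ hyN
    obtain ⟨hf, hc⟩ := closed_lt_finite hdim Z hZc hZi (CohB1.support N) (isClosed_support N hN) hNZ
      (fun e => hyN (e ▸ hyZ))
    exact delta_of_finite k hL N hN _ hf hc le_rfl
  refine devissage_core (nonnegClass (k := k) L) ?_ ?_ Set.univ ?_ isClosed_univ F hF (Set.subset_univ _)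
  · intro S hS h1 h2 h3 k1 k3
    change 0 ≤ delta k L S.X₂
    rw [delta_add k hL S hS h1 h2 h3]
    exact add_nonneg k1 k3
  · intro M hM
    change 0 ≤ delta k L M
    rw [delta_of_isZero k hL M hM]
  · intro Z hZc hZi _ y hy IH Q hQ hQZ hyQ
    have hyZ : y ∈ Z := hy ▸ subset_closure rfl
    obtain ⟨g, hg0, hgm, hgg⟩ := exists_gen_quotMod ⟨closure {y}, isClosed_closure⟩ y rfl
    have hδG : 0 ≤ delta k L (OZ y) := by
      by_cases hycl : IsClosed ({y} : Set X)
      · rw [delta_of_finite k hL (OZ y) (isCoh_OZ y) {y} (Set.finite_singleton y)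
          (fun z hz => by rw [Set.mem_singleton_iff.1 hz]; exact hycl)
          (by rw [support_OZ y, hycl.closure_eq])]
      · exact hnef y hycl
    exact step k hL Z y hy (hfin Z hZc hZi y hyZ) (OZ y) (isCoh_OZ y) hδG ((support_OZ y).le.trans hy.le)
      g hg0 hgm hgg Q hQ hQZ hyQ

end delta

section main

open Groth.Agent.Lib.Helper8.EulerK Groth.Agent.Lib.Helper8.GGKill Groth.Agent.Lib.Helper8.GGCoh
  Groth.Agent.Lib.Helper8.KillA Groth.Agent.Lib.Helper2.HLes Groth.Agent.Lib.Helper2.HLesLin
  Groth.Agent.Lib.Helper2.G0GG Groth.Agent.Lib.Helper4.Snapper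

variable (k : Type u) [Field k] {X : Scheme.{u}} [X.Over (Spec (CommRingCat.of k))]
  [IsProper (X ↘ Spec (CommRingCat.of k))]

/-- the degree of `L` restricted to a closed subscheme `D` is `δ_L(O_D)` -/
theorem deg_subscheme_eq_delta (D : X.IdealSheafData) (L : X.Modules) (hL : PicF.IsInvertible L) :
    @Curv2.deg k _ D.subscheme ⟨D.subschemeι ≫ (X ↘ (Spec (CommRingCat.of k)))⟩
        ((Scheme.Modules.pullback D.subschemeι).obj L) 1 = delta k L (ClSub.quotMod D) := by
  letI : D.subscheme.Over (Spec (CommRingCat.of k)) := ⟨D.subschemeι ≫ (X ↘ (Spec (CommRingCat.of k)))⟩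
  obtain ⟨f0⟩ := nonempty_tensorPows_one_zero_iso (ClSub.quotMod D) L
  obtain ⟨f1⟩ := nonempty_tensorPows_one_one_iso (ClSub.quotMod D) L
  unfold delta
  rw [euler_congr k (Groth.Agent.Lib.Helper6.K0Inv.braidIso L (ClSub.quotMod D)), ← euler_congr k f1,
    ← euler_congr k f0,
    ← euler_subscheme_tensorPows k D 1 (fun _ => L) (fun _ => hL) (fun _ => 1),
    ← euler_subscheme_tensorPows k D 1 (fun _ => L) (fun _ => hL) 0]
  obtain ⟨e0⟩ := nonempty_tensorPows_one_zero_iso (Coh.structureModule D.subscheme)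
    ((Scheme.Modules.pullback D.subschemeι).obj L)
  obtain ⟨e1⟩ := nonempty_tensorPows_one_one_iso (Coh.structureModule D.subscheme)
    ((Scheme.Modules.pullback D.subschemeι).obj L)
  obtain ⟨e2⟩ := Groth.Agent.Lib.Helper28.InvQC.nonempty_unit_tensor_iso
    ((Scheme.Modules.pullback D.subschemeι).obj L)
  unfold Curv2.deg
  rw [euler_congr k e0, euler_congr k (e1 ≪≫ e2)]
  simp

/-- the reduced closure of a non-closed point, in dimension at most one, is an integral subscheme of dimension one -/
theorem dim_subscheme_closure (hdim : topologicalKrullDim X ≤ 1) (y : X) (hy : ¬ IsClosed ({y} : Set X)) :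
    topologicalKrullDim
      (Scheme.IdealSheafData.vanishingIdeal (⟨closure {y}, isClosed_closure⟩ : Closeds X)).subscheme = 1 := by
  set J := Scheme.IdealSheafData.vanishingIdeal (⟨closure {y}, isClosed_closure⟩ : Closeds X) with hJ
  have hr : Set.range J.subschemeι = closure {y} :=
    Groth.Agent.Lib.Helper6.DevRed.range_subschemeι_vanishingIdeal _
  rw [← dim_closure_eq_one hdim y hy, ← hr]
  exact IsHomeomorph.topologicalKrullDim_eq _ (J.subschemeι.isEmbedding.toHomeomorph.isHomeomorph)

/-- nef, in the form "nonnegative degree on integral closed subschemes of dimension one", gives `0 ≤ δ` -/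
theorem delta_nonneg_of_nef (hdim : topologicalKrullDim X ≤ 1) {L : X.Modules} (hL : PicF.IsInvertible L)
    (hnef : ∀ J : X.IdealSheafData, IsIntegral J.subscheme → topologicalKrullDim J.subscheme = 1 →
      0 ≤ @Curv2.deg k _ J.subscheme ⟨J.subschemeι ≫ (X ↘ (Spec (CommRingCat.of k)))⟩
        ((Scheme.Modules.pullback J.subschemeι).obj L) 1)
    (F : X.Modules) (hF : Coh.IsCoh F) : 0 ≤ delta k L F := by
  apply delta_nonneg k hdim hL _ F hF
  intro y hy
  have h := hnef (Scheme.IdealSheafData.vanishingIdeal (⟨closure {y}, isClosed_closure⟩ : Closeds X))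
    (Groth.Agent.Lib.Helper6.DevRed.isIntegral_subscheme_vanishingIdeal _ isIrreducible_singleton.closure)
    (dim_subscheme_closure hdim y hy)
  rwa [deg_subscheme_eq_delta k _ L hL] at h

variable (hdim : topologicalKrullDim X ≤ 1) (hO : Subsingleton (Coh.HH X (Coh.structureModule X) 1))

include hdim hO in
/-- a nonzero coherent quotient of an invertible module `L` with `0 ≤ δ_L` has positive Euler characteristic -/
theorem euler_pos_of_quotient {L : X.Modules} (hL : PicF.IsInvertible L)
    (hδ : ∀ F : X.Modules, Coh.IsCoh F → 0 ≤ delta k L F) (E : X.Modules) (hE : Coh.IsCoh E)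
    (π : L ⟶ E) (hπ : Epi π) (hne : ¬ IsZero E) : 0 < Curv2.euler k X E := by
  haveI := isNoetherian k X
  obtain ⟨M, hM, ⟨eM⟩⟩ := Groth.Agent.Lib.Helper8.InvInverse.exists_isInverseOf hL
  have hcM := Groth.Agent.Lib.Helper6.K0Op.isCoh_of_isInvertible M hM
  have hF₀ : Coh.IsCoh (CohB1.tensorMod E M) := Groth.Agent.Lib.Helper6.K0Op.isCoh_tensorMod _ _ hE hcM
  obtain ⟨eU⟩ := Groth.Agent.Lib.Helper4.Snapper.nonempty_tensor_unit_iso E
  have e1 : CohB1.tensorMod L (CohB1.tensorMod E M) ≅ E :=
    Groth.Agent.Lib.Helper6.K0Inv.braidIso L (CohB1.tensorMod E M) ≪≫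
      Groth.Agent.Lib.Helper16.TA.assocIso E M L ≪≫ PicGrp.tensorModIso (Iso.refl E) eM ≪≫ eU
  let q₀ : Coh.structureModule X ⟶ CohB1.tensorMod E M :=
    eM.inv ≫ (Groth.Agent.Lib.Helper6.K0Inv.braidIso M L).hom ≫ (DCoh.tensorBi.map π).app M
  have hq₀ : Epi q₀ := by
    have h1 : Epi ((DCoh.tensorBi.map π).app M) := epi_tensor π hπ M
    have h2 : Epi ((Groth.Agent.Lib.Helper6.K0Inv.braidIso M L).hom ≫ (DCoh.tensorBi.map π).app M) :=
      @epi_comp _ _ _ _ _ _ inferInstance _ h1
    exact @epi_comp _ _ _ _ _ _ inferInstance _ h2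
  have hne₀ : ¬ IsZero (CohB1.tensorMod E M) := fun h =>
    hne (((Groth.Agent.Lib.Helper17.Graded.isZero_tensorMod_of_isZero _ L h).of_iso
      (Groth.Agent.Lib.Helper6.K0Inv.braidIso L (CohB1.tensorMod E M))).of_iso e1.symm)
  have hb := euler_pos_of_epi_unit k hdim hO _ hF₀ q₀ hq₀ hne₀
  have hd := hδ _ hF₀
  unfold delta at hd
  rw [euler_congr k e1] at hd
  omega

include hdim hO in
/-- every coherent quotient of `L` is globally generated, provided nonzero quotients have positive `χ` -/
theorem gg_of_quotient_of_pos {L : X.Modules}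
    (hpos : ∀ (E : X.Modules), Coh.IsCoh E → ∀ π : L ⟶ E, Epi π → ¬ IsZero E → 0 < Curv2.euler k X E) :
    ∀ (N : ℕ) (E : X.Modules), Coh.IsCoh E → ∀ π : L ⟶ E, Epi π → Curv2.euler k X E ≤ N →
      Curv2.IsGloballyGenerated E := by
  haveI := isNoetherian k X
  have hcO : Coh.IsCoh (Coh.structureModule X) := Groth.Agent.Lib.Helper6.DevRed.isCoh_structureModule
  intro N
  induction N with
  | zero =>
    intro E hE π hπ hle
    by_cases hz : IsZero E
    · exact isGloballyGenerated_of_isZero hz
    · have := hpos E hE π hπ hz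
      exact absurd hle (by push_cast; omega)
  | succ N ih =>
    intro E hE π hπ hle
    by_cases hz : IsZero E
    · exact isGloballyGenerated_of_isZero hz
    · have hpos' := hpos E hE π hπ hz
      rw [euler_eq_sub k X hdim E] at hpos'
      haveI := finite_HH k X E hE 0
      have hh0 : 0 < Module.finrank k (Coh.HH X E 0) := by omega
      have hnt : Nontrivial (Coh.HH X E 0) := Module.finrank_pos_iff.1 hh0
      obtain ⟨s, hs⟩ := Groth.Agent.Lib.Helper8.CurveRR.exists_section_ne_zero E hnt
      let S : ShortComplex X.Modules :=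
        ShortComplex.mk (kernel.ι (cokernel.π s)) (cokernel.π s) (kernel.condition _)
      have hS : S.ShortExact :=
        { exact := ShortComplex.exact_of_f_is_kernel _ (kernelIsKernel (cokernel.π s))
          mono_f := by dsimp [S]; infer_instance
          epi_g := by dsimp [S]; infer_instance }
      have hcI : Coh.IsCoh (kernel (cokernel.π s)) :=
        Groth.Agent.Lib.Helper6.DevCore.isCoh_image s hcO hE
      have hcC : Coh.IsCoh (cokernel s) := Groth.Agent.Lib.Helper6.DevCore.isCoh_cokernel s hcO hE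
      have hqI : Epi (Abelian.factorThruImage s) := inferInstance
      have hneI : ¬ IsZero (kernel (cokernel.π s)) := by
        intro h
        apply hs
        rw [← Abelian.image.fac s, h.eq_of_tgt (Abelian.factorThruImage s) 0, zero_comp]
      have hggI : Curv2.IsGloballyGenerated (kernel (cokernel.π s)) :=
        isGloballyGenerated_of_epi (Groth.Agent.Lib.Helper8.MinPtsC.gg_structureModule X)
          (Abelian.factorThruImage s) hqI
      have hposI := euler_pos_of_epi_unit k hdim hO _ hcI (Abelian.factorThruImage s) hqI hneI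
      have hadd := euler_add k X S hS hcI hE hcC
      have hleC : Curv2.euler k X (cokernel s) ≤ N := by
        change Curv2.euler k X E = Curv2.euler k X (kernel (cokernel.π s)) + Curv2.euler k X (cokernel s) at hadd
        push_cast at hle
        omega
      have hggC : Curv2.IsGloballyGenerated (cokernel s) :=
        ih (cokernel s) hcC (π ≫ cokernel.π s) (epi_comp _ _) hleC
      exact gg_of_shortExact hdim hO S hS hcI hggI hggC

include k hdim hO in
/-- **a nef invertible module on a proper scheme of dimension at most one with `H¹(O) = 0` is globally generated and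
has no `H¹`** -/
theorem gg_and_H1_of_delta_nonneg {L : X.Modules} (hL : PicF.IsInvertible L)
    (hδ : ∀ F : X.Modules, Coh.IsCoh F → 0 ≤ delta k L F) :
    Curv2.IsGloballyGenerated L ∧ Subsingleton (Coh.HH X L 1) := by
  haveI := isNoetherian k X
  have hcL := Groth.Agent.Lib.Helper6.K0Op.isCoh_of_isInvertible L hL
  have hgg : Curv2.IsGloballyGenerated L :=
    gg_of_quotient_of_pos k hdim hO (fun E hE π hπ hz => euler_pos_of_quotient k hdim hO hL hδ E hE π hπ hz)
      (Curv2.euler k X L).toNat L hcL (𝟙 L) inferInstance (Int.self_le_toNat _)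
  exact ⟨hgg, subsingleton_H1_of_gg hdim hO hcL hgg⟩

include k hdim hO in
theorem gg_and_H1_of_nef {L : X.Modules} (hL : PicF.IsInvertible L)
    (hnef : ∀ J : X.IdealSheafData, IsIntegral J.subscheme → topologicalKrullDim J.subscheme = 1 →
      0 ≤ @Curv2.deg k _ J.subscheme ⟨J.subschemeι ≫ (X ↘ (Spec (CommRingCat.of k)))⟩
        ((Scheme.Modules.pullback J.subschemeι).obj L) 1) :
    Curv2.IsGloballyGenerated L ∧ Subsingleton (Coh.HH X L 1) :=
  gg_and_H1_of_delta_nonneg k hdim hO hL (delta_nonneg_of_nef k hdim hL hnef)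

end main

end Groth.Agent.Lib.Helper2.NefGG
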