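import Mathlib
import Groth.Agent.Lib.Helper2.NefRR5
set_option backward.isDefEq.respectTransparency.types false
set_option autoImplicit false
set_option linter.style.haveILetI false

/-!
# Helper2 — NefRR6: asymptotic Riemann–Roch for nef modules: `h⁰(L^m) = (L^n)/n! m^n + O(m^(n-1))`, and
`L` nef is big iff `(L^n) > 0`
-/

universe u
open CategoryTheory CategoryTheory.Limits AlgebraicGeometry TopologicalSpace

namespace Groth.Agent.Lib.Helper2.NefRR6

open Groth.Agent.Lib.Helper2.KodSub Groth.Agent.Lib.Helper8.EulerK Groth.Agent.Lib.Helper2.KodUB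
  Groth.Agent.Lib.Helper6.K0Op Groth.Agent.Lib.Helper6.DevCore Groth.Agent.Lib.Helper2.TensEq
  Groth.Agent.Lib.Helper2.NefRR1 Groth.Agent.Lib.Helper2.NefRR2 Groth.Agent.Lib.Helper2.NefRR3
  Groth.Agent.Lib.Helper2.NefRR4 Groth.Agent.Lib.Helper2.NefRR5
  Groth.Agent.Lib.Helper2.KodDev Groth.Agent.Lib.Helper4.KLM4 Groth.Agent.Lib.Helper6.K0Len
  Groth.Agent.Lib.Helper4.Snapper Groth.Agent.Lib.Helper4.KLM1 Groth.Agent.Lib.Helper6.K0Filt
  Groth.Agent.Lib.Helper2.IntNum1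

variable (k : Type u) [Field k] {X : Scheme.{u}} [X.Over (Spec (CommRingCat.of k))]
  [IsProper (X ↘ Spec (CommRingCat.of k))]

section main
variable [IsIntegral X] (n : ℕ) (hdim : topologicalKrullDim X = (n : WithBot ℕ∞))
  {H : X.Modules} (hH : CohB1.IsAmple H) {L : X.Modules} (hL : PicF.IsInvertible L) (hnef : Nef k X L)

include hdim hH hL hnef in
/-- **asymptotic Riemann–Roch for nef modules** -/
theorem h0_asymp (Linv : X.Modules) (hLinv : ClSub.IsInverseOf Linv L) :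
    ∃ (c : ℕ → ℤ) (C : ℕ), c n = FGA.intNum k X n (fun _ : Fin n => Linv) (Coh.structureModule X) ∧
      ∀ m : ℕ, 1 ≤ m →
        |(h0 k (CohB1.tensorPow L m) : ℤ) - ∑ j ∈ Finset.range (n + 1), c j * ((m + j).choose j : ℤ)| ≤
          ((C * bd n m : ℕ) : ℤ) := by
  haveI : IsNoetherian X := isNoetherian k X
  have hO : Coh.IsCoh (Coh.structureModule X) := Groth.Agent.Lib.Helper6.DevRed.isCoh_structureModule
  obtain ⟨c, hc, hctop⟩ := euler_tensorPow_eq k n hdim.le L hL _ hO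
  have hB := bint_all k n X H L hH hL hnef hdim
  have h2 : ∀ p : ℕ, ∃ C : ℕ, ∀ m : ℕ, 1 ≤ m → hh k (CohB1.tensorPow L m) (p + 1) ≤ C * bd n m :=
    fun p => hB (p + 1) (by omega)
  choose Cp hCp using h2
  refine ⟨c, Cp 0 + ∑ p ∈ Finset.range n, Cp (p + 1), ?_, fun m hm => ?_⟩
  · -- the top coefficient is the intersection number
    obtain ⟨e1⟩ := hLinv
    have e : CohB1.tensorMod L Linv ≅ Coh.structureModule X :=
      Groth.Agent.Lib.Helper6.K0Inv.braidIso L Linv ≪≫ e1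
    have hLinvi : PicF.IsInvertible Linv := Groth.Agent.Lib.Helper6.K0Inv.isInvertible_of_tensor_iso L Linv hL e
    set L' := Groth.Agent.Lib.Helper28.HomMod.dual L with hL'
    obtain ⟨e0⟩ := Groth.Agent.Lib.Helper8.InvInverse.isInverseOf_dual hL
    have e' : CohB1.tensorMod L L' ≅ Coh.structureModule X :=
      Groth.Agent.Lib.Helper6.K0Inv.braidIso L L' ≪≫ e0
    have hcm : cls (Coh.structureModule X) ∈ Hlt X (n + 1) := by
      apply cls_mem_Hlt _ hO n
      rw [← hdim]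
      exact topologicalKrullDim_subspace_le X _
    rw [hctop, intNum_eq k X n hdim.le _ (fun _ => hLinvi) _ hO, Psi_const,
      one_sub_top_pow_apply k hL e' n _ hcm, one_sub_top_pow_apply k hL e n _ hcm]
  · obtain ⟨v⟩ := Groth.Agent.Lib.Helper28.InvQC.nonempty_unit_tensor_iso (CohB1.tensorPow L m)
    have heu := hc m
    have hdim' : topologicalKrullDim X ≤ ((n + 1 : ℕ) : WithBot ℕ∞) := by
      rw [hdim]
      exact_mod_cast Nat.le_succ n
    rw [euler_congr k v, euler_split k n hdim'] at heu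
    have h1 : (hh k (CohB1.tensorPow L m) 1 : ℤ) ≤ ((Cp 0 * bd n m : ℕ) : ℤ) := by
      exact_mod_cast hCp 0 m hm
    have hrest : |∑ p ∈ Finset.range n, (-1 : ℤ) ^ p * (hh k (CohB1.tensorPow L m) (p + 2) : ℤ)| ≤
        ∑ p ∈ Finset.range n, ((Cp (p + 1) * bd n m : ℕ) : ℤ) := by
      refine (Finset.abs_sum_le_sum_abs _ _).trans ?_
      apply Finset.sum_le_sum
      intro p _
      rw [abs_mul, abs_pow, abs_neg, abs_one, one_pow, one_mul, abs_of_nonneg (Int.natCast_nonneg _)]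
      exact_mod_cast hCp (p + 1) m hm
    have e2 : ∑ p ∈ Finset.range n, ((Cp (p + 1) * bd n m : ℕ) : ℤ) =
        ((∑ p ∈ Finset.range n, Cp (p + 1) : ℕ) : ℤ) * (bd n m : ℤ) := by
      push_cast
      rw [Finset.sum_mul]
    rw [e2] at hrest
    have hnn : (0 : ℤ) ≤ (hh k (CohB1.tensorPow L m) 1 : ℤ) := Int.natCast_nonneg _
    have hh0 : (h0 k (CohB1.tensorPow L m) : ℤ) = (hh k (CohB1.tensorPow L m) 0 : ℤ) := rfl
    rw [hh0, ← heu]
    set S := ∑ p ∈ Finset.range n, (-1 : ℤ) ^ p * (hh k (CohB1.tensorPow L m) (p + 2) : ℤ) with hS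
    have e3 : (hh k (CohB1.tensorPow L m) 0 : ℤ) -
        ((hh k (CohB1.tensorPow L m) 0 : ℤ) - (hh k (CohB1.tensorPow L m) 1 : ℤ) + S) =
        (hh k (CohB1.tensorPow L m) 1 : ℤ) - S := by ring
    rw [e3]
    have h3 := abs_le.1 hrest
    set K : ℤ := ((∑ p ∈ Finset.range n, Cp (p + 1) : ℕ) : ℤ) with hK
    set B : ℤ := (bd n m : ℤ) with hBd
    have h1' : (hh k (CohB1.tensorPow L m) 1 : ℤ) ≤ (Cp 0 : ℤ) * B := by
      rw [hBd]
      exact_mod_cast h1
    have hgoal : |(hh k (CohB1.tensorPow L m) 1 : ℤ) - S| ≤ ((Cp 0 : ℤ) + K) * B := by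
      rw [abs_le]
      constructor <;> nlinarith [h3.1, h3.2, h1', hnn]
    refine hgoal.trans (le_of_eq ?_)
    rw [hK, hBd]
    push_cast
    ring

include hdim hH hL hnef in
/-- positive top self-intersection gives maximal growth of sections -/
theorem growth_of_pos (Linv : X.Modules) (hLinv : ClSub.IsInverseOf Linv L)
    (hpos : 0 < FGA.intNum k X n (fun _ : Fin n => Linv) (Coh.structureModule X)) :
    ∃ N m₁ : ℕ, 0 < N ∧ ∀ m : ℕ, m₁ ≤ m → m ^ n ≤ N * h0 k (CohB1.tensorPow L m) := by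
  obtain ⟨c, C, hcn, hasym⟩ := h0_asymp k n hdim hH hL hnef Linv hLinv
  have hc1 : 1 ≤ c n := by rw [hcn]; omega
  obtain ⟨N, m₀, hN, hlb⟩ := Groth.Agent.Lib.Helper2.KodPoly.exists_lb n c hc1
  refine ⟨2 * N, max (max m₀ (2 * N * C)) 1, by omega, fun m hm => ?_⟩
  have hm0 : m₀ ≤ m := (le_max_left _ _).trans ((le_max_left _ _).trans hm)
  have hm1 : 2 * N * C ≤ m := (le_max_right _ _).trans ((le_max_left _ _).trans hm)
  have hm2 : 1 ≤ m := (le_max_right _ _).trans hm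
  have h1 := hlb m hm0
  have h2 := (abs_le.1 (hasym m hm2)).1
  have h3 : m * bd n m ≤ m ^ n := by
    have := mul_bd_le n m
    rwa [bd_succ] at this
  have h4 : 2 * N * C * bd n m ≤ m ^ n := (Nat.mul_le_mul_right _ hm1).trans h3
  have h5 : ((m ^ n : ℕ) : ℤ) ≤ ((2 * N * h0 k (CohB1.tensorPow L m) : ℕ) : ℤ) := by
    have h4' : (2 * (N : ℤ) * (C : ℤ) * (bd n m : ℤ)) ≤ (m : ℤ) ^ n := by exact_mod_cast h4
    push_cast at h2 ⊢
    have hN' : (0 : ℤ) < (N : ℤ) := by exact_mod_cast hN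
    nlinarith [h1, h2, h4', hN']
  exact_mod_cast h5

include hdim hH hL hnef in
/-- maximal growth of sections (even only frequently) forces positive top self-intersection -/
theorem pos_of_growth (Linv : X.Modules) (hLinv : ClSub.IsInverseOf Linv L) (a : ℕ)
    (hfreq : ∀ M₀ : ℕ, ∃ m, M₀ ≤ m ∧ m ^ n ≤ a * h0 k (CohB1.tensorPow L m)) :
    0 < FGA.intNum k X n (fun _ : Fin n => Linv) (Coh.structureModule X) := by
  obtain ⟨c, C, hcn, hasym⟩ := h0_asymp k n hdim hH hL hnef Linv hLinv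
  rw [← hcn]
  by_contra hneg
  push Not at hneg
  rcases Nat.eq_zero_or_pos n with rfl | hn
  · obtain ⟨m, hm, hle⟩ := hfreq 1
    have h2 := (abs_le.1 (hasym m hm)).2
    simp only [bd_zero, Nat.mul_zero, Nat.cast_zero, zero_add, Finset.range_one, Finset.sum_singleton,
      Nat.choose_zero_right, Nat.cast_one, mul_one] at h2
    have h3 : (h0 k (CohB1.tensorPow L m) : ℤ) ≤ 0 := by linarith
    have h4 : h0 k (CohB1.tensorPow L m) = 0 := by omega
    rw [h4, pow_zero, Nat.mul_zero] at hle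
    omega
  · obtain ⟨d, rfl⟩ : ∃ d, n = d + 1 := ⟨n - 1, by omega⟩
    obtain ⟨C', hC'⟩ := Groth.Agent.Lib.Helper2.KodPoly.exists_ub d c
    obtain ⟨m, hm, hle⟩ := hfreq (a * (C' + C) + 1)
    have hm1 : 1 ≤ m := by omega
    have h2 := (abs_le.1 (hasym m hm1)).2
    rw [Finset.sum_range_succ, bd_succ] at h2
    have h3 := hC' m hm1
    have hchoose : c (d + 1) * ((m + (d + 1)).choose (d + 1) : ℤ) ≤ 0 :=
      mul_nonpos_of_nonpos_of_nonneg hneg (Int.natCast_nonneg _)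
    have h4 : (h0 k (CohB1.tensorPow L m) : ℤ) ≤ ((C' + C : ℕ) : ℤ) * (m : ℤ) ^ d := by
      push_cast at h2 ⊢
      nlinarith [h2, h3, hchoose]
    have h5 : h0 k (CohB1.tensorPow L m) ≤ (C' + C) * m ^ d := by exact_mod_cast h4
    have h6 : m ^ (d + 1) ≤ a * ((C' + C) * m ^ d) := hle.trans (Nat.mul_le_mul_left _ h5)
    have h7 : 0 < m ^ d := Nat.pow_pos (by omega)
    have h8 : m * m ^ d ≤ (a * (C' + C)) * m ^ d := by
      rw [pow_succ, Nat.mul_comm (m ^ d) m] at h6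
      rw [Nat.mul_assoc]
      exact h6
    have h9 : m ≤ a * (C' + C) := Nat.le_of_mul_le_mul_right h8 h7
    omega

end main

end Groth.Agent.Lib.Helper2.NefRR6
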