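import Groth.Agent.Lib.Helper2.NefFib
import Groth.Agent.Lib.Helper4.RV4

/-!
# Relatively nef invertible modules over a Noetherian affine base, fibres of dimension `≤ 1`, `H¹(X, O_X) = 0` (helper2)

`f : X ⟶ Spec A` proper, `A` Noetherian, fibres of dimension `≤ 1`, `H¹(X, O_X) = 0`.

* `gg_and_H1_of_fibres`: an invertible `L` whose restrictions to the closed fibres are globally generated without `H¹`
  is globally generated without `H¹` (helper4's `RV1`–`RV4` with the ampleness hypothesis replaced by the fibrewise
  conclusion it was used for).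
* `fiber_gg_H1`: for an `f`-nef invertible `L`, the restriction to every closed fibre is globally generated without `H¹`
  (`NefGG` on the fibre, `NefFib` to transport nefness).
* `gg_and_H1_of_relNef`: the combination.
-/

set_option backward.isDefEq.respectTransparency.types false
set_option linter.unusedSectionVars false
set_option linter.style.haveILetI false
set_option autoImplicit false
universe u
open CategoryTheory CategoryTheory.Limits AlgebraicGeometry Opposite TopologicalSpace
noncomputable section

namespace Groth.Agent.Lib.Helper2.NefRel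

open Groth.Agent.Lib.lead.FibOne Groth.Agent.Lib.Helper21.FibVan Groth.Agent.Lib.Helper2
  Groth.Agent.Lib.Helper2.HomExt Groth.Agent.Lib.Helper2.GSplit2 Groth.Agent.Lib.Helper4.RV1
  Groth.Agent.Lib.Helper4.RV2 Groth.Agent.Lib.Helper4.RV3 Groth.Agent.Lib.Helper4.RV4
  Groth.Agent.Lib.Helper23.ProjF
  Groth.Agent.Lib.Helper28.TensorGen Groth.Agent.Lib.Helper28.QCohLoc Groth.Agent.Lib.Helper17.CohKer
  Groth.Agent.Lib.Helper28.GenLocus Groth.Agent.Lib.Helper28 Groth.Agent.Lib.Helper4.CM1
  Groth.Agent.Lib.Helper28.PullbackInv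

variable (A : Type u) [CommRing A] [IsNoetherianRing A] {X : Scheme.{u}}
  (f : X ⟶ Spec (CommRingCat.of A)) [IsProper f]
  (h1 : Subsingleton (Coh.HH X (Coh.structureModule X) 1))
  (hfib : ∀ y : ↥(Spec (CommRingCat.of A)), topologicalKrullDim ↥(f.fiber y) ≤ 1)

section global

variable {L : X.Modules} (hL : PicF.IsInvertible L)
  (hF : ∀ y : ↥(Spec (CommRingCat.of A)), IsClosed ({y} : Set ↥(Spec (CommRingCat.of A))) →
    Curv2.IsGloballyGenerated ((Scheme.Modules.pullback (f.fiberι y)).obj L) ∧
      Subsingleton (Coh.HH (f.fiber y) ((Scheme.Modules.pullback (f.fiberι y)).obj L) 1))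

include hL hF in
theorem subsingleton_H1_tensor_push (y : ↥(Spec (CommRingCat.of A)))
    (hy : IsClosed ({y} : Set ↥(Spec (CommRingCat.of A)))) :
    Subsingleton (Coh.HH X ((TL L).obj (PM (f.fiberι y) (Coh.structureModule (f.fiber y)))) 1) := by
  haveI : IsClosedImmersion ((Spec (CommRingCat.of A)).fromSpecResidueField y) :=
    (isClosed_singleton_iff_isClosedImmersion).1 hy
  haveI : IsClosedImmersion (f.fiberι y) :=
    MorphismProperty.of_isPullback (P := @IsClosedImmersion)
      (IsPullback.of_hasPullback f ((Spec (CommRingCat.of A)).fromSpecResidueField y)).flip inferInstance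
  have hLZ := isInvertible_pullback (f.fiberι y) hL
  haveI : Coh.IsQCoh ((Scheme.Modules.pullback (f.fiberι y)).obj L) :=
    Groth.Agent.Lib.Helper28.InvQC.isQuasicoherent_of_isInvertible _ hLZ
  obtain ⟨e⟩ := Groth.Agent.S0012.result (f.fiberι y) ((Scheme.Modules.pullback (f.fiberι y)).obj L) 1
  haveI := (hF y hy).2
  have h2 : Subsingleton (Coh.HH X (PM (f.fiberι y) ((Scheme.Modules.pullback (f.fiberι y)).obj L)) 1) :=
    e.symm.toEquiv.subsingleton
  exact subsingleton_HH_of_iso (tensorPushIso (f.fiberι y) L hL) 1 h2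

include hfib hL hF in
theorem subsingleton_H1_tensor_unit :
    Subsingleton (Coh.HH X ((TL L).obj (Coh.structureModule X)) 1) :=
  subsingleton_HH_of_closedFibres A f 1 (hvan A f hfib) L
    (Groth.Agent.Lib.Helper6.K0Op.isCoh_of_isInvertible L hL)
    (fun y hy => subsingleton_H1_tensor_push A f hL hF y hy)

include hfib hL hF in
theorem subsingleton_H1 : Subsingleton (Coh.HH X L 1) :=
  subsingleton_HH_of_iso (SecTwist.unitorR L).symm 1 (subsingleton_H1_tensor_unit A f hfib hL hF)

include hfib hL hF in
theorem isGloballyGenerated : Curv2.IsGloballyGenerated L := by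
  apply Groth.Agent.Lib.Helper8.GGPoint.isGloballyGenerated_of_forall_mem_genLocus
  by_contra hcon
  push Not at hcon
  haveI : CompactSpace X := QuasiCompact.compactSpace_of_compactSpace f
  haveI : QuasiSeparatedSpace X := quasiSeparatedSpace_of_quasiSeparated f
  let W : Set X := ⋂ s : Coh.structureModule X ⟶ L, ((CohB1.genLocus L s : Set X))ᶜ
  have hW : IsClosed W := isClosed_iInter fun s => (CohB1.genLocus L s).isOpen.isClosed_compl
  have hWne : W.Nonempty := by
    obtain ⟨x, hx⟩ := hcon
    exact ⟨x, Set.mem_iInter.2 fun s => hx s⟩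
  have hfW : IsClosed (f '' W) := f.isClosedMap W hW
  obtain ⟨y, ⟨x, hxW, rfl⟩, hy⟩ := exists_isClosed_singleton_mem (A := A) (f '' W) hfW (hWne.image _)
  have hcf := isClosedFibre_fiber A f (f x) hy
  haveI : IsClosedImmersion ((Spec (CommRingCat.of A)).fromSpecResidueField (f x)) :=
    (isClosed_singleton_iff_isClosedImmersion).1 hy
  haveI : IsClosedImmersion (f.fiberι (f x)) :=
    MorphismProperty.of_isPullback (P := @IsClosedImmersion)
      (IsPullback.of_hasPullback f ((Spec (CommRingCat.of A)).fromSpecResidueField (f x))).flip inferInstance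
  have hLZ := isInvertible_pullback (f.fiberι (f x)) hL
  obtain ⟨T, hT⟩ := Groth.Agent.Lib.Helper17.GGStalk.exists_mem_genLocus _ hLZ
    (hF (f x) hy).1 (f.asFiber x)
  obtain ⟨s, hs⟩ := exists_section_pbSec hcf L hL (hvan A f hfib)
    (subsingleton_H1_tensor_unit A f hfib hL hF) T
  rw [← hs, genLocus_pbSec (f.fiberι (f x)) hL s] at hT
  have hx : f.fiberι (f x) (f.asFiber x) ∈ CohB1.genLocus L s := hT
  rw [f.fiberι_asFiber] at hx
  exact (Set.mem_iInter.1 hxW s) hx

include hfib hL hF in
/-- **from the closed fibres to the total space** -/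
theorem gg_and_H1_of_fibres : Curv2.IsGloballyGenerated L ∧ Subsingleton (Coh.HH X L 1) :=
  ⟨isGloballyGenerated A f hfib hL hF, subsingleton_H1 A f hfib hL hF⟩

end global

section nef

variable {L : X.Modules} (hL : PicF.IsInvertible L)
  (hnef : ∀ (K : Type u) [Field K] (i : A →+* K) (J : X.IdealSheafData)
    (t : J.subscheme ⟶ Spec (CommRingCat.of K)),
    AlgebraicGeometry.IsIntegral J.subscheme → topologicalKrullDim ↥J.subscheme = 1 →
    t ≫ Spec.map (CommRingCat.ofHom i) = J.subschemeι ≫ f →
    0 ≤ @Curv2.deg K _ J.subscheme ⟨t⟩ ((Scheme.Modules.pullback J.subschemeι).obj L) 1)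

include h1 hfib hL hnef in
/-- **fibrewise**: the restriction of a relatively nef `L` to a closed fibre is globally generated with `H¹ = 0` -/
theorem fiber_gg_H1 (y : ↥(Spec (CommRingCat.of A))) (hy : IsClosed ({y} : Set ↥(Spec (CommRingCat.of A)))) :
    Curv2.IsGloballyGenerated ((Scheme.Modules.pullback (f.fiberι y)).obj L) ∧
      Subsingleton (Coh.HH (f.fiber y) ((Scheme.Modules.pullback (f.fiberι y)).obj L) 1) := by
  haveI : IsClosedImmersion ((Spec (CommRingCat.of A)).fromSpecResidueField y) :=
    (isClosed_singleton_iff_isClosedImmersion).1 hy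
  haveI : IsClosedImmersion (f.fiberι y) :=
    MorphismProperty.of_isPullback (P := @IsClosedImmersion)
      (IsPullback.of_hasPullback f ((Spec (CommRingCat.of A)).fromSpecResidueField y)).flip inferInstance
  have hLZ := isInvertible_pullback (f.fiberι y) hL
  let κ : Type u := (Spec (CommRingCat.of A)).residueField y
  letI : (f.fiber y).Over (Spec (CommRingCat.of κ)) := ⟨f.fiberToSpecResidueField y⟩
  haveI : IsProper ((f.fiber y) ↘ Spec (CommRingCat.of κ)) := by
    show IsProper (f.fiberToSpecResidueField y)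
    exact MorphismProperty.of_isPullback (P := @IsProper)
      (IsPullback.of_hasPullback f ((Spec (CommRingCat.of A)).fromSpecResidueField y)) inferInstance
  have hO := subsingleton_H1_fiber A f h1 hfib y
  refine Groth.Agent.Lib.Helper2.NefGG.gg_and_H1_of_nef κ (hfib y) hO hLZ ?_
  intro J' hint hdim
  refine Groth.Agent.Lib.Helper2.NefFib.nef_of_closedImmersion κ (f.fiberι y) L hL ?_ J' hint hdim
  intro J c hc hJint hJdim
  let φ : CommRingCat.of A ⟶ (Spec (CommRingCat.of A)).residueField y :=
    Spec.preimage ((Spec (CommRingCat.of A)).fromSpecResidueField y)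
  have hφ : Spec.map φ = (Spec (CommRingCat.of A)).fromSpecResidueField y := Spec.map_preimage _
  refine hnef κ φ.hom J (c ≫ f.fiberToSpecResidueField y) hJint hJdim ?_
  have hw : f.fiberι y ≫ f = f.fiberToSpecResidueField y ≫ (Spec (CommRingCat.of A)).fromSpecResidueField y :=
    (IsPullback.of_hasPullback f ((Spec (CommRingCat.of A)).fromSpecResidueField y)).w
  change (c ≫ f.fiberToSpecResidueField y) ≫ Spec.map φ = J.subschemeι ≫ f
  rw [hφ, Category.assoc, ← hw, ← Category.assoc, hc]

include h1 hfib hL hnef in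
/-- **S19496** -/
theorem gg_and_H1_of_relNef : Curv2.IsGloballyGenerated L ∧ Subsingleton (Coh.HH X L 1) :=
  gg_and_H1_of_fibres A f hfib hL (fun y hy => fiber_gg_H1 A f h1 hfib hL hnef y hy)

end nef

end Groth.Agent.Lib.Helper2.NefRel
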