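import Groth.Agent.Lib.Helper2.FibreCrit
import Mathlib.LinearAlgebra.Finsupp.LinearCombination
import Mathlib.RingTheory.TensorProduct.Basic

/-!
Helper library (helper2): modules over rings with a nilpotent ideal; freeness of flat modules.
-/

set_option autoImplicit false

namespace Groth.Agent.Lib.Helper2.NilpFree

open TensorProduct

section GenL1

universe v

variable {A : Type*} [CommRing A] (𝔞 : Ideal A)
  {N M : Type*} [AddCommGroup N] [Module A N] [AddCommGroup M] [Module A M] [Module.Flat A M]

/-- generalised `L1`: if `P ⊗ u` is injective for all `P` killed by `𝔞`, then also for all `P`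
killed by a power of `𝔞`. -/
lemma lTensor_injective_of_pow_smul_eq_bot (u : N →ₗ[A] M)
    (H : ∀ (P : Type v) [AddCommGroup P] [Module A P],
      (𝔞 • (⊤ : Submodule A P) = ⊥) → Function.Injective (u.lTensor P)) :
    ∀ (n : ℕ) (P : Type v) [AddCommGroup P] [Module A P],
      (𝔞 ^ n • (⊤ : Submodule A P) = ⊥) → Function.Injective (u.lTensor P) := by
  intro n
  induction n with
  | zero =>
    intro P _ _ hP
    have hs : Subsingleton P := by
      rw [pow_zero, Ideal.one_eq_top, Submodule.top_smul] at hP
      exact (Submodule.subsingleton_iff A).mp (subsingleton_of_bot_eq_top hP.symm)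
    exact Function.injective_of_subsingleton _
  | succ n ih =>
    intro P _ _ hP
    let P' : Submodule A P := 𝔞 • ⊤
    have hP' : 𝔞 ^ n • (⊤ : Submodule A P') = ⊥ := by
      rw [Submodule.eq_bot_iff]
      intro x hx
      refine Submodule.smul_induction_on hx ?_ ?_
      · intro r hr y _
        apply Subtype.ext
        have h1 : r • (y : P) ∈ 𝔞 ^ n • (𝔞 • (⊤ : Submodule A P)) :=
          Submodule.smul_mem_smul hr y.2
        rw [← Submodule.mul_smul, ← pow_succ, hP] at h1
        simpa using h1
      · intro x y hx hy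
        rw [hx, hy, add_zero]
    have h' : Function.Injective (u.lTensor P') := ih P' hP'
    have hq : 𝔞 • (⊤ : Submodule A (P ⧸ P')) = ⊥ := by
      rw [Submodule.eq_bot_iff]
      intro x hx
      refine Submodule.smul_induction_on hx ?_ ?_
      · intro r hr y _
        obtain ⟨z, rfl⟩ := Submodule.mkQ_surjective P' y
        rw [← map_smul]
        exact (Submodule.Quotient.mk_eq_zero P').mpr (Submodule.smul_mem_smul hr Submodule.mem_top)
      · intro x y hx hy
        rw [hx, hy, add_zero]
    have h'' : Function.Injective (u.lTensor (P ⧸ P')) := H (P ⧸ P') hq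
    exact FlatCrit.lTensor_injective_of_exact u P'.subtype P'.mkQ P'.injective_subtype
      (LinearMap.exact_subtype_mkQ P') P'.mkQ_surjective h' h''

end GenL1

section Cover

universe u

variable {R : Type u} [CommRing R] (m : Ideal R) [hm : m.IsMaximal]
  {M : Type u} [AddCommGroup M] [Module R M]

/-- A free cover `u : F → M` which is an isomorphism modulo the maximal ideal `m`. -/
lemma exists_cover : ∃ (ι : Type u) (u : (ι →₀ R) →ₗ[R] M),
    Function.Injective (u.lTensor (R ⧸ m)) ∧ LinearMap.range u ⊔ m • (⊤ : Submodule R M) = ⊤ := by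
  classical
  have hfree : Module.Free (R ⧸ m) (M ⧸ (m • ⊤ : Submodule R M)) := by
    let _ : Field (R ⧸ m) := Ideal.Quotient.field m
    infer_instance
  let ι := Module.Free.ChooseBasisIndex (R ⧸ m) (M ⧸ (m • ⊤ : Submodule R M))
  let b : Module.Basis ι (R ⧸ m) (M ⧸ (m • ⊤ : Submodule R M)) := Module.Free.chooseBasis _ _
  have hx : ∀ i, ∃ x : M, Submodule.Quotient.mk x = b i := fun i =>
    Submodule.Quotient.mk_surjective _ (b i)
  choose x hx using hx
  let u : (ι →₀ R) →ₗ[R] M := Finsupp.linearCombination R x
  have hmk : ∀ φ : ι →₀ R, (Submodule.Quotient.mk (u φ) : M ⧸ (m • ⊤ : Submodule R M)) =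
      ∑ i ∈ φ.support, (Ideal.Quotient.mk m (φ i)) • b i := by
    intro φ
    show Submodule.mkQ _ (u φ) = _
    rw [Finsupp.linearCombination_apply, Finsupp.sum, map_sum]
    refine Finset.sum_congr rfl fun i _ => ?_
    rw [← hx i, Module.Quotient.mk_smul_mk, Submodule.mkQ_apply]
  refine ⟨ι, u, ?_, ?_⟩
  · rw [injective_iff_map_eq_zero]
    intro z hz
    obtain ⟨φ, rfl⟩ := FlatCrit.exists_eq_one_tmul m z
    rw [LinearMap.lTensor_tmul, FlatCrit.one_tmul_eq_zero_iff] at hz
    rw [FlatCrit.one_tmul_eq_zero_iff]
    have h1 : (Submodule.Quotient.mk (u φ) : M ⧸ (m • ⊤ : Submodule R M)) = 0 :=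
      (Submodule.Quotient.mk_eq_zero _).mpr hz
    rw [hmk] at h1
    have h2 := linearIndependent_iff'.mp b.linearIndependent φ.support
      (fun i => Ideal.Quotient.mk m (φ i)) h1
    have h3 : ∀ i, φ i ∈ m := by
      intro i
      by_cases hi : i ∈ φ.support
      · exact Ideal.Quotient.eq_zero_iff_mem.mp (h2 i hi)
      · rw [Finsupp.notMem_support_iff.mp hi]
        exact zero_mem _
    rw [← Finsupp.sum_single φ, Finsupp.sum]
    refine Submodule.sum_mem _ fun i _ => ?_
    rw [← Finsupp.smul_single_one]
    exact Submodule.smul_mem_smul (h3 i) Submodule.mem_top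
  · rw [eq_top_iff]
    intro y _
    let c : ι →₀ (R ⧸ m) := b.repr (Submodule.Quotient.mk y)
    let φ : ι →₀ R := ∑ i ∈ c.support, Finsupp.single i (Quotient.out (c i))
    have hφ : (Submodule.Quotient.mk (u φ) : M ⧸ (m • ⊤ : Submodule R M)) =
        Submodule.Quotient.mk y := by
      show Submodule.mkQ _ (u φ) = _
      rw [map_sum, map_sum]
      have : ∀ i ∈ c.support, Submodule.mkQ (m • ⊤ : Submodule R M)
          (u (Finsupp.single i (Quotient.out (c i)))) = c i • b i := by
        intro i _
        rw [Finsupp.linearCombination_single, Submodule.mkQ_apply]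
        conv_rhs => rw [← Ideal.Quotient.mk_out (c i), ← hx i, Module.Quotient.mk_smul_mk]
      rw [Finset.sum_congr rfl this]
      have := b.linearCombination_repr (Submodule.Quotient.mk y)
      rw [Finsupp.linearCombination_apply, Finsupp.sum] at this
      exact this
    have hdiff : y - u φ ∈ m • (⊤ : Submodule R M) := by
      rw [← Submodule.Quotient.mk_eq_zero, Submodule.Quotient.mk_sub, hφ, sub_self]
    have : y = u φ + (y - u φ) := by abel
    rw [this]
    exact add_mem (Submodule.mem_sup_left ⟨φ, rfl⟩) (Submodule.mem_sup_right hdiff)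

omit hm in
/-- Nakayama for nilpotent ideals. -/
lemma eq_top_of_sup_smul_eq_top (I : Ideal R) {n : ℕ} (hn : I ^ n = ⊥) (U : Submodule R M)
    (h : U ⊔ I • (⊤ : Submodule R M) = ⊤) : U = ⊤ := by
  have key : ∀ k : ℕ, U ⊔ I ^ k • (⊤ : Submodule R M) = ⊤ := by
    intro k
    induction k with
    | zero => rw [pow_zero, Ideal.one_eq_top, Submodule.top_smul, sup_top_eq]
    | succ k ih =>
      have h1 : I ^ k • (⊤ : Submodule R M) ≤ U ⊔ I ^ (k + 1) • (⊤ : Submodule R M) := by
        calc I ^ k • (⊤ : Submodule R M) = I ^ k • (U ⊔ I • (⊤ : Submodule R M)) := by rw [h]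
          _ = I ^ k • U ⊔ I ^ (k + 1) • (⊤ : Submodule R M) := by
            rw [Submodule.smul_sup, ← Submodule.mul_smul, ← pow_succ]
          _ ≤ _ := sup_le_sup_right Submodule.smul_le_right _
      rw [eq_top_iff]
      calc (⊤ : Submodule R M) = U ⊔ I ^ k • (⊤ : Submodule R M) := ih.symm
        _ ≤ _ := sup_le le_sup_left h1
  have := key n
  rwa [hn, Submodule.bot_smul, sup_bot_eq] at this

end Cover

section LocalCase

universe u

variable {R S M : Type u} [CommRing R] [IsLocalRing R] [CommRing S] [Algebra R S]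
  [AddCommGroup M] [Module R M]

/-- Local case of Stacks 051E: `R` local with nilpotent maximal ideal, `R → S` injective,
`S ⊗ M` flat over `S`; then `M` is free. -/
theorem free_of_flat_baseChange (hnil : IsNilpotent (IsLocalRing.maximalIdeal R))
    (hinj : Function.Injective (algebraMap R S)) [Module.Flat S (S ⊗[R] M)] :
    Module.Free R M := by
  classical
  obtain ⟨n, hn⟩ := hnil
  rw [Ideal.zero_eq_bot] at hn
  obtain ⟨ι, u, hu, hcov⟩ := exists_cover (IsLocalRing.maximalIdeal R) (M := M)
  let uS : S ⊗[R] (ι →₀ R) →ₗ[S] S ⊗[R] M := AlgebraTensorModule.lTensor S S u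
  let 𝔞 : Ideal S := (IsLocalRing.maximalIdeal R).map (algebraMap R S)
  have h𝔞 : 𝔞 ^ n = ⊥ := by
    show ((IsLocalRing.maximalIdeal R).map (algebraMap R S)) ^ n = ⊥
    rw [← Ideal.map_pow, hn, Ideal.map_bot]
  have H : ∀ (P : Type u) [AddCommGroup P] [Module S P],
      𝔞 • (⊤ : Submodule S P) = ⊥ → Function.Injective (uS.lTensor P) := by
    intro P _ _ hP
    letI : Module R P := Module.compHom P (algebraMap R S)
    haveI : IsScalarTower R S P := IsScalarTower.of_algebraMap_smul fun r x => rfl
    have hPm : Module.IsTorsionBySet R P (IsLocalRing.maximalIdeal R : Set R) := by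
      intro x a
      have h1 : (algebraMap R S (a : R)) • x ∈ 𝔞 • (⊤ : Submodule S P) :=
        Submodule.smul_mem_smul (Ideal.mem_map_of_mem _ a.2) Submodule.mem_top
      rw [hP, Submodule.mem_bot] at h1
      exact h1
    letI : Module (R ⧸ IsLocalRing.maximalIdeal R) P := hPm.module
    haveI : IsScalarTower R (R ⧸ IsLocalRing.maximalIdeal R) P := hPm.isScalarTower
    letI : Field (R ⧸ IsLocalRing.maximalIdeal R) :=
      Ideal.Quotient.field (IsLocalRing.maximalIdeal R)
    have h1 : Function.Injective (u.lTensor P) :=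
      FlatCrit.lTensor_injective_of_field (R ⧸ IsLocalRing.maximalIdeal R) P u hu
    exact (FibreCrit.lTensor_injective_iff S P u).mp h1
  have hS : Function.Injective (uS.lTensor S) :=
    lTensor_injective_of_pow_smul_eq_bot 𝔞 uS H n S (by rw [h𝔞, Submodule.bot_smul])
  have huS : Function.Injective uS := by
    intro a b hab
    apply (TensorProduct.lid S _).symm.injective
    apply hS
    simp only [TensorProduct.lid_symm_apply, LinearMap.lTensor_tmul, hab]
  have hmk : Function.Injective (TensorProduct.mk R S (ι →₀ R) 1) := by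
    have h1 : Function.Injective ((Algebra.linearMap R S).rTensor (ι →₀ R)) :=
      Module.Flat.rTensor_preserves_injective_linearMap _ hinj
    intro a b hab
    apply (TensorProduct.lid R _).symm.injective
    apply h1
    simpa using hab
  have hinjU : Function.Injective u := by
    intro a b hab
    apply hmk
    apply huS
    show uS ((1 : S) ⊗ₜ a) = uS ((1 : S) ⊗ₜ b)
    rw [AlgebraTensorModule.lTensor_tmul, AlgebraTensorModule.lTensor_tmul, hab]
  have hsurj : Function.Surjective u := by
    rw [← LinearMap.range_eq_top]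
    exact eq_top_of_sup_smul_eq_top (IsLocalRing.maximalIdeal R) hn _ hcov
  exact Module.Free.of_equiv (LinearEquiv.ofBijective u ⟨hinjU, hsurj⟩)

end LocalCase

end Groth.Agent.Lib.Helper2.NilpFree
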