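import Groth.Agent.Lib.Helper2.NilpFree
import Mathlib.LinearAlgebra.TensorProduct.Basis

/-!
Helper library (helper2): modules free modulo a nilpotent ideal; the least ideal modulo which
the module becomes free/flat (EGA IV 11.4).
-/

set_option autoImplicit false

namespace Groth.Agent.Lib.Helper2.NilpFree2

open TensorProduct

section L0'

variable {R : Type*} [CommRing R] (k : Type*) [CommRing k] [Algebra R k]
  {N M : Type*} [AddCommGroup N] [Module R N] [AddCommGroup M] [Module R M]
  (V : Type*) [AddCommGroup V] [Module R V] [Module k V] [IsScalarTower R k V]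

/-- If `k ⊗ u` is bijective then `V ⊗ u` is injective for every `k`-module `V`. -/
lemma lTensor_injective_of_bijective (u : N →ₗ[R] M) (h : Function.Bijective (u.lTensor k)) :
    Function.Injective (u.lTensor V) := by
  have hb : Function.Bijective (AlgebraTensorModule.lTensor k k u) := h
  let e : k ⊗[R] N ≃ₗ[k] k ⊗[R] M :=
    LinearEquiv.ofBijective (AlgebraTensorModule.lTensor k k u) hb
  have h2 : Function.Injective (LinearMap.lTensor V (AlgebraTensorModule.lTensor k k u)) :=
    (LinearEquiv.lTensor V e).injective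
  exact (FibreCrit.lTensor_injective_iff k V u).mpr h2

end L0'

section Cover

universe u

variable {A : Type u} [CommRing A] (J : Ideal A) {M : Type u} [AddCommGroup M] [Module A M]

/-- A free cover which is an isomorphism modulo `J`, when `M/JM` is free over `A/J`. -/
lemma exists_cover_of_free (hfree : Module.Free (A ⧸ J) ((A ⧸ J) ⊗[A] M)) :
    ∃ (ι : Type u) (u : (ι →₀ A) →ₗ[A] M),
      Function.Bijective (u.lTensor (A ⧸ J)) ∧ LinearMap.range u ⊔ J • (⊤ : Submodule A M) = ⊤ := by
  classical
  let ι := Module.Free.ChooseBasisIndex (A ⧸ J) ((A ⧸ J) ⊗[A] M)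
  let b : Module.Basis ι (A ⧸ J) ((A ⧸ J) ⊗[A] M) := Module.Free.chooseBasis _ _
  have hx : ∀ i, ∃ x : M, b i = (1 : A ⧸ J) ⊗ₜ[A] x := fun i => FlatCrit.exists_eq_one_tmul J (b i)
  choose x hx using hx
  let u : (ι →₀ A) →ₗ[A] M := Finsupp.linearCombination A x
  let bF : Module.Basis ι (A ⧸ J) ((A ⧸ J) ⊗[A] (ι →₀ A)) :=
    (Finsupp.basisSingleOne (R := A) (ι := ι)).baseChange (A ⧸ J)
  have huk : AlgebraTensorModule.lTensor (A ⧸ J) (A ⧸ J) u =
      (bF.equiv b (Equiv.refl ι)).toLinearMap := by
    apply bF.ext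
    intro i
    rw [LinearEquiv.coe_coe, Module.Basis.equiv_apply, Equiv.refl_apply,
      Module.Basis.baseChange_apply, AlgebraTensorModule.lTensor_tmul, hx i]
    simp [u]
  have hbij : Function.Bijective (u.lTensor (A ⧸ J)) := by
    have : Function.Bijective (AlgebraTensorModule.lTensor (A ⧸ J) (A ⧸ J) u) := by
      rw [huk]
      exact (bF.equiv b (Equiv.refl ι)).bijective
    exact this
  refine ⟨ι, u, hbij, ?_⟩
  rw [eq_top_iff]
  intro y _
  obtain ⟨z, hz⟩ := hbij.2 ((1 : A ⧸ J) ⊗ₜ[A] y)
  obtain ⟨φ, rfl⟩ := FlatCrit.exists_eq_one_tmul J z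
  rw [LinearMap.lTensor_tmul] at hz
  have hdiff : y - u φ ∈ J • (⊤ : Submodule A M) := by
    rw [← FlatCrit.one_tmul_eq_zero_iff, TensorProduct.tmul_sub, hz, sub_self]
  have : y = u φ + (y - u φ) := by abel
  rw [this]
  exact add_mem (Submodule.mem_sup_left ⟨φ, rfl⟩) (Submodule.mem_sup_right hdiff)

end Cover

section Main

universe u

variable {A : Type u} [CommRing A] (J : Ideal A) {F M : Type u} [AddCommGroup F] [Module A F]
  [AddCommGroup M] [Module A M] (u : F →ₗ[A] M)

/-- If `u` is bijective modulo the nilpotent ideal `J` and `A' ⊗ M` is flat over `A'`, then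
`A' ⊗ u` is injective. -/
lemma baseChange_injective_of_flat (hbij : Function.Bijective (u.lTensor (A ⧸ J))) {n : ℕ}
    (hn : J ^ n = ⊥) (A' : Type u) [CommRing A'] [Algebra A A'] [Module.Flat A' (A' ⊗[A] M)] :
    Function.Injective (AlgebraTensorModule.lTensor A' A' u) := by
  let u' : A' ⊗[A] F →ₗ[A'] A' ⊗[A] M := AlgebraTensorModule.lTensor A' A' u
  let 𝔞 : Ideal A' := J.map (algebraMap A A')
  have h𝔞 : 𝔞 ^ n = ⊥ := by
    show (J.map (algebraMap A A')) ^ n = ⊥
    rw [← Ideal.map_pow, hn, Ideal.map_bot]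
  have H : ∀ (P : Type u) [AddCommGroup P] [Module A' P],
      𝔞 • (⊤ : Submodule A' P) = ⊥ → Function.Injective (u'.lTensor P) := by
    intro P _ _ hP
    letI : Module A P := Module.compHom P (algebraMap A A')
    haveI : IsScalarTower A A' P := IsScalarTower.of_algebraMap_smul fun r x => rfl
    have hPm : Module.IsTorsionBySet A P (J : Set A) := by
      intro x a
      have h1 : (algebraMap A A' (a : A)) • x ∈ 𝔞 • (⊤ : Submodule A' P) :=
        Submodule.smul_mem_smul (Ideal.mem_map_of_mem _ a.2) Submodule.mem_top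
      rw [hP, Submodule.mem_bot] at h1
      exact h1
    letI : Module (A ⧸ J) P := hPm.module
    haveI : IsScalarTower A (A ⧸ J) P := hPm.isScalarTower
    have h1 : Function.Injective (u.lTensor P) :=
      lTensor_injective_of_bijective (A ⧸ J) P u hbij
    exact (FibreCrit.lTensor_injective_iff A' P u).mp h1
  have hS : Function.Injective (u'.lTensor A') :=
    NilpFree.lTensor_injective_of_pow_smul_eq_bot 𝔞 u' H n A' (by rw [h𝔞, Submodule.bot_smul])
  intro a b hab
  apply (TensorProduct.lid A' _).symm.injective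
  apply hS
  simp only [TensorProduct.lid_symm_apply, LinearMap.lTensor_tmul]
  exact congrArg _ hab

variable {ι : Type*} (b : Module.Basis ι A F)

/-- The ideal generated by the coordinates of the elements of a submodule of a free module. -/
def content (K : Submodule A F) : Ideal A :=
  Ideal.span {a | ∃ φ ∈ K, ∃ e, b.repr φ e = a}

lemma tmul_eq_zero_of_content (K : Submodule A F) (A' : Type u) [CommRing A'] [Algebra A A']
    (h : (content b K).map (algebraMap A A') = ⊥) (w : A' ⊗[A] K) :
    K.subtype.lTensor A' w = 0 := by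
  induction w with
  | zero => rw [map_zero]
  | add x y hx hy => rw [map_add, hx, hy, add_zero]
  | tmul a' φ =>
    rw [LinearMap.lTensor_tmul, Submodule.subtype_apply]
    conv_lhs => rw [← b.linearCombination_repr (φ : F)]
    rw [Finsupp.linearCombination_apply, Finsupp.sum, TensorProduct.tmul_sum]
    refine Finset.sum_eq_zero fun e _ => ?_
    rw [TensorProduct.tmul_smul, TensorProduct.smul_tmul', Algebra.smul_def]
    have hmem : algebraMap A A' (b.repr (φ : F) e) ∈ (content b K).map (algebraMap A A') :=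
      Ideal.mem_map_of_mem _ (Ideal.subset_span ⟨φ, φ.2, e, rfl⟩)
    rw [h, Ideal.mem_bot] at hmem
    rw [hmem, zero_mul, TensorProduct.zero_tmul]

lemma content_map_eq_bot_of_injective (A' : Type u) [CommRing A'] [Algebra A A']
    (hu' : Function.Injective (AlgebraTensorModule.lTensor A' A' u)) :
    (content b (LinearMap.ker u)).map (algebraMap A A') = ⊥ := by
  classical
  rw [content, Ideal.map_span, Ideal.span_eq_bot]
  rintro _ ⟨a, ⟨φ, hφ, e, rfl⟩, rfl⟩
  have h1 : AlgebraTensorModule.lTensor A' A' u ((1 : A') ⊗ₜ[A] φ) = 0 := by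
    rw [AlgebraTensorModule.lTensor_tmul, LinearMap.mem_ker.mp hφ, TensorProduct.tmul_zero]
  have h2 : (1 : A') ⊗ₜ[A] φ = 0 := hu' (by rw [h1, map_zero])
  have h3 := congrArg (fun z => (b.baseChange A').repr z e) h2
  simp only [Module.Basis.baseChange_repr_tmul, map_zero, Finsupp.coe_zero, Pi.zero_apply] at h3
  rw [Algebra.algebraMap_eq_smul_one]
  exact h3

lemma baseChange_injective_of_content (hsurj : Function.Surjective u) (A' : Type u)
    [CommRing A'] [Algebra A A']
    (h : (content b (LinearMap.ker u)).map (algebraMap A A') = ⊥) :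
    Function.Injective (AlgebraTensorModule.lTensor A' A' u) := by
  rw [injective_iff_map_eq_zero]
  intro z hz
  have hex : Function.Exact ((LinearMap.ker u).subtype.lTensor A') (u.lTensor A') :=
    lTensor_exact A' (LinearMap.exact_subtype_ker_map u) hsurj
  have hz' : u.lTensor A' z = 0 := hz
  obtain ⟨w, rfl⟩ := (hex z).mp hz'
  exact tmul_eq_zero_of_content b _ A' h w

end Main

section Least

universe u

/-- EGA IV 11.4.3 (core): existence of the ideal `R₀` governing freeness/flatness of base changes
of a module which is free modulo a nilpotent ideal. -/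
theorem exists_ideal_forall_free_iff {A : Type u} [CommRing A] (M : Type u) [AddCommGroup M]
    [Module A M] (J : Ideal A) (hJ : IsNilpotent J)
    (hfree : Module.Free (A ⧸ J) ((A ⧸ J) ⊗[A] M)) :
    ∃ R₀ : Ideal A, ∀ (A' : Type u) [CommRing A'] [Algebra A A'],
      (Module.Free A' (A' ⊗[A] M) ↔ Ideal.map (algebraMap A A') R₀ = ⊥) ∧
      (Module.Flat A' (A' ⊗[A] M) ↔ Ideal.map (algebraMap A A') R₀ = ⊥) := by
  classical
  obtain ⟨n, hn⟩ := hJ
  rw [Ideal.zero_eq_bot] at hn
  obtain ⟨ι, u, hbij, hcov⟩ := exists_cover_of_free J hfree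
  have hsurj : Function.Surjective u := by
    rw [← LinearMap.range_eq_top]
    exact NilpFree.eq_top_of_sup_smul_eq_top J hn _ hcov
  let b : Module.Basis ι A (ι →₀ A) := Finsupp.basisSingleOne
  refine ⟨content b (LinearMap.ker u), ?_⟩
  intro A' _ _
  have h1 : Module.Flat A' (A' ⊗[A] M) →
      (content b (LinearMap.ker u)).map (algebraMap A A') = ⊥ := by
    intro hfl
    exact content_map_eq_bot_of_injective u b A' (baseChange_injective_of_flat J u hbij hn A')
  have h2 : (content b (LinearMap.ker u)).map (algebraMap A A') = ⊥ →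
      Module.Free A' (A' ⊗[A] M) := by
    intro h
    have hinj := baseChange_injective_of_content u b hsurj A' h
    have hsurj' : Function.Surjective (AlgebraTensorModule.lTensor A' A' u) :=
      LinearMap.lTensor_surjective A' hsurj
    let e : A' ⊗[A] (ι →₀ A) ≃ₗ[A'] A' ⊗[A] M := LinearEquiv.ofBijective _ ⟨hinj, hsurj'⟩
    have : Module.Free A' (A' ⊗[A] (ι →₀ A)) := Module.Free.of_basis (b.baseChange A')
    exact Module.Free.of_equiv e
  have h3 : Module.Free A' (A' ⊗[A] M) → Module.Flat A' (A' ⊗[A] M) := fun h => inferInstance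
  exact ⟨⟨fun h => h1 (h3 h), h2⟩, ⟨h1, fun h => h3 (h2 h)⟩⟩

end Least

end Groth.Agent.Lib.Helper2.NilpFree2
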