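import Groth.Agent.Lib.Helper4.CurveVB6
import Groth.Agent.Lib.Helper8.CurveInv1
set_option backward.isDefEq.respectTransparency.types false
set_option autoImplicit false
set_option linter.style.haveILetI false

/-!
# Scalar endomorphisms of modules (helper2)

Calculus of `HomExt.smulHom` (naturality, ring structure), the conversion from the `Coh.smulAb`
form, and `End(L) = k` for an invertible module on a smooth proper integral curve.
-/

universe u
open CategoryTheory CategoryTheory.Limits AlgebraicGeometry Opposite TopologicalSpace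

namespace Groth.Agent.Lib.Helper2.SmulHom
open Groth.Agent.Lib.Helper2.HomExt AlgebraicGeometry.Scheme.Modules

variable {X : Scheme.{u}}

theorem comm {E F : X.Modules} (f : E ⟶ F) (s : Γ(X, ⊤)) : f ≫ smulHom F s = smulHom E s ≫ f := by
  apply Scheme.Modules.hom_ext
  intro U
  ext x
  show (smulHom F s).app U (f.app U x) = f.app U ((smulHom E s).app U x)
  rw [smulHom_app, smulHom_app, Hom.app_smul]

theorem zero (F : X.Modules) : smulHom F 0 = 0 := by
  apply Scheme.Modules.hom_ext
  intro U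
  ext x
  show (smulHom F 0).app U x = 0
  rw [smulHom_app]
  show (X.presheaf.map (homOfLE (le_top : U ≤ ⊤)).op).hom 0 • x = 0
  rw [map_zero, zero_smul]

theorem one (F : X.Modules) : smulHom F 1 = 𝟙 F := by
  apply Scheme.Modules.hom_ext
  intro U
  ext x
  show (smulHom F 1).app U x = x
  rw [smulHom_app]
  show (X.presheaf.map (homOfLE (le_top : U ≤ ⊤)).op).hom 1 • x = x
  rw [map_one, one_smul]

theorem mul (F : X.Modules) (a b : Γ(X, ⊤)) : smulHom F (a * b) = smulHom F a ≫ smulHom F b := by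
  apply Scheme.Modules.hom_ext
  intro U
  ext x
  show (smulHom F (a * b)).app U x = (smulHom F b).app U ((smulHom F a).app U x)
  rw [smulHom_app, smulHom_app, smulHom_app]
  show (X.presheaf.map (homOfLE (le_top : U ≤ ⊤)).op).hom (a * b) • x =
    (X.presheaf.map (homOfLE (le_top : U ≤ ⊤)).op).hom b • ((X.presheaf.map (homOfLE (le_top : U ≤ ⊤)).op).hom a • x)
  rw [map_mul, mul_comm, mul_smul]

theorem add (F : X.Modules) (a b : Γ(X, ⊤)) : smulHom F (a + b) = smulHom F a + smulHom F b := by
  apply Scheme.Modules.hom_ext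
  intro U
  ext x
  show (smulHom F (a + b)).app U x = (smulHom F a).app U x + (smulHom F b).app U x
  rw [smulHom_app, smulHom_app, smulHom_app]
  show (X.presheaf.map (homOfLE (le_top : U ≤ ⊤)).op).hom (a + b) • x =
    (X.presheaf.map (homOfLE (le_top : U ≤ ⊤)).op).hom a • x + (X.presheaf.map (homOfLE (le_top : U ≤ ⊤)).op).hom b • x
  rw [map_add, add_smul]

/-- conversion from the `Coh.smulAb` form -/
theorem eq_smulHom_of_toSheaf {E : X.Modules} (φ : E ⟶ E) (c : Coh.Γtop X)
    (h : (SheafOfModules.toSheaf X.ringCatSheaf).map φ = Coh.smulAb E c) : φ = smulHom E c := by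
  apply (SheafOfModules.toSheaf X.ringCatSheaf).map_injective
  rw [h, Groth.Agent.Lib.Helper4.EndScalar.toSheaf_map_smulHom]

variable (k : Type u) [Field k] [X.Over (Spec (CommRingCat.of k))] [IsIntegral X]
  [IsProper (X ↘ Spec (CommRingCat.of k))] [Smooth (X ↘ Spec (CommRingCat.of k))] [IsAlgClosed k]

/-- scalars of `k` acting on a module -/
noncomputable abbrev smulK (F : X.Modules) (c : k) : F ⟶ F :=
  smulHom F (Coh.toGlobal (X ↘ Spec (CommRingCat.of k)) c)

omit [IsIntegral X] [IsProper (X ↘ Spec (CommRingCat.of k))] [Smooth (X ↘ Spec (CommRingCat.of k))] [IsAlgClosed k] in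
theorem smulK_zero (F : X.Modules) : smulK k F 0 = 0 := by
  have h : Coh.toGlobal (X ↘ Spec (CommRingCat.of k)) (0 : k) = 0 := map_zero _
  show smulHom F (Coh.toGlobal (X ↘ Spec (CommRingCat.of k)) (0 : k)) = 0
  rw [h]
  exact zero F

omit [IsIntegral X] [IsProper (X ↘ Spec (CommRingCat.of k))] [Smooth (X ↘ Spec (CommRingCat.of k))] [IsAlgClosed k] in
theorem smulK_one (F : X.Modules) : smulK k F 1 = 𝟙 F := by
  have h : Coh.toGlobal (X ↘ Spec (CommRingCat.of k)) (1 : k) = 1 := map_one _
  show smulHom F (Coh.toGlobal (X ↘ Spec (CommRingCat.of k)) (1 : k)) = 𝟙 F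
  rw [h]
  exact one F

omit [IsIntegral X] [IsProper (X ↘ Spec (CommRingCat.of k))] [Smooth (X ↘ Spec (CommRingCat.of k))] [IsAlgClosed k] in
theorem smulK_mul (F : X.Modules) (a b : k) : smulK k F (a * b) = smulK k F a ≫ smulK k F b := by
  have h : Coh.toGlobal (X ↘ Spec (CommRingCat.of k)) (a * b) =
    Coh.toGlobal (X ↘ Spec (CommRingCat.of k)) a * Coh.toGlobal (X ↘ Spec (CommRingCat.of k)) b := map_mul _ _ _
  show smulHom F (Coh.toGlobal (X ↘ Spec (CommRingCat.of k)) (a * b)) = _
  rw [h]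
  exact mul F _ _

omit [IsIntegral X] [IsProper (X ↘ Spec (CommRingCat.of k))] [Smooth (X ↘ Spec (CommRingCat.of k))] [IsAlgClosed k] in
theorem smulK_add (F : X.Modules) (a b : k) : smulK k F (a + b) = smulK k F a + smulK k F b := by
  have h : Coh.toGlobal (X ↘ Spec (CommRingCat.of k)) (a + b) =
    Coh.toGlobal (X ↘ Spec (CommRingCat.of k)) a + Coh.toGlobal (X ↘ Spec (CommRingCat.of k)) b := map_add _ _ _
  show smulHom F (Coh.toGlobal (X ↘ Spec (CommRingCat.of k)) (a + b)) = _
  rw [h]
  exact add F _ _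

omit [IsIntegral X] [IsProper (X ↘ Spec (CommRingCat.of k))] [Smooth (X ↘ Spec (CommRingCat.of k))] [IsAlgClosed k] in
theorem smulK_comm {E F : X.Modules} (f : E ⟶ F) (c : k) : f ≫ smulK k F c = smulK k E c ≫ f := comm f _

omit [IsIntegral X] [IsProper (X ↘ Spec (CommRingCat.of k))] [Smooth (X ↘ Spec (CommRingCat.of k))] [IsAlgClosed k] in
theorem toSheaf_map_smulK (E : X.Modules) (c : k) :
    (SheafOfModules.toSheaf X.ringCatSheaf).map (smulK k E c) =
      Coh.smulAb E (Coh.toGlobal (X ↘ Spec (CommRingCat.of k)) c) :=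
  Groth.Agent.Lib.Helper4.EndScalar.toSheaf_map_smulHom _ _

omit [IsIntegral X] [IsProper (X ↘ Spec (CommRingCat.of k))] [Smooth (X ↘ Spec (CommRingCat.of k))] [IsAlgClosed k] in
theorem eq_smulK_of_toSheaf {E : X.Modules} (φ : E ⟶ E) (c : k)
    (h : (SheafOfModules.toSheaf X.ringCatSheaf).map φ =
      Coh.smulAb E (Coh.toGlobal (X ↘ Spec (CommRingCat.of k)) c)) : φ = smulK k E c :=
  eq_smulHom_of_toSheaf φ _ h

/-- `End(L) = k` for an invertible module on a smooth proper integral curve -/
theorem endo_invertible (hdim : topologicalKrullDim X = 1) (L : X.Modules) (hL : PicF.IsInvertible L)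
    (φ : L ⟶ L) : ∃ c : k, φ = smulK k L c := by
  have hL1 := Groth.Agent.Lib.Helper6.K0Op.isFinLocFreeOfRank_one_of_isInvertible L hL
  obtain ⟨c, hc⟩ := Groth.Agent.Lib.Helper4.CurveVB.endomorphism_scalar k X hdim 1 Nat.one_pos L hL1
    (fun F r' i _ h0 h1 _ => by omega) φ
  exact ⟨c, eq_smulHom_of_toSheaf φ _ hc⟩

end Groth.Agent.Lib.Helper2.SmulHom
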