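import Mathlib
import Groth.Agent.S2159

set_option autoImplicit false
universe u
open PowerSeries

namespace Groth.Agent.Lib.Helper2.PSLattice

variable {R : Type u} [CommRing R] {n M : ℕ}

/-- the monomial vector `X^d e_c` -/
noncomputable def mono (c : Fin n) (d : ℕ) : Fin n → R⟦X⟧ := Pi.single c ((X : R⟦X⟧) ^ d)

/-- truncation: the coefficients of degree `< M`. -/
noncomputable def trunc (n M : ℕ) : (Fin n → R⟦X⟧) →ₗ[R] (Fin n × Fin M → R) where
  toFun v := fun p => coeff (p.2 : ℕ) (v p.1)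
  map_add' v w := by ext p; simp
  map_smul' r v := by ext p; simp

/-- the polynomial vector attached to coefficients. -/
noncomputable def T (n M : ℕ) : (Fin n × Fin M → R) →ₗ[R] (Fin n → R⟦X⟧) where
  toFun b := ∑ p : Fin n × Fin M, b p • mono p.1 (p.2 : ℕ)
  map_add' v w := by simp [add_smul, Finset.sum_add_distrib]
  map_smul' r v := by simp [Finset.smul_sum, smul_smul]

@[simp] lemma trunc_apply (v : Fin n → R⟦X⟧) (p : Fin n × Fin M) :
    trunc n M v p = coeff (p.2 : ℕ) (v p.1) := rfl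

lemma T_apply (b : Fin n × Fin M → R) :
    T n M b = ∑ p : Fin n × Fin M, b p • mono p.1 (p.2 : ℕ) := rfl

lemma coeff_T (b : Fin n × Fin M → R) (c : Fin n) (m : ℕ) :
    coeff m (T n M b c) = if h : m < M then b (c, ⟨m, h⟩) else 0 := by
  classical
  rw [T_apply, Finset.sum_apply, map_sum, Fintype.sum_prod_type]
  rw [Finset.sum_eq_single c]
  · simp only [Pi.smul_apply, mono, Pi.single_eq_same, coeff_smul, coeff_X_pow, smul_eq_mul,
      mul_ite, mul_one, mul_zero]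
    split_ifs with h
    · rw [Finset.sum_eq_single ⟨m, h⟩]
      · simp
      · intro d _ hd
        rw [if_neg]
        intro h'
        exact hd (Fin.ext h'.symm)
      · simp
    · apply Finset.sum_eq_zero
      intro d _
      rw [if_neg]
      intro h'
      exact h (h' ▸ d.2)
  · intro c' _ hc
    simp [mono, Pi.single_eq_of_ne' hc]
  · simp

lemma trunc_T (b : Fin n × Fin M → R) : trunc n M (T n M b) = b := by
  ext p
  rw [trunc_apply, coeff_T, dif_pos p.2.2]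

/-- Lemma B0. -/
lemma exists_sub_T_trunc (v : Fin n → R⟦X⟧) :
    ∃ w : Fin n → R⟦X⟧, v - T n M (trunc n M v) = ((X : R⟦X⟧) ^ M) • w := by
  have h : ∀ c, (X : R⟦X⟧) ^ M ∣ (v - T n M (trunc n M v)) c := by
    intro c
    rw [X_pow_dvd_iff]
    intro m hm
    rw [Pi.sub_apply, map_sub, coeff_T, dif_pos hm, trunc_apply, sub_self]
  choose w hw using h
  exact ⟨w, funext fun c => by rw [hw c]; rfl⟩

lemma trunc_X_pow_smul (w : Fin n → R⟦X⟧) : trunc n M (((X : R⟦X⟧) ^ M) • w) = 0 := by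
  ext p
  rw [trunc_apply, Pi.smul_apply, smul_eq_mul, coeff_X_pow_mul', if_neg (not_le.2 p.2.2)]
  rfl


/-! ### decomposition of a power series -/

lemma coeff_sum_fin (h : R⟦X⟧) (m : ℕ) :
    coeff m (∑ d : Fin M, coeff (d : ℕ) h • (X : R⟦X⟧) ^ (d : ℕ))
      = if m < M then coeff m h else 0 := by
  classical
  rw [map_sum]
  simp only [coeff_smul, coeff_X_pow, smul_eq_mul, mul_ite, mul_one, mul_zero]
  split_ifs with hm
  · rw [Finset.sum_eq_single ⟨m, hm⟩]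
    · simp
    · intro d _ hd
      rw [if_neg]
      intro h'
      exact hd (Fin.ext h'.symm)
    · simp
  · apply Finset.sum_eq_zero
    intro d _
    rw [if_neg]
    intro h'
    exact hm (h' ▸ d.2)

lemma exists_eq_sum_add (M : ℕ) (h : R⟦X⟧) :
    ∃ h' : R⟦X⟧, h = ∑ d : Fin M, coeff (d : ℕ) h • (X : R⟦X⟧) ^ (d : ℕ) + X ^ M * h' := by
  have : (X : R⟦X⟧) ^ M ∣ h - ∑ d : Fin M, coeff (d : ℕ) h • (X : R⟦X⟧) ^ (d : ℕ) := by
    rw [X_pow_dvd_iff]
    intro m hm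
    rw [map_sub, coeff_sum_fin, if_pos hm, sub_self]
  obtain ⟨h', hh'⟩ := this
  exact ⟨h', by rw [← hh']; ring⟩

lemma trunc_smul (h : R⟦X⟧) (w : Fin n → R⟦X⟧) :
    trunc n M (h • w) = ∑ d : Fin M, coeff (d : ℕ) h • trunc n M (((X : R⟦X⟧) ^ (d : ℕ)) • w) := by
  obtain ⟨h', hh'⟩ := exists_eq_sum_add M h
  have : h • w = ∑ d : Fin M, coeff (d : ℕ) h • (((X : R⟦X⟧) ^ (d : ℕ)) • w)
      + ((X : R⟦X⟧) ^ M) • (h' • w) := by
    conv_lhs => rw [hh']
    rw [add_smul, Finset.sum_smul, mul_smul]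
    congr 1
    apply Finset.sum_congr rfl
    intro d _
    rw [smul_assoc]
  rw [this, map_add, trunc_X_pow_smul, add_zero, map_sum]
  apply Finset.sum_congr rfl
  intro d _
  rw [map_smul]

/-! ### the quotient -/

section Lattice

variable (Λ : Submodule R⟦X⟧ (Fin n → R⟦X⟧))

/-- the map `R^{n×M} → F/Λ`. -/
noncomputable def piQ (M : ℕ) : (Fin n × Fin M → R) →ₗ[R] ((Fin n → R⟦X⟧) ⧸ Λ) :=
  (Λ.mkQ.restrictScalars R).comp (T n M)

lemma piQ_apply (b : Fin n × Fin M → R) : piQ Λ M b = Λ.mkQ (T n M b) := rfl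

lemma mem_ker_piQ (b : Fin n × Fin M → R) : b ∈ LinearMap.ker (piQ Λ M) ↔ T n M b ∈ Λ := by
  rw [LinearMap.mem_ker, piQ_apply, Submodule.mkQ_apply, Submodule.Quotient.mk_eq_zero]

variable {Λ} (hΛ : ∀ v : Fin n → R⟦X⟧, ((X : R⟦X⟧) ^ M) • v ∈ Λ)
include hΛ

lemma sub_T_trunc_mem (v : Fin n → R⟦X⟧) : v - T n M (trunc n M v) ∈ Λ := by
  obtain ⟨w, hw⟩ := exists_sub_T_trunc (M := M) v
  rw [hw]
  exact hΛ w

/-- Lemma B. -/
lemma mkQ_eq_piQ (v : Fin n → R⟦X⟧) : Λ.mkQ v = piQ Λ M (trunc n M v) := by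
  rw [piQ_apply, Submodule.mkQ_apply, Submodule.mkQ_apply, Submodule.Quotient.eq]
  exact sub_T_trunc_mem hΛ v

lemma piQ_surjective : Function.Surjective (piQ Λ M) := by
  intro q
  obtain ⟨v, rfl⟩ := Λ.mkQ_surjective q
  exact ⟨_, (mkQ_eq_piQ hΛ v).symm⟩

lemma finite_quotient : Module.Finite R ((Fin n → R⟦X⟧) ⧸ Λ) :=
  Module.Finite.of_surjective (piQ Λ M) (piQ_surjective hΛ)

lemma X_pow_smul_quotient (q : (Fin n → R⟦X⟧) ⧸ Λ) : ((X : R⟦X⟧) ^ M) • q = 0 := by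
  obtain ⟨v, rfl⟩ := Λ.mkQ_surjective q
  rw [← map_smul, Submodule.mkQ_apply, Submodule.Quotient.mk_eq_zero]
  exact hΛ v

lemma T_trunc_mem {w : Fin n → R⟦X⟧} (hw : w ∈ Λ) : T n M (trunc n M w) ∈ Λ := by
  have := Λ.sub_mem hw (sub_T_trunc_mem hΛ w)
  rwa [sub_sub_cancel] at this

theorem ker_piQ_fg [Module.Finite R⟦X⟧ Λ] : (LinearMap.ker (piQ Λ M)).FG := by
  classical
  obtain ⟨r, f, hf⟩ := Module.Finite.exists_fin' R⟦X⟧ Λ
  set lam : Fin r → (Fin n → R⟦X⟧) := fun j => (f (Pi.single j 1) : Fin n → R⟦X⟧) with hlam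
  have hlamΛ : ∀ j, lam j ∈ Λ := fun j => (f (Pi.single j 1)).2
  set G : Submodule R (Fin n × Fin M → R) := Submodule.span R
    (Set.range fun p : Fin r × Fin M => trunc n M (((X : R⟦X⟧) ^ (p.2 : ℕ)) • lam p.1)) with hG
  have hGfg : G.FG := Submodule.fg_span (Set.finite_range _)
  suffices LinearMap.ker (piQ Λ M) = G by rw [this]; exact hGfg
  apply le_antisymm
  · intro b hb
    rw [mem_ker_piQ] at hb
    obtain ⟨h, hh⟩ := hf ⟨T n M b, hb⟩
    have h1 : T n M b = ∑ j, h j • lam j := by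
      have := congrArg (Subtype.val) hh
      rw [LinearMap.pi_apply_eq_sum_univ f h] at this
      simp only [Submodule.coe_sum, Submodule.coe_smul] at this
      rw [← this]
      apply Finset.sum_congr rfl
      intro j _
      rw [hlam]
      congr 3
      ext i
      simp [Pi.single_apply, eq_comm]
    have h2 : b = ∑ j, trunc n M (h j • lam j) := by
      rw [← map_sum, ← h1, trunc_T]
    rw [h2]
    apply Submodule.sum_mem
    intro j _
    rw [trunc_smul]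
    apply Submodule.sum_mem
    intro d _
    apply Submodule.smul_mem
    exact Submodule.subset_span ⟨(j, d), rfl⟩
  · rw [hG, Submodule.span_le]
    rintro _ ⟨p, rfl⟩
    rw [SetLike.mem_coe, mem_ker_piQ]
    exact T_trunc_mem hΛ (Λ.smul_mem _ (hlamΛ p.1))

theorem finitePresentation_quotient [Module.Finite R⟦X⟧ Λ] :
    Module.FinitePresentation R ((Fin n → R⟦X⟧) ⧸ Λ) :=
  Module.finitePresentation_of_surjective (piQ Λ M) (piQ_surjective hΛ) (ker_piQ_fg hΛ)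

end Lattice


/-! ### flatness of the quotient -/

lemma shift_lemma {l : ℕ} (a : Fin l → R) (g : Fin l → R⟦X⟧) (w : R⟦X⟧)
    (h : (X : R⟦X⟧) ^ M * w = ∑ i, a i • g i) :
    w = ∑ i, a i • (PowerSeries.mk fun d => coeff (d + M) (g i)) := by
  ext d
  rw [← coeff_X_pow_mul w M d, h, map_sum, map_sum]
  simp [coeff_smul]

lemma shift_lemma_vec {r l : ℕ} (a : Fin l → R) (g : Fin l → (Fin r → R⟦X⟧)) (w : Fin r → R⟦X⟧)
    (h : ((X : R⟦X⟧) ^ M) • w = ∑ i, a i • g i) :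
    ∃ g' : Fin l → (Fin r → R⟦X⟧), w = ∑ i, a i • g' i := by
  refine ⟨fun i c => PowerSeries.mk fun d => coeff (d + M) (g i c), ?_⟩
  funext c
  have hc := congrFun h c
  rw [Pi.smul_apply, smul_eq_mul, Finset.sum_apply] at hc
  simp only [Pi.smul_apply] at hc
  rw [Finset.sum_apply]
  simp only [Pi.smul_apply]
  exact shift_lemma a (fun i => g i c) (w c) hc

section Flat

variable {Λ : Submodule R⟦X⟧ (Fin n → R⟦X⟧)}
  (hΛ : ∀ v : Fin n → R⟦X⟧, ((X : R⟦X⟧) ^ M) • v ∈ Λ)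
include hΛ

theorem flat_quotient [Module.Finite R⟦X⟧ Λ] [Module.Projective R⟦X⟧ Λ] :
    Module.Flat R ((Fin n → R⟦X⟧) ⧸ Λ) := by
  classical
  apply Module.Flat.of_forall_isTrivialRelation
  intro l a q hq
  obtain ⟨r, f, g, -, -, hfg⟩ := Module.Finite.exists_comp_eq_id_of_projective R⟦X⟧ Λ
  choose v hv using fun i => Λ.mkQ_surjective (q i)
  have hlam : ∑ i, a i • v i ∈ Λ := by
    rw [← Submodule.Quotient.mk_eq_zero, ← Submodule.mkQ_apply, map_sum, ← hq]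
    apply Finset.sum_congr rfl
    intro i _
    rw [← hv i]
    exact LinearMap.map_smul_of_tower _ _ _
  -- in Λ
  have h1 : ((X : R⟦X⟧) ^ M) • (⟨∑ i, a i • v i, hlam⟩ : Λ)
      = ∑ i, a i • (⟨((X : R⟦X⟧) ^ M) • v i, hΛ (v i)⟩ : Λ) := by
    apply Subtype.ext
    simp only [Submodule.coe_smul, Submodule.coe_sum, Finset.smul_sum]
    apply Finset.sum_congr rfl
    intro i _
    rw [smul_comm]
    rfl
  have h2 := congrArg g h1
  rw [map_smul, map_sum] at h2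
  have h3 : ((X : R⟦X⟧) ^ M) • g ⟨∑ i, a i • v i, hlam⟩
      = ∑ i, a i • g ⟨((X : R⟦X⟧) ^ M) • v i, hΛ (v i)⟩ := by
    rw [h2]
    apply Finset.sum_congr rfl
    intro i _
    exact LinearMap.map_smul_of_tower _ _ _
  obtain ⟨g', hg'⟩ := shift_lemma_vec a _ _ h3
  have h4 : (⟨∑ i, a i • v i, hlam⟩ : Λ) = ∑ i, a i • f (g' i) := by
    have := LinearMap.congr_fun hfg ⟨∑ i, a i • v i, hlam⟩
    rw [LinearMap.comp_apply, LinearMap.id_apply, hg', map_sum] at this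
    rw [← this]
    apply Finset.sum_congr rfl
    intro i _
    exact LinearMap.map_smul_of_tower _ _ _
  set u : Fin l → (Fin n → R⟦X⟧) := fun i => v i - (f (g' i) : Fin n → R⟦X⟧) with hu
  have hu0 : ∑ i, a i • u i = 0 := by
    have := congrArg Subtype.val h4
    simp only [Submodule.coe_sum, Submodule.coe_smul_of_tower] at this
    simp only [hu, smul_sub, Finset.sum_sub_distrib]
    rw [this, sub_self]
  have huq : ∀ i, Λ.mkQ (u i) = q i := by
    intro i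
    have h0 : Λ.mkQ ((f (g' i) : Λ) : Fin n → R⟦X⟧) = 0 := by
      rw [Submodule.mkQ_apply, Submodule.Quotient.mk_eq_zero]; exact (f (g' i)).2
    show Λ.mkQ (v i - ↑(f (g' i))) = q i
    rw [map_sub, hv i, h0, sub_zero]
  let e := (finProdFinEquiv : Fin n × Fin M ≃ Fin (n * M))
  refine ⟨n * M, fun i j => trunc n M (u i) (e.symm j),
    fun j => piQ Λ M (Pi.single (e.symm j) 1), ?_, ?_⟩
  · intro i
    rw [← huq i, mkQ_eq_piQ hΛ, LinearMap.pi_apply_eq_sum_univ (piQ Λ M) (trunc n M (u i))]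
    rw [← e.symm.sum_comp]
    apply Finset.sum_congr rfl
    intro j _
    congr 2
    ext p
    simp [Pi.single_apply, eq_comm]
  · intro j
    have := congrFun (congrArg (trunc n M) hu0) (e.symm j)
    rw [map_sum, map_zero, Finset.sum_apply, Pi.zero_apply] at this
    refine Eq.trans (Finset.sum_congr rfl ?_) this
    intro i _
    rw [map_smul]
    rfl

theorem projective_quotient [Module.Finite R⟦X⟧ Λ] [Module.Projective R⟦X⟧ Λ] :
    Module.Projective R ((Fin n → R⟦X⟧) ⧸ Λ) := by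
  haveI := flat_quotient hΛ
  haveI := finitePresentation_quotient hΛ
  exact Module.Flat.projective_of_finitePresentation

end Flat


/-! ### the characteristic sequence -/

section CharSeq
open TensorProduct

variable (R) (Q : Type u) [AddCommGroup Q] [Module R Q] [Module R⟦X⟧ Q] [IsScalarTower R R⟦X⟧ Q]

/-- multiplication by `X` on `Q`, as an `R`-linear map. -/
noncomputable def xQ : Q →ₗ[R] Q := (LinearMap.lsmul R⟦X⟧ Q X).restrictScalars R

/-- the multiplication map `R⟦X⟧ ⊗ Q → Q`. -/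
noncomputable def mu : R⟦X⟧ ⊗[R] Q →ₗ[R⟦X⟧] Q := LinearMap.liftBaseChange R⟦X⟧ LinearMap.id

noncomputable def aE : Module.End R⟦X⟧ (R⟦X⟧ ⊗[R] Q) := LinearMap.lsmul R⟦X⟧ _ X
noncomputable def bE : Module.End R⟦X⟧ (R⟦X⟧ ⊗[R] Q) := LinearMap.baseChange R⟦X⟧ (xQ R Q)
noncomputable def Phi : Module.End R⟦X⟧ (R⟦X⟧ ⊗[R] Q) := aE R Q - bE R Q

variable {R} {Q}

@[simp] lemma xQ_apply (q : Q) : xQ R Q q = (X : R⟦X⟧) • q := rfl

@[simp] lemma mu_tmul (f : R⟦X⟧) (q : Q) : mu R Q (f ⊗ₜ[R] q) = f • q := rfl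

@[simp] lemma aE_apply (e : R⟦X⟧ ⊗[R] Q) : aE R Q e = (X : R⟦X⟧) • e := rfl

@[simp] lemma bE_tmul (f : R⟦X⟧) (q : Q) : bE R Q (f ⊗ₜ[R] q) = f ⊗ₜ[R] ((X : R⟦X⟧) • q) := rfl

lemma Phi_tmul (f : R⟦X⟧) (q : Q) :
    Phi R Q (f ⊗ₜ[R] q) = (X * f) ⊗ₜ[R] q - f ⊗ₜ[R] ((X : R⟦X⟧) • q) := by
  rw [Phi, LinearMap.sub_apply, aE_apply, bE_tmul, TensorProduct.smul_tmul', smul_eq_mul]

lemma bE_pow_tmul (m : ℕ) (f : R⟦X⟧) (q : Q) :
    ((bE R Q) ^ m) (f ⊗ₜ[R] q) = f ⊗ₜ[R] (((X : R⟦X⟧) ^ m) • q) := by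
  induction m generalizing q with
  | zero => simp
  | succ m ih =>
    rw [pow_succ, Module.End.mul_apply, bE_tmul, ih, pow_succ, mul_smul]

lemma bE_pow_eq_zero (hQ : ∀ q : Q, ((X : R⟦X⟧) ^ M) • q = 0) : (bE R Q) ^ M = 0 := by
  apply LinearMap.ext
  intro e
  induction e using TensorProduct.induction_on with
  | zero => simp
  | tmul f q => rw [bE_pow_tmul, hQ, tmul_zero]; rfl
  | add x y hx hy => rw [map_add, hx, hy]; simp

lemma commute_aE_bE : Commute (aE R Q) (bE R Q) := by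
  apply LinearMap.ext
  intro e
  rw [Module.End.mul_apply, Module.End.mul_apply, aE_apply, aE_apply, map_smul]

lemma aE_pow_apply (m : ℕ) (e : R⟦X⟧ ⊗[R] Q) : ((aE R Q) ^ m) e = ((X : R⟦X⟧) ^ m) • e := by
  induction m with
  | zero => simp
  | succ m ih => rw [pow_succ', Module.End.mul_apply, ih, aE_apply, pow_succ', mul_smul]

lemma X_pow_smul_injective [Module.Flat R Q] (m : ℕ) :
    Function.Injective fun e : R⟦X⟧ ⊗[R] Q => ((X : R⟦X⟧) ^ m) • e := by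
  have hinj : Function.Injective (LinearMap.mulLeft R ((X : R⟦X⟧) ^ m)) := by
    intro f g hfg
    simp only [LinearMap.mulLeft_apply] at hfg
    ext d
    have := congrArg (coeff (d + m)) hfg
    rwa [coeff_X_pow_mul, coeff_X_pow_mul] at this
  have := Module.Flat.rTensor_preserves_injective_linearMap (M := Q) _ hinj
  have heq : (fun e : R⟦X⟧ ⊗[R] Q => ((X : R⟦X⟧) ^ m) • e)
      = ⇑(LinearMap.rTensor Q (LinearMap.mulLeft R ((X : R⟦X⟧) ^ m))) := by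
    funext e
    induction e using TensorProduct.induction_on with
    | zero => simp
    | tmul f q => simp [TensorProduct.smul_tmul']
    | add x y hx hy => simp only [smul_add, map_add] at hx hy ⊢; rw [hx, hy]
  rw [heq]
  exact this

lemma Phi_injective [Module.Flat R Q] (hQ : ∀ q : Q, ((X : R⟦X⟧) ^ M) • q = 0) :
    Function.Injective (Phi R Q) := by
  have hgeom := Commute.geom_sum₂_mul (R := Module.End R⟦X⟧ (R⟦X⟧ ⊗[R] Q))
    (x := aE R Q) (y := bE R Q) commute_aE_bE M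
  have hb := bE_pow_eq_zero (R := R) (Q := Q) hQ
  rw [← LinearMap.ker_eq_bot, LinearMap.ker_eq_bot']
  intro e he
  have h1 := LinearMap.congr_fun hgeom e
  rw [Module.End.mul_apply, hb] at h1
  have h0 : (aE R Q - bE R Q) e = 0 := he
  rw [h0, map_zero, LinearMap.sub_apply, LinearMap.zero_apply, sub_zero, aE_pow_apply] at h1
  exact X_pow_smul_injective (Q := Q) M (by simpa using h1.symm)

lemma mu_Phi (e : R⟦X⟧ ⊗[R] Q) : mu R Q (Phi R Q e) = 0 := by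
  induction e using TensorProduct.induction_on with
  | zero => simp
  | tmul f q => rw [Phi_tmul, map_sub, mu_tmul, mu_tmul, mul_smul, sub_eq_zero, smul_comm]
  | add x y hx hy => rw [map_add, map_add, hx, hy, add_zero]

lemma mu_surjective : Function.Surjective (mu R Q) := fun q => ⟨1 ⊗ₜ q, by simp⟩

lemma key_identity (g : R⟦X⟧) (c : R) (q : Q) :
    (g * X + C c) ⊗ₜ[R] q - (1 : R⟦X⟧) ⊗ₜ[R] ((g * X + C c) • q)
      = Phi R Q (g ⊗ₜ q) + (g ⊗ₜ[R] ((X : R⟦X⟧) • q) - (1 : R⟦X⟧) ⊗ₜ[R] (g • (X : R⟦X⟧) • q)) := by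
  have hC : (C c : R⟦X⟧) = c • (1 : R⟦X⟧) := by rw [smul_eq_C_mul, mul_one]
  have h1 : (C c : R⟦X⟧) ⊗ₜ[R] q = (1 : R⟦X⟧) ⊗ₜ[R] ((C c : R⟦X⟧) • q) := by
    rw [hC, smul_assoc, one_smul, TensorProduct.smul_tmul]
  rw [Phi_tmul, add_tmul, add_smul, tmul_add, h1, mul_smul, mul_comm g X]
  abel

lemma tmul_sub_mem_range (m : ℕ) : ∀ q : Q, ((X : R⟦X⟧) ^ m) • q = 0 → ∀ f : R⟦X⟧,
    f ⊗ₜ[R] q - (1 : R⟦X⟧) ⊗ₜ[R] (f • q) ∈ LinearMap.range (Phi R Q) := by
  induction m with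
  | zero =>
    intro q hq f
    rw [pow_zero, one_smul] at hq
    rw [hq]
    simp
  | succ m ih =>
    intro q hq f
    rw [eq_shift_mul_X_add_const f, key_identity]
    apply Submodule.add_mem
    · exact LinearMap.mem_range_self _ _
    · apply ih
      rw [← mul_smul, ← pow_succ]
      exact hq

lemma ker_mu_le (hQ : ∀ q : Q, ((X : R⟦X⟧) ^ M) • q = 0) :
    LinearMap.ker (mu R Q) ≤ LinearMap.range (Phi R Q) := by
  have h : ∀ e : R⟦X⟧ ⊗[R] Q, e - (1 : R⟦X⟧) ⊗ₜ[R] (mu R Q e) ∈ LinearMap.range (Phi R Q) := by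
    intro e
    induction e using TensorProduct.induction_on with
    | zero => simp
    | tmul f q => exact tmul_sub_mem_range M q (hQ q) f
    | add x y hx hy =>
      have := Submodule.add_mem _ hx hy
      rw [map_add, tmul_add]
      convert this using 1
      abel
  intro e he
  have := h e
  rw [LinearMap.mem_ker.1 he, tmul_zero, sub_zero] at this
  exact this

lemma ker_mu_eq (hQ : ∀ q : Q, ((X : R⟦X⟧) ^ M) • q = 0) :
    LinearMap.ker (mu R Q) = LinearMap.range (Phi R Q) := by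
  apply le_antisymm (ker_mu_le hQ)
  rintro _ ⟨e, rfl⟩
  exact mu_Phi e

end CharSeq

section Conv
open TensorProduct

variable {Λ : Submodule R⟦X⟧ (Fin n → R⟦X⟧)}
  (hΛ : ∀ v : Fin n → R⟦X⟧, ((X : R⟦X⟧) ^ M) • v ∈ Λ)
include hΛ

theorem finite_projective_of_projective_quotient
    [Module.Projective R ((Fin n → R⟦X⟧) ⧸ Λ)] :
    Module.Finite R⟦X⟧ Λ ∧ Module.Projective R⟦X⟧ Λ := by
  have : Module.Finite R ((Fin n → R⟦X⟧) ⧸ Λ) := finite_quotient hΛ
  have hQ : ∀ q : (Fin n → R⟦X⟧) ⧸ Λ, ((X : R⟦X⟧) ^ M) • q = 0 := X_pow_smul_quotient hΛ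
  obtain ⟨e⟩ := Groth.Agent.S2159.result Λ.mkQ (mu R ((Fin n → R⟦X⟧) ⧸ Λ))
    Λ.mkQ_surjective mu_surjective
  have e1 : Λ ≃ₗ[R⟦X⟧] LinearMap.ker Λ.mkQ := LinearEquiv.ofEq _ _ (Submodule.ker_mkQ Λ).symm
  have e2 : (R⟦X⟧ ⊗[R] ((Fin n → R⟦X⟧) ⧸ Λ)) ≃ₗ[R⟦X⟧] LinearMap.ker (mu R ((Fin n → R⟦X⟧) ⧸ Λ)) :=
    (LinearEquiv.ofInjective (Phi R _) (Phi_injective hQ)).trans
      (LinearEquiv.ofEq _ _ (ker_mu_eq hQ).symm)
  have ψ : (Λ × (R⟦X⟧ ⊗[R] ((Fin n → R⟦X⟧) ⧸ Λ))) ≃ₗ[R⟦X⟧]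
      ((R⟦X⟧ ⊗[R] ((Fin n → R⟦X⟧) ⧸ Λ)) × (Fin n → R⟦X⟧)) :=
    ((e1.prodCongr (LinearEquiv.refl _ _)).trans e).trans
      (e2.symm.prodCongr (LinearEquiv.refl _ _))
  have : Module.Finite R⟦X⟧ (Λ × (R⟦X⟧ ⊗[R] ((Fin n → R⟦X⟧) ⧸ Λ))) := Module.Finite.equiv ψ.symm
  have : Module.Projective R⟦X⟧ (Λ × (R⟦X⟧ ⊗[R] ((Fin n → R⟦X⟧) ⧸ Λ))) :=
    Module.Projective.of_equiv ψ.symm
  refine ⟨Module.Finite.of_surjective
      (LinearMap.fst R⟦X⟧ Λ (R⟦X⟧ ⊗[R] ((Fin n → R⟦X⟧) ⧸ Λ))) LinearMap.fst_surjective,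
    Module.Projective.of_split (LinearMap.inl R⟦X⟧ Λ (R⟦X⟧ ⊗[R] ((Fin n → R⟦X⟧) ⧸ Λ)))
      (LinearMap.fst R⟦X⟧ Λ (R⟦X⟧ ⊗[R] ((Fin n → R⟦X⟧) ⧸ Λ))) ?_⟩
  ext x
  simp

end Conv

end Groth.Agent.Lib.Helper2.PSLattice
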