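import Groth.Agent.Lib.Helper6.PicReduced
import Groth.Agent.Lib.Helper6.GeomH0

/-!
# Invertible modules trivial on all fibres, when `H¹(X_y, O) = 0` (helper2, after helper6's `PicReduced` / `PicNear`)

`f : X ⟶ Y` proper flat, `Y` locally noetherian, `h⁰(X_y, O) = 1` and `H¹(X_y, O_{X_y}) = 0` for all `y`, `L` invertible
with `L_y ≅ O` for all `y`: then `f_* L` is invertible and `f^* f_* L ⟶ L` is an isomorphism.  (helper6's `PicReduced.main`
with the reducedness of `Y` replaced by the vanishing of `H¹` of the fibres; the local step is helper6's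
`PicFibre.picPullbackInjective`.)
-/

set_option backward.isDefEq.respectTransparency.types false
set_option autoImplicit false
set_option linter.style.haveILetI false
set_option linter.unusedSectionVars false
universe u
open CategoryTheory CategoryTheory.Limits AlgebraicGeometry Opposite TopologicalSpace TensorProduct

noncomputable section
namespace Groth.Agent.Lib.Helper2.PicH1

open Groth.Agent.Lib.Helper28 Groth.Agent.Lib.Helper28.QCohLoc Groth.Agent.Lib.Helper28.GenLocus
  Groth.Agent.Lib.Helper28.PullbackInv Groth.Agent.Lib.Helper28.HomMod Groth.Agent.Lib.Helper6.PicReduced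

section Near

variable {X Y : Scheme.{u}} (f : X ⟶ Y) [IsProper f] [Flat f] [IsLocallyNoetherian Y] (y : Y)

/-- the local form: triviality over `X ×_Y Spec O_{Y,y}` -/
theorem nonempty_iso_over_stalk_of_H1
    (h1 : Subsingleton (Coh.HH (f.fiber y) (Coh.structureModule (f.fiber y)) 1))
    (L : X.Modules) (hL : PicF.IsInvertible L)
    (hy : Nonempty (CohIII.fiberMod f L y ≅ Coh.structureModule (f.fiber y))) :
    Nonempty ((Scheme.Modules.pullback (pullback.fst f (Y.fromSpecStalk y))).obj L ≅
      Coh.structureModule (pullback f (Y.fromSpecStalk y))) := by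
  set g : Spec (Y.presheaf.stalk y) ⟶ Y := Y.fromSpecStalk y with hg
  set g' := pullback.fst f g with hg'
  set f' : pullback f g ⟶ Spec (CommRingCat.of (Y.presheaf.stalk y)) := pullback.snd f g with hf'
  haveI : IsProper f' := by rw [hf']; infer_instance
  haveI : Flat f' := by rw [hf']; infer_instance
  set ρ : Spec (CommRingCat.of (IsLocalRing.ResidueField (Y.presheaf.stalk y))) ⟶
      Spec (CommRingCat.of (Y.presheaf.stalk y)) :=
    Spec.map (CommRingCat.ofHom (IsLocalRing.residue (Y.presheaf.stalk y))) with hρ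
  set q : pullback f' ρ ⟶ X := pullback.fst f' ρ ≫ g' with hq
  letI : (pullback f' ρ).Over (Spec (CommRingCat.of (IsLocalRing.ResidueField (Y.presheaf.stalk y)))) :=
    ⟨pullback.snd f' ρ⟩
  have hsq : IsPullback q (pullback f' ρ ↘ Spec (CommRingCat.of (IsLocalRing.ResidueField (Y.presheaf.stalk y))))
      f (ρ ≫ g) :=
    (IsPullback.of_hasPullback f' ρ).paste_horiz (IsPullback.of_hasPullback f g)
  have hpt : (ρ ≫ g) (IsLocalRing.closedPoint (IsLocalRing.ResidueField (Y.presheaf.stalk y))) = y := by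
    rw [Scheme.Hom.comp_apply]
    have h2 : ρ (IsLocalRing.closedPoint (IsLocalRing.ResidueField (Y.presheaf.stalk y))) =
        IsLocalRing.closedPoint (Y.presheaf.stalk y) := by
      apply PrimeSpectrum.ext
      change Ideal.comap (IsLocalRing.residue (Y.presheaf.stalk y))
        (IsLocalRing.maximalIdeal (IsLocalRing.ResidueField (Y.presheaf.stalk y))) =
          IsLocalRing.maximalIdeal (Y.presheaf.stalk y)
      rw [IsLocalRing.maximalIdeal_eq_bot, ← RingHom.ker_eq_comap_bot, IsLocalRing.ker_residue]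
    rw [h2]
    exact Scheme.fromSpecStalk_closedPoint
  haveI : (Coh.structureModule X).IsQuasicoherent :=
    Groth.Agent.Lib.Helper28.InvQC.isQuasicoherent_of_isInvertible _
      (Groth.Agent.Lib.Helper28.GenLocus.isInvertible_of_isGen _ fun x =>
        ⟨⊤, oneSec X ⊤, trivial, isGen_oneSec ⊤⟩)
  have hv1 : Subsingleton (CohIII.fiberH f (Coh.structureModule X) y 1) :=
    Groth.Agent.Lib.Helper4.VanClass.subsingleton_HH_of_iso
      (Groth.Agent.Lib.Helper16.RS.pullbackUnitIso (f.fiberι y)).symm 1 h1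
  have hv2 : Subsingleton (Coh.HH (pullback f' ρ) ((Scheme.Modules.pullback q).obj (Coh.structureModule X)) 1) := by
    refine (Groth.Agent.Lib.Helper6.FibreGlue.subsingleton_iff_of_point f (Coh.structureModule X) 1
      (IsLocalRing.ResidueField (Y.presheaf.stalk y)) (ρ ≫ g) _ q hsq).2 ?_
    rw [hpt]
    exact hv1
  have hv3 : Subsingleton (Coh.HH (pullback f' ρ) (Coh.structureModule _) 1) :=
    Groth.Agent.Lib.Helper4.VanClass.subsingleton_HH_of_iso
      (Groth.Agent.Lib.Helper16.RS.pullbackUnitIso q) 1 hv2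
  have hinj := Groth.Agent.Lib.Helper6.PicFibre.picPullbackInjective (Y.presheaf.stalk y) f' hv3
  have hw : q ≫ f = pullback.snd f' ρ ≫ Y.fromSpecResidueField y := by
    rw [hq, Category.assoc, hg', pullback.condition, ← hf', ← Category.assoc, pullback.condition, Category.assoc]
    rfl
  let t : pullback f' ρ ⟶ f.fiber y := pullback.lift q (pullback.snd f' ρ) hw
  have ht : t ≫ f.fiberι y = q := pullback.lift_fst _ _ _
  obtain ⟨ε⟩ := hy
  refine hinj ((Scheme.Modules.pullback g').obj L) (isInvertible_pullback g' hL) ?_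
  exact ⟨(Scheme.Modules.pullbackComp (pullback.fst f' ρ) g').app L ≪≫
    (Scheme.Modules.pullbackCongr ht.symm).app L ≪≫
    ((Scheme.Modules.pullbackComp t (f.fiberι y)).app L).symm ≪≫
    (Scheme.Modules.pullback t).mapIso ε ≪≫ Groth.Agent.Lib.Helper16.RS.pullbackUnitIso t⟩

end Near

section Main

variable {X Y : Scheme.{u}} (f : X ⟶ Y) [IsProper f] [Flat f] [IsLocallyNoetherian Y]
  (h0 : ∀ y : Y, Module.finrank (Y.residueField y) Γ(f.fiber y, ⊤) = 1)
  (h1 : ∀ y : Y, Subsingleton (Coh.HH (f.fiber y) (Coh.structureModule (f.fiber y)) 1))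
  (L : X.Modules) (hL : PicF.IsInvertible L)
  (htriv : ∀ y : Y, Nonempty (CohIII.fiberMod f L y ≅ Coh.structureModule (f.fiber y)))

include h0 h1 hL htriv in
theorem exists_good_nhd (y : Y) :
    ∃ (V : Y.Opens) (σ : Γ(L, f ⁻¹ᵁ V)), y ∈ V ∧ IsGen L (f ⁻¹ᵁ V) σ ∧
      ∀ W : Y.Opens, W ≤ V → Function.Bijective (f.app W) := by
  obtain ⟨ε⟩ := nonempty_iso_over_stalk_of_H1 f y (h1 y) L hL (htriv y)
  obtain ⟨U₂, n, hyU₂, hn⟩ := Groth.Agent.Lib.Helper6.PicSpread.exists_open_isGen f y L hL ε
  obtain ⟨U₁, hyU₁, hU₁⟩ := Groth.Agent.Lib.helper11.UnitSec.exists_nhd_isIso_app f y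
    (bijective_algebraMap_of_finrank_eq_one f y (h0 y))
  refine ⟨U₁ ⊓ U₂, res L (f.preimage_mono inf_le_right) n, ⟨hyU₁, hyU₂⟩, hn.res _, fun W hW => ?_⟩
  haveI := hU₁ W (hW.trans inf_le_left)
  exact ConcreteCategory.bijective_of_isIso (f.app W)

include h0 h1 hL htriv in
/-- `f_* L` is invertible and the counit `f^* f_* L ⟶ L` is an isomorphism -/
theorem main :
    PicF.IsInvertible ((Scheme.Modules.pushforward f).obj L) ∧
      IsIso ((Scheme.Modules.pullbackPushforwardAdjunction f).counit.app L) := by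
  constructor
  · refine isInvertible_of_isGen _ fun y => ?_
    obtain ⟨V, σ, hyV, hσ, hbij⟩ := exists_good_nhd f h0 h1 L hL htriv y
    exact ⟨V, σ, hyV, isGen_pushforward f L V σ hσ hbij⟩
  · refine isIso_of_maps_isGen _ fun x => ?_
    obtain ⟨V, σ, hyV, hσ, hbij⟩ := exists_good_nhd f h0 h1 L hL htriv (f x)
    refine ⟨f ⁻¹ᵁ V, pbs f ((Scheme.Modules.pushforward f).obj L) V σ, hyV,
      isGen_pbs (isGen_pushforward f L V σ hσ hbij), ?_⟩
    rw [counit_pbs]
    exact hσ

end Main

end Groth.Agent.Lib.Helper2.PicH1
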