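import Mathlib

/-!
# Eventually non-negative polynomials have non-negative leading coefficient
-/

namespace Groth.Agent.Lib.Helper2.PolyEv

open Polynomial Filter

/-- A rational polynomial which is non-negative at all sufficiently large integers has a
non-negative leading coefficient. -/
theorem leadingCoeff_nonneg_of_eventually (P : Polynomial ℚ) (N : ℤ)
    (h : ∀ n : ℤ, N ≤ n → 0 ≤ P.eval (n : ℚ)) : 0 ≤ P.leadingCoeff := by
  by_contra hneg
  push_neg at hneg
  by_cases hdeg : 0 < P.degree
  · have h1 : Tendsto (fun x : ℚ => P.eval x) atTop atBot :=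
      Polynomial.tendsto_atBot_of_leadingCoeff_nonpos P hdeg hneg.le
    have h2 : Tendsto (fun n : ℤ => P.eval (n : ℚ)) atTop atBot :=
      h1.comp tendsto_intCast_atTop_atTop
    have h3 := (tendsto_atBot.1 h2 (-1))
    obtain ⟨n, hn⟩ := (h3.and (eventually_ge_atTop N)).exists
    have := h n hn.2
    linarith [hn.1]
  · have hd : P.degree ≤ 0 := not_lt.1 hdeg
    have hC := Polynomial.eq_C_of_degree_le_zero hd
    have hl : P.leadingCoeff = P.coeff 0 := by
      conv_lhs => rw [hC]
      simp
    have := h N le_rfl
    rw [hC] at this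
    simp at this
    rw [hl] at hneg
    linarith

end Groth.Agent.Lib.Helper2.PolyEv
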