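import Groth.Agent.Lib.Helper2.FullCech6

/-!
# Multigraded contraction of a Čech complex (helper2)

If the sections of a presheaf over the members of the Čech nerve embed compatibly into a group of
finitely supported functions `E →₀ G` (a "multigrading"), the image over `W x` being cut out by a
support condition `Ok (range x) e`, then the Čech complex is exact in degree `p + 1` as soon as every
multidegree `e` either admits a cone vertex `v e` (adding `v e` to the index set does not change the
condition) or does not occur at all in degree `p + 1`.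
-/

set_option autoImplicit false
universe u
open CategoryTheory CategoryTheory.Limits Opposite TopologicalSpace

namespace Groth.Agent.Lib.Helper2.ProjCoh1

open Groth.Agent.Lib.Helper17.CechElem Groth.Agent.Lib.Helper2.FullCech6

variable {X : TopCat.{u}} {ι : Type u} (V : ι → Opens X) (P : (Opens X)ᵒᵖ ⥤ AddCommGrpCat.{u})
variable {E : Type*} {G : Type*} [AddCommGroup G]

/-- a multigrading of the coefficient system of the Čech complex. -/
structure Grading (ψ : ∀ {n : ℕ} (x : Fin (n + 1) → ι), P.obj (op (W V x)) →+ (E →₀ G))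
    (Ok : Set ι → E → Prop) : Prop where
  inj : ∀ {n : ℕ} (x : Fin (n + 1) → ι), Function.Injective (ψ x)
  mem : ∀ {n : ℕ} (x : Fin (n + 1) → ι) (s : P.obj (op (W V x))) (e : E), ψ x s e ≠ 0 →
    Ok (Set.range x) e
  surj : ∀ {n : ℕ} (x : Fin (n + 1) → ι) (b : E →₀ G), (∀ e, b e ≠ 0 → Ok (Set.range x) e) →
    ∃ s, ψ x s = b
  face : ∀ {n : ℕ} (y : Fin (n + 2) → ι) (i : Fin (n + 2))
    (s : P.obj (op (W V (y ∘ Fin.succAbove i)))),
    ψ y (P.map (homOfLE (W_face_le V y i)).op s) = ψ (y ∘ Fin.succAbove i) s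

variable {V P}
variable {ψ : ∀ {n : ℕ} (x : Fin (n + 1) → ι), P.obj (op (W V x)) →+ (E →₀ G)}
  {Ok : Set ι → E → Prop}

theorem psi_congr {n : ℕ} (α : (K V P).X n) {x x' : Fin (n + 1) → ι} (h : x = x') :
    ψ x (comp V P α x) = ψ x' (comp V P α x') := by
  subst h
  rfl

theorem Grading.psi_d (hψ : Grading V P ψ Ok) {n : ℕ} (α : (K V P).X n) (y : Fin (n + 2) → ι) :
    ψ y (comp V P ((K V P).d n (n + 1) α) y) =
      ∑ i : Fin (n + 2), (-1 : ℤ) ^ (i : ℕ) •
        ψ (y ∘ Fin.succAbove i) (comp V P α (y ∘ Fin.succAbove i)) := by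
  rw [comp_d, map_sum]
  refine Finset.sum_congr rfl (fun i _ => ?_)
  rw [map_zsmul, hψ.face]

theorem range_cons {n : ℕ} (j : ι) (x : Fin (n + 1) → ι) :
    Set.range (Fin.cons j x : Fin (n + 2) → ι) = insert j (Set.range x) := by
  ext k
  constructor
  · rintro ⟨a, rfl⟩
    refine Fin.cases ?_ (fun a' => ?_) a
    · left; simp
    · right; exact ⟨a', by simp⟩
  · rintro (rfl | ⟨a, rfl⟩)
    · exact ⟨0, by simp⟩
    · exact ⟨a.succ, by simp⟩

/-- **multigraded contraction**. -/
theorem Grading.contract [Fintype ι] (hψ : Grading V P ψ Ok) (p : ℕ) (v : E → ι)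
    (hv : ∀ e, (∀ S : Set ι, Ok (insert (v e) S) e → Ok S e) ∨
      (∀ x : Fin (p + 2) → ι, ¬ Ok (Set.range x) e))
    (α : (K V P).X (p + 1)) (hα : (K V P).d (p + 1) (p + 2) α = 0) :
    ∃ β : (K V P).X p, (K V P).d p (p + 1) β = α := by
  classical
  let good : E → Prop := fun e => ∀ S : Set ι, Ok (insert (v e) S) e → Ok S e
  -- the components of the contraction
  let b : (Fin (p + 1) → ι) → (E →₀ G) := fun x =>
    ∑ j : ι, (ψ (Fin.cons j x : Fin (p + 2) → ι) (comp V P α (Fin.cons j x))).filter
      (fun e => good e ∧ v e = j)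
  have hb : ∀ x e, b x e = if good e then
      ψ (Fin.cons (v e) x : Fin (p + 2) → ι) (comp V P α (Fin.cons (v e) x)) e else 0 := by
    intro x e
    change (∑ j : ι, (ψ (Fin.cons j x : Fin (p + 2) → ι) (comp V P α (Fin.cons j x))).filter
      (fun e => good e ∧ v e = j)) e = _
    rw [Finsupp.finset_sum_apply]
    simp only [Finsupp.filter_apply]
    by_cases hg : good e
    · simp only [hg, true_and, if_true]
      rw [Finset.sum_eq_single (v e)]
      · simp
      · intro j _ hj
        rw [if_neg (fun h => hj h.symm)]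
      · intro h
        exact absurd (Finset.mem_univ _) h
    · simp [hg]
  have hβ : ∀ x : Fin (p + 1) → ι, ∃ s : P.obj (op (W V x)), ψ x s = b x := by
    intro x
    refine hψ.surj x (b x) (fun e he => ?_)
    rw [hb] at he
    by_cases hg : good e
    · rw [if_pos hg] at he
      have h1 := hψ.mem _ _ e he
      rw [range_cons] at h1
      exact hg _ h1
    · rw [if_neg hg] at he
      exact absurd rfl he
  choose βf hβf using hβ
  refine ⟨Groth.Agent.Lib.Helper17.CechElem.mk V P βf, ?_⟩
  apply Groth.Agent.Lib.Helper17.CechElem.ext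
  intro y
  apply hψ.inj y
  rw [hψ.psi_d]
  simp only [Groth.Agent.Lib.Helper17.CechElem.comp_mk, hβf]
  ext e
  rw [Finsupp.finset_sum_apply]
  simp only [Finsupp.smul_apply, hb]
  by_cases hg : good e
  · simp only [if_pos hg]
    -- the cocycle condition at `cons (v e) y`
    have h0 : ψ (Fin.cons (v e) y : Fin (p + 3) → ι)
        (comp V P ((K V P).d (p + 1) (p + 2) α) (Fin.cons (v e) y)) e = 0 := by
      rw [hα, Groth.Agent.Lib.Helper17.CechElem.comp_zero, map_zero]
      rfl
    rw [hψ.psi_d, Finsupp.finset_sum_apply, Fin.sum_univ_succ] at h0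
    have e0 : ψ ((Fin.cons (v e) y : Fin (p + 3) → ι) ∘ Fin.succAbove 0)
        (comp V P α ((Fin.cons (v e) y : Fin (p + 3) → ι) ∘ Fin.succAbove 0)) =
        ψ y (comp V P α y) := psi_congr α (cons_comp_succAbove_zero (v e) y)
    have e1 : ∀ i : Fin (p + 2),
        ψ ((Fin.cons (v e) y : Fin (p + 3) → ι) ∘ Fin.succAbove i.succ)
          (comp V P α ((Fin.cons (v e) y : Fin (p + 3) → ι) ∘ Fin.succAbove i.succ)) =
        ψ (Fin.cons (v e) (y ∘ Fin.succAbove i) : Fin (p + 2) → ι)
          (comp V P α (Fin.cons (v e) (y ∘ Fin.succAbove i))) :=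
      fun i => psi_congr α (cons_comp_succAbove_succ (v e) y i)
    rw [e0] at h0
    simp only [e1, Finsupp.smul_apply, Fin.val_zero, pow_zero, one_smul, Fin.val_succ] at h0
    have h2 : ψ y (comp V P α y) e = -∑ i : Fin (p + 2), (-1 : ℤ) ^ ((i : ℕ) + 1) •
        ψ (Fin.cons (v e) (y ∘ Fin.succAbove i) : Fin (p + 2) → ι)
          (comp V P α (Fin.cons (v e) (y ∘ Fin.succAbove i))) e := by
      rw [eq_neg_iff_add_eq_zero]
      exact h0
    rw [h2, ← Finset.sum_neg_distrib]
    refine Finset.sum_congr rfl (fun i _ => ?_)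
    rw [pow_succ]
    simp
  · simp only [if_neg hg, smul_zero, Finset.sum_const_zero]
    by_contra hne
    have h1 := hψ.mem y (comp V P α y) e (fun h => hne h.symm)
    rcases hv e with h | h
    · exact hg h
    · exact h y h1

/-- vanishing in degree `0`. -/
theorem Grading.zero_of_cocycle (hψ : Grading V P ψ Ok)
    (h0 : ∀ e, ∃ i : ι, ¬ Ok {i} e)
    (α : (K V P).X 0) (hα : (K V P).d 0 1 α = 0) : α = 0 := by
  apply Groth.Agent.Lib.Helper17.CechElem.ext
  intro x
  haveI : Subsingleton (Fin (0 + 1)) := inferInstanceAs (Subsingleton (Fin 1))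
  rw [Groth.Agent.Lib.Helper17.CechElem.comp_zero]
  apply hψ.inj x
  rw [map_zero]
  ext e
  by_contra hne
  obtain ⟨i, hi⟩ := h0 e
  -- the component at `i` is the same function
  have hx : x = (fun _ => x 0) := by
    funext a
    congr 1
    exact Subsingleton.elim _ _
  let y : Fin 2 → ι := ![x 0, i]
  have hc : ψ y (comp V P ((K V P).d 0 1 α) y) = 0 := by
    rw [hα, Groth.Agent.Lib.Helper17.CechElem.comp_zero, map_zero]
  rw [hψ.psi_d, Fin.sum_univ_two] at hc
  have y0 : y ∘ Fin.succAbove 0 = (fun _ => i) := by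
    funext a
    have : a = 0 := Subsingleton.elim _ _
    subst this
    simp [y]
  have y1 : y ∘ Fin.succAbove 1 = (fun _ => x 0) := by
    funext a
    have : a = 0 := Subsingleton.elim _ _
    subst this
    simp [y]
  rw [psi_congr α y0, psi_congr α y1] at hc
  simp only [Fin.val_zero, pow_zero, one_smul, Fin.val_one, pow_one, neg_smul] at hc
  have hc' : ψ (fun _ : Fin (0 + 1) => i) (comp V P α fun _ => i) =
      ψ (fun _ : Fin (0 + 1) => x 0) (comp V P α fun _ => x 0) := by
    rw [← sub_eq_zero, sub_eq_add_neg]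
    exact hc
  have h2 : ψ (fun _ : Fin (0 + 1) => i) (comp V P α fun _ => i) e ≠ 0 := by
    rw [hc', ← psi_congr α hx]
    exact hne
  have h3 := hψ.mem _ _ e h2
  have : Set.range (fun _ : Fin (0 + 1) => i) = {i} := by
    ext k
    simp [eq_comm]
  rw [this] at h3
  exact hi h3

end Groth.Agent.Lib.Helper2.ProjCoh1
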