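import Mathlib

/-!
# Laurent polynomials as a multigraded container for fractions `m / T^c` (helper2)

`Lau R σ = R[σ →₀ ℤ]` (additive monoid algebra), `φ : R[T_σ] → Lau R σ` the inclusion of polynomials,
`frac m c = φ m * T^{-c}`.  Fractions with homogeneous numerator are characterized by a support
condition.
-/

set_option autoImplicit false
universe u v
open AddMonoidAlgebra

namespace Groth.Agent.Lib.Helper2.ProjCoh2

variable (R : Type u) [CommRing R] (σ : Type v)

/-- Laurent polynomials. -/
abbrev Lau := AddMonoidAlgebra R (σ →₀ ℤ)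

/-- natural exponents as integer exponents. -/
noncomputable def castExp : (σ →₀ ℕ) →+ (σ →₀ ℤ) :=
  Finsupp.mapRange.addMonoidHom (Nat.castAddMonoidHom ℤ)

variable {σ}

@[simp] theorem castExp_apply (c : σ →₀ ℕ) (j : σ) : castExp σ c j = (c j : ℤ) := rfl

theorem castExp_injective : Function.Injective (castExp σ) := by
  intro c c' h
  ext j
  have := DFunLike.congr_fun h j
  simpa using this

theorem degree_castExp (c : σ →₀ ℕ) : Finsupp.degree (castExp σ c) = ((Finsupp.degree c : ℕ) : ℤ) := by
  classical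
  rw [Finsupp.degree_apply, Finsupp.degree_apply, Nat.cast_sum]
  have hs : (castExp σ c).support = c.support := by
    ext j
    simp
  rw [hs]
  rfl

/-- integer exponents to natural exponents (negative parts are cut off). -/
noncomputable def toNatExp (e : σ →₀ ℤ) : σ →₀ ℕ := Finsupp.mapRange Int.toNat rfl e

@[simp] theorem toNatExp_apply (e : σ →₀ ℤ) (j : σ) : toNatExp e j = (e j).toNat := rfl

theorem castExp_toNatExp (e : σ →₀ ℤ) (h : ∀ j, 0 ≤ e j) : castExp σ (toNatExp e) = e := by
  ext j
  simp [h j]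

variable (σ)

/-- polynomials as Laurent polynomials. -/
noncomputable def φ : MvPolynomial σ R →+* Lau R σ :=
  AddMonoidAlgebra.mapDomainRingHom R (castExp σ)

variable {R σ}

theorem φ_apply (m : MvPolynomial σ R) : φ R σ m = AddMonoidAlgebra.mapDomain (castExp σ) m := rfl

theorem φ_injective : Function.Injective (φ R σ) :=
  AddMonoidAlgebra.mapDomain_injective castExp_injective

theorem φ_monomial (c : σ →₀ ℕ) (r : R) :
    φ R σ (MvPolynomial.monomial c r) = single (castExp σ c) r := by
  rw [φ_apply]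
  exact AddMonoidAlgebra.mapDomain_single

theorem coeff_φ (m : MvPolynomial σ R) (c : σ →₀ ℕ) :
    (φ R σ m).coeff (castExp σ c) = MvPolynomial.coeff c m := by
  rw [φ_apply, AddMonoidAlgebra.coeff_mapDomain]
  exact Finsupp.mapDomain_apply castExp_injective _ c

theorem coeff_φ_of_notMem_range (m : MvPolynomial σ R) (e : σ →₀ ℤ)
    (he : e ∉ Set.range (castExp σ)) : (φ R σ m).coeff e = 0 := by
  rw [φ_apply, AddMonoidAlgebra.coeff_mapDomain]
  exact Finsupp.mapDomain_of_notMem_range _ _ he

/-- if the coefficient of `φ m` at `e` is nonzero then `e` is a natural exponent occurring in `m`. -/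
theorem exists_of_coeff_φ_ne_zero (m : MvPolynomial σ R) (e : σ →₀ ℤ) (h : (φ R σ m).coeff e ≠ 0) :
    ∃ c : σ →₀ ℕ, castExp σ c = e ∧ MvPolynomial.coeff c m ≠ 0 := by
  by_cases he : e ∈ Set.range (castExp σ)
  · obtain ⟨c, rfl⟩ := he
    exact ⟨c, rfl, by rwa [coeff_φ] at h⟩
  · exact absurd (coeff_φ_of_notMem_range m e he) h

/-- the monomial `T^e`, `e` an integer exponent. -/
noncomputable abbrev T (e : σ →₀ ℤ) : Lau R σ := single e 1

theorem T_mul_T (e e' : σ →₀ ℤ) : (T e : Lau R σ) * T e' = T (e + e') := by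
  rw [single_mul_single, one_mul]

theorem T_zero : (T 0 : Lau R σ) = 1 := rfl

theorem T_mul_neg (e : σ →₀ ℤ) : (T e : Lau R σ) * T (-e) = 1 := by
  rw [T_mul_T, add_neg_cancel, T_zero]

theorem T_neg_mul (e : σ →₀ ℤ) : (T (-e) : Lau R σ) * T e = 1 := by
  rw [T_mul_T, neg_add_cancel, T_zero]

theorem φ_monomial_one (c : σ →₀ ℕ) : φ R σ (MvPolynomial.monomial c 1) = T (castExp σ c) :=
  φ_monomial c 1

/-- the fraction `m / T^c`. -/
noncomputable def frac (m : MvPolynomial σ R) (c : σ →₀ ℕ) : Lau R σ := φ R σ m * T (-(castExp σ c))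

theorem frac_mul_T (m : MvPolynomial σ R) (c : σ →₀ ℕ) : frac m c * T (castExp σ c) = φ R σ m := by
  rw [frac, mul_assoc, T_neg_mul, mul_one]

theorem coeff_frac (m : MvPolynomial σ R) (c : σ →₀ ℕ) (e : σ →₀ ℤ) :
    (frac m c).coeff e = (φ R σ m).coeff (e + castExp σ c) := by
  rw [frac, AddMonoidAlgebra.coeff_mul_single_apply, neg_neg, mul_one]

theorem frac_zero (c : σ →₀ ℕ) : frac (0 : MvPolynomial σ R) c = 0 := by
  rw [frac, map_zero, zero_mul]

theorem frac_add_left (m m' : MvPolynomial σ R) (c : σ →₀ ℕ) :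
    frac (m + m') c = frac m c + frac m' c := by
  rw [frac, frac, frac, map_add, add_mul]

theorem frac_eq_frac (m m' : MvPolynomial σ R) (c c' : σ →₀ ℕ)
    (h : m * MvPolynomial.monomial c' 1 = m' * MvPolynomial.monomial c 1) : frac m c = frac m' c' := by
  have h1 := congrArg (φ R σ) h
  rw [map_mul, map_mul, φ_monomial_one, φ_monomial_one] at h1
  have h2 : frac m c = φ R σ m * T (castExp σ c') * T (-(castExp σ c)) * T (-(castExp σ c')) := by
    rw [frac, mul_assoc (φ R σ m), mul_comm (T (castExp σ c')), mul_assoc, mul_assoc, T_mul_neg,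
      mul_one]
  rw [h2, h1, mul_assoc (φ R σ m'), T_mul_neg, mul_one, frac]

theorem frac_mul_monomial (m : MvPolynomial σ R) (c c' : σ →₀ ℕ) :
    frac (m * MvPolynomial.monomial c' 1) (c + c') = frac m c := by
  apply frac_eq_frac
  rw [mul_assoc, MvPolynomial.monomial_mul, one_mul, add_comm]

theorem frac_add (m m' : MvPolynomial σ R) (c c' : σ →₀ ℕ) :
    frac m c + frac m' c' =
      frac (m * MvPolynomial.monomial c' 1 + m' * MvPolynomial.monomial c 1) (c + c') := by
  rw [frac_add_left, frac_mul_monomial, add_comm c c', frac_mul_monomial]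

theorem frac_eq_zero_iff (m : MvPolynomial σ R) (c : σ →₀ ℕ) : frac m c = 0 ↔ m = 0 := by
  constructor
  · intro h
    have := frac_mul_T m c
    rw [h, zero_mul] at this
    exact φ_injective (this.symm.trans (map_zero _).symm)
  · rintro rfl
    exact frac_zero c

/-- multiplication by a monomial is injective on polynomials. -/
theorem monomial_mul_cancel (c : σ →₀ ℕ) (w : MvPolynomial σ R)
    (h : MvPolynomial.monomial c 1 * w = 0) : w = 0 := by
  have h1 := congrArg (φ R σ) h
  rw [map_mul, φ_monomial_one, map_zero] at h1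
  have h2 : φ R σ w = T (-(castExp σ c)) * (T (castExp σ c) * φ R σ w) := by
    rw [← mul_assoc, T_neg_mul, one_mul]
  rw [h1, mul_zero] at h2
  exact φ_injective (h2.trans (map_zero _).symm)

/-- the support condition: total degree `d`, negative exponents only inside `S`. -/
def Ok (d : ℤ) (S : Set σ) (e : σ →₀ ℤ) : Prop := Finsupp.degree e = d ∧ ∀ j, e j < 0 → j ∈ S

/-- the support of a fraction with homogeneous numerator. -/
theorem ok_of_coeff_frac_ne_zero {d : ℤ} {i : ℕ} (m : MvPolynomial σ R) (hm : m.IsHomogeneous i)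
    (c : σ →₀ ℕ) (hi : (i : ℤ) = ((Finsupp.degree c : ℕ) : ℤ) + d) (e : σ →₀ ℤ) (he : (frac m c).coeff e ≠ 0) :
    Finsupp.degree e = d ∧ ∀ j, e j < 0 → 0 < c j := by
  rw [coeff_frac] at he
  obtain ⟨c', hc', hne⟩ := exists_of_coeff_φ_ne_zero m _ he
  have hdeg : Finsupp.degree c' = i := by
    by_contra hcon
    exact hne (hm.coeff_eq_zero hcon)
  have h1 : Finsupp.degree (castExp σ c') = Finsupp.degree e + Finsupp.degree (castExp σ c) := by
    rw [hc', map_add]
  rw [degree_castExp, degree_castExp, hdeg] at h1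
  refine ⟨by omega, fun j hj => ?_⟩
  have h2 := DFunLike.congr_fun hc' j
  simp only [castExp_apply, Finsupp.add_apply] at h2
  by_contra hcj
  have : c j = 0 := by omega
  rw [this] at h2
  omega

variable (R) in
/-- **fractions with given denominators `T^{k c₀}` exhaust the Laurent polynomials satisfying the
support condition**. -/
theorem exists_frac_of_ok (d : ℤ) (c₀ : σ →₀ ℕ) (hc₀ : 0 < Finsupp.degree c₀) (b : Lau R σ)
    (hb : ∀ e, b.coeff e ≠ 0 → Finsupp.degree e = d ∧ ∀ j, e j < 0 → 0 < c₀ j) :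
    ∃ k₀ : ℕ, ∀ k : ℕ, k₀ ≤ k → ∃ (i : ℕ) (m : MvPolynomial σ R), m.IsHomogeneous i ∧
      (i : ℤ) = ((Finsupp.degree (k • c₀) : ℕ) : ℤ) + d ∧ b = frac m (k • c₀) := by
  classical
  have hdegk : ∀ k : ℕ, Finsupp.degree (k • c₀) = k * Finsupp.degree c₀ := fun k => by
    rw [map_nsmul, smul_eq_mul]
  induction b using AddMonoidAlgebra.induction with
  | zero =>
    refine ⟨d.natAbs, fun k hk => ?_⟩
    have h0 : 0 ≤ ((Finsupp.degree (k • c₀) : ℕ) : ℤ) + d := by
      rw [hdegk]
      push_cast
      have : (k : ℤ) ≤ k * Finsupp.degree c₀ := by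
        have h1 : (1 : ℤ) ≤ Finsupp.degree c₀ := by exact_mod_cast hc₀
        nlinarith [Int.natCast_nonneg k]
      omega
    refine ⟨(((Finsupp.degree (k • c₀) : ℕ) : ℤ) + d).toNat, 0, MvPolynomial.isHomogeneous_zero _ _ _, ?_,
      (frac_zero _).symm⟩
    rw [Int.toNat_of_nonneg h0]
  | single_add e r x hex hr ih =>
    have hx : ∀ e', x.coeff e' ≠ 0 → Finsupp.degree e' = d ∧ ∀ j, e' j < 0 → 0 < c₀ j := by
      intro e' he'
      apply hb e'
      have hne : e' ≠ e := by
        rintro rfl
        exact hex (Finsupp.mem_support_iff.mpr he')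
      rw [AddMonoidAlgebra.coeff_add, Finsupp.add_apply, AddMonoidAlgebra.coeff_single,
        Finsupp.single_apply, if_neg (Ne.symm hne), zero_add]
      exact he'
    have he : Finsupp.degree e = d ∧ ∀ j, e j < 0 → 0 < c₀ j := by
      apply hb e
      rw [AddMonoidAlgebra.coeff_add, Finsupp.add_apply, AddMonoidAlgebra.coeff_single,
        Finsupp.single_apply, if_pos rfl, Finsupp.notMem_support_iff.mp hex, add_zero]
      exact hr
    obtain ⟨k₁, hk₁⟩ := ih hx
    -- a bound for the negative exponents of `e`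
    let N : ℕ := e.support.sup (fun j => (-(e j)).toNat)
    have hN : ∀ j, -(e j) ≤ (N : ℤ) := by
      intro j
      by_cases hj : j ∈ e.support
      · have h1 : (-(e j)).toNat ≤ N := Finset.le_sup (f := fun j => (-(e j)).toNat) hj
        have h2 : -(e j) ≤ ((-(e j)).toNat : ℤ) := Int.self_le_toNat _
        omega
      · rw [Finsupp.notMem_support_iff.mp hj]
        omega
    refine ⟨max k₁ (max N d.natAbs), fun k hk => ?_⟩
    obtain ⟨i, mx, hmx, hi, hxeq⟩ := hk₁ k (le_trans (le_max_left _ _) hk)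
    have hkN : N ≤ k := le_trans (le_trans (le_max_left _ _) (le_max_right _ _)) hk
    -- the exponent `e + k c₀` is natural
    have hnn : ∀ j, 0 ≤ (e + castExp σ (k • c₀)) j := by
      intro j
      simp only [Finsupp.add_apply, castExp_apply, Finsupp.smul_apply, smul_eq_mul, Nat.cast_mul]
      by_cases hj : e j < 0
      · have h1 : (1 : ℤ) ≤ c₀ j := by exact_mod_cast he.2 j hj
        have h2 := hN j
        have h3 : (N : ℤ) ≤ k := by exact_mod_cast hkN
        nlinarith
      · have : (0 : ℤ) ≤ (k : ℤ) * (c₀ j : ℤ) := by positivity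
        omega
    let ce : σ →₀ ℕ := toNatExp (e + castExp σ (k • c₀))
    have hce : castExp σ ce = e + castExp σ (k • c₀) := castExp_toNatExp _ hnn
    have hdce : ((Finsupp.degree ce : ℕ) : ℤ) = i := by
      rw [← degree_castExp, hce, map_add, degree_castExp, he.1, hi]
      ring
    refine ⟨i, MvPolynomial.monomial ce r + mx, ?_, hi, ?_⟩
    · exact (MvPolynomial.isHomogeneous_monomial r (by exact_mod_cast hdce)).add hmx
    · rw [frac_add_left, ← hxeq]
      congr 1
      rw [frac, φ_monomial, hce, single_mul_single, mul_one, add_assoc, add_neg_cancel, add_zero]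

end Groth.Agent.Lib.Helper2.ProjCoh2
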