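import Groth.Agent.Lib.Helper2.ProjCoh2
import Groth.Agent.Lib.Helper28.TwistMul

/-!
# Sections of `O(d)` on projective space over the standard opens, as Laurent polynomials (helper2)
-/

set_option autoImplicit false
universe u
open CategoryTheory AlgebraicGeometry Opposite TopologicalSpace

noncomputable section

namespace Groth.Agent.Lib.Helper2.ProjCoh3

open Groth.Agent.Lib.Helper28 Groth.Agent.Lib.Helper2.ProjCoh2

variable (n : ℕ) (R : Type u) [CommRing R]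

/-- the polynomial ring. -/
abbrev PA := MvPolynomial (Fin (n + 1)) R

/-- the grading. -/
abbrev gr : ℕ → Submodule R (PA n R) := CohB1.polyGrading n R

variable {n R}

/-- the monomial `T^c`. -/
abbrev mon (c : Fin (n + 1) →₀ ℕ) : PA n R := MvPolynomial.monomial c (1 : R)

theorem mon_mem (c : Fin (n + 1) →₀ ℕ) : mon (R := R) c ∈ gr n R (Finsupp.degree c) :=
  (MvPolynomial.mem_homogeneousSubmodule _ _).2 (MvPolynomial.isHomogeneous_monomial 1 rfl)

theorem mon_add (c c' : Fin (n + 1) →₀ ℕ) : mon (R := R) (c + c') = mon c * mon c' := by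
  rw [mon, mon, mon, MvPolynomial.monomial_mul, one_mul]

theorem mon_nsmul (k : ℕ) (c : Fin (n + 1) →₀ ℕ) : mon (R := R) (k • c) = mon c ^ k := by
  rw [mon, mon, MvPolynomial.monomial_pow, one_pow]

theorem mk_congr (x : ProjectiveSpectrum (gr n R)) (m : PA n R) {s s' : PA n R} (h : s = s')
    (hs : s ∉ x.asHomogeneousIdeal) (hs' : s' ∉ x.asHomogeneousIdeal) :
    (Localization.mk m ⟨s, hs⟩ : Twist.Loc (gr n R) x) = Localization.mk m ⟨s', hs'⟩ := by
  subst h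
  rfl

variable (d : ℤ)

/-- `(c, m)` represents the section `t`: pointwise `t = m / T^c`. -/
def IsRep {U : (Proj (gr n R)).Opens} (t : Γ(Twist.twist (gr n R) d, U)) (c : Fin (n + 1) →₀ ℕ)
    (m : PA n R) : Prop :=
  ∃ i : ℕ, m ∈ gr n R i ∧ (i : ℤ) = ((Finsupp.degree c : ℕ) : ℤ) + d ∧
    ∃ hc : ∀ x : U, mon c ∉ x.1.asHomogeneousIdeal,
      ∀ x : U, TwistQC.val (gr n R) t x = Localization.mk m ⟨mon c, hc x⟩

variable {d}

theorem IsRep.res {U U' : (Proj (gr n R)).Opens} (h : U' ≤ U) {t : Γ(Twist.twist (gr n R) d, U)}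
    {c : Fin (n + 1) →₀ ℕ} {m : PA n R} (ht : IsRep d t c m) :
    IsRep d (QCohLoc.res (Twist.twist (gr n R) d) h t) c m := by
  obtain ⟨i, hm, hi, hc, hval⟩ := ht
  exact ⟨i, hm, hi, fun x => hc ⟨x.1, h x.2⟩, fun x => hval ⟨x.1, h x.2⟩⟩

theorem IsRep.add {U : (Proj (gr n R)).Opens} {t t' : Γ(Twist.twist (gr n R) d, U)}
    {c c' : Fin (n + 1) →₀ ℕ} {m m' : PA n R} (ht : IsRep d t c m) (ht' : IsRep d t' c' m') :
    IsRep d (t + t') (c + c') (m * mon c' + m' * mon c) := by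
  obtain ⟨i, hm, hi, hc, hval⟩ := ht
  obtain ⟨i', hm', hi', hc', hval'⟩ := ht'
  have hmem : m * mon c' + m' * mon c ∈ gr n R (i + Finsupp.degree c') := by
    refine Submodule.add_mem _ (SetLike.mul_mem_graded hm (mon_mem c')) ?_
    have h1 : i' + Finsupp.degree c = i + Finsupp.degree c' := by
      have : ((i' + Finsupp.degree c : ℕ) : ℤ) = ((i + Finsupp.degree c' : ℕ) : ℤ) := by
        push_cast
        rw [hi, hi']
        ring
      exact_mod_cast this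
    exact h1 ▸ SetLike.mul_mem_graded hm' (mon_mem c)
  refine ⟨i + Finsupp.degree c', hmem, ?_, ?_, ?_⟩
  · push_cast
    rw [hi, map_add]
    push_cast
    ring
  · intro x h
    rw [mon_add] at h
    exact (x.1.isPrime.mem_or_mem h).elim (hc x) (hc' x)
  · intro x
    rw [TwistMul.val_add, hval x, hval' x, Localization.add_mk]
    rw [Localization.mk_eq_mk_iff, Localization.r_iff_exists]
    refine ⟨1, ?_⟩
    simp only [Submonoid.coe_mul, mon_add]
    ring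

theorem IsRep.zero_of_eq_zero {U : (Proj (gr n R)).Opens} {t : Γ(Twist.twist (gr n R) d, U)}
    {c : Fin (n + 1) →₀ ℕ} (ht : IsRep d t c 0) : t = 0 := by
  obtain ⟨i, hm, hi, hc, hval⟩ := ht
  apply TwistQC.ext_val
  intro x
  rw [hval x, TwistQC.val_zero, Localization.mk_zero]

/-- existence of representatives over a standard open. -/
theorem exists_isRep (c₀ : Fin (n + 1) →₀ ℕ) (hc₀ : 0 < Finsupp.degree c₀)
    (t : Γ(Twist.twist (gr n R) d, Proj.basicOpen (gr n R) (mon c₀))) :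
    ∃ (k : ℕ) (m : PA n R), IsRep d t (k • c₀) m := by
  obtain ⟨k, i, m, hm, hi, hval⟩ := TwistQC.exists_frac (gr n R) (mon_mem c₀) hc₀ d t
  refine ⟨k, m, i, hm, ?_, ?_, ?_⟩
  · rw [hi, map_nsmul, smul_eq_mul]
    push_cast
    ring
  · intro x
    rw [mon_nsmul]
    exact GrSectMod.pow_nin (gr n R) k x
  · intro x
    rw [hval x]
    exact mk_congr x.1 m (mon_nsmul k c₀).symm _ _

/-- uniqueness of representatives over a standard open. -/
theorem IsRep.unique (c₀ : Fin (n + 1) →₀ ℕ) (hc₀ : 0 < Finsupp.degree c₀)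
    {t : Γ(Twist.twist (gr n R) d, Proj.basicOpen (gr n R) (mon c₀))}
    {c c' : Fin (n + 1) →₀ ℕ} {m m' : PA n R} (ht : IsRep d t c m) (ht' : IsRep d t c' m') :
    m * mon c' = m' * mon c := by
  obtain ⟨i, hm, hi, hc, hval⟩ := ht
  obtain ⟨i', hm', hi', hc', hval'⟩ := ht'
  have hw : m * mon c' - m' * mon c ∈ gr n R (i + Finsupp.degree c') := by
    refine Submodule.sub_mem _ (SetLike.mul_mem_graded hm (mon_mem c')) ?_
    have h1 : i' + Finsupp.degree c = i + Finsupp.degree c' := by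
      have : ((i' + Finsupp.degree c : ℕ) : ℤ) = ((i + Finsupp.degree c' : ℕ) : ℤ) := by
        push_cast
        rw [hi, hi']
        ring
      exact_mod_cast this
    exact h1 ▸ SetLike.mul_mem_graded hm' (mon_mem c)
  have hzero : ∀ q : ProjectiveSpectrum (gr n R), mon c₀ ∉ q.asHomogeneousIdeal →
      (LocalizedModule.mk (m * mon c' - m' * mon c) 1 :
        LocalizedModule q.asHomogeneousIdeal.toIdeal.primeCompl (PA n R)) = 0 := by
    intro q hq
    have hqU : q ∈ Proj.basicOpen (gr n R) (mon c₀) := (Proj.mem_basicOpen (gr n R) _ q).2 hq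
    have h1 := (hval ⟨q, hqU⟩).symm.trans (hval' ⟨q, hqU⟩)
    rw [Localization.mk_eq_mk_iff, Localization.r_iff_exists] at h1
    obtain ⟨s, hs⟩ := h1
    rw [← LocalizedModule.zero_mk (1 : q.asHomogeneousIdeal.toIdeal.primeCompl),
      LocalizedModule.mk_eq]
    refine ⟨s, ?_⟩
    simp only [one_smul, smul_zero]
    change (s : PA n R) * (m * mon c' - m' * mon c) = 0
    have hs' : (s : PA n R) * (mon c' * m) = (s : PA n R) * (mon c * m') := hs
    linear_combination hs'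
  obtain ⟨N, hN⟩ := GrSect.pow_smul_eq_zero (gr n R) (gr n R) hc₀ (mon_mem c₀) _ hw hzero
  rw [smul_eq_mul, ← mon_nsmul] at hN
  exact sub_eq_zero.mp (monomial_mul_cancel _ _ hN)

/-- the Laurent polynomial of a section over a standard open. -/
def Psi {U : (Proj (gr n R)).Opens} (t : Γ(Twist.twist (gr n R) d, U)) : Lau R (Fin (n + 1)) :=
  by
    classical
    exact if h : ∃ (c : Fin (n + 1) →₀ ℕ) (m : PA n R), IsRep d t c m then
      frac h.choose_spec.choose h.choose else 0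

theorem Psi_eq (c₀ : Fin (n + 1) →₀ ℕ) (hc₀ : 0 < Finsupp.degree c₀) {U : (Proj (gr n R)).Opens}
    (hU : U = Proj.basicOpen (gr n R) (mon c₀)) {t : Γ(Twist.twist (gr n R) d, U)}
    {c : Fin (n + 1) →₀ ℕ} {m : PA n R} (ht : IsRep d t c m) : Psi t = frac m c := by
  subst hU
  have h : ∃ (c : Fin (n + 1) →₀ ℕ) (m : PA n R), IsRep d t c m := ⟨c, m, ht⟩
  unfold Psi
  rw [dif_pos h]
  exact frac_eq_frac _ _ _ _ (IsRep.unique c₀ hc₀ h.choose_spec.choose_spec ht)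

theorem exists_isRep' (c₀ : Fin (n + 1) →₀ ℕ) (hc₀ : 0 < Finsupp.degree c₀)
    {U : (Proj (gr n R)).Opens} (hU : U = Proj.basicOpen (gr n R) (mon c₀))
    (t : Γ(Twist.twist (gr n R) d, U)) : ∃ (k : ℕ) (m : PA n R), IsRep d t (k • c₀) m := by
  subst hU
  exact exists_isRep c₀ hc₀ t

theorem Psi_add (c₀ : Fin (n + 1) →₀ ℕ) (hc₀ : 0 < Finsupp.degree c₀) {U : (Proj (gr n R)).Opens}
    (hU : U = Proj.basicOpen (gr n R) (mon c₀)) (t t' : Γ(Twist.twist (gr n R) d, U)) :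
    Psi (t + t') = Psi t + Psi t' := by
  obtain ⟨k, m, h⟩ := exists_isRep' c₀ hc₀ hU t
  obtain ⟨k', m', h'⟩ := exists_isRep' c₀ hc₀ hU t'
  rw [Psi_eq c₀ hc₀ hU h, Psi_eq c₀ hc₀ hU h', Psi_eq c₀ hc₀ hU (h.add h'), frac_add]

theorem Psi_injective (c₀ : Fin (n + 1) →₀ ℕ) (hc₀ : 0 < Finsupp.degree c₀)
    {U : (Proj (gr n R)).Opens} (hU : U = Proj.basicOpen (gr n R) (mon c₀))
    (t : Γ(Twist.twist (gr n R) d, U)) (h0 : Psi t = 0) : t = 0 := by
  obtain ⟨k, m, h⟩ := exists_isRep' c₀ hc₀ hU t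
  rw [Psi_eq c₀ hc₀ hU h, frac_eq_zero_iff] at h0
  subst h0
  exact h.zero_of_eq_zero

theorem Psi_res (c₀ c₁ : Fin (n + 1) →₀ ℕ) (hc₀ : 0 < Finsupp.degree c₀)
    (hc₁ : 0 < Finsupp.degree c₁) {U U' : (Proj (gr n R)).Opens}
    (hU : U = Proj.basicOpen (gr n R) (mon c₀)) (hU' : U' = Proj.basicOpen (gr n R) (mon c₁))
    (h : U' ≤ U) (t : Γ(Twist.twist (gr n R) d, U)) :
    Psi (QCohLoc.res (Twist.twist (gr n R) d) h t) = Psi t := by
  obtain ⟨k, m, ht⟩ := exists_isRep' c₀ hc₀ hU t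
  rw [Psi_eq c₀ hc₀ hU ht, Psi_eq c₁ hc₁ hU' (ht.res h)]

/-- the support of `Psi t`. -/
theorem ok_of_coeff_Psi_ne_zero (c₀ : Fin (n + 1) →₀ ℕ) (hc₀ : 0 < Finsupp.degree c₀)
    {U : (Proj (gr n R)).Opens} (hU : U = Proj.basicOpen (gr n R) (mon c₀))
    (t : Γ(Twist.twist (gr n R) d, U)) (e : Fin (n + 1) →₀ ℤ) (he : (Psi t).coeff e ≠ 0) :
    Finsupp.degree e = d ∧ ∀ j, e j < 0 → 0 < c₀ j := by
  obtain ⟨k, m, ht⟩ := exists_isRep' c₀ hc₀ hU t
  rw [Psi_eq c₀ hc₀ hU ht] at he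
  obtain ⟨i, hm, hi, -, -⟩ := ht
  obtain ⟨h1, h2⟩ := ok_of_coeff_frac_ne_zero m ((MvPolynomial.mem_homogeneousSubmodule _ _).1 hm)
    (k • c₀) hi e he
  refine ⟨h1, fun j hj => ?_⟩
  have h3 := h2 j hj
  rw [Finsupp.smul_apply, smul_eq_mul] at h3
  by_contra hcon
  have : c₀ j = 0 := by omega
  rw [this, mul_zero] at h3
  exact lt_irrefl 0 h3

/-- every Laurent polynomial satisfying the support condition comes from a section. -/
theorem exists_Psi_eq (c₀ : Fin (n + 1) →₀ ℕ) (hc₀ : 0 < Finsupp.degree c₀)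
    {U : (Proj (gr n R)).Opens} (hU : U = Proj.basicOpen (gr n R) (mon c₀))
    (b : Lau R (Fin (n + 1)))
    (hb : ∀ e, b.coeff e ≠ 0 → Finsupp.degree e = d ∧ ∀ j, e j < 0 → 0 < c₀ j) :
    ∃ t : Γ(Twist.twist (gr n R) d, U), Psi t = b := by
  subst hU
  obtain ⟨k₀, hk₀⟩ := exists_frac_of_ok R d c₀ hc₀ b hb
  obtain ⟨i, m, hm, hi, hbm⟩ := hk₀ k₀ le_rfl
  have hm' : m ∈ gr n R i := (MvPolynomial.mem_homogeneousSubmodule _ _).2 hm
  have hi' : (i : ℤ) = k₀ * (Finsupp.degree c₀ : ℕ) + d := by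
    rw [hi, map_nsmul, smul_eq_mul]
    push_cast
    ring
  refine ⟨TwistQC.mkSect (gr n R) (mon_mem c₀) d k₀ i m hm' hi', ?_⟩
  have hrep : IsRep d (TwistQC.mkSect (gr n R) (mon_mem c₀) d k₀ i m hm' hi') (k₀ • c₀) m := by
    refine ⟨i, hm', hi, ?_, ?_⟩
    · intro x
      rw [mon_nsmul]
      exact GrSectMod.pow_nin (gr n R) k₀ x
    · intro x
      rw [TwistQC.val_mkSect]
      exact mk_congr x.1 m (mon_nsmul k₀ c₀).symm _ _
  rw [Psi_eq c₀ hc₀ rfl hrep, hbm]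

end Groth.Agent.Lib.Helper2.ProjCoh3
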