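import Groth.Agent.Lib.Helper2.ProjCoh1
import Groth.Agent.Lib.Helper2.ProjCoh3
import Groth.Agent.Lib.Helper2.FullCech3

/-!
# The Čech complex of `O(d)` on projective space for the standard cover is multigraded (helper2)
-/

set_option autoImplicit false
universe u
open CategoryTheory CategoryTheory.Limits AlgebraicGeometry Opposite TopologicalSpace

noncomputable section

namespace Groth.Agent.Lib.Helper2.ProjCoh4

open Groth.Agent.Lib.Helper28 Groth.Agent.Lib.Helper2.ProjCoh2 Groth.Agent.Lib.Helper2.ProjCoh3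
  Groth.Agent.Lib.Helper17.CechElem Groth.Agent.Lib.Helper2.ProjCoh1

variable (n : ℕ) (R : Type u) [CommRing R]

/-- the index type of the standard cover. -/
abbrev Idx := ULift.{u} (Fin (n + 1))

/-- the standard cover of projective space. -/
def cov (i : Idx.{u} n) : (Proj (gr n R)).Opens := Proj.basicOpen (gr n R) (MvPolynomial.X i.down)

variable {n}

/-- the exponent of the product of the variables of a tuple. -/
def cx {q : ℕ} (x : Fin (q + 1) → Idx.{u} n) : Fin (n + 1) →₀ ℕ :=
  ∑ a, Finsupp.single (x a).down 1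

theorem degree_cx {q : ℕ} (x : Fin (q + 1) → Idx.{u} n) : Finsupp.degree (cx x) = q + 1 := by
  rw [cx, map_sum]
  simp

theorem degree_cx_pos {q : ℕ} (x : Fin (q + 1) → Idx.{u} n) : 0 < Finsupp.degree (cx x) := by
  rw [degree_cx]
  omega

theorem cx_pos_iff {q : ℕ} (x : Fin (q + 1) → Idx.{u} n) (j : Fin (n + 1)) :
    0 < cx x j ↔ ULift.up j ∈ Set.range x := by
  classical
  rw [cx, Finsupp.finset_sum_apply]
  constructor
  · intro h
    by_contra hcon
    have : ∑ a, (Finsupp.single (x a).down 1 : Fin (n + 1) →₀ ℕ) j = 0 := by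
      refine Finset.sum_eq_zero (fun a _ => ?_)
      rw [Finsupp.single_apply, if_neg]
      intro hj
      exact hcon ⟨a, by rw [← hj]⟩
    omega
  · rintro ⟨a, ha⟩
    have h1 : (Finsupp.single (x a).down 1 : Fin (n + 1) →₀ ℕ) j ≤
        ∑ a, (Finsupp.single (x a).down 1 : Fin (n + 1) →₀ ℕ) j :=
      Finset.single_le_sum (f := fun a => (Finsupp.single (x a).down 1 : Fin (n + 1) →₀ ℕ) j)
        (fun _ _ => Nat.zero_le _) (Finset.mem_univ a)
    rw [ha, Finsupp.single_apply, if_pos rfl] at h1
    omega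

theorem mon_cx {q : ℕ} (x : Fin (q + 1) → Idx.{u} n) :
    mon (R := R) (cx x) = ∏ a, MvPolynomial.X (x a).down := by
  rw [mon, cx, MvPolynomial.monomial_sum_one]
  rfl

theorem W_eq {q : ℕ} (x : Fin (q + 1) → Idx.{u} n) :
    W (cov n R) x = Proj.basicOpen (gr n R) (mon (cx x)) := by
  apply le_antisymm
  · intro y hy
    rw [Proj.mem_basicOpen, mon_cx]
    intro hmem
    obtain ⟨a, -, ha⟩ := (Ideal.IsPrime.prod_mem_iff (hp := y.isPrime)).1 hmem
    have h1 : y ∈ cov n R (x a) := W_le (cov n R) x a hy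
    exact ((Proj.mem_basicOpen (gr n R) _ y).1 h1) ha
  · refine le_W (cov n R) x _ (fun a => ?_)
    apply Proj.basicOpen_mono
    rw [mon_cx]
    exact Finset.dvd_prod_of_mem _ (Finset.mem_univ a)

variable (d : ℤ)

/-- the presheaf of `O(d)`. -/
abbrev PO : ((Proj (gr n R)).Opens)ᵒᵖ ⥤ AddCommGrpCat.{u} := (Twist.twist (gr n R) d).presheaf

/-- the Laurent polynomial of a section over a member of the nerve, as an additive map. -/
def psiHom {q : ℕ} (x : Fin (q + 1) → Idx.{u} n) :
    (PO R d).obj (op (W (cov n R) x)) →+ Lau R (Fin (n + 1)) :=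
  AddMonoidHom.mk' (fun s => Psi (d := d) (U := W (cov n R) x) s)
    (fun s s' => Psi_add (cx x) (degree_cx_pos x) (W_eq R x) s s')

/-- the multigrading. -/
def psi {q : ℕ} (x : Fin (q + 1) → Idx.{u} n) :
    (PO R d).obj (op (W (cov n R) x)) →+ ((Fin (n + 1) →₀ ℤ) →₀ R) :=
  (AddMonoidAlgebra.coeffAddEquiv (R := R) (M := Fin (n + 1) →₀ ℤ)).toAddMonoidHom.comp (psiHom R d x)

theorem psi_apply {q : ℕ} (x : Fin (q + 1) → Idx.{u} n) (s : (PO R d).obj (op (W (cov n R) x)))
    (e : Fin (n + 1) →₀ ℤ) : psi R d x s e = (Psi (d := d) (U := W (cov n R) x) s).coeff e := rfl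

/-- the support condition in terms of indices. -/
def OkI (S : Set (Idx.{u} n)) (e : Fin (n + 1) →₀ ℤ) : Prop :=
  Finsupp.degree e = d ∧ ∀ j, e j < 0 → ULift.up j ∈ S

theorem grading : Grading (cov n R) (PO R d) (fun {q} x => psi R d (q := q) x) (OkI d) where
  inj := by
    intro q x s s' h
    have h1 : psiHom R d x s = psiHom R d x s' :=
      (AddMonoidAlgebra.coeffAddEquiv (R := R) (M := Fin (n + 1) →₀ ℤ)).injective h
    have h2 : psiHom R d x (s - s') = 0 := by rw [map_sub, h1, sub_self]
    exact sub_eq_zero.mp (Psi_injective (cx x) (degree_cx_pos x) (W_eq R x) _ h2)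
  mem := by
    intro q x s e he
    obtain ⟨h1, h2⟩ := ok_of_coeff_Psi_ne_zero (cx x) (degree_cx_pos x) (W_eq R x) s e he
    exact ⟨h1, fun j hj => (cx_pos_iff x j).1 (h2 j hj)⟩
  surj := by
    intro q x b hb
    obtain ⟨t, ht⟩ := exists_Psi_eq (d := d) (cx x) (degree_cx_pos x) (W_eq R x)
      (AddMonoidAlgebra.ofCoeff b) (fun e he => by
        obtain ⟨h1, h2⟩ := hb e he
        exact ⟨h1, fun j hj => (cx_pos_iff x j).2 (h2 j hj)⟩)
    refine ⟨t, ?_⟩
    change (Psi (d := d) (U := W (cov n R) x) t).coeff = b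
    rw [ht]
  face := by
    intro q y i s
    change (Psi (d := d) (U := W (cov n R) y)
      (QCohLoc.res (Twist.twist (gr n R) d) (W_face_le (cov n R) y i) s)).coeff = _
    rw [Psi_res (cx (y ∘ Fin.succAbove i)) (cx y) (degree_cx_pos _) (degree_cx_pos _)
      (W_eq R _) (W_eq R _)]
    rfl

variable {d}

theorem sum_neg_of_forall_neg (e : Fin (n + 1) →₀ ℤ) (h : ∀ j, e j < 0) :
    Finsupp.degree e ≤ -((n : ℤ) + 1) := by
  rw [Finsupp.degree_eq_sum]
  have h1 : ∑ j : Fin (n + 1), e j ≤ ∑ _j : Fin (n + 1), (-1 : ℤ) :=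
    Finset.sum_le_sum (fun j _ => by have := h j; omega)
  simp only [Finset.sum_const, Finset.card_univ, Fintype.card_fin, nsmul_eq_mul] at h1
  push_cast at h1
  linarith

/-- **vanishing of Čech cohomology in positive degrees**. -/
theorem isZero_homology_succ (p : ℕ) (h : p + 1 < n ∨ -((n : ℤ) + 1) < d) :
    IsZero ((K (cov n R) (PO R d)).homology (p + 1)) := by
  classical
  apply Groth.Agent.Lib.Helper17.CechElem.isZero_homology_succ
  -- the cone vertex
  let v : (Fin (n + 1) →₀ ℤ) → Idx.{u} n := fun e =>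
    if hh : ∃ j, 0 ≤ e j then ULift.up hh.choose else ULift.up 0
  refine (grading R d).contract p v (fun e => ?_)
  by_cases hh : ∃ j, 0 ≤ e j
  · left
    intro S hS
    refine ⟨hS.1, fun j hj => ?_⟩
    have h1 := hS.2 j hj
    rcases h1 with h1 | h1
    · exfalso
      have hv : v e = ULift.up hh.choose := dif_pos hh
      rw [hv] at h1
      have h2 : j = hh.choose := congrArg ULift.down h1
      have h3 := hh.choose_spec
      rw [← h2] at h3
      omega
    · exact h1
  · right
    push Not at hh
    intro x hx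
    have hsum := sum_neg_of_forall_neg e hh
    rcases h with h | h
    · -- `x` would be surjective
      have hsurj : Function.Surjective x := by
        intro i
        obtain ⟨j⟩ := i
        exact hx.2 j (hh j)
      have hcard := Fintype.card_le_of_surjective x hsurj
      simp only [Fintype.card_ulift, Fintype.card_fin] at hcard
      omega
    · rw [hx.1] at hsum
      omega

/-- **vanishing of Čech cohomology in degree `0` for negative twists**. -/
theorem isZero_homology_zero (hn : 1 ≤ n) (hd : d < 0) :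
    IsZero ((K (cov n R) (PO R d)).homology 0) := by
  classical
  apply Groth.Agent.Lib.Helper2.FullCech3.isZero_homology_zero
  intro α hα
  refine (grading R d).zero_of_cocycle (fun e => ?_) α hα
  by_cases hdeg : Finsupp.degree e = d
  · have hex : ∃ j, e j < 0 := by
      by_contra hcon
      push Not at hcon
      have : 0 ≤ Finsupp.degree e := by
        rw [Finsupp.degree_eq_sum]
        exact Finset.sum_nonneg (fun j _ => hcon j)
      omega
    obtain ⟨j, hj⟩ := hex
    -- an index different from `j`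
    obtain ⟨i, hi⟩ : ∃ i : Fin (n + 1), i ≠ j := by
      by_cases h0 : j = 0
      · exact ⟨1, by
          rw [h0]
          intro h1
          have := congrArg Fin.val h1
          simp at this
          omega⟩
      · exact ⟨0, fun h => h0 h.symm⟩
    refine ⟨ULift.up i, fun hOk => ?_⟩
    have h1 := hOk.2 j hj
    rw [Set.mem_singleton_iff] at h1
    exact hi (congrArg ULift.down h1).symm
  · exact ⟨ULift.up 0, fun hOk => hdeg hOk.1⟩

end Groth.Agent.Lib.Helper2.ProjCoh4
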