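import Mathlib

/-!
# Alternating behaviour of top-degree cocycle functions on tuples (helper2)

Let `c` be a function on `(n+1)`-tuples in `ι` vanishing on the non-injective tuples and satisfying the
cocycle identity `∑ i, (-1)^i c (y ∘ δ_i) = 0` for all `(n+2)`-tuples.  Then the vanishing of `c x` is
invariant under permutations of `x`.  Conversely the determinant gives such a function.
-/

set_option autoImplicit false
universe u

namespace Groth.Agent.Lib.Helper2.SignCocycle

section Uniqueness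

variable {ι : Type*} {n : ℕ} {A : Type*} [AddCommGroup A]

theorem cons_comp_succAbove_zero (j : ι) (x : Fin (n + 1) → ι) :
    (Fin.cons j x : Fin (n + 2) → ι) ∘ Fin.succAbove 0 = x := by
  funext a
  simp [Fin.succAbove_zero]

theorem cons_comp_succAbove_succ (j : ι) (x : Fin (n + 1) → ι) (i : Fin (n + 1)) :
    (Fin.cons j x : Fin (n + 2) → ι) ∘ Fin.succAbove i.succ =
      (Fin.cons j (x ∘ Fin.succAbove i) : Fin (n + 1) → ι) := by
  funext a
  refine Fin.cases ?_ (fun a' => ?_) a
  · simp
  · simp [Fin.succ_succAbove_succ]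

theorem not_injective_cons (x : Fin (n + 1) → ι) (k i : Fin (n + 1)) (hik : i ≠ k) :
    ¬ Function.Injective (Fin.cons (x k) (x ∘ Fin.succAbove i) : Fin (n + 1) → ι) := by
  intro hinj
  obtain ⟨a, ha⟩ := Fin.exists_succAbove_eq (Ne.symm hik)
  have h1 : (Fin.cons (x k) (x ∘ Fin.succAbove i) : Fin (n + 1) → ι) a.succ =
      (Fin.cons (x k) (x ∘ Fin.succAbove i) : Fin (n + 1) → ι) 0 := by
    simp [ha]
  exact Fin.succ_ne_zero a (hinj h1)

variable (c : (Fin (n + 1) → ι) → A)

theorem neg_one_pow_smul_eq_zero_iff (m : ℕ) (a : A) : (-1 : ℤ) ^ m • a = 0 ↔ a = 0 := by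
  rcases neg_one_pow_eq_or ℤ m with h | h <;> rw [h] <;> simp

/-- moving the `k`-th entry to the front. -/
theorem eq_zero_iff_comp_cycleRange_symm
    (h1 : ∀ x, ¬ Function.Injective x → c x = 0)
    (h2 : ∀ y : Fin (n + 2) → ι, ∑ i : Fin (n + 2), (-1 : ℤ) ^ (i : ℕ) • c (y ∘ Fin.succAbove i) = 0)
    (x : Fin (n + 1) → ι) (k : Fin (n + 1)) :
    c (x ∘ (Fin.cycleRange k).symm) = 0 ↔ c x = 0 := by
  have h := h2 (Fin.cons (x k) x)
  rw [Fin.sum_univ_succ, cons_comp_succAbove_zero] at h
  simp only [cons_comp_succAbove_succ] at h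
  rw [Finset.sum_eq_single k] at h
  · have hk : (Fin.cons (x k) (x ∘ Fin.succAbove k) : Fin (n + 1) → ι) =
        x ∘ (Fin.cycleRange k).symm := Fin.cons_removeNth_eq_comp_cycleRange_symm x k
    rw [hk] at h
    simp only [Fin.val_zero, pow_zero, one_smul] at h
    constructor
    · intro h0
      rw [h0, smul_zero, add_zero] at h
      exact h
    · intro h0
      rw [h0, zero_add] at h
      exact (neg_one_pow_smul_eq_zero_iff _ _).1 h
  · intro i _ hik
    rw [h1 _ (not_injective_cons x k i hik), smul_zero]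
  · intro hk
    exact absurd (Finset.mem_univ k) hk

theorem swap_eq (i : Fin n) :
    Equiv.swap i.castSucc i.succ =
      (Fin.cycleRange i.castSucc)⁻¹ * Fin.cycleRange i.succ := by
  rw [eq_inv_mul_iff_mul_eq]
  ext j : 1
  simp only [Equiv.Perm.coe_mul, Function.comp_apply]
  have hab : i.castSucc < i.succ := Fin.castSucc_lt_succ
  by_cases h1 : j = i.castSucc
  · subst h1
    rw [Equiv.swap_apply_left, Fin.cycleRange_of_gt hab, Fin.cycleRange_of_lt hab,
      Fin.coeSucc_eq_succ]
  by_cases h2 : j = i.succ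
  · subst h2
    rw [Equiv.swap_apply_right, Fin.cycleRange_self, Fin.cycleRange_self]
  rw [Equiv.swap_apply_of_ne_of_ne h1 h2]
  rcases lt_or_gt_of_ne h1 with h | h
  · rw [Fin.cycleRange_of_lt h, Fin.cycleRange_of_lt (h.trans hab)]
  · have h' : i.succ < j := by
      rcases lt_or_gt_of_ne h2 with h3 | h3
      · exfalso
        rw [Fin.lt_def] at h h3
        simp at h h3
        omega
      · exact h3
    rw [Fin.cycleRange_of_gt h, Fin.cycleRange_of_gt h']

/-- the vanishing of a cocycle function is invariant under permutations of the tuple. -/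
theorem eq_zero_iff_comp_perm
    (h1 : ∀ x, ¬ Function.Injective x → c x = 0)
    (h2 : ∀ y : Fin (n + 2) → ι, ∑ i : Fin (n + 2), (-1 : ℤ) ^ (i : ℕ) • c (y ∘ Fin.succAbove i) = 0)
    (σ : Equiv.Perm (Fin (n + 1))) (x : Fin (n + 1) → ι) :
    c (x ∘ σ) = 0 ↔ c x = 0 := by
  -- the subgroup of good permutations
  let S : Subgroup (Equiv.Perm (Fin (n + 1))) :=
    { carrier := {σ | ∀ x, c (x ∘ σ) = 0 ↔ c x = 0}
      one_mem' := fun x => Iff.rfl
      mul_mem' := by
        intro σ τ hσ hτ x
        have : x ∘ ⇑(σ * τ) = (x ∘ σ) ∘ τ := rfl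
        rw [this, hτ, hσ]
      inv_mem' := by
        intro σ hσ x
        have h := hσ (x ∘ ⇑σ⁻¹)
        have h3 : (x ∘ ⇑σ⁻¹) ∘ ⇑σ = x := by
          funext a
          simp
        rw [h3] at h
        exact h.symm }
  have hτ : ∀ k : Fin (n + 1), (Fin.cycleRange k)⁻¹ ∈ S := fun k x =>
    eq_zero_iff_comp_cycleRange_symm c h1 h2 x k
  have htop : S = ⊤ := by
    rw [eq_top_iff]
    intro σ _
    have hmem : σ ∈ Submonoid.closure
        (Set.range fun i : Fin n ↦ Equiv.swap i.castSucc i.succ) := by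
      rw [Equiv.Perm.mclosure_swap_castSucc_succ]
      trivial
    have hle : Submonoid.closure (Set.range fun i : Fin n ↦ Equiv.swap i.castSucc i.succ) ≤
        S.toSubmonoid := by
      rw [Submonoid.closure_le]
      rintro _ ⟨i, rfl⟩
      change Equiv.swap i.castSucc i.succ ∈ S
      rw [swap_eq]
      exact S.mul_mem (hτ _) (S.inv_mem_iff.mp (hτ _))
    exact hle hmem
  have : σ ∈ S := htop ▸ Subgroup.mem_top σ
  exact this x

end Uniqueness

section Existence

variable {n : ℕ}

/-- the matrix of a tuple. -/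
def mat (x : Fin (n + 1) → Fin (n + 1)) : Matrix (Fin (n + 1)) (Fin (n + 1)) ℤ :=
  Matrix.of fun a j => if x a = j then (1 : ℤ) else 0

/-- the sign of a tuple: the sign of the permutation if it is bijective, zero otherwise. -/
def sgn (x : Fin (n + 1) → Fin (n + 1)) : ℤ := (mat x).det

theorem sgn_id : sgn (id : Fin (n + 1) → Fin (n + 1)) = 1 := by
  have : mat (id : Fin (n + 1) → Fin (n + 1)) = 1 := by
    ext a j
    simp [mat, Matrix.one_apply]
  rw [sgn, this, Matrix.det_one]

theorem sgn_eq_zero_of_not_surjective (x : Fin (n + 1) → Fin (n + 1))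
    (h : ¬ Function.Surjective x) : sgn x = 0 := by
  rw [Function.Surjective] at h
  push Not at h
  obtain ⟨j, hj⟩ := h
  apply Matrix.det_eq_zero_of_column_eq_zero j
  intro a
  simp [mat, hj a]

/-- the cocycle identity for the sign. -/
theorem sum_sgn (y : Fin (n + 2) → Fin (n + 1)) :
    ∑ i : Fin (n + 2), (-1 : ℤ) ^ (i : ℕ) * sgn (y ∘ Fin.succAbove i) = 0 := by
  let N : Matrix (Fin (n + 2)) (Fin (n + 2)) ℤ :=
    Matrix.of fun a b => Fin.cases (1 : ℤ) (fun j => if y a = j then (1 : ℤ) else 0) b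
  have hdet : N.det = 0 := by
    rw [← Matrix.exists_mulVec_eq_zero_iff]
    refine ⟨Fin.cons 1 (fun _ => -1), ?_, ?_⟩
    · intro h0
      have := congrFun h0 0
      simp at this
    · funext a
      simp only [Matrix.mulVec, dotProduct, Pi.zero_apply]
      rw [Fin.sum_univ_succ]
      simp only [N, Matrix.of_apply, Fin.cases_zero, Fin.cons_zero, mul_one, Fin.cases_succ,
        Fin.cons_succ, mul_neg, Finset.sum_neg_distrib]
      rw [Finset.sum_ite_eq Finset.univ (y a) (fun _ => (1 : ℤ))]
      simp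
  rw [Matrix.det_succ_column_zero] at hdet
  rw [← hdet]
  refine Finset.sum_congr rfl (fun i _ => ?_)
  have h1 : N i 0 = 1 := rfl
  rw [h1, mul_one]
  rfl

end Existence

end Groth.Agent.Lib.Helper2.SignCocycle
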