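import Groth.Agent.Lib.Helper2.ProjCoh1
import Groth.Agent.Lib.Helper2.SignCocycle
import Groth.Agent.Lib.Helper2.FullCech3

/-!
# Degree zero and top degree of a multigraded Čech complex (helper2)
-/

set_option autoImplicit false
universe u
open CategoryTheory CategoryTheory.Limits Opposite TopologicalSpace

namespace Groth.Agent.Lib.Helper2.ProjCoh7

open Groth.Agent.Lib.Helper17.CechElem Groth.Agent.Lib.Helper2.FullCech6
  Groth.Agent.Lib.Helper2.ProjCoh1 Groth.Agent.Lib.Helper2.SignCocycle

variable {X : TopCat.{u}} {ι : Type u} {V : ι → Opens X} {P : (Opens X)ᵒᵖ ⥤ AddCommGrpCat.{u}}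
variable {E : Type*} {G : Type*} [AddCommGroup G]
variable {ψ : ∀ {n : ℕ} (x : Fin (n + 1) → ι), P.obj (op (W V x)) →+ (E →₀ G)}
  {Ok : Set ι → E → Prop}

/-- **multigraded contraction**, refined: the multidegrees without a cone vertex are only required not
to occur in the given cocycle. -/
theorem contract' [Fintype ι] (hψ : Grading V P ψ Ok) (p : ℕ) (v : E → ι)
    (α : (K V P).X (p + 1)) (hα : (K V P).d (p + 1) (p + 2) α = 0)
    (hv : ∀ e, (∀ S : Set ι, Ok (insert (v e) S) e → Ok S e) ∨
      (∀ y : Fin (p + 2) → ι, ψ y (comp V P α y) e = 0)) :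
    ∃ β : (K V P).X p, (K V P).d p (p + 1) β = α := by
  classical
  let good : E → Prop := fun e => ∀ S : Set ι, Ok (insert (v e) S) e → Ok S e
  let b : (Fin (p + 1) → ι) → (E →₀ G) := fun x =>
    ∑ j : ι, (ψ (Fin.cons j x : Fin (p + 2) → ι) (comp V P α (Fin.cons j x))).filter
      (fun e => good e ∧ v e = j)
  have hb : ∀ x e, b x e = if good e then
      ψ (Fin.cons (v e) x : Fin (p + 2) → ι) (comp V P α (Fin.cons (v e) x)) e else 0 := by
    intro x e
    change (∑ j : ι, (ψ (Fin.cons j x : Fin (p + 2) → ι) (comp V P α (Fin.cons j x))).filter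
      (fun e => good e ∧ v e = j)) e = _
    rw [Finsupp.finsetSum_apply]
    simp only [Finsupp.filter_apply]
    by_cases hg : good e
    · simp only [hg, true_and, if_true]
      rw [Finset.sum_eq_single (v e)]
      · simp
      · intro j _ hj
        rw [if_neg (fun h => hj h.symm)]
      · intro h
        exact absurd (Finset.mem_univ _) h
    · simp [hg]
  have hβ : ∀ x : Fin (p + 1) → ι, ∃ s : P.obj (op (W V x)), ψ x s = b x := by
    intro x
    refine hψ.surj x (b x) (fun e he => ?_)
    rw [hb] at he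
    by_cases hg : good e
    · rw [if_pos hg] at he
      have h1 := hψ.mem _ _ e he
      rw [range_cons] at h1
      exact hg _ h1
    · rw [if_neg hg] at he
      exact absurd rfl he
  choose βf hβf using hβ
  refine ⟨Groth.Agent.Lib.Helper17.CechElem.mk V P βf, ?_⟩
  apply Groth.Agent.Lib.Helper17.CechElem.ext
  intro y
  apply hψ.inj y
  rw [hψ.psi_d]
  simp only [Groth.Agent.Lib.Helper17.CechElem.comp_mk, hβf]
  ext e
  rw [Finsupp.finsetSum_apply]
  simp only [Finsupp.smul_apply, hb]
  by_cases hg : good e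
  · simp only [if_pos hg]
    have h0 : ψ (Fin.cons (v e) y : Fin (p + 3) → ι)
        (comp V P ((K V P).d (p + 1) (p + 2) α) (Fin.cons (v e) y)) e = 0 := by
      rw [hα, Groth.Agent.Lib.Helper17.CechElem.comp_zero, map_zero]
      rfl
    rw [hψ.psi_d, Finsupp.finsetSum_apply, Fin.sum_univ_succ] at h0
    have e0 : ψ ((Fin.cons (v e) y : Fin (p + 3) → ι) ∘ Fin.succAbove 0)
        (comp V P α ((Fin.cons (v e) y : Fin (p + 3) → ι) ∘ Fin.succAbove 0)) =
        ψ y (comp V P α y) := psi_congr α (FullCech6.cons_comp_succAbove_zero (v e) y)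
    have e1 : ∀ i : Fin (p + 2),
        ψ ((Fin.cons (v e) y : Fin (p + 3) → ι) ∘ Fin.succAbove i.succ)
          (comp V P α ((Fin.cons (v e) y : Fin (p + 3) → ι) ∘ Fin.succAbove i.succ)) =
        ψ (Fin.cons (v e) (y ∘ Fin.succAbove i) : Fin (p + 2) → ι)
          (comp V P α (Fin.cons (v e) (y ∘ Fin.succAbove i))) :=
      fun i => psi_congr α (FullCech6.cons_comp_succAbove_succ (v e) y i)
    rw [e0] at h0
    simp only [e1, Finsupp.smul_apply, Fin.val_zero, pow_zero, one_smul, Fin.val_succ] at h0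
    have h2 : ψ y (comp V P α y) e = -∑ i : Fin (p + 2), (-1 : ℤ) ^ ((i : ℕ) + 1) •
        ψ (Fin.cons (v e) (y ∘ Fin.succAbove i) : Fin (p + 2) → ι)
          (comp V P α (Fin.cons (v e) (y ∘ Fin.succAbove i))) e := by
      rw [eq_neg_iff_add_eq_zero]
      exact h0
    rw [h2, ← Finset.sum_neg_distrib]
    refine Finset.sum_congr rfl (fun i _ => ?_)
    rw [pow_succ]
    simp
  · simp only [if_neg hg, smul_zero, Finset.sum_const_zero]
    rcases hv e with h | h
    · exact absurd h hg
    · exact (h y).symm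

theorem range_const_fin (i : ι) : Set.range (fun _ : Fin (0 + 1) => i) = {i} := by
  ext k
  simp [eq_comm]

theorem eq_const_fin (x : Fin (0 + 1) → ι) : x = fun _ => x 0 := by
  haveI : Subsingleton (Fin (0 + 1)) := inferInstanceAs (Subsingleton (Fin 1))
  funext a
  congr 1
  exact Subsingleton.elim _ _

/-- for a cocycle of degree zero, the multigraded component does not depend on the index. -/
theorem psi_eq_of_cocycle (hψ : Grading V P ψ Ok) (α : (K V P).X 0)
    (hα : (K V P).d 0 1 α = 0) (x x' : Fin (0 + 1) → ι) :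
    ψ x (comp V P α x) = ψ x' (comp V P α x') := by
  haveI : Subsingleton (Fin (0 + 1)) := inferInstanceAs (Subsingleton (Fin 1))
  let y : Fin 2 → ι := ![x 0, x' 0]
  have hc : ψ y (comp V P ((K V P).d 0 1 α) y) = 0 := by
    rw [hα, Groth.Agent.Lib.Helper17.CechElem.comp_zero, map_zero]
  rw [hψ.psi_d, Fin.sum_univ_two] at hc
  have y0 : y ∘ Fin.succAbove 0 = x' := by
    rw [eq_const_fin x']
    funext a
    have : a = 0 := Subsingleton.elim _ _
    subst this
    simp [y]
  have y1 : y ∘ Fin.succAbove 1 = x := by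
    rw [eq_const_fin x]
    funext a
    have : a = 0 := Subsingleton.elim _ _
    subst this
    simp [y]
  rw [psi_congr α y0, psi_congr α y1] at hc
  simp only [Fin.val_zero, pow_zero, one_smul, Fin.val_one, pow_one, neg_smul] at hc
  rw [← sub_eq_zero, ← neg_eq_zero, neg_sub, sub_eq_add_neg]
  exact hc

/-- existence of cocycles of degree zero with a given multigraded component. -/
theorem exists_cocycle_zero (hψ : Grading V P ψ Ok) (b : E →₀ G)
    (hb : ∀ e, b e ≠ 0 → ∀ i, Ok {i} e) :
    ∃ α : (K V P).X 0, (K V P).d 0 1 α = 0 ∧ ∀ x, ψ x (comp V P α x) = b := by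
  have hs : ∀ x : Fin (0 + 1) → ι, ∃ s : P.obj (op (W V x)), ψ x s = b := by
    intro x
    refine hψ.surj x b (fun e he => ?_)
    rw [eq_const_fin x, range_const_fin]
    exact hb e he _
  choose αf hαf using hs
  refine ⟨Groth.Agent.Lib.Helper17.CechElem.mk V P αf, ?_, fun x => ?_⟩
  · apply Groth.Agent.Lib.Helper17.CechElem.ext
    intro y
    apply hψ.inj y
    rw [hψ.psi_d, Groth.Agent.Lib.Helper17.CechElem.comp_zero, map_zero, Fin.sum_univ_two]
    simp only [Groth.Agent.Lib.Helper17.CechElem.comp_mk, hαf]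
    simp
  · rw [Groth.Agent.Lib.Helper17.CechElem.comp_mk, hαf]

/-- cocycles of degree zero are determined by their multigraded component. -/
theorem eq_zero_of_cocycle_zero (hψ : Grading V P ψ Ok) (x₀ : Fin (0 + 1) → ι)
    (α : (K V P).X 0) (hα : (K V P).d 0 1 α = 0)
    (h : ∀ e, (∀ i, Ok {i} e) → ψ x₀ (comp V P α x₀) e = 0) : α = 0 := by
  apply Groth.Agent.Lib.Helper17.CechElem.ext
  intro x
  rw [Groth.Agent.Lib.Helper17.CechElem.comp_zero]
  apply hψ.inj x
  rw [map_zero, psi_eq_of_cocycle hψ α hα x x₀]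
  ext e
  by_contra hne
  apply hne
  apply h e
  intro i
  have h1 : ψ (fun _ : Fin (0 + 1) => i) (comp V P α fun _ => i) e ≠ 0 := by
    rw [psi_eq_of_cocycle hψ α hα (fun _ => i) x₀]
    exact hne
  have h2 := hψ.mem _ _ e h1
  rwa [range_const_fin] at h2

section Top

variable {n : ℕ} (ε : ι ≃ Fin (n + 1))

/-- the standard tuple. -/
def x₀ : Fin (n + 1) → ι := fun a => ε.symm a

theorem surjective_of_sgn_ne_zero (x : Fin (n + 1) → ι) (h : sgn (ε ∘ x) ≠ 0) :
    Set.range x = Set.univ := by
  have h1 : Function.Surjective (ε ∘ x) := by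
    by_contra hcon
    exact h (sgn_eq_zero_of_not_surjective _ hcon)
  rw [Set.range_eq_univ]
  intro i
  obtain ⟨a, ha⟩ := h1 (ε i)
  exact ⟨a, ε.injective ha⟩

theorem sgn_x₀ : sgn (ε ∘ x₀ ε) = 1 := by
  have : ε ∘ x₀ ε = id := by
    funext a
    simp [x₀]
  rw [this, sgn_id]

/-- existence of top-degree cocycles with a given multigraded component. -/
theorem exists_cocycle_top (hψ : Grading V P ψ Ok) (b : E →₀ G)
    (hb : ∀ e, b e ≠ 0 → Ok Set.univ e) :
    ∃ α : (K V P).X n, (K V P).d n (n + 1) α = 0 ∧ ψ (x₀ ε) (comp V P α (x₀ ε)) = b := by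
  have hs : ∀ x : Fin (n + 1) → ι, ∃ s : P.obj (op (W V x)), ψ x s = sgn (ε ∘ x) • b := by
    intro x
    refine hψ.surj x _ (fun e he => ?_)
    rw [Finsupp.smul_apply] at he
    have h1 : sgn (ε ∘ x) ≠ 0 := by
      rintro h0
      rw [h0, zero_smul] at he
      exact he rfl
    have h2 : b e ≠ 0 := by
      rintro h0
      rw [h0, smul_zero] at he
      exact he rfl
    rw [surjective_of_sgn_ne_zero ε x h1]
    exact hb e h2
  choose αf hαf using hs
  refine ⟨Groth.Agent.Lib.Helper17.CechElem.mk V P αf, ?_, ?_⟩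
  · apply Groth.Agent.Lib.Helper17.CechElem.ext
    intro y
    apply hψ.inj y
    rw [hψ.psi_d, Groth.Agent.Lib.Helper17.CechElem.comp_zero, map_zero]
    simp only [Groth.Agent.Lib.Helper17.CechElem.comp_mk, hαf, smul_smul]
    rw [← Finset.sum_smul]
    have h := sum_sgn (ε ∘ y)
    have h' : ∑ i : Fin (n + 2), (-1 : ℤ) ^ (i : ℕ) * sgn (ε ∘ y ∘ Fin.succAbove i) = 0 := h
    rw [h', zero_smul]
  · rw [Groth.Agent.Lib.Helper17.CechElem.comp_mk, hαf, sgn_x₀, one_smul]

end Top

section Top'

variable {p : ℕ} (ε : ι ≃ Fin (p + 2))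

include ε in
theorem not_surjective_face (x : Fin (p + 2) → ι) (i : Fin (p + 2)) :
    Set.range (x ∘ Fin.succAbove i) ≠ Set.univ := by
  intro h
  rw [Set.range_eq_univ] at h
  have h1 : Function.Surjective (ε ∘ x ∘ Fin.succAbove i) := ε.surjective.comp h
  have := Fintype.card_le_of_surjective _ h1
  simp at this

include ε in
/-- the top multigraded components of a coboundary vanish. -/
theorem psi_d_top_eq_zero (hψ : Grading V P ψ Ok) (e : E)
    (he : ∀ S, Ok S e → S = Set.univ) (β : (K V P).X p) (x : Fin (p + 2) → ι) :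
    ψ x (comp V P ((K V P).d p (p + 1) β) x) e = 0 := by
  rw [hψ.psi_d, Finsupp.finsetSum_apply]
  refine Finset.sum_eq_zero (fun i _ => ?_)
  rw [Finsupp.smul_apply]
  have : ψ (x ∘ Fin.succAbove i) (comp V P β (x ∘ Fin.succAbove i)) e = 0 := by
    by_contra hne
    exact not_surjective_face ε x i (he _ (hψ.mem _ _ e hne))
  rw [this, smul_zero]

/-- a top-degree cocycle whose top multigraded components at the standard tuple vanish is a
coboundary. -/
theorem exists_boundary_top [Fintype ι] (hψ : Grading V P ψ Ok) (bad : E → Prop)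
    (h1 : ∀ e, ¬ bad e → ∃ v : ι, ∀ S : Set ι, Ok (insert v S) e → Ok S e)
    (h2 : ∀ e, bad e → ∀ S, Ok S e → S = Set.univ)
    (α : (K V P).X (p + 1)) (hα : (K V P).d (p + 1) (p + 2) α = 0)
    (h0 : ∀ e, bad e → ψ (x₀ ε) (comp V P α (x₀ ε)) e = 0) :
    ∃ β : (K V P).X p, (K V P).d p (p + 1) β = α := by
  classical
  let v : E → ι := fun e => if h : bad e then ε.symm 0 else (h1 e h).choose
  refine contract' hψ p v α hα (fun e => ?_)
  by_cases hbad : bad e
  · right
    -- the cocycle function in multidegree `e`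
    let c : (Fin (p + 2) → ι) → G := fun y => ψ y (comp V P α y) e
    have hc1 : ∀ y, ¬ Function.Injective y → c y = 0 := by
      intro y hy
      by_contra hne
      have h3 := h2 e hbad _ (hψ.mem _ _ e hne)
      rw [Set.range_eq_univ] at h3
      have h4 : Function.Surjective (ε ∘ y) := ε.surjective.comp h3
      have h5 : Function.Injective (ε ∘ y) := Finite.injective_iff_surjective.2 h4
      exact hy (fun a a' haa => h5 (congrArg ε haa))
    have hc2 : ∀ y : Fin (p + 3) → ι,
        ∑ i : Fin (p + 3), (-1 : ℤ) ^ (i : ℕ) • c (y ∘ Fin.succAbove i) = 0 := by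
      intro y
      have h3 : ψ y (comp V P ((K V P).d (p + 1) (p + 2) α) y) e = 0 := by
        rw [hα, Groth.Agent.Lib.Helper17.CechElem.comp_zero, map_zero]
        rfl
      rw [hψ.psi_d, Finsupp.finsetSum_apply] at h3
      simpa only [Finsupp.smul_apply] using h3
    intro y
    by_cases hy : Function.Injective y
    · have h4 : Function.Bijective (ε ∘ y) :=
        ⟨ε.injective.comp hy, Finite.injective_iff_surjective.1 (ε.injective.comp hy)⟩
      let σ : Equiv.Perm (Fin (p + 2)) := Equiv.ofBijective _ h4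
      have hyσ : y = x₀ ε ∘ σ := by
        funext a
        simp [x₀, σ]
      have h5 := eq_zero_iff_comp_perm c hc1 hc2 σ (x₀ ε)
      rw [← hyσ] at h5
      exact h5.2 (h0 e hbad)
    · exact hc1 y hy
  · left
    have hv : v e = (h1 e hbad).choose := dif_neg hbad
    rw [hv]
    exact (h1 e hbad).choose_spec

end Top'

end Groth.Agent.Lib.Helper2.ProjCoh7
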