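import Mathlib
import Groth.Agent.Lib.Helper7.PruferCoherent

/-!
# Finite torsion-free modules over finitely presented algebras over a Prüfer domain are finitely
presented; coherence (helper2, on top of helper7's Nagata / Raynaud–Gruson libraries)
-/

set_option backward.isDefEq.respectTransparency.types false
set_option autoImplicit false

namespace Groth.Agent.Lib.Helper2.PrufSV1

open Function

universe u

section N

variable (R : Type u) [CommRing R] [IsDomain R]
  (hR : ∀ (p : Ideal R) [p.IsPrime], ValuationRing (Localization.AtPrime p))

include hR in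
set_option maxHeartbeats 1600000 in
set_option synthInstance.maxHeartbeats 200000 in
/-- a finite module over a finitely presented algebra over a Prüfer domain which is torsion-free
over the base is finitely presented. -/
theorem finitePresentation_of_torsionFree (S : Type u) [CommRing S] [Algebra R S]
    [Algebra.FinitePresentation R S] (M : Type u) [AddCommGroup M] [Module S M] [Module R M]
    [IsScalarTower R S M] [Module.Finite S M]
    (htf : ∀ (a : R) (x : M), a ≠ 0 → a • x = 0 → x = 0) : Module.FinitePresentation S M := by
  classical
  haveI hflat : Module.Flat R M := by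
    rw [Module.Flat.flat_iff_torsion_eq_bot_of_valuationRing_localization_isMaximal
      (fun P _ => hR P), eq_bot_iff]
    rintro x ⟨⟨a, ha⟩, hax⟩
    exact (Submodule.mem_bot _).2 (htf a x (nonZeroDivisors.ne_zero ha) hax)
  let s : Finset (PrimeSpectrum R) := {⟨⊥, Ideal.isPrime_bot⟩}
  have hs : Injective fun a : R => fun p : s =>
      algebraMap R (Localization.AtPrime p.1.asIdeal) a := by
    intro a b hab
    have h1 := congrFun hab ⟨⟨⊥, Ideal.isPrime_bot⟩, Finset.mem_singleton_self _⟩
    exact IsLocalization.injective (M := (⊥ : Ideal R).primeCompl)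
      (Localization.AtPrime (⊥ : Ideal R))
      (by
        intro x hx
        have hx' : x ∉ (⊥ : Ideal R) := hx
        exact mem_nonZeroDivisors_of_ne_zero (fun h => hx' (by rw [h]; exact zero_mem _))) h1
  refine Groth.Agent.Lib.Helper7.FlatLocalGlobal.finitePresentation_of_locally s hs ?_
  intro p _
  haveI := hR p
  haveI hess : Algebra.EssFiniteType (Localization.AtPrime p)
      (Localization (Algebra.algebraMapSubmonoid S p.primeCompl)) := by
    haveI : Algebra.EssFiniteType S
        (Localization (Algebra.algebraMapSubmonoid S p.primeCompl)) :=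
      Algebra.EssFiniteType.of_isLocalization _
        (Algebra.algebraMapSubmonoid S p.primeCompl)
    haveI : Algebra.EssFiniteType R
        (Localization (Algebra.algebraMapSubmonoid S p.primeCompl)) :=
      Algebra.EssFiniteType.comp R S _
    exact Algebra.EssFiniteType.of_comp R (Localization.AtPrime p) _
  refine Groth.Agent.Lib.Helper7.ValRefl.finitePresentation_of_torsionFree'
    (A := Localization.AtPrime p) _ ?_
  intro a m ha ham
  obtain ⟨⟨r, t⟩, rfl⟩ := IsLocalization.mk'_surjective p.primeCompl a
  have hr : r ≠ 0 := by
    rintro rfl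
    exact ha (IsLocalization.mk'_zero _)
  have h1 : algebraMap R (Localization (Algebra.algebraMapSubmonoid S p.primeCompl)) r • m = 0 := by
    have h2 : algebraMap R (Localization (Algebra.algebraMapSubmonoid S p.primeCompl)) r =
        algebraMap R _ (t : R) *
        algebraMap (Localization.AtPrime p) _ (IsLocalization.mk' (Localization.AtPrime p) r t) := by
      exact Groth.Agent.Lib.Helper7.PruferCoherent.algebraMap_eq_mul_mk' p.primeCompl r t
    rw [h2, mul_smul, ham, smul_zero]
  induction m using LocalizedModule.induction_on with
  | h i c =>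
    rw [algebraMap_smul, LocalizedModule.smul'_mk, ← LocalizedModule.zero_mk (1 : _),
      LocalizedModule.mk_eq] at h1
    obtain ⟨u, hu⟩ := h1
    rw [smul_zero, smul_zero, one_smul] at hu
    obtain ⟨b, hb, hbu⟩ := u.2
    have hb0 : b ≠ 0 := by
      rintro rfl
      exact hb (zero_mem _)
    have h3 : (b * r) • i = 0 := by
      have h4 : (u : S) • (r • i) = 0 := by
        simpa [Submonoid.smul_def] using hu
      rw [← hbu, algebraMap_smul, smul_smul] at h4
      exact h4
    rw [htf (b * r) i (mul_ne_zero hb0 hr) h3, LocalizedModule.zero_mk]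

end N

section Coh

variable {A : Type u} [CommRing A]

/-- a module all of whose finitely generated submodules are finitely presented. -/
def CohMod (A : Type u) [CommRing A] (N : Type u) [AddCommGroup N] [Module A N] : Prop :=
  ∀ K : Submodule A N, K.FG → Module.FinitePresentation A K

variable {N N₁ N₂ N' : Type u} [AddCommGroup N] [Module A N] [AddCommGroup N₁] [Module A N₁]
  [AddCommGroup N₂] [Module A N₂] [AddCommGroup N'] [Module A N']

theorem cohMod_of_equiv (e : N ≃ₗ[A] N') (h : CohMod A N) : CohMod A N' := by
  intro K hK
  haveI := h (K.map e.symm.toLinearMap) (hK.map _)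
  exact Module.FinitePresentation.of_equiv (e.symm.submoduleMap K).symm

theorem cohMod_of_subsingleton [Subsingleton N] : CohMod A N := by
  intro K _
  infer_instance

theorem fp_of_ker_equiv {M M' Q : Type u} [AddCommGroup M] [Module A M] [AddCommGroup M']
    [Module A M'] [AddCommGroup Q] [Module A Q] (l : M →ₗ[A] Q) (hl : Surjective l)
    [Module.FinitePresentation A Q] (f : M' →ₗ[A] LinearMap.ker l) (hf : Bijective f)
    [Module.FinitePresentation A M'] : Module.FinitePresentation A M := by
  haveI : Module.FinitePresentation A (LinearMap.ker l) :=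
    Module.FinitePresentation.of_equiv (LinearEquiv.ofBijective f hf)
  exact Module.finitePresentation_of_ker l hl

theorem fg_of_ker_equiv {M M' Q : Type u} [AddCommGroup M] [Module A M] [AddCommGroup M']
    [Module A M'] [AddCommGroup Q] [Module A Q] (l : M →ₗ[A] Q) (hl : Surjective l)
    [Module.FinitePresentation A Q] [Module.Finite A M] (f : M' →ₗ[A] LinearMap.ker l)
    (hf : Bijective f) : Module.Finite A M' := by
  have hker : (LinearMap.ker l).FG := Module.FinitePresentation.fg_ker l hl
  haveI : Module.Finite A (LinearMap.ker l) := Module.Finite.iff_fg.2 hker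
  exact Module.Finite.equiv (LinearEquiv.ofBijective f hf).symm

/-- the projection of a submodule of a product to the second factor. -/
def sndK (K : Submodule A (N₁ × N₂)) : K →ₗ[A] K.map (LinearMap.snd A N₁ N₂) :=
  ((LinearMap.snd A N₁ N₂).domRestrict K).codRestrict _ (fun x => ⟨x.1, x.2, rfl⟩)

theorem sndK_surjective (K : Submodule A (N₁ × N₂)) : Surjective (sndK K) := by
  rintro ⟨y, x, hx, rfl⟩
  exact ⟨⟨x, hx⟩, rfl⟩

/-- the kernel of the projection. -/
def inlK (K : Submodule A (N₁ × N₂)) :
    K.comap (LinearMap.inl A N₁ N₂) →ₗ[A] LinearMap.ker (sndK K) where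
  toFun v := ⟨⟨(v.1, 0), v.2⟩, by
    rw [LinearMap.mem_ker]
    exact Subtype.ext rfl⟩
  map_add' v w := by
    apply Subtype.ext
    apply Subtype.ext
    simp
  map_smul' a v := by
    apply Subtype.ext
    apply Subtype.ext
    simp

theorem inlK_bijective (K : Submodule A (N₁ × N₂)) : Bijective (inlK K) := by
  constructor
  · intro v w hvw
    have h1 := congrArg (fun z : LinearMap.ker (sndK K) => (z.1.1 : N₁ × N₂).1) hvw
    exact Subtype.ext h1
  · rintro ⟨⟨⟨x₁, x₂⟩, hx⟩, hxl⟩
    have h2 : x₂ = 0 := by
      have := congrArg Subtype.val (LinearMap.mem_ker.1 hxl)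
      exact this
    subst h2
    exact ⟨⟨x₁, hx⟩, rfl⟩

theorem cohMod_prod (h₁ : CohMod A N₁) (h₂ : CohMod A N₂) : CohMod A (N₁ × N₂) := by
  intro K hK
  haveI := h₂ (K.map (LinearMap.snd A N₁ N₂)) (hK.map _)
  haveI : Module.Finite A K := Module.Finite.iff_fg.2 hK
  haveI hK₁' : Module.Finite A (K.comap (LinearMap.inl A N₁ N₂)) :=
    fg_of_ker_equiv (sndK K) (sndK_surjective K) (inlK K) (inlK_bijective K)
  haveI := h₁ _ (Module.Finite.iff_fg.1 hK₁')
  exact fp_of_ker_equiv (sndK K) (sndK_surjective K) (inlK K) (inlK_bijective K)

variable (hA : ∀ I : Ideal A, I.FG → Module.FinitePresentation A I)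

include hA in
theorem cohMod_self : CohMod A A := fun K hK => hA K hK

include hA in
theorem cohMod_pi : ∀ b : ℕ, CohMod A (Fin b → A)
  | 0 => cohMod_of_subsingleton
  | b + 1 =>
    cohMod_of_equiv (Fin.consLinearEquiv A (fun _ : Fin (b + 1) => A))
      (cohMod_prod (cohMod_self hA) (cohMod_pi b))

include hA in
/-- over a coherent ring, finitely generated submodules of finitely presented modules are finitely
presented. -/
theorem cohMod_of_finitePresentation (N : Type u) [AddCommGroup N] [Module A N]
    [Module.FinitePresentation A N] : CohMod A N := by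
  intro K hK
  obtain ⟨b, q, hq⟩ := Module.Finite.exists_fin' A N
  have hL : (LinearMap.ker q).FG := Module.FinitePresentation.fg_ker q hq
  let K' : Submodule A (Fin b → A) := K.comap q
  have hK' : K'.FG := by
    apply Submodule.fg_of_fg_map_of_fg_inf_ker q
    · rw [Submodule.map_comap_eq_of_surjective hq]
      exact hK
    · have : K' ⊓ LinearMap.ker q = LinearMap.ker q :=
        inf_eq_right.2 (Submodule.comap_mono (f := q) bot_le)
      rw [this]
      exact hL
  haveI := cohMod_pi hA b K' hK'
  let l : K' →ₗ[A] K := q.restrict (fun x hx => hx)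
  have hl : Surjective l := by
    rintro ⟨y, hy⟩
    obtain ⟨x, rfl⟩ := hq y
    exact ⟨⟨x, hy⟩, rfl⟩
  refine Module.finitePresentation_of_surjective l hl ?_
  have hker : LinearMap.ker l = (LinearMap.ker q).comap K'.subtype := by
    ext x
    simp only [LinearMap.mem_ker, Submodule.mem_comap, Submodule.subtype_apply]
    constructor
    · intro h
      exact congrArg Subtype.val h
    · intro h
      exact Subtype.ext h
  rw [hker]
  have hle : LinearMap.ker q ≤ K' := Submodule.comap_mono (f := q) bot_le
  have : ((LinearMap.ker q).comap K'.subtype).map K'.subtype = LinearMap.ker q := by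
    rw [Submodule.map_comap_eq, Submodule.range_subtype]
    exact inf_eq_right.2 hle
  have hfg : (((LinearMap.ker q).comap K'.subtype).map K'.subtype).FG := by
    rw [this]
    exact hL
  exact Submodule.fg_of_fg_map_injective K'.subtype K'.injective_subtype hfg

include hA in
/-- over a coherent ring, the kernel of a surjection between finitely presented modules is
finitely presented. -/
theorem finitePresentation_ker {N P : Type u} [AddCommGroup N] [Module A N] [AddCommGroup P]
    [Module A P] [Module.FinitePresentation A N] [Module.FinitePresentation A P]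
    (l : N →ₗ[A] P) (hl : Surjective l) : Module.FinitePresentation A (LinearMap.ker l) :=
  cohMod_of_finitePresentation hA N _ (Module.FinitePresentation.fg_ker l hl)

end Coh

end Groth.Agent.Lib.Helper2.PrufSV1
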