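import Mathlib
import Groth.Agent.Lib.Helper2.PrufSV1

/-!
# Finite type torsion-free algebras over a Prüfer domain are finitely presented and coherent (helper2)
-/

set_option backward.isDefEq.respectTransparency.types false
set_option autoImplicit false

namespace Groth.Agent.Lib.Helper2.PrufSV2

open Function

universe u

variable (R : Type u) [CommRing R] [IsDomain R]
  (hR : ∀ (p : Ideal R) [p.IsPrime], ValuationRing (Localization.AtPrime p))

/-- flat modules over a domain are torsion-free (elementwise form). -/
theorem torsionFree_of_flat (M : Type u) [AddCommGroup M] [Module R M] [Module.Flat R M]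
    (a : R) (x : M) (ha : a ≠ 0) (h : a • x = 0) : x = 0 := by
  have h1 : IsSMulRegular M a :=
    Module.Flat.isSMulRegular_of_nonZeroDivisors (mem_nonZeroDivisors_of_ne_zero ha)
  exact h1 (show a • x = a • (0 : M) by rw [h, smul_zero])

include hR in
set_option maxHeartbeats 800000 in
/-- a finite type algebra over a Prüfer domain which is torsion-free is finitely presented. -/
theorem finitePresentation_of_finiteType (B : Type u) [CommRing B] [Algebra R B]
    [Algebra.FiniteType R B] (htf : ∀ (a : R) (x : B), a ≠ 0 → a • x = 0 → x = 0) :
    Algebra.FinitePresentation R B := by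
  obtain ⟨k, f, hf⟩ := Algebra.FiniteType.iff_quotient_mvPolynomial''.1
    (inferInstance : Algebra.FiniteType R B)
  letI aSB : Algebra (MvPolynomial (Fin k) R) B := f.toRingHom.toAlgebra
  haveI : IsScalarTower R (MvPolynomial (Fin k) R) B :=
    IsScalarTower.of_algebraMap_eq fun r => (f.commutes r).symm
  haveI : Module.Finite (MvPolynomial (Fin k) R) B :=
    Module.Finite.of_surjective (Algebra.linearMap (MvPolynomial (Fin k) R) B) hf
  haveI hfp : Module.FinitePresentation (MvPolynomial (Fin k) R) B :=
    Groth.Agent.Lib.Helper2.PrufSV1.finitePresentation_of_torsionFree R hR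
      (MvPolynomial (Fin k) R) B htf
  have hker : (LinearMap.ker (Algebra.linearMap (MvPolynomial (Fin k) R) B)).FG :=
    Module.FinitePresentation.fg_ker _ hf
  refine Algebra.FinitePresentation.of_surjective (f := f) hf ?_
  have : RingHom.ker f.toRingHom = LinearMap.ker (Algebra.linearMap (MvPolynomial (Fin k) R) B) := by
    ext x
    rfl
  rw [this]
  exact hker

include hR in
/-- a finite type torsion-free algebra over a Prüfer domain is a coherent ring. -/
theorem coherent_of_finiteType (B : Type u) [CommRing B] [Algebra R B]
    [Algebra.FiniteType R B] (htf : ∀ (a : R) (x : B), a ≠ 0 → a • x = 0 → x = 0)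
    (I : Ideal B) (hI : I.FG) : Module.FinitePresentation B I := by
  haveI := finitePresentation_of_finiteType R hR B htf
  exact Groth.Agent.Lib.Helper7.PruferCoherent.finitePresentation_ideal R hR B I hI

include hR in
/-- torsion-free modules over a Prüfer domain are flat. -/
theorem flat_of_torsionFree (M : Type u) [AddCommGroup M] [Module R M]
    (htf : ∀ (a : R) (x : M), a ≠ 0 → a • x = 0 → x = 0) : Module.Flat R M := by
  rw [Module.Flat.flat_iff_torsion_eq_bot_of_valuationRing_localization_isMaximal
    (fun P _ => hR P), eq_bot_iff]
  rintro x ⟨⟨a, ha⟩, hax⟩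
  exact (Submodule.mem_bot _).2 (htf a x (nonZeroDivisors.ne_zero ha) hax)

end Groth.Agent.Lib.Helper2.PrufSV2
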