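import Mathlib
import Groth.Agent.Lib.Helper2.PrufSV2
import Groth.Agent.Lib.Helper7.FPKerScheme

/-!
# Schemes flat and locally of finite type over a Prüfer domain are locally coherent; kernels of
epimorphisms of finitely presented modules are finitely presented (helper2)
-/

set_option backward.isDefEq.respectTransparency.types false
set_option autoImplicit false

namespace Groth.Agent.Lib.Helper2.PrufSV3

open Function AlgebraicGeometry CategoryTheory Limits TopologicalSpace

universe u

section Sec

variable {R : Type u} [CommRing R] {Y : Scheme.{u}} (g : Y ⟶ Spec (CommRingCat.of R))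

/-- the structure ring homomorphism `R → Γ(Y, U)` of a scheme over `Spec R`. -/
noncomputable def secHom (U : Y.Opens) : R →+* Γ(Y, U) :=
  (g.appLE ⊤ U le_top).hom.comp (Scheme.ΓSpecIso (CommRingCat.of R)).inv.hom

theorem bijective_ΓSpecIso_inv :
    Bijective (Scheme.ΓSpecIso (CommRingCat.of R)).inv.hom :=
  (ConcreteCategory.bijective_of_isIso (Scheme.ΓSpecIso (CommRingCat.of R)).inv)

theorem secHom_flat [Flat g] {U : Y.Opens} (hU : IsAffineOpen U) : (secHom g U).Flat := by
  have h1 : (g.appLE ⊤ U le_top).hom.Flat :=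
    HasRingHomProperty.appLE (P := @Flat) g inferInstance ⟨⊤, isAffineOpen_top _⟩ ⟨U, hU⟩ le_top
  exact RingHom.Flat.comp (RingHom.Flat.of_bijective bijective_ΓSpecIso_inv) h1

theorem secHom_finiteType [LocallyOfFiniteType g] {U : Y.Opens} (hU : IsAffineOpen U) :
    (secHom g U).FiniteType := by
  have h1 : (g.appLE ⊤ U le_top).hom.FiniteType :=
    HasRingHomProperty.appLE (P := @LocallyOfFiniteType) g inferInstance
      ⟨⊤, isAffineOpen_top _⟩ ⟨U, hU⟩ le_top
  exact RingHom.FiniteType.comp h1 (RingHom.FiniteType.of_surjective _ bijective_ΓSpecIso_inv.2)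

theorem secHom_comp {X : Scheme.{u}} (f : X ⟶ Y) (U : Y.Opens) (V : X.Opens) (e : V ≤ f ⁻¹ᵁ U) :
    (f.appLE U V e).hom.comp (secHom g U) = secHom (f ≫ g) V := by
  unfold secHom
  rw [← RingHom.comp_assoc, ← CommRingCat.hom_comp, Scheme.Hom.appLE_comp_appLE]

end Sec

section Coh

variable (R : Type u) [CommRing R] [IsDomain R]
  (hR : ∀ (p : Ideal R) [p.IsPrime], ValuationRing (Localization.AtPrime p))
  {Y : Scheme.{u}} (g : Y ⟶ Spec (CommRingCat.of R))

theorem secHom_torsionFree [Flat g] {U : Y.Opens} (hU : IsAffineOpen U) (a : R) (x : Γ(Y, U))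
    (ha : a ≠ 0) (h : secHom g U a * x = 0) : x = 0 := by
  letI : Algebra R Γ(Y, U) := (secHom g U).toAlgebra
  haveI : Module.Flat R Γ(Y, U) := secHom_flat g hU
  exact Groth.Agent.Lib.Helper2.PrufSV2.torsionFree_of_flat R Γ(Y, U) a x ha h

include hR in
/-- the rings of sections over affine opens of a scheme flat and locally of finite type over a
Prüfer domain are finitely presented algebras. -/
theorem finitePresentation_sections [Flat g] [LocallyOfFiniteType g] {U : Y.Opens}
    (hU : IsAffineOpen U) :
    letI : Algebra R Γ(Y, U) := (secHom g U).toAlgebra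
    Algebra.FinitePresentation R Γ(Y, U) := by
  letI : Algebra R Γ(Y, U) := (secHom g U).toAlgebra
  haveI : Algebra.FiniteType R Γ(Y, U) := secHom_finiteType g hU
  exact Groth.Agent.Lib.Helper2.PrufSV2.finitePresentation_of_finiteType R hR Γ(Y, U)
    (fun a x ha h => secHom_torsionFree R g hU a x ha h)

include hR in
/-- the rings of sections over affine opens of a scheme flat and locally of finite type over a
Prüfer domain are coherent. -/
theorem coherent_sections [Flat g] [LocallyOfFiniteType g] {U : Y.Opens} (hU : IsAffineOpen U)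
    (I : Ideal Γ(Y, U)) (hI : I.FG) : Module.FinitePresentation Γ(Y, U) I := by
  letI : Algebra R Γ(Y, U) := (secHom g U).toAlgebra
  haveI : Algebra.FiniteType R Γ(Y, U) := secHom_finiteType g hU
  exact Groth.Agent.Lib.Helper2.PrufSV2.coherent_of_finiteType R hR Γ(Y, U)
    (fun a x ha h => secHom_torsionFree R g hU a x ha h) I hI

end Coh

section K

open Groth.Agent.Lib.Helper29.FPDict Groth.Agent.Lib.Helper17.CohKer Groth.Agent.Lib.Helper7.FPKer

/-- a scheme all of whose rings of sections over affine opens are coherent. -/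
def LocCoh (Y : Scheme.{u}) : Prop :=
  ∀ U : Y.Opens, IsAffineOpen U → ∀ I : Ideal Γ(Y, U), I.FG → Module.FinitePresentation Γ(Y, U) I

/-- on a locally coherent scheme the kernel of an epimorphism of finitely presented modules is
finitely presented. -/
theorem isFP_kernel {Y : Scheme.{u}} (hY : LocCoh Y) (G H : Y.Modules)
    [SheafOfModules.IsFinitePresentation.{u} (R := Y.ringCatSheaf) G]
    [SheafOfModules.IsFinitePresentation.{u} (R := Y.ringCatSheaf) H]
    (p : G ⟶ H) [Epi p] :
    SheafOfModules.IsFinitePresentation.{u} (R := Y.ringCatSheaf) (kernel p) := by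
  haveI : G.IsQuasicoherent := isQuasicoherent_of_isFinitePresentation G
  haveI : H.IsQuasicoherent := isQuasicoherent_of_isFinitePresentation H
  haveI hK : (kernel p).IsQuasicoherent := isQuasicoherent_kernel p
  rw [isFinitePresentation_iff]
  refine ⟨hK, fun U hU => ?_⟩
  haveI : Module.FinitePresentation Γ(Y, U) Γ(G, U) := fp_of_isAffineOpen G hU
  haveI : Module.FinitePresentation Γ(Y, U) Γ(H, U) := fp_of_isAffineOpen H hU
  haveI := Groth.Agent.Lib.Helper2.PrufSV1.finitePresentation_ker (hY U hU) (appLinear p U)
    (app_surjective_of_epi p hU)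
  exact Module.FinitePresentation.of_equiv (kernelSectionsEquiv p U).symm

end K

end Groth.Agent.Lib.Helper2.PrufSV3
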