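import Mathlib
import Groth.Agent.Lib.Helper2.PrufSV3
import Groth.Agent.Lib.Helper2.SerreFin2
import Groth.Agent.Lib.Helper28.ProjSpaceBasic

/-!
# `P^n_R → Spec R` is flat and locally of finite type for a Prüfer domain `R` (helper2)
-/

set_option backward.isDefEq.respectTransparency.types false
set_option autoImplicit false

namespace Groth.Agent.Lib.Helper2.PrufSV4

open Function AlgebraicGeometry CategoryTheory Limits TopologicalSpace HomogeneousLocalization
open Groth.Agent.Lib.Helper2.ProjCoh3 Groth.Agent.Lib.Helper2.ProjCoh5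

universe u

variable (n : ℕ) (R : Type u) [CommRing R]

/-- the structure ring hom `R → (R[T]_{T_i})_0`. -/
noncomputable def φ (i : Fin (n + 1)) : R →+* Away (gr n R) (MvPolynomial.X i : PA n R) :=
  (fromZeroRingHom (gr n R) _).comp (algebraMap R (gr n R 0))

theorem val_φ (i : Fin (n + 1)) (a : R) :
    (φ n R i a).val = algebraMap (PA n R) (Localization.Away (MvPolynomial.X i : PA n R))
      (MvPolynomial.C a) := by
  change (fromZeroRingHom (gr n R) _ (algebraMap R (gr n R 0) a)).val = _
  exact Localization.mk_one_eq_algebraMap (M := Submonoid.powers (MvPolynomial.X i : PA n R))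
    (MvPolynomial.C a : PA n R)

/-- the affine open cover by the standard charts. -/
noncomputable def cover : (Proj (gr n R)).AffineOpenCover :=
  Proj.affineOpenCoverOfIrrelevantLESpan (gr n R)
    (fun i : Fin (n + 1) => (MvPolynomial.X i : PA n R)) (m := fun _ => 1) (X_mem n R)
    (fun _ => Nat.one_pos)
    (Groth.Agent.Lib.Helper28.Segre5.irrelevant_le_span (gr n R)
      (fun i : Fin (n + 1) => (MvPolynomial.X i : PA n R)) (X_mem n R) (MvPolynomial.adjoin_range_X))

theorem cover_f_toSpec (i : Fin (n + 1)) :
    Proj.awayι (gr n R) (MvPolynomial.X i : PA n R) (X_mem n R i) Nat.one_pos ≫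
      CohB1.ProjSpace.toSpec n R = Spec.map (CommRingCat.ofHom (φ n R i)) := by
  change _ ≫ (Proj.toSpecZero (gr n R) ≫ Spec.map _) = _
  rw [← Category.assoc, Proj.awayι_toSpecZero, ← Spec.map_comp]
  rfl

section Dom

variable [IsDomain R]

theorem torsionFree_φ (i : Fin (n + 1)) (a : R) (x : Away (gr n R) (MvPolynomial.X i : PA n R))
    (ha : a ≠ 0) (h : φ n R i a * x = 0) : x = 0 := by
  have hle : Submonoid.powers (MvPolynomial.X i : PA n R) ≤ nonZeroDivisors (PA n R) :=
    Submonoid.powers_le.2 (mem_nonZeroDivisors_of_ne_zero (MvPolynomial.X_ne_zero i))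
  haveI : IsDomain (Localization.Away (MvPolynomial.X i : PA n R)) :=
    IsLocalization.isDomain_localization hle
  have h1 : (φ n R i a).val * x.val = 0 := by
    rw [← HomogeneousLocalization.val_mul, h, HomogeneousLocalization.val_zero]
  have h2 : (φ n R i a).val ≠ 0 := by
    rw [val_φ]
    intro h0
    have h3 : (MvPolynomial.C a : PA n R) = 0 :=
      IsLocalization.injective (Localization.Away (MvPolynomial.X i : PA n R)) hle
        (h0.trans (map_zero _).symm)
    exact ha (MvPolynomial.C_injective _ _ (h3.trans MvPolynomial.C_0.symm))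
  have h4 : x.val = 0 := (mul_eq_zero.1 h1).resolve_left h2
  exact HomogeneousLocalization.val_injective _ (h4.trans HomogeneousLocalization.val_zero.symm)

variable (hR : ∀ (p : Ideal R) [p.IsPrime], ValuationRing (Localization.AtPrime p))

include hR in
theorem flat_φ (i : Fin (n + 1)) : (φ n R i).Flat := by
  letI : Algebra R (Away (gr n R) (MvPolynomial.X i : PA n R)) := (φ n R i).toAlgebra
  exact Groth.Agent.Lib.Helper2.PrufSV2.flat_of_torsionFree R hR _
    (fun a x ha h => torsionFree_φ n R i a x ha h)

include hR in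
/-- projective space over a Prüfer domain is flat over the base. -/
theorem flat_toSpec : Flat (CohB1.ProjSpace.toSpec n R) := by
  refine (IsZariskiLocalAtSource.iff_of_openCover (P := @Flat) (cover n R).openCover).2 ?_
  intro i
  change Flat (Proj.awayι (gr n R) (MvPolynomial.X i : PA n R) (X_mem n R i) Nat.one_pos ≫
      CohB1.ProjSpace.toSpec n R)
  rw [cover_f_toSpec, Flat.SpecMap_iff]
  exact flat_φ n R hR i

end Dom

instance locallyOfFiniteType_toSpec : LocallyOfFiniteType (CohB1.ProjSpace.toSpec n R) := by
  haveI := Groth.Agent.Lib.Helper28.ProjSpaceBasic.isProper_toSpec n R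
  infer_instance

end Groth.Agent.Lib.Helper2.PrufSV4
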