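import Groth.Agent.Lib.Helper8.PointDeg
import Groth.Agent.Lib.Helper8.GGKill
import Groth.Agent.Lib.Helper17.GrVan

/-!
# `H¹` of the ideal sheaf of a closed point vanishes when `H¹(O_X) = 0` (helper2)

Over an algebraically closed field, for `X` proper with `H¹(X, O_X) = 0` and `x` a closed point,
`H⁰(O_X) → H⁰(O_X/I_x)` is onto (the target is one-dimensional and the map is nonzero), hence
`H¹(X, I_x) = 0`.
-/

set_option backward.isDefEq.respectTransparency.types false
set_option autoImplicit false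
universe u
open CategoryTheory CategoryTheory.Limits AlgebraicGeometry Opposite TopologicalSpace Abelian

noncomputable section

namespace Groth.Agent.Lib.Helper2.PtH1

open Groth.Agent.Lib.Helper2.HLes Groth.Agent.Lib.Helper2.HLesLin Groth.Agent.Lib.Helper8.KillA
  Groth.Agent.Lib.Helper8.PointDeg Groth.Agent.Lib.Helper17.Serre

variable (k : Type u) [Field k] [IsAlgClosed k] {X : Scheme.{u}} [X.Over (Spec (CommRingCat.of k))]
  [IsProper (X ↘ Spec (CommRingCat.of k))]

include k in
theorem subsingleton_H1_ptI (hO : Subsingleton (Coh.HH X (Coh.structureModule X) 1))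
    (x : X) (hx : IsClosed ({x} : Set X)) :
    Subsingleton (Coh.HH X (ClSub.idealMod (ptI x hx)) 1) := by
  have hS := idealSES_shortExact (ptI x hx)
  have h1 := finrank_quotMod_of_isAlgClosed x hx k
  have hv : HHmap (idealSES (ptI x hx)).g 0 (unitH X) ≠ 0 := by
    intro h0
    have hg : (idealSES (ptI x hx)).g = 0 :=
      Groth.Agent.Lib.Helper8.GGKill.hom_eq_of_HHmap_unitH_eq _ 0 (h0.trans (HHmap_zero_unitH _).symm)
    have hz : IsZero (idealSES (ptI x hx)).X₃ := by
      haveI := hS.epi_g
      exact IsZero.of_epi_eq_zero _ hg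
    haveI : Subsingleton (Coh.HH X (ClSub.quotMod (ptI x hx)) 0) :=
      Groth.Agent.Lib.Helper17.Graded.subsingleton_HH_of_isZero _ hz 0
    rw [Module.finrank_zero_of_subsingleton] at h1
    omega
  refine ⟨fun a b => ?_⟩
  have key : ∀ y : Coh.HH X (ClSub.idealMod (ptI x hx)) 1, y = 0 := by
    intro y
    obtain ⟨x₃, rfl⟩ := exact₁ (shortExact_Sab _ hS) 0 y (@Subsingleton.elim _ hO _ _)
    obtain ⟨c, hc⟩ := (finrank_eq_one_iff_of_nonzero' _ hv).1 h1 x₃
    have hx₃ : x₃ = Canon.HHlin k (idealSES (ptI x hx)).g 0 (c • unitH X) :=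
      hc.symm.trans ((Canon.HHlin k (idealSES (ptI x hx)).g 0).map_smul c (unitH X)).symm
    rw [hx₃]
    exact δ_map_g (shortExact_Sab _ hS) 0 _
  rw [key a, key b]

end Groth.Agent.Lib.Helper2.PtH1
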