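import Groth.Agent.Lib.Helper8.Vanish

/-! # Helper2 — the kernel of `Spec κ(x) ⟶ X` at a closed point is the vanishing ideal of the point; the twisted point sequence on a proper scheme over a field (no integrality) -/
set_option autoImplicit false
set_option backward.isDefEq.respectTransparency.types false
universe u
open CategoryTheory CategoryTheory.Limits AlgebraicGeometry Opposite TopologicalSpace
noncomputable section

namespace Groth.Agent.Lib.Helper2.PtKer

open Groth.Agent.Lib.Helper8.PointDeg Groth.Agent.Lib.Helper8.EulerK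

variable {X : Scheme.{u}}

theorem ker_fromSpecResidueField (x : X) (hx : IsClosed ({x} : Set X)) :
    (X.fromSpecResidueField x).ker = ptI x hx := by
  have h1 : (X.fromSpecResidueField x).ker.support = ⟨{x}, hx⟩ := by
    apply Closeds.ext
    rw [Scheme.Hom.support_ker, Scheme.range_fromSpecResidueField]
    exact hx.closure_eq
  have h2 : (X.fromSpecResidueField x).ker.radical = (X.fromSpecResidueField x).ker := by
    ext U : 2
    rw [Scheme.IdealSheafData.radical_ideal, Scheme.Hom.ker_apply]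
    refine Ideal.IsRadical.radical ?_
    rintro a ⟨n, hn⟩
    rw [RingHom.mem_ker] at hn ⊢
    rw [map_pow] at hn
    exact IsReduced.eq_zero _ ⟨n, hn⟩
  rw [ptI, ← h1, Scheme.IdealSheafData.vanishingIdeal_support, h2]

section proper
open Groth.Agent.Lib.Helper6.DevCore Groth.Agent.Lib.Helper6.DevRed
  Groth.Agent.Lib.Helper2.HLesLin Groth.Agent.Lib.Helper4.HLesFin1
variable (k : Type u) [Field k] (X : Scheme.{u}) [X.Over (Spec (CommRingCat.of k))]
  [IsProper (X ↘ Spec (CommRingCat.of k))]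

attribute [local instance] Curv2.resAlgebra in
/-- the twisted ideal sequence `0 → L ⊗ I_x → L ⊗ O → L ⊗ O_x → 0` of a closed point on a proper `k`-scheme:
exactness, coherence, and `h⁰(L ⊗ O_x) = [κ(x) : k]` -/
theorem twist_data (L : X.Modules) (hL : PicF.IsInvertible L) (x : X) (hx : IsClosed ({x} : Set X)) :
    ((Groth.Agent.Lib.Helper17.Serre.idealSES (ptI x hx)).map (DCoh.tensorBi.obj L)).ShortExact ∧
      Coh.IsCoh (CohB1.tensorMod L (ClSub.idealMod (ptI x hx))) ∧
      Coh.IsCoh (CohB1.tensorMod L (Coh.structureModule X)) ∧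
      Coh.IsCoh (CohB1.tensorMod L (ClSub.quotMod (ptI x hx))) ∧
      hh k (CohB1.tensorMod L (ClSub.quotMod (ptI x hx))) 0 = Module.finrank k (X.residueField x) := by
  haveI : IsLocallyNoetherian X := isLocallyNoetherian k X
  set D := ptI x hx with hD
  have hL1 := Groth.Agent.Lib.Helper6.K0Op.isFinLocFreeOfRank_one_of_isInvertible L hL
  have hLc := Groth.Agent.Lib.Helper6.K0Op.isCoh_of_isInvertible L hL
  have hcQ : Coh.IsCoh (ClSub.quotMod D) := isCoh_quotMod D
  have hcO : Coh.IsCoh (Coh.structureModule X) := isCoh_structureModule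
  have hcI : Coh.IsCoh (ClSub.idealMod D) := isCoh_kernel _ hcO hcQ
  have hses := Groth.Agent.Lib.Helper17.Serre.idealSES_shortExact D
  have hS := Groth.Agent.Lib.Helper6.K0Op.shortExact_tensor_of_flat L
    (Groth.Agent.Lib.Helper6.K0Op.isFlat_of_isFinLocFreeOfRank L hL1) _ hses
  have hcLQ := Groth.Agent.Lib.Helper6.K0Op.isCoh_tensorMod L _ hLc hcQ
  refine ⟨hS, Groth.Agent.Lib.Helper6.K0Op.isCoh_tensorMod L _ hLc hcI,
    Groth.Agent.Lib.Helper6.K0Op.isCoh_tensorMod L _ hLc hcO, hcLQ, ?_⟩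
  have hsuppQ : CohB1.support (ClSub.quotMod D) = {x} := by
    rw [hD]; exact support_quotMod_vanishingIdeal (Z := ⟨{x}, hx⟩)
  have hScl : ∀ z ∈ ({x} : Finset X), IsClosed ({z} : Set X) := fun z hz => by
    rw [Finset.mem_singleton] at hz
    rw [hz]; exact hx
  haveI : (ClSub.quotMod D).IsQuasicoherent := hcQ.1
  haveI : SheafOfModules.IsFiniteType.{u} (R := X.ringCatSheaf) (ClSub.quotMod D) := hcQ.2
  haveI : L.IsQuasicoherent := hLc.1
  haveI : SheafOfModules.IsFiniteType.{u} (R := X.ringCatSheaf) L := hLc.2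
  haveI : (CohB1.tensorMod L (ClSub.quotMod D)).IsQuasicoherent := hcLQ.1
  haveI : SheafOfModules.IsFiniteType.{u} (R := X.ringCatSheaf) (CohB1.tensorMod L (ClSub.quotMod D)) := hcLQ.2
  have hχQ : Curv2.euler k X (ClSub.quotMod D) = hh k (ClSub.quotMod D) 0 := by
    rw [euler_eq_sum k X _ 1 (fun p hp => by
      obtain ⟨q, rfl⟩ : ∃ q, p = q + 1 := ⟨p - 1, by omega⟩
      exact Groth.Agent.Lib.Helper17.ZeroSupp.subsingleton_HH_of_support_closedPoints _
        (fun z hz => by
          rw [hsuppQ] at hz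
          have : z = x := hz
          rw [this]; exact hx) q)]
    simp [hh]
  have hχLQ : Curv2.euler k X (CohB1.tensorMod L (ClSub.quotMod D)) =
      hh k (CohB1.tensorMod L (ClSub.quotMod D)) 0 := by
    rw [euler_eq_sum k X _ 1 (fun p hp => by
      obtain ⟨q, rfl⟩ : ∃ q, p = q + 1 := ⟨p - 1, by omega⟩
      exact Groth.Agent.Lib.Helper17.ZeroSupp.subsingleton_HH_of_support_closedPoints _
        (fun z hz => by
          rw [Groth.Agent.Lib.Helper17.TensorSupp.support_tensorMod, hsuppQ] at hz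
          have : z = x := hz.2
          rw [this]; exact hx) q)]
    simp [hh]
  have t2 := Groth.Agent.Lib.Helper8.CurveTensor.euler_tensor_of_finset k X _ hcQ {x} hScl
    (by rw [hsuppQ]; simp) 1 L hL1
  have b2 := euler_congr k (Groth.Agent.Lib.Helper6.K0Inv.braidIso L (ClSub.quotMod D))
  have h3 := finrank_quotMod_eq_finrank_residueField x hx k
  have : (hh k (CohB1.tensorMod L (ClSub.quotMod D)) 0 : ℤ) = (Module.finrank k (X.residueField x) : ℤ) := by
    rw [← hχLQ, b2, t2, hχQ, hh, h3]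
    norm_num
  exact_mod_cast this

attribute [local instance] Curv2.resAlgebra in
/-- `h⁰(L ⊗ I_x) ≤ h⁰(L) ≤ h⁰(L ⊗ I_x) + [κ(x) : k]` -/
theorem hh_twist_le (L : X.Modules) (hL : PicF.IsInvertible L) (x : X) (hx : IsClosed ({x} : Set X)) :
    hh k (CohB1.tensorMod L (ClSub.idealMod (ptI x hx))) 0 ≤ hh k L 0 ∧
      hh k L 0 ≤ hh k (CohB1.tensorMod L (ClSub.idealMod (ptI x hx))) 0 +
        Module.finrank k (X.residueField x) := by
  obtain ⟨hS, c1, c2, c3, h3⟩ := twist_data k X L hL x hx
  obtain ⟨u⟩ := Groth.Agent.Lib.Helper28.AmpleUnit.nonempty_tensor_unit_iso L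
  have e2 := hh_congr k u 0
  have a1 := hh₁_zero_le k _ hS c2
  have a2 := hh₂_le k _ hS c1 c2 c3 0
  change hh k (CohB1.tensorMod L (ClSub.idealMod (ptI x hx))) 0 ≤
    hh k (CohB1.tensorMod L (Coh.structureModule X)) 0 at a1
  change hh k (CohB1.tensorMod L (Coh.structureModule X)) 0 ≤
    hh k (CohB1.tensorMod L (ClSub.idealMod (ptI x hx))) 0 +
      hh k (CohB1.tensorMod L (ClSub.quotMod (ptI x hx))) 0 at a2
  rw [h3] at a2
  rw [e2] at a1 a2
  exact ⟨a1, a2⟩

end proper

end Groth.Agent.Lib.Helper2.PtKer
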