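import Groth.Agent.Lib.Helper2.SD2
import Groth.Agent.Lib.Helper6.FinLocFreeExt
import Groth.Agent.Lib.Helper6.RDShift
import Groth.Agent.Lib.Helper6.LocGlobExtSS
import Groth.Agent.Lib.Helper6.ModAbCoh

/-!
# The internal hom out of a finite locally free module is exact, and acyclic on injectives (helper2)
-/

set_option backward.isDefEq.respectTransparency.types false
set_option autoImplicit false
universe u
open CategoryTheory CategoryTheory.Limits AlgebraicGeometry Opposite TopologicalSpace Abelian

noncomputable section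

namespace Groth.Agent.Lib.Helper2.SD3

open Groth.Agent.Lib.Helper1.ModFlat Groth.Agent.Lib.Helper6

variable {X : Scheme.{u}} (F : X.Modules)

/-- the internal hom functor out of `F`. -/
abbrev T : ModSite.Mod X.sheaf ⥤ ModSite.Mod X.sheaf := ModSite.sheafHom (O := X.sheaf) F

instance : (T F).Additive := (ModSite.sheafHomAdj (O := X.sheaf) F).right_adjoint_additive

instance : PreservesFiniteLimits (T F) :=
  (ModSite.sheafHomAdj (O := X.sheaf) F).rightAdjoint_preservesLimits.{0, 0}.preservesFiniteLimits

instance : EnoughInjectives (ModSite.Mod X.sheaf) :=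
  Groth.Agent.Lib.Helper8.SheafModGroth.enoughInjectives (Opens.grothendieckTopology X)
    (ModSite.ringSh X.sheaf)

variable {F}

theorem epi_T_map (hF : FlatMod.IsFinLocFree F) (S : ShortComplex (ModSite.Mod X.sheaf))
    (hS : S.ShortExact) : Epi ((T F).map S.g) := by
  obtain ⟨δ, w₀, w₁, w₂, e₀, e₁, e₂⟩ := RDShift.rightDerived_les (T F) hS 0
  have hz : IsZero (((T F).rightDerived (0 + 1)).obj S.X₁) :=
    FinLocFreeExt.isZero_extSh_of_isFinLocFree F S.X₁ hF 0
  have hepi : Epi (((T F).rightDerived 0).map S.g) := e₁.epi_f (hz.eq_of_tgt _ _)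
  have nat := (T F).rightDerivedZeroIsoSelf.hom.naturality S.g
  have h2 : (T F).map S.g = (T F).rightDerivedZeroIsoSelf.inv.app S.X₂ ≫
      ((T F).rightDerived 0).map S.g ≫ (T F).rightDerivedZeroIsoSelf.hom.app S.X₃ := by
    rw [nat, Iso.inv_hom_id_app_assoc]
  rw [h2]
  haveI := hepi
  haveI : Epi (((T F).rightDerived 0).map S.g ≫ (T F).rightDerivedZeroIsoSelf.hom.app S.X₃) :=
    epi_comp _ _
  exact epi_comp _ _

theorem shortExact_map_T (hF : FlatMod.IsFinLocFree F) (S : ShortComplex (ModSite.Mod X.sheaf))
    (hS : S.ShortExact) : (S.map (T F)).ShortExact := by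
  have := hS.mono_f
  have h1 : (S.map (T F)).Exact := (hS.exact.map_of_mono_of_preservesKernel (T F) inferInstance
    inferInstance)
  exact { exact := h1
          mono_f := inferInstanceAs (Mono ((T F).map S.f))
          epi_g := epi_T_map hF S hS }

variable (F) in
/-- the internal hom into an injective module has no higher cohomology. -/
theorem subsingleton_HH_T_of_injective (I : ModSite.Mod X.sheaf) [Injective I] (j : ℕ) :
    Subsingleton (Coh.HH X ((T F).obj I) (j + 1)) :=
  ModAbCoh.subsingleton_H (SheafHomTotAcyc.totallyAcyclic X.sheaf F I) j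

end Groth.Agent.Lib.Helper2.SD3
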