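import Groth.Agent.Lib.Helper2.SD5
import Groth.Agent.Lib.Helper2.DualE3
import Groth.Agent.Lib.Helper6.DCohSheafHom
import Groth.Agent.Lib.Helper29.FreeIso4

/-!
# Serre duality on projective space for finite locally free modules (helper2)
-/

set_option backward.isDefEq.respectTransparency.types false
set_option autoImplicit false
universe u
open CategoryTheory CategoryTheory.Limits AlgebraicGeometry Opposite TopologicalSpace Abelian

noncomputable section

namespace Groth.Agent.Lib.Helper2.SD6

open Groth.Agent.Lib.Helper2.SerreFin1 Groth.Agent.Lib.Helper2.SD3 Groth.Agent.Lib.Helper2.SD5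

section Iso

variable (A : Type u) [CommRing A] {X : Scheme.{u}} [X.Over (Spec (CommRingCat.of A))]

/-- isomorphic modules have linearly isomorphic cohomology. -/
def HHequiv {M N : X.Modules} (e : M ≅ N) (p : ℕ) : Coh.HH X M p ≃ₗ[A] Coh.HH X N p :=
  LinearEquiv.ofLinear (Canon.HHlin A e.hom p) (Canon.HHlin A e.inv p)
    (by
      ext y
      change Canon.HHlin A e.hom p (Canon.HHlin A e.inv p y) = y
      rw [HHlin_comp_apply, e.inv_hom_id, HHlin_id_apply])
    (by
      ext y
      change Canon.HHlin A e.inv p (Canon.HHlin A e.hom p y) = y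
      rw [HHlin_comp_apply, e.hom_inv_id, HHlin_id_apply])

end Iso

variable (k : Type u) [Field k] (r : ℕ)

/-- **Serre duality on `P^r_k` for a finite locally free module**. -/
theorem serre_duality (F : (CohB1.ProjSpace r k).Modules) (hF : FlatMod.IsFinLocFree F)
    [DCoh.HasSheafHom F] (i : ℕ) (hi : i ≤ r) :
    Nonempty (Module.Dual k (Coh.HH (CohB1.ProjSpace r k) F i) ≃ₗ[k]
      Coh.HH (CohB1.ProjSpace r k)
        ((DCoh.sheafHom F).obj (Twist.twistProjSpace r k (-((r : ℤ) + 1)))) (r - i)) := by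
  haveI : HasExt.{u} (CohB1.ProjSpace r k).Modules := hasExt_of_enoughInjectives _
  have hcoh : Coh.IsCoh F :=
    ⟨Groth.Agent.Lib.Helper29.FreeIso.isQuasicoherent_of_isFinLocFree F hF,
      Groth.Agent.Lib.Helper29.FreeIso.isFiniteType_of_isFinLocFree F hF⟩
  obtain ⟨e1⟩ := (Groth.Agent.Lib.Helper2.DualE3.main (n := r) (k := k) (r - i) F hcoh).1
    (Nat.sub_le r i)
  have h : r - (r - i) = i := by omega
  rw [h] at e1
  obtain ⟨e2⟩ := nonempty_ext_linearEquiv k hF (r - i) (Twist.twistProjSpace r k (-((r : ℤ) + 1)))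
  let e3 := HHequiv k ((Groth.Agent.Lib.Helper6.DCohSheafHom.sheafHomIso F).app
    (Twist.twistProjSpace r k (-((r : ℤ) + 1)))) (r - i)
  exact ⟨e1.symm ≪≫ₗ e2 ≪≫ₗ e3.symm⟩

end Groth.Agent.Lib.Helper2.SD6
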