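import Mathlib
import Groth.Agent.Lib.Helper2.GrothFin
import Groth.Agent.Lib.Helper2.LocAnn
import Groth.Agent.Lib.helper11.LCGamma
import Groth.Agent.Lib.Helper21.DepthKit11

/-!
# Finiteness of sections over `D(J)`, `ht J ≥ 2`, for domains that are quotients of regular rings
(helper2)

* `sect J` : the set of `x ∈ Frac B` lying in `B_p` for all primes `p ∌ J`; `sectAlg J` the
  corresponding subalgebra.
* `exists_of_le_fg` : if `sect J` lies in a finitely generated submodule of `Frac B`, then
  `sectAlg J` is a finite `B`-module.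
* `fg_torsion_preimage` : if `H^1_J(B)` is finite, the elements `x` with `J^n x ⊆ B` lie in a
  finitely generated submodule.
* `finite_sect_of_regular` : the theorem for quotients of regular rings (via Grothendieck's
  finiteness theorem `GrothFin.finite_below_iff`).
-/

set_option autoImplicit false

namespace Groth.Agent.Lib.Helper2.SectFin

universe u

open CategoryTheory Groth.Agent.Lib.Helper2.LocAnn Groth.Agent.Lib.helper11.LCKit

section Sect

variable {B : Type u} [CommRing B] [IsDomain B] (J : Ideal B)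

/-- sections of the structure sheaf over `D(J)`, as a subset of the fraction field. -/
def sect : Set (FractionRing B) :=
  {x | ∀ (p : Ideal B) [p.IsPrime], ¬ J ≤ p →
    ∃ s : B, s ∉ p ∧ ∃ a : B,
      algebraMap B (FractionRing B) a = algebraMap B (FractionRing B) s * x}

/-- the subalgebra of sections over `D(J)`. -/
def sectAlg : Subalgebra B (FractionRing B) where
  carrier := sect J
  mul_mem' := by
    intro x y hx hy p hpp hp
    obtain ⟨s, hs, a, ha⟩ := hx p hp
    obtain ⟨t, ht, b, hb⟩ := hy p hp
    refine ⟨s * t, fun h => (hpp.mem_or_mem h).elim hs ht, a * b, ?_⟩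
    rw [map_mul, map_mul, ha, hb]
    ring
  add_mem' := by
    intro x y hx hy p hpp hp
    obtain ⟨s, hs, a, ha⟩ := hx p hp
    obtain ⟨t, ht, b, hb⟩ := hy p hp
    refine ⟨s * t, fun h => (hpp.mem_or_mem h).elim hs ht, t * a + s * b, ?_⟩
    rw [map_add, map_mul, map_mul, map_mul, ha, hb]
    ring
  algebraMap_mem' := by
    intro r p hpp hp
    refine ⟨1, fun h => hpp.ne_top ((Ideal.eq_top_iff_one p).2 h), r, ?_⟩
    rw [map_one, one_mul]

variable [IsNoetherianRing B]

theorem exists_of_le_fg (T : Submodule B (FractionRing B)) (hT : T.FG) (hle : sect J ⊆ T) :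
    ∃ B' : Subalgebra B (FractionRing B),
      (B' : Set (FractionRing B)) = sect J ∧ Module.Finite B B' := by
  refine ⟨sectAlg J, rfl, ?_⟩
  have h1 : Subalgebra.toSubmodule (sectAlg J) ≤ T := fun x hx => hle hx
  haveI : IsNoetherian B T := isNoetherian_of_fg_of_noetherian T hT
  haveI : IsNoetherian B (Subalgebra.toSubmodule (sectAlg J)) := isNoetherian_of_le h1
  exact Module.Finite.equiv (Subalgebra.toSubmoduleEquiv (sectAlg J))

/-- a section over `D(J)` is multiplied into `B` by a power of `J`. -/
theorem exists_pow_of_mem_sect (x : FractionRing B) (hx : x ∈ sect J) :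
    ∃ n : ℕ, ∀ a ∈ J ^ n, ∃ c : B,
      algebraMap B (FractionRing B) c = algebraMap B (FractionRing B) a * x := by
  let 𝔞 : Ideal B :=
    { carrier := {b | ∃ c : B, algebraMap B (FractionRing B) c =
        algebraMap B (FractionRing B) b * x}
      add_mem' := by
        rintro b b' ⟨c, hc⟩ ⟨c', hc'⟩
        exact ⟨c + c', by rw [map_add, map_add, hc, hc', add_mul]⟩
      zero_mem' := ⟨0, by rw [map_zero, zero_mul]⟩
      smul_mem' := by
        rintro r b ⟨c, hc⟩
        exact ⟨r * c, by rw [smul_eq_mul, map_mul, map_mul, hc, mul_assoc]⟩ }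
  have hrad : J ≤ 𝔞.radical := by
    rw [Ideal.radical_eq_sInf]
    refine le_sInf (fun p hp => ?_)
    obtain ⟨hap, hpp⟩ := hp
    by_contra hJp
    obtain ⟨s, hs, a, ha⟩ := hx p hJp
    exact hs (hap ⟨a, ha⟩)
  obtain ⟨n, hn⟩ := Ideal.exists_pow_le_of_le_radical_of_fg hrad (IsNoetherian.noetherian J)
  exact ⟨n, fun a ha => hn ha⟩

/-- if `H^1_J(B)` is finite, the elements multiplied into `B` by a power of `J` lie in a finitely
generated submodule of the fraction field. -/
theorem fg_torsion_preimage (hJ : J ≠ ⊥) (hfin : Module.Finite B (LocCoh.H J 1 B)) :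
    ∃ T : Submodule B (FractionRing B), T.FG ∧ ∀ x : FractionRing B,
      (∃ n : ℕ, ∀ a ∈ J ^ n, ∃ c : B,
        algebraMap B (FractionRing B) c = algebraMap B (FractionRing B) a * x) → x ∈ T := by
  let f : B →ₗ[B] FractionRing B := Algebra.linearMap B (FractionRing B)
  let B₀ : Submodule B (FractionRing B) := LinearMap.range f
  let g : FractionRing B →ₗ[B] (FractionRing B ⧸ B₀) := B₀.mkQ
  have hf : Function.Injective f := IsFractionRing.injective B (FractionRing B)
  have hg : Function.Surjective g := Submodule.mkQ_surjective _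
  have hex : Function.Exact f g := LinearMap.exact_map_mkQ_range f
  obtain ⟨-, δ, hδ, -⟩ := les J f g hf hg hex 0
  have hK0 : ∀ x₂ : LocCoh.H J 0 (FractionRing B), x₂ = 0 := by
    intro x₂
    apply ev_injective J (ModuleCat.of B (FractionRing B))
    rw [map_zero]
    obtain ⟨n, hn⟩ := (mem_range_ev_iff J (ModuleCat.of B (FractionRing B))
      (ev J (ModuleCat.of B (FractionRing B)) x₂)).1 ⟨x₂, rfl⟩
    obtain ⟨a, haJ, ha0⟩ : ∃ a ∈ J, a ≠ 0 := Submodule.exists_mem_ne_zero_of_ne_bot hJ
    have h1 := hn (a ^ n) (Ideal.pow_mem_pow haJ n)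
    have h2 : algebraMap B (FractionRing B) (a ^ n) *
        (ev J (ModuleCat.of B (FractionRing B)) x₂ : FractionRing B) = 0 := by
      rw [← Algebra.smul_def]
      exact h1
    rcases mul_eq_zero.1 h2 with h | h
    · exfalso
      exact pow_ne_zero n ha0 (IsFractionRing.injective B (FractionRing B) (by rw [h, map_zero]))
    · exact h
  have hδinj : Function.Injective δ := by
    rw [← LinearMap.ker_eq_bot, LinearMap.ker_eq_bot']
    intro x₃ hx₃
    obtain ⟨x₂, rfl⟩ := hδ x₃ hx₃
    rw [hK0 x₂, map_zero]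
  haveI : Module.Finite B (LocCoh.H J (0 + 1) B) := hfin
  haveI : Module.Finite B (LocCoh.H J 0 (FractionRing B ⧸ B₀)) :=
    Module.Finite.of_injective δ hδinj
  let Γ : Submodule B (FractionRing B ⧸ B₀) :=
    LinearMap.range (ev J (ModuleCat.of B (FractionRing B ⧸ B₀)))
  have hΓ : Γ.FG := by
    change (LinearMap.range (ev J (ModuleCat.of B (FractionRing B ⧸ B₀)))).FG
    rw [LinearMap.range_eq_map]
    exact Submodule.FG.map _ Module.Finite.fg_top
  refine ⟨Γ.comap g, ?_, ?_⟩
  · apply Submodule.fg_of_fg_map_of_fg_inf_ker g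
    · rw [Submodule.map_comap_eq_of_surjective hg]
      exact hΓ
    · have h1 : Γ.comap g ⊓ LinearMap.ker g = B₀ := by
        change Γ.comap g ⊓ LinearMap.ker B₀.mkQ = B₀
        rw [Submodule.ker_mkQ]
        apply inf_eq_right.2
        intro y hy
        change g y ∈ Γ
        have : g y = 0 := (Submodule.Quotient.mk_eq_zero B₀).2 hy
        rw [this]
        exact Γ.zero_mem
      rw [h1]
      change (LinearMap.range f).FG
      rw [LinearMap.range_eq_map]
      exact Submodule.FG.map _ Module.Finite.fg_top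
  · rintro x ⟨n, hn⟩
    change g x ∈ LinearMap.range (ev J (ModuleCat.of B (FractionRing B ⧸ B₀)))
    rw [mem_range_ev_iff]
    refine ⟨n, fun a ha => ?_⟩
    obtain ⟨c, hc⟩ := hn a ha
    have h1 : a • g x = g (a • x) := (map_smul g a x).symm
    refine h1.trans ?_
    refine (Submodule.Quotient.mk_eq_zero B₀).2 ?_
    refine ⟨c, ?_⟩
    rw [Algebra.smul_def]
    exact hc

end Sect

section Regular

variable {B : Type u} [CommRing B] [IsDomain B] [IsNoetherianRing B] (J : Ideal B)

omit [IsDomain B] [IsNoetherianRing B] in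
theorem height_map_mk_bot : ∀ P : Ideal B, P = ⊥ →
    ((J ⊔ P).map (Ideal.Quotient.mk P)).height = J.height := by
  rintro P rfl
  rw [sup_bot_eq, ← RingEquiv.height_map (RingEquiv.quotientBot B).symm J]
  congr 1

theorem eq_bot_of_mem_associatedPrimes (p : Ideal B) (hp : p ∈ associatedPrimes B B) : p = ⊥ := by
  obtain ⟨hprime, x, hx⟩ := (isAssociatedPrime_iff (M := B)).1 hp
  rw [eq_bot_iff]
  intro r hr
  rw [hx, Submodule.mem_colon_singleton, Submodule.mem_bot, smul_eq_mul] at hr
  rcases mul_eq_zero.1 hr with h | h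
  · exact (Submodule.mem_bot B).2 h
  · exfalso
    apply hprime.ne_top
    rw [hx, Ideal.eq_top_iff_one, Submodule.mem_colon_singleton, h, smul_zero]
    exact Submodule.zero_mem _

open Groth.Agent.Lib.Helper21.DepthKit in
/-- for a Noetherian domain that is a quotient of a regular ring and `ht J ≥ 2`: the ring of
sections over `D(J)` is a finite algebra. -/
theorem finite_sect_of_regular (S : Type u) [CommRing S] [IsRegularRing S] (π : S →+* B)
    (hπ : Function.Surjective π) (hJ2 : (2 : ℕ∞) ≤ J.height) :
    ∃ B' : Subalgebra B (FractionRing B),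
      (B' : Set (FractionRing B)) = sect J ∧ Module.Finite B B' := by
  have hJ : J ≠ ⊥ := by
    rintro rfl
    rw [Ideal.height_bot] at hJ2
    exact absurd hJ2 (by norm_num)
  have hbound : ∀ p : PrimeSpectrum B, ¬ J ≤ p.asIdeal → ((1 : ℕ) : ℕ∞) < LocCoh.adjDepth J B p := by
    intro p hp
    haveI := p.isPrime
    unfold LocCoh.adjDepth
    rw [Nat.cast_one]
    by_cases hp0 : p.asIdeal = ⊥
    · rw [height_map_mk_bot J p.asIdeal hp0]
      have h12 : (1 : ℕ∞) < 2 := by exact_mod_cast (by norm_num : (1 : ℕ) < 2)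
      exact lt_of_lt_of_le h12 (hJ2.trans le_add_self)
    · have h1 : 1 ≤ LocCoh.depth (Localization.AtPrime p.asIdeal)
          (LocalizedModule p.asIdeal.primeCompl B) := by
        rw [Order.one_le_iff_ne_zero]
        intro h0
        exact hp0 (eq_bot_of_mem_associatedPrimes p.asIdeal
          ((depth_localization_eq_zero_iff p.asIdeal).1 h0))
      have h2 : 1 ≤ ((J ⊔ p.asIdeal).map (Ideal.Quotient.mk p.asIdeal)).height := by
        rw [Order.one_le_iff_ne_zero, Ne, Ideal.height_eq_zero_iff_eq_bot]
        intro hbot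
        apply hp
        intro s hs
        have h3 : Ideal.Quotient.mk p.asIdeal s ∈
            (J ⊔ p.asIdeal).map (Ideal.Quotient.mk p.asIdeal) :=
          Ideal.mem_map_of_mem _ (Ideal.mem_sup_left hs)
        rw [hbot, Ideal.mem_bot] at h3
        exact Ideal.Quotient.eq_zero_iff_mem.1 h3
      exact lt_of_lt_of_le ((ENat.lt_add_one_iff ENat.one_ne_top).2 le_rfl) (add_le_add h1 h2)
  have hfin := (Groth.Agent.Lib.Helper2.GrothFin.finite_below_iff S B π hπ J B 1).2 hbound 1 le_rfl
  obtain ⟨T, hT, hmem⟩ := fg_torsion_preimage J hJ hfin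
  exact exists_of_le_fg J T hT (fun x hx => hmem x (exists_pow_of_mem_sect J x hx))

end Regular

end Groth.Agent.Lib.Helper2.SectFin
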