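import Mathlib.RingTheory.Flat.Basic
import Mathlib.RingTheory.Flat.Stability
import Mathlib.RingTheory.Ideal.Quotient.Operations
import Mathlib.LinearAlgebra.TensorProduct.Pi
import Mathlib.LinearAlgebra.TensorProduct.Tower

/-!
Helper library (helper2): flatness over a ring which is a finite product of quotients (CRT),
and transfer of flatness of base changes along towers.
-/

set_option autoImplicit false

namespace Groth.Agent.Lib.Helper2.SemiLocal

open TensorProduct Function

section Tower

variable {A B C : Type*} [CommRing A] [CommRing B] [CommRing C] [Algebra A B] [Algebra A C]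
  [Algebra B C] [IsScalarTower A B C] (M : Type*) [AddCommGroup M] [Module A M]

lemma flat_tensor_tensor_iff :
    Module.Flat C (C ⊗[B] (B ⊗[A] M)) ↔ Module.Flat C (C ⊗[A] M) :=
  Module.Flat.equiv_iff (AlgebraTensorModule.cancelBaseChange A B C C M)

lemma flat_baseChange_of_flat_baseChange (h : Module.Flat B (B ⊗[A] M)) :
    Module.Flat C (C ⊗[A] M) :=
  (flat_tensor_tensor_iff M).mp (Module.Flat.baseChange B C (B ⊗[A] M))

end Tower

section CRT

variable {A : Type*} [CommRing A] {ι : Type*} [Finite ι] (I : ι → Ideal A)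

/-- The canonical `A`-linear map `A → ∏ A/I i`. -/
noncomputable def toPiQuot : A →ₗ[A] (∀ i, A ⧸ I i) :=
  LinearMap.pi fun i => (I i).mkQ

lemma toPiQuot_apply (a : A) (i : ι) : toPiQuot I a i = Ideal.Quotient.mk (I i) a := rfl

lemma toPiQuot_bijective (hI : Pairwise (IsCoprime on I)) (hbot : ⨅ i, I i = ⊥) :
    Function.Bijective (toPiQuot I) := by
  refine ⟨?_, ?_⟩
  · rw [← LinearMap.ker_eq_bot, eq_bot_iff]
    intro a ha
    rw [LinearMap.mem_ker] at ha
    have : a ∈ ⨅ i, I i := by
      rw [Ideal.mem_iInf]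
      intro i
      have := congrFun ha i
      rw [toPiQuot_apply] at this
      exact Ideal.Quotient.eq_zero_iff_mem.mp this
    rw [hbot] at this
    exact this
  · intro x
    obtain ⟨r, hr⟩ := Ideal.pi_quotient_surjective hI x
    exact ⟨r, funext fun i => hr i⟩

/-- CRT as an `A`-linear equivalence. -/
noncomputable def equivPiQuot (hI : Pairwise (IsCoprime on I)) (hbot : ⨅ i, I i = ⊥) :
    A ≃ₗ[A] (∀ i, A ⧸ I i) :=
  LinearEquiv.ofBijective (toPiQuot I) (toPiQuot_bijective I hI hbot)

lemma flat_quotient_of_coprime (hI : Pairwise (IsCoprime on I)) (hbot : ⨅ i, I i = ⊥) (i : ι) :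
    Module.Flat A (A ⧸ I i) := by
  classical
  haveI : Module.Flat A (∀ i, A ⧸ I i) := Module.Flat.of_linearEquiv (equivPiQuot I hI hbot).symm
  refine Module.Flat.of_retract (LinearMap.single A (fun i => A ⧸ I i) i) (LinearMap.proj i) ?_
  ext x
  simp

theorem flat_of_forall_flat_quotient_of_coprime (hI : Pairwise (IsCoprime on I))
    (hbot : ⨅ i, I i = ⊥) (M : Type*) [AddCommGroup M] [Module A M]
    (h : ∀ i, Module.Flat (A ⧸ I i) ((A ⧸ I i) ⊗[A] M)) : Module.Flat A M := by
  classical
  cases nonempty_fintype ι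
  have h1 : ∀ i, Module.Flat A (M ⊗[A] (A ⧸ I i)) := by
    intro i
    haveI := flat_quotient_of_coprime I hI hbot i
    haveI := h i
    haveI : Module.Flat A ((A ⧸ I i) ⊗[A] M) := Module.Flat.trans A (A ⧸ I i) _
    exact Module.Flat.of_linearEquiv (TensorProduct.comm A M (A ⧸ I i))
  haveI : Module.Flat A (∀ i, M ⊗[A] (A ⧸ I i)) := by
    haveI : Module.Flat A (DirectSum ι fun i => M ⊗[A] (A ⧸ I i)) := inferInstance
    exact Module.Flat.of_linearEquiv
      (DirectSum.linearEquivFunOnFintype A ι (fun i => M ⊗[A] (A ⧸ I i))).symm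
  exact Module.Flat.of_linearEquiv
    ((TensorProduct.rid A M).symm ≪≫ₗ (LinearEquiv.lTensor M (equivPiQuot I hI hbot)) ≪≫ₗ
      (TensorProduct.piRight A A M fun i => A ⧸ I i))

end CRT

end Groth.Agent.Lib.Helper2.SemiLocal
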