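import Mathlib.RingTheory.Ideal.KrullsHeightTheorem
import Mathlib.RingTheory.Ideal.MinimalPrime.Noetherian

/-! Chains of systems of parameters in a Noetherian local ring. -/

namespace Groth.Agent.Lib.Helper2.SopChain

open IsLocalRing

variable {A : Type*} [CommRing A] [IsNoetherianRing A] [IsLocalRing A] {d : ℕ}

/-- a system of parameters (as a `d`-tuple). -/
def IsSOP (w : Fin d → A) : Prop :=
  (∀ i, w i ∈ maximalIdeal A) ∧ maximalIdeal A ≤ (Ideal.span (Set.range w)).radical

/-- the other coordinates -/
noncomputable def others (u : Fin d → A) (j : Fin d) : Finset A :=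
  by classical exact (Finset.univ.erase j).image u

lemma mem_others {u : Fin d → A} {j i : Fin d} (h : i ≠ j) : u i ∈ others u j := by
  classical
  unfold others
  exact Finset.mem_image_of_mem _ (Finset.mem_erase.mpr ⟨h, Finset.mem_univ _⟩)

lemma card_others_lt (u : Fin d → A) (j : Fin d) : (others u j).card < d := by
  classical
  unfold others
  refine lt_of_le_of_lt Finset.card_image_le ?_
  rw [Finset.card_erase_of_mem (Finset.mem_univ _), Finset.card_univ, Fintype.card_fin]
  have := j.pos
  omega

lemma range_subset_insert (u : Fin d → A) (j : Fin d) :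
    Set.range u ⊆ insert (u j) (others u j : Set A) := by
  rintro _ ⟨i, rfl⟩
  by_cases h : i = j
  · subst h; exact Set.mem_insert _ _
  · exact Set.mem_insert_of_mem _ (mem_others h)

lemma maximalIdeal_mem_minimalPrimes {I : Ideal A} (h1 : I ≤ maximalIdeal A)
    (h2 : maximalIdeal A ≤ I.radical) : maximalIdeal A ∈ I.minimalPrimes := by
  refine ⟨⟨inferInstance, h1⟩, ?_⟩
  rintro P ⟨hP, hIP⟩ -
  exact h2.trans (hP.radical_le_iff.mpr hIP)

lemma maximalIdeal_not_mem_minimalPrimes_others (hd : ringKrullDim A = d) (u : Fin d → A)
    (j : Fin d) : maximalIdeal A ∉ (Ideal.span (others u j : Set A)).minimalPrimes := by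
  intro h
  have h1 := Ideal.height_le_card_of_mem_minimalPrimes_span_finset h
  have h2 : ((maximalIdeal A).height : WithBot ℕ∞) = d := by
    rw [IsLocalRing.maximalIdeal_height_eq_ringKrullDim, hd]
  have h3 : (maximalIdeal A).height = d := by exact_mod_cast h2
  rw [h3] at h1
  have := card_others_lt u j
  have : (d : ℕ∞) ≤ (others u j).card := h1
  have : d ≤ (others u j).card := by exact_mod_cast this
  omega

lemma isSOP_update {u : Fin d → A} (hu : IsSOP u) (j : Fin d) {x : A}
    (hx : x ∈ maximalIdeal A)
    (hx' : ∀ P ∈ (Ideal.span (others u j : Set A)).minimalPrimes, x ∉ P) :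
    IsSOP (Function.update u j x) := by
  classical
  refine ⟨fun i => ?_, ?_⟩
  · by_cases h : i = j
    · subst h; simpa using hx
    · rw [Function.update_of_ne h]; exact hu.1 i
  · rw [Ideal.radical_eq_sInf]
    refine le_sInf ?_
    rintro P ⟨hle, hP⟩
    by_contra hmP
    have hlt : P < maximalIdeal A :=
      lt_of_le_of_ne (IsLocalRing.le_maximalIdeal hP.ne_top) (fun h => hmP h.ge)
    have hxP : x ∈ P := by
      apply hle
      apply Ideal.subset_span
      exact ⟨j, by simp⟩
    have hoth : (others u j : Set A) ⊆ P := by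
      intro a ha
      unfold others at ha
      simp only [Finset.coe_image, Finset.coe_erase, Finset.coe_univ, Set.mem_image,
        Set.mem_sdiff, Set.mem_univ, Set.mem_singleton_iff, true_and] at ha
      obtain ⟨i, hij, rfl⟩ := ha
      apply hle
      apply Ideal.subset_span
      exact ⟨i, by rw [Function.update_of_ne hij]⟩
    have hmin : maximalIdeal A ∈
        (Ideal.span (insert (u j) (others u j : Set A))).minimalPrimes := by
      apply maximalIdeal_mem_minimalPrimes
      · rw [Ideal.span_le]
        intro a ha
        rcases ha with rfl | ha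
        · exact hu.1 j
        · unfold others at ha
          simp only [Finset.coe_image, Finset.coe_erase, Finset.coe_univ, Set.mem_image,
            Set.mem_sdiff, Set.mem_univ, Set.mem_singleton_iff, true_and] at ha
          obtain ⟨i, -, rfl⟩ := ha
          exact hu.1 i
      · exact hu.2.trans (Ideal.radical_mono (Ideal.span_mono (range_subset_insert u j)))
    have := Ideal.mem_minimalPrimes_span_of_mem_minimalPrimes_span_insert hlt (u j)
      (others u j : Set A) hmin (others u j : Set A) hoth
      (fun a ha => Ideal.le_radical (Ideal.subset_span (Set.mem_insert_of_mem _ ha)))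
    exact hx' P this hxP

lemma exists_common (hd : ringKrullDim A = d) {u v : Fin d → A} (hu : IsSOP u) (hv : IsSOP v)
    (j : Fin d) : ∃ x, IsSOP (Function.update u j x) ∧ IsSOP (Function.update v j x) := by
  classical
  set Ju := Ideal.span (others u j : Set A)
  set Jv := Ideal.span (others v j : Set A)
  have hfin : (Ju.minimalPrimes ∪ Jv.minimalPrimes).Finite :=
    (Ideal.finite_minimalPrimes_of_isNoetherianRing A Ju).union
      (Ideal.finite_minimalPrimes_of_isNoetherianRing A Jv)
  have hnot : ¬ ((maximalIdeal A : Set A) ⊆ ⋃ P ∈ (hfin.toFinset : Set (Ideal A)), (P : Set A)) := by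
    intro hsub
    rw [Ideal.subset_union_prime (R := A) (s := hfin.toFinset) (f := fun P => P) ⊥ ⊥] at hsub
    · obtain ⟨P, hP, hle⟩ := hsub
      rw [Set.Finite.mem_toFinset] at hP
      have hPprime : P.IsPrime := by
        rcases hP with hP | hP
        · exact hP.1.1
        · exact hP.1.1
      have hPeq : P = maximalIdeal A :=
        le_antisymm (IsLocalRing.le_maximalIdeal hPprime.ne_top) hle
      rcases hP with hP | hP
      · exact maximalIdeal_not_mem_minimalPrimes_others hd u j (hPeq ▸ hP)
      · exact maximalIdeal_not_mem_minimalPrimes_others hd v j (hPeq ▸ hP)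
    · intro P hP _ _
      rw [Set.Finite.mem_toFinset] at hP
      rcases hP with hP | hP
      · exact hP.1.1
      · exact hP.1.1
  rw [Set.not_subset] at hnot
  obtain ⟨x, hxm, hxn⟩ := hnot
  simp only [Set.mem_iUnion, not_exists] at hxn
  refine ⟨x, isSOP_update hu j hxm ?_, isSOP_update hv j hxm ?_⟩
  · intro P hP
    exact hxn P (by simp only [Finset.mem_coe, Set.Finite.mem_toFinset]; exact Or.inl hP)
  · intro P hP
    exact hxn P (by simp only [Finset.mem_coe, Set.Finite.mem_toFinset]; exact Or.inr hP)

/-- one-coordinate step -/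
def Step (w w' : Fin d → A) : Prop := ∃ i : Fin d, ∀ i' : Fin d, i' ≠ i → w i' = w' i'

omit [IsNoetherianRing A] [IsLocalRing A] in
lemma step_update (w : Fin d → A) (j : Fin d) (x : A) : Step w (Function.update w j x) :=
  ⟨j, fun i' hi' => by rw [Function.update_of_ne hi']⟩

omit [IsNoetherianRing A] [IsLocalRing A] in
lemma step_update' (w : Fin d → A) (j : Fin d) (x : A) : Step (Function.update w j x) w :=
  ⟨j, fun i' hi' => by rw [Function.update_of_ne hi']⟩

lemma chain_of_reflTransGen {X : Type*} {R : X → X → Prop} {a b : X}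
    (h : Relation.ReflTransGen R a b) :
    ∃ (m : ℕ) (w : ℕ → X), w 0 = a ∧ w m = b ∧ ∀ k < m, R (w k) (w (k + 1)) := by
  induction h with
  | refl => exact ⟨0, fun _ => a, rfl, rfl, fun k hk => absurd hk (Nat.not_lt_zero _)⟩
  | @tail b c hab hbc ih =>
    obtain ⟨m, w, h0, hm, hstep⟩ := ih
    refine ⟨m + 1, fun k => if k ≤ m then w k else c, ?_, ?_, ?_⟩
    · simp [h0]
    · simp
    · intro k hk
      by_cases hkm : k < m
      · have h1 : k ≤ m := hkm.le
        have h2 : k + 1 ≤ m := hkm
        simp only [h1, h2, if_true]
        exact hstep k hkm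
      · have hkm' : k = m := by omega
        subst hkm'
        simp only [le_refl, if_true]
        have : ¬ (k + 1 ≤ k) := by omega
        simp only [this, if_false]
        rw [hm]
        exact hbc

open Classical in
theorem exists_reflTransGen (hd : ringKrullDim A = d) :
    ∀ (n : ℕ) (u v : {w : Fin d → A // IsSOP w}),
      (Finset.univ.filter (fun i => u.1 i ≠ v.1 i)).card = n →
      Relation.ReflTransGen (fun a b : {w : Fin d → A // IsSOP w} => Step a.1 b.1) u v := by
  classical
  intro n
  induction n with
  | zero =>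
    intro u v h
    rw [Finset.card_eq_zero, Finset.filter_eq_empty_iff] at h
    have : u = v := by
      apply Subtype.ext
      funext i
      have := h (Finset.mem_univ i)
      simpa using this
    rw [this]
  | succ n ih =>
    intro u v h
    have hne : (Finset.univ.filter (fun i => u.1 i ≠ v.1 i)).Nonempty := by
      rw [← Finset.card_pos]; omega
    obtain ⟨j, hj⟩ := hne
    obtain ⟨x, hxu, hxv⟩ := exists_common hd u.2 v.2 j
    have hcard : (Finset.univ.filter (fun i => (Function.update u.1 j x) i ≠
        (Function.update v.1 j x) i)).card = n := by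
      have : (Finset.univ.filter (fun i => (Function.update u.1 j x) i ≠
          (Function.update v.1 j x) i)) = (Finset.univ.filter (fun i => u.1 i ≠ v.1 i)).erase j := by
        ext i
        simp only [Finset.mem_filter, Finset.mem_univ, true_and, Finset.mem_erase]
        by_cases hij : i = j
        · subst hij; simp
        · rw [Function.update_of_ne hij, Function.update_of_ne hij]
          simp [hij]
      rw [this, Finset.card_erase_of_mem hj, h]
      rfl
    have h1 := ih ⟨_, hxu⟩ ⟨_, hxv⟩ hcard
    refine Relation.ReflTransGen.head (b := ⟨_, hxu⟩) (step_update u.1 j x) ?_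
    exact Relation.ReflTransGen.tail h1 (step_update' v.1 j x)

theorem exists_chain (hd : ringKrullDim A = d) (u v : Fin d → A) (hu : IsSOP u) (hv : IsSOP v) :
    ∃ (m : ℕ) (w : Fin (m + 1) → Fin d → A), w 0 = u ∧ w (Fin.last m) = v ∧
      (∀ k : Fin (m + 1), IsSOP (w k)) ∧
      (∀ k : Fin m, ∃ i : Fin d, ∀ i' : Fin d, i' ≠ i → w k.castSucc i' = w k.succ i') := by
  obtain ⟨m, w, h0, hm, hstep⟩ := chain_of_reflTransGen
    (exists_reflTransGen hd _ ⟨u, hu⟩ ⟨v, hv⟩ rfl)
  refine ⟨m, fun k => (w k.val).1, ?_, ?_, fun k => (w k.val).2, fun k => ?_⟩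
  · simp [h0]
  · simp [hm]
  · exact hstep k.val k.isLt

end Groth.Agent.Lib.Helper2.SopChain
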