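import Mathlib

/-!
# Sections of the structure sheaf of `Spec A` built from a module map `P → A^r` (helper2)

Given an ideal `P`, an open `U` of `Spec A` covered by the `D(g)`, `g ∈ P`, and a linear map
`lam : P → A^r` with `x = Σ f_j lam(x)_j`, we build sections `s_j = lam(g)_j / g` over `U`
with `Σ f_j s_j = 1`.
-/

set_option autoImplicit false
universe u

open AlgebraicGeometry CategoryTheory TopologicalSpace Opposite

namespace Groth.Agent.Lib.Helper2.SpecSections

variable {A : Type u} [CommRing A] {r : ℕ} (f : Fin r → A) (P : Ideal A)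
  (lam : ↥P →ₗ[A] (Fin r → A))
  (U : Opens (PrimeSpectrum.Top A))
  (hU : ∀ x : U, ∃ g : A, g ∈ P ∧ g ∉ x.1.asIdeal)

/-- a chosen element of `P` not in the prime `x`. -/
noncomputable def gsel (x : U) : A := (hU x).choose

theorem gsel_mem (x : U) : gsel P U hU x ∈ P := (hU x).choose_spec.1

theorem gsel_notMem (x : U) : gsel P U hU x ∉ x.1.asIdeal := (hU x).choose_spec.2

/-- the function `x ↦ lam(g_x)_j / g_x`. -/
noncomputable def sFun (j : Fin r) : Π x : U, StructureSheaf.Localizations A x.1 := fun x =>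
  LocalizedModule.mk (lam ⟨gsel P U hU x, gsel_mem P U hU x⟩ j)
    ⟨gsel P U hU x, gsel_notMem P U hU x⟩

theorem lam_swap (j : Fin r) (g g' : A) (hg : g ∈ P) (hg' : g' ∈ P) :
    g' * lam ⟨g, hg⟩ j = g * lam ⟨g', hg'⟩ j := by
  have h1 : lam ⟨g' * g, P.mul_mem_left g' hg⟩ = g' • lam ⟨g, hg⟩ := by
    rw [← map_smul]
    rfl
  have h2 : lam ⟨g' * g, P.mul_mem_left g' hg⟩ = g • lam ⟨g', hg'⟩ := by
    rw [← map_smul]
    congr 1
    exact Subtype.ext (mul_comm g' g)
  have := congrFun (h1.symm.trans h2) j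
  simpa using this

theorem sFun_eq (j : Fin r) (x : U) (g : A) (hg : g ∈ P) (hgx : g ∉ x.1.asIdeal) :
    sFun P lam U hU j x = LocalizedModule.mk (lam ⟨g, hg⟩ j) ⟨g, hgx⟩ := by
  unfold sFun
  rw [LocalizedModule.mk_eq]
  refine ⟨1, ?_⟩
  rw [one_smul, one_smul]
  change g * lam ⟨gsel P U hU x, gsel_mem P U hU x⟩ j = gsel P U hU x * lam ⟨g, hg⟩ j
  exact lam_swap P lam j _ _ _ _

theorem sFun_locFrac (j : Fin r) :
    (StructureSheaf.isLocallyFraction A A).pred (sFun P lam U hU j) := by
  intro x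
  let g := gsel P U hU x
  refine ⟨U ⊓ PrimeSpectrum.basicOpen g, ⟨x.2, gsel_notMem P U hU x⟩, homOfLE inf_le_left,
    lam ⟨g, gsel_mem P U hU x⟩ j, g, fun y => ⟨y.2.2, ?_⟩⟩
  exact sFun_eq P lam U hU j ⟨y.1, y.2.1⟩ g (gsel_mem P U hU x) y.2.2

/-- the section `s_j`. -/
noncomputable def sSec (j : Fin r) : (structureSheafInType A A).1.obj (op U) :=
  ⟨sFun P lam U hU j, sFun_locFrac P lam U hU j⟩

theorem mk_sum {S : Submonoid A} (s : S) {ι : Type*} (t : Finset ι) (m : ι → A) :
    ∑ j ∈ t, (LocalizedModule.mk (m j) s : LocalizedModule S A) =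
      LocalizedModule.mk (∑ j ∈ t, m j) s := by
  classical
  induction t using Finset.induction_on with
  | empty => simp
  | insert a t ha ih =>
    rw [Finset.sum_insert ha, Finset.sum_insert ha, ih, LocalizedModule.mk_add_mk, ← smul_add,
      LocalizedModule.mk_cancel_common_left]

include hU in
theorem sum_eq_one (hlam : ∀ x : ↥P, (x : A) = ∑ j, f j * lam x j) :
    ∑ j, algebraMap A ((structureSheafInType A A).1.obj (op U)) (f j) * sSec P lam U hU j = 1 := by
  apply Subtype.ext
  funext x
  -- evaluation at `x` as a ring hom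
  let ev : ((structureSheafInType A A).1.obj (op U)) →+* StructureSheaf.Localizations A x.1 :=
    { toFun := fun s => s.1 x
      map_one' := rfl
      map_mul' := fun _ _ => rfl
      map_zero' := rfl
      map_add' := fun _ _ => rfl }
  change ev (∑ j, algebraMap A ((structureSheafInType A A).1.obj (op U)) (f j) *
    sSec P lam U hU j) = ev 1
  rw [map_sum, map_one]
  let g := gsel P U hU x
  have hterm : ∀ j : Fin r, ev (algebraMap A ((structureSheafInType A A).1.obj (op U)) (f j) *
      sSec P lam U hU j) = (LocalizedModule.mk (f j * lam ⟨g, gsel_mem P U hU x⟩ j)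
        (⟨g, gsel_notMem P U hU x⟩ : x.1.asIdeal.primeCompl) :
          StructureSheaf.Localizations A x.1) := by
    intro j
    rw [map_mul]
    change algebraMap A (StructureSheaf.Localizations A x.1) (f j) *
      (LocalizedModule.mk (lam ⟨g, gsel_mem P U hU x⟩ j)
        (⟨g, gsel_notMem P U hU x⟩ : x.1.asIdeal.primeCompl) :
          StructureSheaf.Localizations A x.1) = _
    rw [← Algebra.smul_def, LocalizedModule.smul'_mk, smul_eq_mul]
  rw [Finset.sum_congr rfl (fun j _ => hterm j), mk_sum, ← hlam ⟨g, gsel_mem P U hU x⟩]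
  have hone : (1 : StructureSheaf.Localizations A x.1) =
      LocalizedModule.mk (1 : A) (1 : x.1.asIdeal.primeCompl) := by
    simp [OreLocalization.one_def, LocalizedModule.mk]
  rw [hone, LocalizedModule.mk_eq]
  refine ⟨1, ?_⟩
  rw [one_smul, one_smul, one_smul]
  change g = g • (1 : A)
  rw [smul_eq_mul, mul_one]

end Groth.Agent.Lib.Helper2.SpecSections
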