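import Groth.Agent.S6867
import Mathlib

/-!
Helper library (helper2): regular elements on `S ⊗[R] T` for a flat `R`-algebra `S`:
dévissage via torsion-free `R/p`-modules.  Used for symbolic powers under flat base change.
-/

set_option autoImplicit false

namespace Groth.Agent.Lib.Helper2.SymbFlat

open TensorProduct

universe u

variable {R S : Type u} [CommRing R] [CommRing S] [Algebra R S]

/-- `x : S` acts injectively on `S ⊗[R] T` -/
def Reg (x : S) (T : Type*) [AddCommGroup T] [Module R T] : Prop :=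
  ∀ z : S ⊗[R] T, x • z = 0 → z = 0

lemma Reg.of_exact [Module.Flat R S] {x : S} {T' T T'' : Type*} [AddCommGroup T'] [Module R T']
    [AddCommGroup T] [Module R T] [AddCommGroup T''] [Module R T'']
    (i : T' →ₗ[R] T) (π : T →ₗ[R] T'') (hi : Function.Injective i) (hex : Function.Exact i π)
    (h' : Reg (R := R) x T') (h'' : Reg (R := R) x T'') : Reg (R := R) x T := by
  intro z hz
  have h1 : π.baseChange S z = 0 := by
    apply h''
    rw [← map_smul, hz, map_zero]
  have hex' : Function.Exact (i.lTensor S) (π.lTensor S) := Module.Flat.lTensor_exact S hex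
  have h1' : π.lTensor S z = 0 := h1
  obtain ⟨z', hz'⟩ := (hex' z).mp h1'
  have hz'' : i.baseChange S z' = z := hz'
  have hinj : Function.Injective (i.baseChange S) :=
    Module.Flat.lTensor_preserves_injective_linearMap (M := S) i hi
  have h2 : x • z' = 0 := by
    apply hinj
    rw [map_smul, hz'', hz, map_zero]
  rw [← hz'', h' z' h2, map_zero]

lemma reg_of_subsingleton (x : S) (T : Type*) [AddCommGroup T] [Module R T] [Subsingleton T] :
    Reg (R := R) x T := by
  intro z _
  exact Subsingleton.elim _ _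

/-- `x` regular on `S ⊗ R/J` detects membership in `J S` -/
lemma mem_map_of_reg (J : Ideal R) (x y : S) (h : Reg (R := R) x (R ⧸ J))
    (hxy : x * y ∈ J.map (algebraMap R S)) : y ∈ J.map (algebraMap R S) := by
  let e := Algebra.TensorProduct.quotIdealMapEquivTensorQuot S J
  have h1 : x • e (Ideal.Quotient.mk _ y) = 0 := by
    rw [← map_smul, Algebra.smul_def, Ideal.Quotient.algebraMap_eq, ← map_mul,
      Ideal.Quotient.eq_zero_iff_mem.mpr hxy, map_zero]
  have h2 := h _ h1
  have h3 : Ideal.Quotient.mk (J.map (algebraMap R S)) y = 0 := by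
    apply e.injective
    rw [h2, map_zero]
  exact Ideal.Quotient.eq_zero_iff_mem.mp h3

/-- elements outside `p` stay outside `pS` when `pS ≠ ⊤` -/
lemma algebraMap_notMem [Module.Flat R S] (p : Ideal R) [p.IsPrime]
    (hq : p.map (algebraMap R S) ≠ ⊤) (s : R) (hs : s ∉ p) :
    algebraMap R S s ∉ p.map (algebraMap R S) := by
  intro hmem
  apply hq
  rw [Ideal.eq_top_iff_one]
  -- multiplication by `s` on `R ⧸ p` is injective
  let μ : (R ⧸ p) →ₗ[R] (R ⧸ p) := LinearMap.lsmul R (R ⧸ p) s
  have hμ : Function.Injective μ := by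
    intro a b hab
    have h1 : s • (a - b) = 0 := by
      rw [smul_sub]
      exact sub_eq_zero.mpr hab
    rw [Algebra.smul_def, Ideal.Quotient.algebraMap_eq] at h1
    rcases mul_eq_zero.mp h1 with h | h
    · exact absurd (Ideal.Quotient.eq_zero_iff_mem.mp h) hs
    · exact sub_eq_zero.mp h
  have hinj : Function.Injective (μ.baseChange S) :=
    Module.Flat.lTensor_preserves_injective_linearMap (M := S) μ hμ
  have hid : ∀ z : S ⊗[R] (R ⧸ p), μ.baseChange S z = algebraMap R S s • z := by
    intro z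
    induction z with
    | zero => simp
    | add a b ha hb => rw [map_add, smul_add, ha, hb]
    | tmul a b =>
      rw [LinearMap.baseChange_tmul, TensorProduct.smul_tmul', smul_eq_mul,
        ← Algebra.smul_def]
      show a ⊗ₜ[R] (s • b) = (s • a) ⊗ₜ[R] b
      rw [TensorProduct.tmul_smul, TensorProduct.smul_tmul']
  have hreg : Reg (R := R) (algebraMap R S s) (R ⧸ p) := by
    intro z hz
    apply hinj
    rw [map_zero, hid, hz]
  have := mem_map_of_reg p (algebraMap R S s) 1 hreg (by rwa [mul_one])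
  exact this

/-- the key lemma: elements outside `q = pS` are regular on `S ⊗ T` for `T` a torsion-free
`R/p`-module -/
lemma reg_of_torsionFree [Module.Flat R S] (p : Ideal R) [p.IsPrime]
    [hq : (p.map (algebraMap R S)).IsPrime] (x : S) (hx : x ∉ p.map (algebraMap R S))
    (T : Type u) [AddCommGroup T] [Module R T] (hT : ∀ a ∈ p, ∀ t : T, a • t = 0)
    (htf : ∀ r ∉ p, ∀ t : T, r • t = 0 → t = 0) : Reg (R := R) x T := by
  classical
  intro z hz
  obtain ⟨T₀, hfin, hsub⟩ :=
    TensorProduct.exists_finite_submodule_right_of_setFinite ({z} : Set (S ⊗[R] T))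
      (Set.finite_singleton z)
  obtain ⟨z₀, hz₀⟩ := hsub (Set.mem_singleton z)
  have hz₀' : T₀.subtype.baseChange S z₀ = z := hz₀
  have hinj₀ : Function.Injective (T₀.subtype.baseChange S) :=
    Module.Flat.lTensor_preserves_injective_linearMap (M := S) T₀.subtype T₀.injective_subtype
  have hxz₀ : x • z₀ = 0 := by
    apply hinj₀
    rw [map_smul, hz₀', hz, map_zero]
  -- `T₀` as an `R ⧸ p`-module
  have hTB : Module.IsTorsionBySet R T₀ (p : Set R) := by
    intro t a
    apply Subtype.ext
    have := hT a a.2 (t : T)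
    simpa using this
  letI modD : Module (R ⧸ p) T₀ := hTB.module
  haveI : IsScalarTower R (R ⧸ p) T₀ := hTB.isScalarTower
  haveI : Module.Finite (R ⧸ p) T₀ := Module.Finite.of_restrictScalars_finite R (R ⧸ p) T₀
  haveI : Module.IsTorsionFree (R ⧸ p) T₀ := by
    refine ⟨fun r hr t₁ t₂ h => ?_⟩
    obtain ⟨r₀, rfl⟩ := Ideal.Quotient.mk_surjective r
    have hr₀ : r₀ ∉ p := by
      intro hmem
      have h0 : (Ideal.Quotient.mk p r₀) = 0 := Ideal.Quotient.eq_zero_iff_mem.mpr hmem
      rw [h0] at hr
      exact hr.ne_zero rfl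
    have h1 : r₀ • (t₁ - t₂) = 0 := by
      have h' : (Ideal.Quotient.mk p r₀) • (t₁ - t₂) = 0 := by
        rw [smul_sub]
        exact sub_eq_zero.mpr h
      exact h'
    have h2 : ((t₁ - t₂ : T₀) : T) = 0 := by
      apply htf r₀ hr₀
      have := congrArg (fun t : T₀ => (t : T)) h1
      simpa using this
    exact sub_eq_zero.mp (Subtype.ext h2)
  obtain ⟨m, f, hf⟩ := (Groth.Agent.S6867.result (R ⧸ p) T₀).mp inferInstance
  let fR : T₀ →ₗ[R] (Fin m → R ⧸ p) := f.restrictScalars R
  have hfinj : Function.Injective (fR.baseChange S) :=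
    Module.Flat.lTensor_preserves_injective_linearMap (M := S) fR hf
  -- `x` acts injectively on `S ⊗ (R/p)^m`
  let e₁ : S ⊗[R] (Fin m → R ⧸ p) ≃ₗ[S] (Fin m → S ⊗[R] (R ⧸ p)) :=
    TensorProduct.piRight R S S (fun _ : Fin m => R ⧸ p)
  let e₂ : (S ⧸ p.map (algebraMap R S)) ≃ₗ[S] S ⊗[R] (R ⧸ p) :=
    (Algebra.TensorProduct.quotIdealMapEquivTensorQuot S p).toLinearEquiv
  have hreg : ∀ w : S ⊗[R] (Fin m → R ⧸ p), x • w = 0 → w = 0 := by
    intro w hw
    apply e₁.injective
    rw [map_zero]
    funext k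
    apply e₂.symm.injective
    have h1 : x • e₂.symm (e₁ w k) = 0 := by
      rw [← map_smul]
      have : x • e₁ w k = (e₁ (x • w)) k := by rw [map_smul]; rfl
      rw [this, hw, map_zero]
      simp
    rw [Algebra.smul_def, Ideal.Quotient.algebraMap_eq] at h1
    rcases mul_eq_zero.mp h1 with h | h
    · exact absurd (Ideal.Quotient.eq_zero_iff_mem.mp h) hx
    · rw [h]; simp
  have hw : fR.baseChange S z₀ = 0 := by
    apply hreg
    rw [← map_smul, hxz₀, map_zero]
  have hz₀0 : z₀ = 0 := hfinj (by rw [hw, map_zero])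
  rw [← hz₀', hz₀0, map_zero]

end Groth.Agent.Lib.Helper2.SymbFlat
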