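import Groth.Agent.Lib.Helper1.ExtPowBidual
import Groth.Agent.Lib.helper19.SmoothOmega
import Groth.Agent.Lib.Helper28.ProjSpaceBasic
import Groth.Agent.Lib.Helper28.TensorPowGen
import Groth.Agent.Lib.Helper4.SmoothRed
import Groth.Prelude.Def_Canon
import Groth.Prelude.Def_RedSub

/-!
# Small bridges (helper2)

* `isProper_of_isLocallyProjective`: `RedSub.IsLocallyProjective (Over.mk f)` implies `IsProper f`.
* `geometricallyReduced_of_smooth`: a smooth morphism is geometrically reduced.
* `isInvertible_of_isTopDiff`: for `f` smooth of relative dimension `n`, an `n`-th exterior power of `Ω_f` is invertible.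
-/

set_option backward.isDefEq.respectTransparency.types false
set_option autoImplicit false
set_option linter.style.haveILetI false
universe u
open CategoryTheory CategoryTheory.Limits AlgebraicGeometry Opposite TopologicalSpace

namespace Groth.Agent.Lib.Helper2.TopDiffInv

theorem isProper_of_isLocallyProjective {X S : Scheme.{u}} (f : X ⟶ S)
    (h : RedSub.IsLocallyProjective (Over.mk f)) : IsProper f := by
  choose V hsV n e he hcomp using h
  refine IsZariskiLocalAtTarget.of_iSup_eq_top (P := @IsProper) V ?_ fun s => ?_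
  · exact top_unique fun x _ => Opens.mem_iSup.2 ⟨x, hsV x⟩
  · have h1 : IsProper ((Red.bc (V s).ι (Over.mk f)).hom) := by
      rw [← hcomp s]
      haveI := he s
      haveI := Groth.Agent.Lib.Helper28.ProjSpaceBasic.isProper_toBase (n s) (V s)
      infer_instance
    have h2 : IsProper (pullback.snd f (V s).ι) := h1
    rw [← pullbackRestrictIsoRestrict_hom_morphismRestrict] at h2
    exact (MorphismProperty.cancel_left_of_respectsIso @IsProper _ _).1 h2

theorem geometricallyReduced_of_smooth {X S : Scheme.{u}} (f : X ⟶ S) [Smooth f] : GeometricallyReduced f := by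
  refine ⟨fun K _ y Z fst snd h => ?_⟩
  haveI : Smooth snd := MorphismProperty.of_isPullback (P := @Smooth) h inferInstance
  exact Groth.Agent.Lib.Helper4.SmoothRed.isReduced_of_smooth_to_field snd

theorem isInvertible_of_isTopDiff {X S : Scheme.{u}} (f : X ⟶ S) [QuasiSeparated f] (n : ℕ)
    [SmoothOfRelativeDimension n f]
    (ω : X.Modules) (hω : Canon.IsTopDiff f n ω) : PicF.IsInvertible ω := by
  have hΩ : FlatMod.IsFinLocFreeOfRank n (Omega.sheaf f) :=
    Groth.Agent.Lib.Helper19.SmoothOmega.locFree_of_smoothOfRelativeDimension f n (Omega.sheaf f)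
      (OmegaSh.dOmega f) (Groth.Agent.Lib.Helper29.OmegaUniv.isUniversal_dOmega f)
  refine Groth.Agent.Lib.Helper28.GenLocus.isInvertible_of_isGen ω fun x => ?_
  obtain ⟨W, hxW, ⟨e⟩⟩ := hΩ x
  obtain ⟨V, hV, hxV, hVW⟩ := (Opens.isBasis_iff_nbhd.1 X.isBasis_affineOpens) hxW
  obtain ⟨e''⟩ := Groth.Agent.Lib.Helper29.FreeIso.nonempty_iso_freeMod_of_le (Omega.sheaf f) hVW n e
  obtain ⟨g, hg⟩ := Groth.Agent.Lib.Helper1.ExtPowGen.exists_isGen_of_isExtPow hω V hV e''
  exact ⟨V, g, hxV, Groth.Agent.Lib.Helper29.ZeroSch.isGen28_of_isGen hg⟩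

end Groth.Agent.Lib.Helper2.TopDiffInv
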