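import Groth.Agent.Lib.Helper2.TorSpan
import Groth.Agent.Lib.Helper2.FlatLoc
import Groth.Agent.Lib.Helper2.AssFlat
import Groth.Agent.Lib.Helper2.SemiLocal
import Groth.Agent.Lib.Helper2.FlatSquare
import Mathlib.RingTheory.Ideal.Over

/-!
Helper library (helper2): Stacks 10.99.12 in abstract form. `N = R' ⊗[R] M` (given via
`IsBaseChange`), `S'` a flat `T`-algebra where `N` is a `T`-module; `P = S' ⊗[T] N`.
-/

set_option autoImplicit false

namespace Groth.Agent.Lib.Helper2.TorBaseChange

open TensorProduct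

variable {R R' T S' : Type*} [CommRing R] [CommRing R'] [CommRing T] [CommRing S']
  [Algebra R R'] [Algebra R' T] [Algebra T S'] [Algebra R' S'] [IsScalarTower R' T S']
  [Module.Flat T S']
  (I : Ideal R) {M : Type*} [AddCommGroup M] [Module R M]
  [Module.Flat (R ⧸ I) ((R ⧸ I) ⊗[R] M)]
  {N : Type*} [AddCommGroup N] [Module T N] [Module R' N] [Module R N] [IsScalarTower R' T N]
  [IsScalarTower R R' N]
  (g₀ : M →ₗ[R] N) (hg₀ : IsBaseChange R' g₀)

include hg₀ in
lemma flat_quotient_tensor :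
    Module.Flat (R' ⧸ I.map (algebraMap R R')) ((R' ⧸ I.map (algebraMap R R')) ⊗[R'] N) := by
  have h1 : Module.Flat (R' ⧸ I.map (algebraMap R R'))
      ((R' ⧸ I.map (algebraMap R R')) ⊗[R] M) :=
    SemiLocal.flat_baseChange_of_flat_baseChange (A := R) (B := R ⧸ I)
      (C := R' ⧸ I.map (algebraMap R R')) M inferInstance
  have h2 : Module.Flat (R' ⧸ I.map (algebraMap R R'))
      ((R' ⧸ I.map (algebraMap R R')) ⊗[R'] (R' ⊗[R] M)) :=
    (SemiLocal.flat_tensor_tensor_iff (A := R) (B := R') (C := R' ⧸ I.map (algebraMap R R')) M).mpr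
      h1
  exact Module.Flat.of_linearEquiv (AlgebraTensorModule.congr
    (LinearEquiv.refl (R' ⧸ I.map (algebraMap R R')) (R' ⧸ I.map (algebraMap R R')))
    hg₀.equiv.symm)

include hg₀ in
/-- Conclusion A: `P/I'P` is flat over `R'/I'`. -/
theorem flat_quotient :
    Module.Flat (R' ⧸ I.map (algebraMap R R'))
      ((R' ⧸ I.map (algebraMap R R')) ⊗[R'] (S' ⊗[T] N)) := by
  haveI := flat_quotient_tensor I g₀ hg₀
  apply AssFlat.flat_quotient_of_forall_injective
  intro Q'
  apply FlatLoc.lTensor_injective_of_forall_ker N Q'.subtype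
  intro y hy
  have hinj : Function.Injective (Q'.subtype.lTensor N) :=
    PowCrit.injective_submodule_quotient_of_flat (I.map (algebraMap R R')) Q'
  have : y = 0 := hinj (by rw [hy, map_zero])
  rw [this, map_zero]

include hg₀ in
/-- Conclusion B: `P ⊗ I' → P` is injective if the kernel of `M ⊗ I → M` dies in `P ⊗ I'`. -/
theorem lTensor_map_injective
    (ϑ : M ⊗[R] I →+ (S' ⊗[T] N) ⊗[R'] (I.map (algebraMap R R')))
    (hϑ : ∀ (m : M) (i : I), ϑ (m ⊗ₜ i) =
      ((1 : S') ⊗ₜ[T] g₀ m) ⊗ₜ[R'] (Algebra.idealMap R' I i))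
    (hker : ∀ κ : M ⊗[R] I, I.subtype.lTensor M κ = 0 → ϑ κ = 0) :
    Function.Injective ((I.map (algebraMap R R')).subtype.lTensor (S' ⊗[T] N)) := by
  apply FlatLoc.lTensor_injective_of_forall_ker N (I.map (algebraMap R R')).subtype
  intro y hy
  -- the bridge maps
  let β : M ⊗[R] (I.map (algebraMap R R')) →ₗ[R] N ⊗[R'] (I.map (algebraMap R R')) :=
    (TensorProduct.mapOfCompatibleSMul R' R R N (I.map (algebraMap R R'))) ∘ₗ
      (g₀.rTensor (I.map (algebraMap R R')))
  let βR : M ⊗[R] R' →ₗ[R] N ⊗[R'] R' :=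
    (TensorProduct.mapOfCompatibleSMul R' R R N R') ∘ₗ (g₀.rTensor R')
  have hβ : ∀ (m : M) (z : I.map (algebraMap R R')), β (m ⊗ₜ z) = g₀ m ⊗ₜ[R'] z := fun _ _ => rfl
  have hβR : ∀ (m : M) (z : R'), βR (m ⊗ₜ z) = g₀ m ⊗ₜ[R'] z := fun _ _ => rfl
  have hβsurj : Function.Surjective β := by
    have key : ∀ (n : N) (z : I.map (algebraMap R R')), n ⊗ₜ[R'] z ∈ LinearMap.range β := by
      intro n
      refine hg₀.inductionOn n (fun n => ∀ z : I.map (algebraMap R R'),
        n ⊗ₜ[R'] z ∈ LinearMap.range β) ?_ ?_ ?_ ?_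
      · intro z
        rw [zero_tmul]
        exact zero_mem _
      · intro m z
        exact ⟨m ⊗ₜ z, hβ m z⟩
      · intro r' n ih z
        rw [smul_tmul]
        exact ih (r' • z)
      · intro n₁ n₂ h₁ h₂ z
        rw [add_tmul]
        exact add_mem (h₁ z) (h₂ z)
    intro w
    induction w with
    | zero => exact ⟨0, map_zero _⟩
    | add a b ha hb =>
      obtain ⟨a', rfl⟩ := ha
      obtain ⟨b', rfl⟩ := hb
      exact ⟨a' + b', map_add _ _ _⟩
    | tmul n z => exact key n z
  have hβRinj : Function.Injective βR := by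
    have h1 : ∀ z : M ⊗[R] R', TensorProduct.rid R' N (βR z) =
        hg₀.equiv (TensorProduct.comm R M R' z) := by
      intro z
      induction z with
      | zero => simp
      | add a b ha hb => simp only [map_add, ha, hb]
      | tmul m r' =>
        rw [hβR, TensorProduct.rid_tmul, TensorProduct.comm_tmul, IsBaseChange.equiv_tmul]
    intro a b hab
    apply (TensorProduct.comm R M R').injective
    apply hg₀.equiv.injective
    rw [← h1, ← h1, hab]
  have hnat : ∀ x : M ⊗[R] (I.map (algebraMap R R')),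
      (I.map (algebraMap R R')).subtype.lTensor N (β x) =
        βR (((I.map (algebraMap R R')).subtype.restrictScalars R).lTensor M x) := by
    intro x
    induction x with
    | zero => simp
    | add a b ha hb => simp only [map_add, ha, hb]
    | tmul m z => rfl
  obtain ⟨x, rfl⟩ := hβsurj y
  have hx : ((I.map (algebraMap R R')).subtype.restrictScalars R).lTensor M x = 0 := by
    apply hβRinj
    rw [← hnat, hy, map_zero]
  -- the test map
  letI modZ : Module R ((S' ⊗[T] N) ⊗[R'] (I.map (algebraMap R R'))) :=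
    Module.compHom _ (algebraMap R R')
  haveI : IsScalarTower R R' ((S' ⊗[T] N) ⊗[R'] (I.map (algebraMap R R'))) :=
    IsScalarTower.of_algebraMap_smul fun _ _ => rfl
  let G : N ⊗[R'] (I.map (algebraMap R R')) →ₗ[R']
      (S' ⊗[T] N) ⊗[R'] (I.map (algebraMap R R')) :=
    (FlatLoc.mkR R' T N (1 : S')).rTensor (I.map (algebraMap R R'))
  let Λ : M ⊗[R] (I.map (algebraMap R R')) →ₗ[R]
      (S' ⊗[T] N) ⊗[R'] (I.map (algebraMap R R')) := (G.restrictScalars R) ∘ₗ β
  have hY : I • (⊤ : Submodule R R') ≤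
      LinearMap.range ((I.map (algebraMap R R')).subtype.restrictScalars R) := by
    rw [Submodule.smul_le]
    intro i hi r' _
    refine ⟨⟨i • r', ?_⟩, rfl⟩
    rw [Algebra.smul_def]
    exact Ideal.mul_mem_right _ _ (Ideal.mem_map_of_mem _ hi)
  have hΛ : ∀ κ : M ⊗[R] I, I.subtype.lTensor M κ = 0 →
      ∀ (ν : I →ₗ[R] (I.map (algebraMap R R'))) (r' : R'),
      (∀ i : I, ((I.map (algebraMap R R')).subtype.restrictScalars R) (ν i) = (i : R) • r') →
      Λ (ν.lTensor M κ) = 0 := by
    intro κ hκ ν r' hν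
    have hform : ∀ κ' : M ⊗[R] I, Λ (ν.lTensor M κ') = r' • ϑ κ' := by
      intro κ'
      induction κ' with
      | zero => simp
      | add a b ha hb => simp only [map_add, ha, hb, smul_add]
      | tmul m i =>
        rw [hϑ, LinearMap.lTensor_tmul]
        show G (β (m ⊗ₜ ν i)) = _
        rw [hβ]
        show ((1 : S') ⊗ₜ[T] g₀ m) ⊗ₜ[R'] ν i = _
        rw [← TensorProduct.tmul_smul]
        congr 1
        apply Subtype.ext
        have := hν i
        simp only [LinearMap.coe_restrictScalars, Submodule.subtype_apply] at this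
        rw [this, Algebra.smul_def]
        simp [mul_comm]
    rw [hform, hker κ hκ, smul_zero]
  have key := TorSpan.kills_ker' (M := M)
    (Z := (S' ⊗[T] N) ⊗[R'] (I.map (algebraMap R R'))) I
    ((I.map (algebraMap R R')).subtype.restrictScalars R)
    Subtype.val_injective hY Λ
  exact key hΛ x hx

end Groth.Agent.Lib.Helper2.TorBaseChange
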