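import Groth.Agent.Lib.Helper2.FibreCrit
import Mathlib.LinearAlgebra.TensorProduct.Associator
import Mathlib.LinearAlgebra.Finsupp.LinearCombination

/-!
Helper library (helper2): `Tor₁(Q, M) = 0` for `Q` killed by a power of an ideal `I`, given
`M ⊗ I ↪ M` and `M/IM` flat over `R/I` (Stacks 051C), in `Tor`-free language:
`M ⊗ N' → M ⊗ N` is injective for all submodules `N' ≤ N` with `I ^ m • ⊤ ≤ N'`.
-/

set_option autoImplicit false

namespace Groth.Agent.Lib.Helper2.TorKill

open TensorProduct

section A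

variable {R : Type*} [CommRing R] (I : Ideal R) {M : Type*} [AddCommGroup M] [Module R M]

section Flat

variable {F : Type*} [AddCommGroup F] [Module R F] [Module.Flat R F]

/-- `M ⊗ IF → M ⊗ F` is injective for flat `F` when `M ⊗ I → M` is injective. -/
lemma lTensor_smul_top_subtype_injective (h1 : Function.Injective (I.subtype.lTensor M)) :
    Function.Injective ((I • (⊤ : Submodule R F)).subtype.lTensor M) := by
  let ν : I ⊗[R] F →ₗ[R] F := (TensorProduct.lid R F).toLinearMap ∘ₗ I.subtype.rTensor F
  have hνt : ∀ (i : I) (x : F), ν (i ⊗ₜ x) = (i : R) • x := fun i x => by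
    simp [ν]
  have hν : ∀ z, ν z ∈ I • (⊤ : Submodule R F) := by
    intro z
    induction z with
    | zero => rw [map_zero]; exact zero_mem _
    | add a b ha hb => rw [map_add]; exact add_mem ha hb
    | tmul i x =>
      rw [hνt]
      exact Submodule.smul_mem_smul i.2 Submodule.mem_top
  let μ : I ⊗[R] F →ₗ[R] (I • (⊤ : Submodule R F) : Submodule R F) := ν.codRestrict _ hν
  have hμ : Function.Surjective μ := by
    rintro ⟨y, hy⟩
    have : ∃ z, ν z = y := by
      refine Submodule.smul_induction_on hy ?_ ?_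
      · intro r hr x _
        exact ⟨(⟨r, hr⟩ : I) ⊗ₜ x, hνt _ _⟩
      · rintro a b ⟨za, rfl⟩ ⟨zb, rfl⟩
        exact ⟨za + zb, map_add _ _ _⟩
    obtain ⟨z, hz⟩ := this
    exact ⟨z, Subtype.ext hz⟩
  have hcomp : (I • (⊤ : Submodule R F)).subtype ∘ₗ μ = ν := by
    ext z; rfl
  have hνinj : Function.Injective (ν.lTensor M) := by
    have hF : Function.Injective ((I.subtype.lTensor M).rTensor F) :=
      Module.Flat.rTensor_preserves_injective_linearMap _ h1
    have hnat := LinearMap.lTensor_rTensor_comp_assoc (R := R) I (P := M) (Q := F) I.subtype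
    have h2 : Function.Injective ((I.subtype.rTensor F).lTensor M) := by
      intro a b hab
      obtain ⟨a', rfl⟩ := (TensorProduct.assoc R M I F).surjective a
      obtain ⟨b', rfl⟩ := (TensorProduct.assoc R M I F).surjective b
      have ha := LinearMap.congr_fun hnat a'
      have hb := LinearMap.congr_fun hnat b'
      simp only [LinearMap.comp_apply, LinearEquiv.coe_coe] at ha hb
      rw [ha, hb] at hab
      rw [hF ((TensorProduct.assoc R M R F).injective hab)]
    show Function.Injective (((TensorProduct.lid R F).toLinearMap ∘ₗ I.subtype.rTensor F).lTensor M)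
    rw [LinearMap.lTensor_comp, LinearMap.coe_comp]
    exact (LinearEquiv.lTensor M (TensorProduct.lid R F)).injective.comp h2
  intro a b hab
  obtain ⟨a', rfl⟩ := LinearMap.lTensor_surjective M hμ a
  obtain ⟨b', rfl⟩ := LinearMap.lTensor_surjective M hμ b
  rw [← LinearMap.comp_apply, ← LinearMap.comp_apply, ← LinearMap.lTensor_comp, hcomp] at hab
  rw [hνinj hab]

/-- Step 1: `M ⊗ K → M ⊗ F` injective for `F` flat, `IF ≤ K ≤ F`. -/
lemma lTensor_subtype_injective_of_flat [Module.Flat (R ⧸ I) ((R ⧸ I) ⊗[R] M)]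
    (h1 : Function.Injective (I.subtype.lTensor M)) (K : Submodule R F)
    (hK : I • (⊤ : Submodule R F) ≤ K) :
    Function.Injective (K.subtype.lTensor M) := by
  let q : F →ₗ[R] F ⧸ (I • (⊤ : Submodule R F)) := Submodule.mkQ _
  have hsm : ∀ (r : R) (x : F ⧸ (I • (⊤ : Submodule R F))),
      (Ideal.Quotient.mk I r) • x = r • x := by
    intro r x
    obtain ⟨y, rfl⟩ := Submodule.mkQ_surjective _ x
    rw [Submodule.mkQ_apply, Module.Quotient.mk_smul_mk, Submodule.Quotient.mk_smul]
  haveI : IsScalarTower R (R ⧸ I) (F ⧸ (I • (⊤ : Submodule R F))) :=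
    IsScalarTower.of_algebraMap_smul fun r x => hsm r x
  let Kbar : Submodule (R ⧸ I) (F ⧸ (I • (⊤ : Submodule R F))) :=
    { carrier := K.map q
      add_mem' := fun ha hb => (K.map q).add_mem ha hb
      zero_mem' := (K.map q).zero_mem
      smul_mem' := by
        intro c x hx
        obtain ⟨r, rfl⟩ := Ideal.Quotient.mk_surjective c
        rw [hsm]
        exact (K.map q).smul_mem r hx }
  let ψ : K →ₗ[R] Kbar :=
    { toFun := fun k => ⟨q k, ⟨k, k.2, rfl⟩⟩
      map_add' := fun a b => Subtype.ext (by simp)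
      map_smul' := fun r a => Subtype.ext (by simp) }
  have hψsurj : Function.Surjective ψ := by
    rintro ⟨y, ⟨k, hk, rfl⟩⟩
    exact ⟨⟨k, hk⟩, rfl⟩
  have hcomp : (Kbar.subtype.restrictScalars R) ∘ₗ ψ = q ∘ₗ K.subtype := by
    ext k; rfl
  let ι₀ : (I • (⊤ : Submodule R F) : Submodule R F) →ₗ[R] K := Submodule.inclusion hK
  have hexact : Function.Exact ι₀ ψ := by
    intro k
    constructor
    · intro hk
      have h0 : q k = 0 := congrArg (fun z : Kbar => (z : F ⧸ (I • (⊤ : Submodule R F)))) hk
      have hmem : (k : F) ∈ I • (⊤ : Submodule R F) := (Submodule.Quotient.mk_eq_zero _).mp h0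
      exact ⟨⟨k, hmem⟩, Subtype.ext rfl⟩
    · rintro ⟨k₀, rfl⟩
      apply Subtype.ext
      show q (k₀ : F) = 0
      exact (Submodule.Quotient.mk_eq_zero _).mpr k₀.2
  have hbar : Function.Injective ((Kbar.subtype.restrictScalars R).lTensor M) :=
    LocalCrit.lTensor_injective_of_flat_baseChange (A := R ⧸ I) Kbar.subtype
      Kbar.injective_subtype
  have hex : Function.Exact (ι₀.lTensor M) (ψ.lTensor M) := lTensor_exact M hexact hψsurj
  rw [injective_iff_map_eq_zero]
  intro x hx
  have h2 : ψ.lTensor M x = 0 := by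
    apply hbar
    rw [map_zero, ← LinearMap.comp_apply, ← LinearMap.lTensor_comp, hcomp, LinearMap.lTensor_comp,
      LinearMap.comp_apply, hx, map_zero]
  obtain ⟨x₀, rfl⟩ := (hex x).mp h2
  have h3 : (I • (⊤ : Submodule R F)).subtype.lTensor M x₀ = 0 := by
    rw [← hx, ← LinearMap.comp_apply, ← LinearMap.lTensor_comp]
    rfl
  have h4 : x₀ = 0 := lTensor_smul_top_subtype_injective I h1 (by rw [h3, map_zero])
  rw [h4, map_zero]

/-- Step 2 with an arbitrary flat cover `π : F → N`. -/
lemma lTensor_subtype_injective_aux [Module.Flat (R ⧸ I) ((R ⧸ I) ⊗[R] M)]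
    (h1 : Function.Injective (I.subtype.lTensor M)) {N : Type*} [AddCommGroup N] [Module R N]
    (π : F →ₗ[R] N) (hπ : Function.Surjective π)
    (N' : Submodule R N) (hN' : I • (⊤ : Submodule R N) ≤ N') :
    Function.Injective (N'.subtype.lTensor M) := by
  let K : Submodule R F := N'.comap π
  have hK : I • (⊤ : Submodule R F) ≤ K := by
    rw [Submodule.smul_le]
    intro r hr x _
    show π (r • x) ∈ N'
    rw [map_smul]
    exact hN' (Submodule.smul_mem_smul hr Submodule.mem_top)
  have hKinj := lTensor_subtype_injective_of_flat I h1 K hK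
  let π' : K →ₗ[R] N' := π.restrict (fun x hx => hx)
  have hπ' : Function.Surjective π' := by
    rintro ⟨n, hn⟩
    obtain ⟨x, rfl⟩ := hπ n
    exact ⟨⟨x, hn⟩, rfl⟩
  have hcomm : N'.subtype ∘ₗ π' = π ∘ₗ K.subtype := by
    ext x; rfl
  have hZK : LinearMap.ker π ≤ K := fun x hx => by
    show π x ∈ N'
    rw [LinearMap.mem_ker.mp hx]
    exact zero_mem _
  have hexF : Function.Exact (LinearMap.ker π).subtype π := LinearMap.exact_subtype_ker_map π
  have hexM : Function.Exact ((LinearMap.ker π).subtype.lTensor M) (π.lTensor M) :=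
    lTensor_exact M hexF hπ
  rw [injective_iff_map_eq_zero]
  intro x hx
  obtain ⟨x', rfl⟩ := LinearMap.lTensor_surjective M hπ' x
  have h2 : π.lTensor M (K.subtype.lTensor M x') = 0 := by
    rw [← LinearMap.comp_apply, ← LinearMap.lTensor_comp, ← hcomm, LinearMap.lTensor_comp,
      LinearMap.comp_apply, hx]
  obtain ⟨z, hz⟩ := (hexM _).mp h2
  have h3 : K.subtype.lTensor M ((Submodule.inclusion hZK).lTensor M z) =
      K.subtype.lTensor M x' := by
    rw [← hz, ← LinearMap.comp_apply, ← LinearMap.lTensor_comp]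
    rfl
  have h4 := hKinj h3
  have h5 : π' ∘ₗ Submodule.inclusion hZK = 0 := by
    ext z
    exact LinearMap.mem_ker.mp z.2
  rw [← h4, ← LinearMap.comp_apply, ← LinearMap.lTensor_comp, h5, LinearMap.lTensor_zero,
    LinearMap.zero_apply]

end Flat

/-- (a): `Tor₁(N/N', M) = 0` when `N/N'` is killed by `I`. -/
theorem lTensor_subtype_injective [Module.Flat (R ⧸ I) ((R ⧸ I) ⊗[R] M)]
    (h1 : Function.Injective (I.subtype.lTensor M)) {N : Type*} [AddCommGroup N] [Module R N]
    (N' : Submodule R N) (hN' : I • (⊤ : Submodule R N) ≤ N') :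
    Function.Injective (N'.subtype.lTensor M) :=
  lTensor_subtype_injective_aux I h1 (F := N →₀ R) (Finsupp.linearCombination R id)
    (fun n => ⟨Finsupp.single n 1, by simp⟩) N' hN'

universe v

/-- `Tor₁(N/N', M) = 0` when `N/N'` is killed by a power of `I`. -/
theorem lTensor_subtype_injective_of_pow [Module.Flat (R ⧸ I) ((R ⧸ I) ⊗[R] M)]
    (h1 : Function.Injective (I.subtype.lTensor M)) :
    ∀ (m : ℕ) (N : Type v) [AddCommGroup N] [Module R N] (N' : Submodule R N),
      I ^ m • (⊤ : Submodule R N) ≤ N' → Function.Injective (N'.subtype.lTensor M) := by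
  intro m
  induction m with
  | zero =>
    intro N _ _ N' hN'
    have htop : N' = ⊤ := by
      rw [eq_top_iff]
      refine le_trans ?_ hN'
      rw [pow_zero, Ideal.one_eq_top, Submodule.top_smul]
    have hbij : Function.Bijective N'.subtype := by
      refine ⟨N'.injective_subtype, fun n => ⟨⟨n, ?_⟩, rfl⟩⟩
      rw [htop]; exact Submodule.mem_top
    let e : N' ≃ₗ[R] N := LinearEquiv.ofBijective N'.subtype hbij
    exact (LinearEquiv.lTensor M e).injective
  | succ m ih =>
    intro N _ _ N' hN'
    let N'' : Submodule R N := N' ⊔ I ^ m • ⊤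
    have h'' : Function.Injective (N''.subtype.lTensor M) := ih N N'' le_sup_right
    have hle : N' ≤ N'' := le_sup_left
    let P' : Submodule R N'' := N'.comap N''.subtype
    have hP' : I • (⊤ : Submodule R N'') ≤ P' := by
      rw [Submodule.smul_le]
      rintro r hr ⟨y, hy⟩ _
      show r • y ∈ N'
      obtain ⟨a, ha, b, hb, rfl⟩ := Submodule.mem_sup.mp hy
      rw [smul_add]
      refine add_mem (N'.smul_mem r ha) (hN' ?_)
      rw [pow_succ', Submodule.mul_smul]
      exact Submodule.smul_mem_smul hr hb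
    have hP'inj : Function.Injective (P'.subtype.lTensor M) :=
      lTensor_subtype_injective I h1 P' hP'
    let e : P' ≃ₗ[R] N' := Submodule.comapSubtypeEquivOfLe hle
    have hcomp : N'.subtype = N''.subtype ∘ₗ P'.subtype ∘ₗ e.symm.toLinearMap := by
      ext x; rfl
    rw [hcomp, LinearMap.lTensor_comp, LinearMap.lTensor_comp, LinearMap.coe_comp,
      LinearMap.coe_comp]
    exact h''.comp (hP'inj.comp (LinearEquiv.lTensor M e.symm).injective)

/-- Local criterion of flatness for a nilpotent ideal (no finiteness hypotheses). -/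
theorem flat_of_isNilpotent (hI : IsNilpotent I) [Module.Flat (R ⧸ I) ((R ⧸ I) ⊗[R] M)]
    (h1 : Function.Injective (I.subtype.lTensor M)) : Module.Flat R M := by
  obtain ⟨n, hn⟩ := hI
  rw [Module.Flat.iff_lTensor_injective]
  intro J _
  refine lTensor_subtype_injective_of_pow I h1 n R J ?_
  rw [hn, Ideal.zero_eq_bot, Submodule.bot_smul]
  exact bot_le

end A

end Groth.Agent.Lib.Helper2.TorKill
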