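import Groth.Agent.Lib.Helper2.TorKill

/-!
Helper library (helper2): description of `Tor₁(Y/Y', M)` for `Y/Y'` killed by `I` when `M/IM` is
flat over `R/I` (without assuming `Tor₁(R/I, M) = 0`), in test-map form: an `R`-linear map out of
`M ⊗ Y'` which kills all `κ · y` (`κ ∈ ker (M ⊗ I → M)`, `y ∈ Y`) kills `ker (M ⊗ Y' → M ⊗ Y)`.
-/

set_option autoImplicit false

namespace Groth.Agent.Lib.Helper2.TorSpan

open TensorProduct

variable {R : Type*} [CommRing R] (I : Ideal R) {M : Type*} [AddCommGroup M] [Module R M]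

/-- multiplication by `y : Y` as a map `I → Y'`, when `I Y ≤ Y'`. -/
def mulTo {Y : Type*} [AddCommGroup Y] [Module R Y] (Y' : Submodule R Y)
    (hY : I • (⊤ : Submodule R Y) ≤ Y') (y : Y) : I →ₗ[R] Y' where
  toFun i := ⟨(i : R) • y, hY (Submodule.smul_mem_smul i.2 Submodule.mem_top)⟩
  map_add' a b := Subtype.ext (by simp [add_smul])
  map_smul' r a := Subtype.ext (by simp [mul_smul])

/-- the test hypothesis on a linear map `Λ` out of `M ⊗ Y'`. -/
def Kills {Y : Type*} [AddCommGroup Y] [Module R Y] (Y' : Submodule R Y)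
    (hY : I • (⊤ : Submodule R Y) ≤ Y') {Z : Type*} [AddCommGroup Z] [Module R Z]
    (Λ : M ⊗[R] Y' →ₗ[R] Z) : Prop :=
  ∀ κ : M ⊗[R] I, I.subtype.lTensor M κ = 0 → ∀ y : Y, Λ ((mulTo I Y' hY y).lTensor M κ) = 0

section Flat

variable {F : Type*} [AddCommGroup F] [Module R F] [Module.Flat R F]

lemma kills_smul_top {Z : Type*} [AddCommGroup Z] [Module R Z]
    (Λ : M ⊗[R] (I • (⊤ : Submodule R F) : Submodule R F) →ₗ[R] Z)
    (hΛ : Kills I (I • (⊤ : Submodule R F)) le_rfl Λ)
    (x : M ⊗[R] (I • (⊤ : Submodule R F) : Submodule R F))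
    (hx : (I • (⊤ : Submodule R F)).subtype.lTensor M x = 0) : Λ x = 0 := by
  let ν : I ⊗[R] F →ₗ[R] F := (TensorProduct.lid R F).toLinearMap ∘ₗ I.subtype.rTensor F
  have hνt : ∀ (i : I) (x : F), ν (i ⊗ₜ x) = (i : R) • x := fun i x => by
    simp [ν]
  have hν : ∀ z, ν z ∈ I • (⊤ : Submodule R F) := by
    intro z
    induction z with
    | zero => rw [map_zero]; exact zero_mem _
    | add a b ha hb => rw [map_add]; exact add_mem ha hb
    | tmul i x =>
      rw [hνt]
      exact Submodule.smul_mem_smul i.2 Submodule.mem_top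
  let μ : I ⊗[R] F →ₗ[R] (I • (⊤ : Submodule R F) : Submodule R F) := ν.codRestrict _ hν
  have hμ : Function.Surjective μ := by
    rintro ⟨y, hy⟩
    have : ∃ z, ν z = y := by
      refine Submodule.smul_induction_on hy ?_ ?_
      · intro r hr x _
        exact ⟨(⟨r, hr⟩ : I) ⊗ₜ x, hνt _ _⟩
      · rintro a b ⟨za, rfl⟩ ⟨zb, rfl⟩
        exact ⟨za + zb, map_add _ _ _⟩
    obtain ⟨z, hz⟩ := this
    exact ⟨z, Subtype.ext hz⟩
  have hcomp : (I • (⊤ : Submodule R F)).subtype ∘ₗ μ = ν := by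
    ext z; rfl
  obtain ⟨x₂, rfl⟩ := LinearMap.lTensor_surjective M hμ x
  obtain ⟨a, rfl⟩ := (TensorProduct.assoc R M I F).surjective x₂
  -- `a` is killed by `(M ⊗ I → M ⊗ R) ⊗ F`
  have hnat := LinearMap.lTensor_rTensor_comp_assoc (R := R) I (P := M) (Q := F) I.subtype
  have ha : (I.subtype.lTensor M).rTensor F a = 0 := by
    apply (TensorProduct.assoc R M R F).injective
    have h1 := LinearMap.congr_fun hnat a
    simp only [LinearMap.comp_apply, LinearEquiv.coe_coe] at h1
    rw [map_zero, ← h1]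
    apply (LinearEquiv.lTensor M (TensorProduct.lid R F)).injective
    rw [map_zero]
    have h2 : (LinearEquiv.lTensor M (TensorProduct.lid R F))
        ((I.subtype.rTensor F).lTensor M (TensorProduct.assoc R M I F a)) =
        ν.lTensor M (TensorProduct.assoc R M I F a) := by
      show ((TensorProduct.lid R F).toLinearMap.lTensor M)
        ((I.subtype.rTensor F).lTensor M (TensorProduct.assoc R M I F a)) = _
      rw [← LinearMap.comp_apply, ← LinearMap.lTensor_comp]
    rw [h2, ← hcomp, LinearMap.lTensor_comp, LinearMap.comp_apply]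
    exact hx
  -- flatness of `F`
  have hex : Function.Exact ((LinearMap.ker (I.subtype.lTensor M)).subtype.rTensor F)
      ((I.subtype.lTensor M).rTensor F) :=
    Module.Flat.rTensor_exact F (LinearMap.exact_subtype_ker_map (I.subtype.lTensor M))
  have hpure : ∀ (κ' : M ⊗[R] I) (e : F),
      μ.lTensor M (TensorProduct.assoc R M I F (κ' ⊗ₜ e)) =
        (mulTo I (I • (⊤ : Submodule R F)) le_rfl e).lTensor M κ' := by
    intro κ' e
    induction κ' with
    | zero => simp
    | add a b ha hb => simp only [add_tmul, map_add, ha, hb]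
    | tmul m i =>
      simp only [TensorProduct.assoc_tmul, LinearMap.lTensor_tmul]
      congr 1
  have key : ∀ b : (LinearMap.ker (I.subtype.lTensor M)) ⊗[R] F,
      Λ (μ.lTensor M (TensorProduct.assoc R M I F
        ((LinearMap.ker (I.subtype.lTensor M)).subtype.rTensor F b))) = 0 := by
    intro b
    induction b with
    | zero => simp
    | add a b ha hb => simp only [map_add, ha, hb, add_zero]
    | tmul κ e =>
      rw [LinearMap.rTensor_tmul, hpure]
      exact hΛ κ.1 (LinearMap.mem_ker.mp κ.2) e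
  obtain ⟨b, hb⟩ := (hex a).mp ha
  rw [← hb]
  exact key b

/-- Step 1: flat `F`, `IF ≤ K ≤ F`. -/
lemma kills_of_flat [Module.Flat (R ⧸ I) ((R ⧸ I) ⊗[R] M)] (K : Submodule R F)
    (hK : I • (⊤ : Submodule R F) ≤ K) {Z : Type*} [AddCommGroup Z] [Module R Z]
    (Λ : M ⊗[R] K →ₗ[R] Z) (hΛ : Kills I K hK Λ) (x : M ⊗[R] K)
    (hx : K.subtype.lTensor M x = 0) : Λ x = 0 := by
  let q : F →ₗ[R] F ⧸ (I • (⊤ : Submodule R F)) := Submodule.mkQ _
  have hsm : ∀ (r : R) (x : F ⧸ (I • (⊤ : Submodule R F))),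
      (Ideal.Quotient.mk I r) • x = r • x := by
    intro r x
    obtain ⟨y, rfl⟩ := Submodule.mkQ_surjective _ x
    rw [Submodule.mkQ_apply, Module.Quotient.mk_smul_mk, Submodule.Quotient.mk_smul]
  haveI : IsScalarTower R (R ⧸ I) (F ⧸ (I • (⊤ : Submodule R F))) :=
    IsScalarTower.of_algebraMap_smul fun r x => hsm r x
  let Kbar : Submodule (R ⧸ I) (F ⧸ (I • (⊤ : Submodule R F))) :=
    { carrier := K.map q
      add_mem' := fun ha hb => (K.map q).add_mem ha hb
      zero_mem' := (K.map q).zero_mem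
      smul_mem' := by
        intro c x hx
        obtain ⟨r, rfl⟩ := Ideal.Quotient.mk_surjective c
        rw [hsm]
        exact (K.map q).smul_mem r hx }
  let ψ : K →ₗ[R] Kbar :=
    { toFun := fun k => ⟨q k, ⟨k, k.2, rfl⟩⟩
      map_add' := fun a b => Subtype.ext (by simp)
      map_smul' := fun r a => Subtype.ext (by simp) }
  have hψsurj : Function.Surjective ψ := by
    rintro ⟨y, ⟨k, hk, rfl⟩⟩
    exact ⟨⟨k, hk⟩, rfl⟩
  have hcomp : (Kbar.subtype.restrictScalars R) ∘ₗ ψ = q ∘ₗ K.subtype := by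
    ext k; rfl
  let ι₀ : (I • (⊤ : Submodule R F) : Submodule R F) →ₗ[R] K := Submodule.inclusion hK
  have hexact : Function.Exact ι₀ ψ := by
    intro k
    constructor
    · intro hk
      have h0 : q k = 0 := congrArg (fun z : Kbar => (z : F ⧸ (I • (⊤ : Submodule R F)))) hk
      have hmem : (k : F) ∈ I • (⊤ : Submodule R F) := (Submodule.Quotient.mk_eq_zero _).mp h0
      exact ⟨⟨k, hmem⟩, Subtype.ext rfl⟩
    · rintro ⟨k₀, rfl⟩
      apply Subtype.ext
      show q (k₀ : F) = 0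
      exact (Submodule.Quotient.mk_eq_zero _).mpr k₀.2
  have hbar : Function.Injective ((Kbar.subtype.restrictScalars R).lTensor M) :=
    LocalCrit.lTensor_injective_of_flat_baseChange (A := R ⧸ I) Kbar.subtype
      Kbar.injective_subtype
  have hex : Function.Exact (ι₀.lTensor M) (ψ.lTensor M) := lTensor_exact M hexact hψsurj
  have h2 : ψ.lTensor M x = 0 := by
    apply hbar
    rw [map_zero, ← LinearMap.comp_apply, ← LinearMap.lTensor_comp, hcomp, LinearMap.lTensor_comp,
      LinearMap.comp_apply, hx, map_zero]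
  obtain ⟨x₀, hx₀⟩ := (hex x).mp h2
  have h3 : (I • (⊤ : Submodule R F)).subtype.lTensor M x₀ = 0 := by
    rw [← hx, ← hx₀, ← LinearMap.comp_apply, ← LinearMap.lTensor_comp]
    rfl
  have hΛ₀ : Kills I (I • (⊤ : Submodule R F)) le_rfl (Λ ∘ₗ ι₀.lTensor M) := by
    intro κ hκ y
    rw [LinearMap.comp_apply, ← LinearMap.comp_apply (ι₀.lTensor M), ← LinearMap.lTensor_comp]
    exact hΛ κ hκ y
  have := kills_smul_top I (Λ ∘ₗ ι₀.lTensor M) hΛ₀ x₀ h3
  rw [← hx₀]
  exact this

/-- Step 2 with an arbitrary flat cover `π : F → Y`. -/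
lemma kills_aux [Module.Flat (R ⧸ I) ((R ⧸ I) ⊗[R] M)] {Y : Type*} [AddCommGroup Y] [Module R Y]
    (π : F →ₗ[R] Y) (hπ : Function.Surjective π)
    (Y' : Submodule R Y) (hY : I • (⊤ : Submodule R Y) ≤ Y')
    {Z : Type*} [AddCommGroup Z] [Module R Z]
    (Λ : M ⊗[R] Y' →ₗ[R] Z) (hΛ : Kills I Y' hY Λ) (x : M ⊗[R] Y')
    (hx : Y'.subtype.lTensor M x = 0) : Λ x = 0 := by
  let K : Submodule R F := Y'.comap π
  have hK : I • (⊤ : Submodule R F) ≤ K := by
    rw [Submodule.smul_le]
    intro r hr x _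
    show π (r • x) ∈ Y'
    rw [map_smul]
    exact hY (Submodule.smul_mem_smul hr Submodule.mem_top)
  let π' : K →ₗ[R] Y' := π.restrict (fun x hx => hx)
  have hπ' : Function.Surjective π' := by
    rintro ⟨n, hn⟩
    obtain ⟨x, rfl⟩ := hπ n
    exact ⟨⟨x, hn⟩, rfl⟩
  have hcomm : Y'.subtype ∘ₗ π' = π ∘ₗ K.subtype := by
    ext x; rfl
  have hZK : LinearMap.ker π ≤ K := fun x hx => by
    show π x ∈ Y'
    rw [LinearMap.mem_ker.mp hx]
    exact zero_mem _
  have hexF : Function.Exact (LinearMap.ker π).subtype π := LinearMap.exact_subtype_ker_map π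
  have hexM : Function.Exact ((LinearMap.ker π).subtype.lTensor M) (π.lTensor M) :=
    lTensor_exact M hexF hπ
  obtain ⟨x', hx'⟩ := LinearMap.lTensor_surjective M hπ' x
  have h2 : π.lTensor M (K.subtype.lTensor M x') = 0 := by
    rw [← LinearMap.comp_apply, ← LinearMap.lTensor_comp, ← hcomm, LinearMap.lTensor_comp,
      LinearMap.comp_apply, hx', hx]
  obtain ⟨z, hz⟩ := (hexM _).mp h2
  have h5 : π' ∘ₗ Submodule.inclusion hZK = 0 := by
    ext z
    exact LinearMap.mem_ker.mp z.2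
  -- adjust `x'`
  have h3 : K.subtype.lTensor M (x' - (Submodule.inclusion hZK).lTensor M z) = 0 := by
    rw [map_sub, ← hz, ← LinearMap.comp_apply (K.subtype.lTensor M), ← LinearMap.lTensor_comp]
    have : K.subtype ∘ₗ Submodule.inclusion hZK = (LinearMap.ker π).subtype := rfl
    rw [this, sub_self]
  have hΛ' : Kills I K hK (Λ ∘ₗ π'.lTensor M) := by
    intro κ hκ e
    rw [LinearMap.comp_apply, ← LinearMap.comp_apply (π'.lTensor M), ← LinearMap.lTensor_comp]
    have : π' ∘ₗ mulTo I K hK e = mulTo I Y' hY (π e) := by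
      ext i
      show π ((i : R) • e) = (i : R) • π e
      rw [map_smul]
    rw [this]
    exact hΛ κ hκ (π e)
  have h4 := kills_of_flat I K hK (Λ ∘ₗ π'.lTensor M) hΛ' _ h3
  rw [map_sub, LinearMap.comp_apply, LinearMap.comp_apply, hx',
    ← LinearMap.comp_apply (π'.lTensor M), ← LinearMap.lTensor_comp, h5, LinearMap.lTensor_zero,
    LinearMap.zero_apply, map_zero, sub_zero] at h4
  exact h4

end Flat

/-- If `M/IM` is flat over `R/I` and `Y/Y'` is killed by `I`, a linear map out of `M ⊗ Y'` killing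
all `κ · y` with `κ ∈ ker (M ⊗ I → M)` kills `ker (M ⊗ Y' → M ⊗ Y)`. -/
theorem kills_ker [Module.Flat (R ⧸ I) ((R ⧸ I) ⊗[R] M)] {Y : Type*} [AddCommGroup Y]
    [Module R Y] (Y' : Submodule R Y) (hY : I • (⊤ : Submodule R Y) ≤ Y')
    {Z : Type*} [AddCommGroup Z] [Module R Z]
    (Λ : M ⊗[R] Y' →ₗ[R] Z) (hΛ : Kills I Y' hY Λ) (x : M ⊗[R] Y')
    (hx : Y'.subtype.lTensor M x = 0) : Λ x = 0 :=
  kills_aux I (F := Y →₀ R) (Finsupp.linearCombination R id)
    (fun n => ⟨Finsupp.single n 1, by simp⟩) Y' hY Λ hΛ x hx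

/-- Version of `kills_ker` for an injective linear map `j : Y₁ → Y` instead of a submodule. -/
theorem kills_ker' [Module.Flat (R ⧸ I) ((R ⧸ I) ⊗[R] M)] {Y Y₁ : Type*} [AddCommGroup Y]
    [Module R Y] [AddCommGroup Y₁] [Module R Y₁] (j : Y₁ →ₗ[R] Y) (hj : Function.Injective j)
    (hY : I • (⊤ : Submodule R Y) ≤ LinearMap.range j)
    {Z : Type*} [AddCommGroup Z] [Module R Z] (Λ : M ⊗[R] Y₁ →ₗ[R] Z)
    (hΛ : ∀ κ : M ⊗[R] I, I.subtype.lTensor M κ = 0 → ∀ (ν : I →ₗ[R] Y₁) (y : Y),
      (∀ i : I, j (ν i) = (i : R) • y) → Λ (ν.lTensor M κ) = 0)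
    (x : M ⊗[R] Y₁) (hx : j.lTensor M x = 0) : Λ x = 0 := by
  let e : Y₁ ≃ₗ[R] LinearMap.range j := LinearEquiv.ofInjective j hj
  have hje : (LinearMap.range j).subtype ∘ₗ e.toLinearMap = j := by
    ext y; rfl
  have h1 := kills_ker I (LinearMap.range j) hY (Λ ∘ₗ e.symm.toLinearMap.lTensor M) (by
      intro κ hκ y
      rw [LinearMap.comp_apply, ← LinearMap.comp_apply (e.symm.toLinearMap.lTensor M),
        ← LinearMap.lTensor_comp]
      apply hΛ κ hκ _ y
      intro i
      have : j (e.symm (mulTo I (LinearMap.range j) hY y i)) =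
          ((mulTo I (LinearMap.range j) hY y i : LinearMap.range j) : Y) := by
        have h2 := LinearMap.congr_fun hje (e.symm (mulTo I (LinearMap.range j) hY y i))
        simp only [LinearMap.comp_apply, LinearEquiv.coe_coe, LinearEquiv.apply_symm_apply,
          Submodule.subtype_apply] at h2
        exact h2.symm
      exact this)
    (e.toLinearMap.lTensor M x) (by
      rw [← LinearMap.comp_apply, ← LinearMap.lTensor_comp, hje]
      exact hx)
  rw [LinearMap.comp_apply, ← LinearMap.comp_apply (e.symm.toLinearMap.lTensor M),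
    ← LinearMap.lTensor_comp] at h1
  have h3 : e.symm.toLinearMap ∘ₗ e.toLinearMap = LinearMap.id := by
    ext y; simp
  rw [h3, LinearMap.lTensor_id, LinearMap.id_apply] at h1
  exact h1

end Groth.Agent.Lib.Helper2.TorSpan
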