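import Groth.Agent.Lib.Helper1.TensorAssoc3
import Groth.Agent.Lib.Helper1.TensorUnit

/-!
# Tensoring with an invertible module is an equivalence (helper2)

On a ringed site, if `L ⊗ L' ≅ O` and `L' ⊗ L ≅ O` then `L ⊗ -` is an equivalence of the category of
modules, with inverse `L' ⊗ -`.
-/

set_option autoImplicit false
universe u
open CategoryTheory CategoryTheory.Limits MonoidalCategory Opposite

noncomputable section

namespace Groth.Agent.Lib.Helper2.TwEq1

open Groth.Agent.Lib.Helper1.TensorAdj Groth.Agent.Lib.Helper1.ModFlat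
  Groth.Agent.Lib.Helper1.TensorAssoc3 Groth.Agent.Lib.Helper1.TensorUnit

variable {C : Type u} [SmallCategory C] {J : GrothendieckTopology C} (O : Sheaf J CommRingCat.{u})

/-- naturality of the left unit isomorphism. -/
lemma leftUnitIso_naturality {M M' : ModSite.Mod O} (f : M ⟶ M') :
    tR O (ModSite.unit O) f ≫ (leftUnitIso O M').hom = (leftUnitIso O M).hom ≫ f := by
  change (shf O).map (under O (ModSite.unit O) ◁ underMap O f) ≫
      ((shf O).map (λ_ (under O M')).hom ≫ (adj O).counit.app M') =
    ((shf O).map (λ_ (under O M)).hom ≫ (adj O).counit.app M) ≫ f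
  have h := leftUnitor_naturality (underMap O f)
  have h' : (shf O).map (under O (ModSite.unit O) ◁ underMap O f) ≫
      (shf O).map (λ_ (under O M')).hom =
      (shf O).map (λ_ (under O M)).hom ≫ (shf O).map (underMap O f) := by
    rw [← Functor.map_comp, ← Functor.map_comp]
    exact congrArg (shf O).map h
  have h'' : (shf O).map (underMap O f) ≫ (adj O).counit.app M' = (adj O).counit.app M ≫ f :=
    (adj O).counit.naturality f
  exact (Category.assoc _ _ _).symm.trans ((congrArg (· ≫ (adj O).counit.app M') h').trans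
    ((Category.assoc _ _ _).trans ((congrArg ((shf O).map (λ_ (under O M)).hom ≫ ·) h'').trans
      (Category.assoc _ _ _).symm)))

variable (L L' : ModSite.Mod O) (e : t O L L' ≅ ModSite.unit O)

/-- `L ⊗ (L' ⊗ M) ≅ M`. -/
def cancelIso (M : ModSite.Mod O) : t O L (t O L' M) ≅ M :=
  (assoc O L L' M).symm ≪≫ ((ModSite.tensorBi O).mapIso e).app M ≪≫ leftUnitIso O M

/-- `L ⊗ (L' ⊗ -) ≅ id`. -/
def cancelNatIso : tensL O L' ⋙ tensL O L ≅ 𝟭 (ModSite.Mod O) :=
  NatIso.ofComponents (cancelIso O L L' e) (by
    intro M M' f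
    change tR O L (tR O L' f) ≫ ((assoc O L L' M').inv ≫ tL O e.hom M' ≫ (leftUnitIso O M').hom) =
      ((assoc O L L' M).inv ≫ tL O e.hom M ≫ (leftUnitIso O M).hom) ≫ f
    have h1 : tR O L (tR O L' f) ≫ (assoc O L L' M').inv =
        (assoc O L L' M).inv ≫ tR O (t O L L') f := by
      rw [Iso.comp_inv_eq, Category.assoc, Iso.eq_inv_comp]
      exact (assoc_nat₃ O L L' f).symm
    have h2 : tR O (t O L L') f ≫ tL O e.hom M' = tL O e.hom M ≫ tR O (ModSite.unit O) f :=
      (((ModSite.tensorBi O).map e.hom).naturality f)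
    rw [reassoc_of% h1, reassoc_of% h2, leftUnitIso_naturality]
    simp only [Category.assoc])

variable (e' : t O L' L ≅ ModSite.unit O)

/-- **tensoring with an invertible module is an equivalence**. -/
def twistEquiv : ModSite.Mod O ≌ ModSite.Mod O :=
  CategoryTheory.Equivalence.mk (tensL O L) (tensL O L') (cancelNatIso O L' L e').symm
    (cancelNatIso O L L' e)

include e e' in
theorem isEquivalence_tensL : (tensL O L).IsEquivalence :=
  (twistEquiv O L L' e e').isEquivalence_functor

end Groth.Agent.Lib.Helper2.TwEq1
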